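import Cfsg.Agent.Mrg.Omega.VP
import Cfsg.Agent.Mrg.Omega.KL.ThmIqG
import Cfsg.Agent.Mrg.Omega.NO3S.EMany.Low
import Cfsg.Agent.LieRecognition.FieldSemilinear
import Mathlib
import Cfsg.Agent.Omega.NatPair.Of

section


/-!
# One natural block with field automorphisms (helper640): the coordinates of the fields of `KL.TwoZ.Line.LFr`

`NatS F S P V W l` : `V = F²`, `l = F × 0`, `P ≥ S` induces `SL₂(F)` on `V` and normalises it, `S` preserves `l`, the
elements of `P` of odd order centralise `W`.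

* `NatS.semi` : `s ∈ S` acts on `V` as an upper triangular semilinear map;
* `NatS.unip_of` : `y ∈ C_S(l)` acts as some `up b`;
* `fixed_le`, `cyc`, `root`, `reg`, `cardV`, `trV`, `tor`, `torU`, `mvs` : the fields of `LFr` and of `PTW`;
* `NatS.ofNatK` : from the FF theorem.
-/

set_option autoImplicit false
set_option linter.unusedSectionVars false

namespace Cfsg.Agent.Omega.NOThreeL.RRed

open Subgroup Cfsg Cfsg.Agent.ZN Cfsg.Agent.Omega.MinPar
open Cfsg.Agent.Omega.FFThm (NatK ActsSL)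
open Cfsg.Agent.Lib.SL2Mat
open Cfsg.Agent.Omega.NatPair (ap ap_add ap_mul ap_one ext2 ap_zero' ap_one' ap_inv_ap ap_ap_inv exists_ap)
open Cfsg.Agent.MinSimple.VModule (oddGen oddGen_def)
open scoped Pointwise

universe u

variable {G : Type u} [Group G]

/-- elements of `A B`, `B ≤ N(A)` -/
theorem NatS.mulsup {A B : Subgroup G} (h : B ≤ normalizer (A : Set G)) {x : G} (hx : x ∈ A ⊔ B) :
    ∃ f ∈ A, ∃ n ∈ B, x = f * n := by
  have h1 : x ∈ ((A ⊔ B : Subgroup G) : Set G) := hx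
  rw [sup_comm, coe_mul_of_left_le_normalizer_right _ _ h] at h1
  obtain ⟨n, hn, f, hf, e⟩ := h1
  refine ⟨n * f * n⁻¹, (mem_normalizer_iff.1 (h hn) f).1 hf, n, hn, ?_⟩
  rw [inv_mul_cancel_right]
  exact e.symm

section pure

variable {F : Type} [Field F]

/-- An additive injective map of `F²` which normalises `SL₂(F)` and preserves the line `{x | x 1 = 0}`. -/
theorem NatS.exists_semi [Finite F] (φ : (Fin 2 → F) → Fin 2 → F) (hadd : ∀ x y, φ (x + y) = φ x + φ y)
    (hinj : ∀ x, φ x = 0 → x = 0) (hline : ∀ x : F, φ ![x, 0] 1 = 0)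
    (hnorm : ∀ A : Matrix.SpecialLinearGroup (Fin 2) F, ∃ B : Matrix.SpecialLinearGroup (Fin 2) F,
      ∀ x, φ (ap A x) = ap B (φ x)) : ∃ σ : F ≃+* F, ∀ (c : F) x, φ (c • x) = σ c • φ x := by
  have h0 : φ 0 = 0 := by
    have := hadd 0 0
    rw [add_zero] at this
    exact left_eq_add.1 this
  set ρ : F → F := fun c => φ ![c, 0] 0 with hρ
  have hv : ∀ c, φ ![c, 0] = ![ρ c, 0] := fun c => ext2 rfl (hline c)
  have hρadd : ∀ c d, ρ (c + d) = ρ c + ρ d := by
    intro c d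
    have e : (![c + d, 0] : Fin 2 → F) = ![c, 0] + ![d, 0] := by
      apply ext2
      · simp
      · simp
    show φ ![c + d, 0] 0 = _
    rw [e, hadd]
    rfl
  have hρinj : ∀ c, ρ c = 0 → c = 0 := by
    intro c hc
    have h1 : φ ![c, 0] = 0 := by
      rw [hv, hc]
      apply ext2
      · simp
      · simp
    have h2 := congrFun (hinj _ h1) 0
    simpa using h2
  have hρ1 : ρ 1 ≠ 0 := fun h => one_ne_zero (hρinj 1 h)
  have hmul : ∀ l c, ρ (l * c) * ρ 1 = ρ l * ρ c := by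
    intro l c
    by_cases hl : l = 0
    · subst hl
      have h1 : ρ 0 = 0 := by
        show φ ![0, 0] 0 = 0
        have e : (![0, 0] : Fin 2 → F) = 0 := by
          apply ext2
          · simp
          · simp
        rw [e, h0]
        rfl
      rw [zero_mul, h1, zero_mul, zero_mul]
    · obtain ⟨B, hB⟩ := hnorm (dg l hl)
      have h1 : ∀ y, ρ (l * y) = ent B 0 0 * ρ y := by
        intro y
        have e : ap (dg l hl) ![y, 0] = ![l * y, 0] := by
          apply ext2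
          · rw [ap_zero']; simp
          · rw [ap_one']; simp
        have h2 := congrFun (hB ![y, 0]) 0
        rw [e, hv, hv, ap_zero'] at h2
        simpa using h2
      have h3 := h1 1
      rw [mul_one] at h3
      rw [h1 c, h3]
      ring
  let f : F →+* F :=
    { toFun := fun c => ρ c / ρ 1
      map_one' := div_self hρ1
      map_mul' := fun a b => by
        show ρ (a * b) / ρ 1 = ρ a / ρ 1 * (ρ b / ρ 1)
        rw [div_mul_div_comm, ← hmul]
        field_simp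
      map_zero' := by
        have h1 := hρadd 0 0
        rw [add_zero] at h1
        show ρ 0 / ρ 1 = 0
        rw [left_eq_add.1 h1, zero_div]
      map_add' := fun a b => by
        show ρ (a + b) / ρ 1 = ρ a / ρ 1 + ρ b / ρ 1
        rw [hρadd, add_div] }
  have hf : Function.Bijective f := Finite.injective_iff_bijective.1 f.injective
  refine ⟨RingEquiv.ofBijective f hf, fun c x => ?_⟩
  show φ (c • x) = (ρ c / ρ 1) • φ x
  by_cases hx : x = 0
  · rw [hx, smul_zero, h0, smul_zero]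
  obtain ⟨A, hA⟩ := NatPair.exists_ap (F := F) (x := ![1, 0]) (y := x) (by
    intro h
    have := congrFun h 0
    simp at this) hx
  obtain ⟨B, hB⟩ := hnorm A
  have e1 : c • x = ap A ![c, 0] := by
    rw [← hA, ← NatPair.ap_smul]
    congr 1
    apply ext2
    · simp
    · simp
  rw [e1, hB, hv]
  rw [← hA, hB, hv, ← NatPair.ap_smul]
  congr 1
  apply ext2
  · simp [div_mul_cancel₀ _ hρ1]
  · simp

end pure

/-- **one natural block `V = F²` with line `l = F × 0`, over `P ≥ S`; `W` is centralised by the odd elements** -/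
structure NatS (F : Type) [Field F] (S P V W l : Subgroup G) where
  SP : S ≤ P
  two : IsPGroup 2 S
  syl : ¬ 2 ∣ S.relIndex P
  nV : P ≤ normalizer (V : Set G)
  odd : ∀ g ∈ P, Odd (orderOf g) → g ∈ centralizer (W : Set G)
  e : G → Fin 2 → F
  mul : ∀ v ∈ V, ∀ w ∈ V, e (v * w) = e v + e w
  surj : ∀ x : Fin 2 → F, ∃ v ∈ V, e v = x
  ker : ∀ v ∈ V, e v = 0 ↔ v = 1
  lift : ∀ A : Matrix.SpecialLinearGroup (Fin 2) F, ∃ g ∈ P, ∀ v ∈ V, e (g * v * g⁻¹) = ap A (e v)
  norm : ∀ g ∈ P, ∀ h ∈ P, ∀ A : Matrix.SpecialLinearGroup (Fin 2) F,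
    (∀ v ∈ V, e (h * v * h⁻¹) = ap A (e v)) → ∃ B : Matrix.SpecialLinearGroup (Fin 2) F,
      ∀ v ∈ V, e (g * h * g⁻¹ * v * (g * h * g⁻¹)⁻¹) = ap B (e v)
  unip : ∀ b : F, ∃ t ∈ S, ∀ v ∈ V, e (t * v * t⁻¹) = ap (up b) (e v)
  lin : ∀ v, v ∈ l ↔ v ∈ V ∧ e v 1 = 0
  Sl : S ≤ normalizer (l : Set G)

namespace NatS

variable {F : Type} [Field F] {S P V W l : Subgroup G} (N : NatS F S P V W l)
include N

/-! ### Coordinates -/

theorem lV : l ≤ V := fun v hv => ((N.lin v).1 hv).1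

theorem e_one : N.e 1 = 0 := (N.ker 1 (one_mem _)).2 rfl

theorem e_inv {v : G} (hv : v ∈ V) : N.e v⁻¹ = - N.e v := by
  have h := N.mul v hv v⁻¹ (inv_mem hv)
  rw [mul_inv_cancel, N.e_one] at h
  exact (neg_eq_of_add_eq_zero_right h.symm).symm

theorem e_inj {v w : G} (hv : v ∈ V) (hw : w ∈ V) (h : N.e v = N.e w) : v = w := by
  have h1 : N.e (v * w⁻¹) = 0 := by rw [N.mul v hv _ (inv_mem hw), N.e_inv hw, h, add_neg_cancel]
  exact mul_inv_eq_one.1 ((N.ker _ (mul_mem hv (inv_mem hw))).1 h1)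

theorem conj_V {g v : G} (hg : g ∈ P) (hv : v ∈ V) : g * v * g⁻¹ ∈ V := (mem_normalizer_iff.1 (N.nV hg) v).1 hv

theorem conj_V' {g v : G} (hg : g ∈ P) (hv : v ∈ V) : g⁻¹ * v * g ∈ V := by
  have := N.conj_V (inv_mem hg) hv
  rwa [inv_inv] at this

theorem conj_l {s v : G} (hs : s ∈ S) (hv : v ∈ l) : s * v * s⁻¹ ∈ l := (mem_normalizer_iff.1 (N.Sl hs) v).1 hv

theorem comm {v w : G} (hv : v ∈ V) (hw : w ∈ V) : v * w = w * v :=
  N.e_inj (mul_mem hv hw) (mul_mem hw hv) (by rw [N.mul v hv w hw, N.mul w hw v hv, add_comm])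

/-- `S`-fixed vectors lie on the line -/
theorem fixed_le {v : G} (hv : v ∈ V) (h : v ∈ centralizer (S : Set G)) : v ∈ l := by
  obtain ⟨t, ht, h1⟩ := N.unip 1
  have h2 := h1 v hv
  have h3 : t * v * t⁻¹ = v := by
    rw [mem_centralizer_iff.1 h t ht, mul_inv_cancel_right]
  rw [h3] at h2
  have h4 := congrFun h2 0
  rw [ap_zero', up_00, up_01, one_mul, one_mul] at h4
  exact (N.lin v).2 ⟨hv, left_eq_add.1 h4⟩

theorem exists_vec (x : Fin 2 → F) : ∃ v ∈ V, N.e v = x := N.surj x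

/-- a vector on the line -/
theorem exists_l (x : F) : ∃ v ∈ l, N.e v = ![x, 0] := by
  obtain ⟨v, hv, h⟩ := N.surj ![x, 0]
  exact ⟨v, (N.lin v).2 ⟨hv, by rw [h]; rfl⟩, h⟩

theorem e_l {v : G} (hv : v ∈ l) : N.e v = ![N.e v 0, 0] := ext2 rfl ((N.lin v).1 hv).2

/-- **`s ∈ S` acts as an upper triangular semilinear map** -/
theorem semi [Finite F] {s : G} (hs : s ∈ S) : ∃ (σ : F ≃+* F) (a b d : F), a ≠ 0 ∧ d ≠ 0 ∧
    ∀ v ∈ V, N.e (s * v * s⁻¹) = ![a * σ (N.e v 0) + b * σ (N.e v 1), d * σ (N.e v 1)] := by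
  have hsP := N.SP hs
  choose r hr hrx using N.surj
  have h1 : ∀ v ∈ V, r (N.e v) = v := fun v hv => N.e_inj (hr _) hv (hrx _)
  have hl : ∀ x : F, r ![x, 0] ∈ l := fun x => (N.lin _).2 ⟨hr _, by rw [hrx]; rfl⟩
  have hmul : ∀ x y, r (x + y) = r x * r y := fun x y =>
    N.e_inj (hr _) (mul_mem (hr _) (hr _)) (by rw [N.mul _ (hr _) _ (hr _), hrx, hrx, hrx])
  set φ : (Fin 2 → F) → Fin 2 → F := fun x => N.e (s * r x * s⁻¹) with hφ
  have hadd : ∀ x y, φ (x + y) = φ x + φ y := by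
    intro x y
    show N.e (s * r (x + y) * s⁻¹) = _
    rw [hmul, show s * (r x * r y) * s⁻¹ = (s * r x * s⁻¹) * (s * r y * s⁻¹) by group,
      N.mul _ (N.conj_V hsP (hr _)) _ (N.conj_V hsP (hr _))]
  have hinj : ∀ x, φ x = 0 → x = 0 := by
    intro x hx
    have h2 : s * r x * s⁻¹ = 1 := (N.ker _ (N.conj_V hsP (hr _))).1 hx
    have h3 : r x = 1 := conj_eq_one_iff.1 h2
    rw [← hrx x, h3, N.e_one]
  have hline : ∀ x : F, φ ![x, 0] 1 = 0 := fun x => ((N.lin _).1 (N.conj_l hs (hl x))).2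
  have hnorm : ∀ A : Matrix.SpecialLinearGroup (Fin 2) F, ∃ B : Matrix.SpecialLinearGroup (Fin 2) F,
      ∀ x, φ (ap A x) = ap B (φ x) := by
    intro A
    obtain ⟨g, hg, hgA⟩ := N.lift A
    obtain ⟨B, hB⟩ := N.norm s hsP g hg A hgA
    refine ⟨B, fun x => ?_⟩
    have h2 : r (ap A x) = g * r x * g⁻¹ :=
      N.e_inj (hr _) (N.conj_V hg (hr _)) (by rw [hrx, hgA _ (hr _), hrx])
    show N.e (s * r (ap A x) * s⁻¹) = ap B (N.e (s * r x * s⁻¹))
    rw [h2, ← hB _ (N.conj_V hsP (hr _))]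
    congr 1
    group
  obtain ⟨σ, hσ⟩ := exists_semi φ hadd hinj hline hnorm
  have hv1 : φ ![1, 0] = ![φ ![1, 0] 0, 0] := ext2 rfl (hline 1)
  have hv2 : φ ![0, 1] = ![φ ![0, 1] 0, φ ![0, 1] 1] := ext2 rfl rfl
  refine ⟨σ, φ ![1, 0] 0, φ ![0, 1] 0, φ ![0, 1] 1, fun h => ?_, fun h => ?_, fun v hv => ?_⟩
  · rw [h] at hv1
    have h2 := hinj _ (hv1.trans (ext2 rfl rfl))
    exact one_ne_zero (congrFun h2 0)
  · have h2 : s * r ![0, 1] * s⁻¹ ∈ l := (N.lin _).2 ⟨N.conj_V hsP (hr _), h⟩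
    have h3 := N.conj_l (inv_mem hs) h2
    have e1 : s⁻¹ * (s * r ![0, 1] * s⁻¹) * s⁻¹⁻¹ = r ![0, 1] := by group
    rw [e1] at h3
    have h4 := ((N.lin _).1 h3).2
    rw [hrx] at h4
    exact one_ne_zero h4
  · have e1 : N.e v = (N.e v 0) • ![1, 0] + (N.e v 1) • ![0, 1] := by
      apply ext2 <;> simp
    have h2 : N.e (s * v * s⁻¹) = φ (N.e v) := by
      show _ = N.e (s * r (N.e v) * s⁻¹)
      rw [h1 v hv]
    rw [h2]
    conv_lhs => rw [e1]
    rw [hadd, hσ, hσ, hv1, hv2]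
    apply ext2
    · simp [mul_comm]
    · simp [mul_comm]

variable [CharP F 2]

omit N in
/-- a scalar of order a power of two is `1` -/
theorem pow_two_pow {a : F} {n : ℕ} (h : a ^ 2 ^ n = 1) : a = 1 := by
  have h4 : (a - 1) ^ 2 ^ n = 0 := by rw [sub_pow_char_pow, one_pow, h, sub_self]
  exact sub_eq_zero.1 (pow_eq_zero_iff (by positivity) |>.1 h4)

/-- **`y ∈ C_S(l)` acts as some `up b`** -/
theorem unip_of [Finite F] {y : G} (hy : y ∈ S) (hyl : y ∈ centralizer (l : Set G)) :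
    ∃ b : F, ∀ v ∈ V, N.e (y * v * y⁻¹) = ap (up b) (N.e v) := by
  obtain ⟨σ, a, b, d, ha, hd, hact⟩ := N.semi hy
  have hyP := N.SP hy
  have h1 : ∀ x : F, x = a * σ x := by
    intro x
    obtain ⟨v, hv, hx⟩ := N.exists_l x
    have h2 := hact v (N.lV hv)
    have h3 : y * v * y⁻¹ = v := by
      rw [← mem_centralizer_iff.1 hyl v hv, mul_inv_cancel_right]
    rw [h3, hx] at h2
    have h4 := congrFun h2 0
    simpa using h4
  have ha1 : a = 1 := by
    have h2 := h1 1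
    rw [map_one, mul_one] at h2
    exact h2.symm
  have hσ : ∀ x, σ x = x := fun x => by
    have h2 := h1 x
    rw [ha1, one_mul] at h2
    exact h2.symm
  have hpow : ∀ m : ℕ, ∀ v ∈ V, N.e (y ^ m * v * (y ^ m)⁻¹) 1 = d ^ m * N.e v 1 := by
    intro m
    induction m with
    | zero => intro v _; simp
    | succ m ih =>
      intro v hv
      have e1 : y ^ (m + 1) * v * (y ^ (m + 1))⁻¹ = y * (y ^ m * v * (y ^ m)⁻¹) * y⁻¹ := by
        rw [pow_succ']; group
      rw [e1, hact _ (N.conj_V (pow_mem hyP m) hv)]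
      show d * σ (N.e (y ^ m * v * (y ^ m)⁻¹) 1) = _
      rw [hσ, ih v hv, pow_succ']
      ring
  have hd1 : d = 1 := by
    obtain ⟨n, hn⟩ := N.two ⟨y, hy⟩
    have hn' : y ^ 2 ^ n = 1 := congrArg Subtype.val hn
    obtain ⟨v, hv, hx⟩ := N.surj ![0, 1]
    have h2 := hpow (2 ^ n) v hv
    rw [hn', one_mul, inv_one, mul_one, hx] at h2
    have h3 : d ^ 2 ^ n = 1 := by simpa using h2.symm
    exact pow_two_pow h3
  refine ⟨b, fun v hv => ?_⟩
  rw [hact v hv, ha1, hd1]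
  apply ext2
  · rw [ap_zero', up_00, up_01]
    show 1 * σ (N.e v 0) + b * σ (N.e v 1) = _
    rw [hσ, hσ]
  · rw [ap_one', up_10, up_11]
    show 1 * σ (N.e v 1) = _
    rw [hσ]; ring

/-- **LFr.root** -/
theorem root [Finite F] : ∀ x ∈ V, ∀ y ∈ S, y ∈ centralizer (l : Set G) → x * y * x⁻¹ * y⁻¹ ∈ l := by
  intro x hx y hy hyl
  obtain ⟨b, hb⟩ := N.unip_of hy hyl
  have h1 : y * x⁻¹ * y⁻¹ ∈ V := N.conj_V (N.SP hy) (inv_mem hx)
  have e1 : x * y * x⁻¹ * y⁻¹ = x * (y * x⁻¹ * y⁻¹) := by group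
  rw [e1, N.lin]
  refine ⟨mul_mem hx h1, ?_⟩
  rw [N.mul _ hx _ h1, hb _ (inv_mem hx), Pi.add_apply, ap_one', up_10, up_11, N.e_inv hx, Pi.neg_apply,
    Pi.neg_apply]
  ring

/-- **LFr.reg** -/
theorem reg [Finite F] : ∀ y ∈ S, y ∈ centralizer (l : Set G) → ∀ v ∈ V, v ∉ l → y * v = v * y →
    y ∈ centralizer (V : Set G) := by
  intro y hy hyl v hv hvl hc
  obtain ⟨b, hb⟩ := N.unip_of hy hyl
  have h1 : N.e v 1 ≠ 0 := fun h => hvl ((N.lin v).2 ⟨hv, h⟩)
  have h2 : y * v * y⁻¹ = v := by rw [hc, mul_inv_cancel_right]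
  have h3 := hb v hv
  rw [h2] at h3
  have h4 := congrFun h3 0
  rw [ap_zero', up_00, up_01, one_mul] at h4
  have hb0 : b = 0 := by
    have h5 : b * N.e v 1 = 0 := left_eq_add.1 h4
    exact (mul_eq_zero.1 h5).resolve_right h1
  refine mem_centralizer_iff.2 fun w hw => ?_
  have h5 : y * w * y⁻¹ = w := by
    refine N.e_inj (N.conj_V (N.SP hy) hw) hw ?_
    rw [hb w hw, hb0, up_zero, ap_one]
  calc w * y = (y * w * y⁻¹) * y := by rw [h5]
    _ = y * w := by group

/-- `s` acts on `l` as a `σ`-semilinear map -/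
def Sm (N : NatS F S P V W l) (s : G) (σ : F ≃+* F) : Prop := ∃ a : F, a ≠ 0 ∧ ∀ v ∈ l, N.e (s * v * s⁻¹) 0 = a * σ (N.e v 0)

omit [CharP F 2] in
theorem Sm.exists [Finite F] {s : G} (hs : s ∈ S) : ∃ σ, N.Sm s σ := by
  obtain ⟨σ, a, b, d, ha, hd, hact⟩ := N.semi hs
  refine ⟨σ, a, ha, fun v hv => ?_⟩
  rw [hact v (N.lV hv), ((N.lin v).1 hv).2, map_zero]
  simp

omit [CharP F 2] in
theorem Sm.unique {s : G} {σ τ : F ≃+* F} (h : N.Sm s σ) (h' : N.Sm s τ) : σ = τ := by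
  obtain ⟨a, ha, h1⟩ := h
  obtain ⟨b, hb, h2⟩ := h'
  have h3 : ∀ x : F, a * σ x = b * τ x := by
    intro x
    obtain ⟨v, hv, hx⟩ := N.exists_l x
    have h4 := (h1 v hv).symm.trans (h2 v hv)
    rwa [hx] at h4
  have hab : a = b := by
    have := h3 1
    rwa [map_one, map_one, mul_one, mul_one] at this
  ext x
  have h4 := h3 x
  rw [← hab] at h4
  exact mul_left_cancel₀ ha h4

omit [CharP F 2] in
theorem Sm.mul {s t : G} (ht : t ∈ S) {σ τ : F ≃+* F} (h : N.Sm s σ) (h' : N.Sm t τ) : N.Sm (s * t) (σ * τ) := by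
  obtain ⟨a, ha, h1⟩ := h
  obtain ⟨b, hb, h2⟩ := h'
  refine ⟨a * σ b, mul_ne_zero ha (by simpa using hb), fun v hv => ?_⟩
  have e1 : s * t * v * (s * t)⁻¹ = s * (t * v * t⁻¹) * s⁻¹ := by group
  rw [e1, h1 _ (N.conj_l ht hv), h2 v hv, map_mul, mul_assoc]
  rfl

/-- an element of `S` acting linearly on `l` centralises `l` -/
theorem Sm.one {s : G} (hs : s ∈ S) (h : N.Sm s 1) : ∀ v ∈ l, s * v * s⁻¹ = v := by
  obtain ⟨a, ha, h1⟩ := h
  have hpow : ∀ m : ℕ, ∀ v ∈ l, N.e (s ^ m * v * (s ^ m)⁻¹) 0 = a ^ m * N.e v 0 := by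
    intro m
    induction m with
    | zero => intro v _; simp
    | succ m ih =>
      intro v hv
      have e1 : s ^ (m + 1) * v * (s ^ (m + 1))⁻¹ = s * (s ^ m * v * (s ^ m)⁻¹) * s⁻¹ := by
        rw [pow_succ']; group
      rw [e1, h1 _ (N.conj_l (pow_mem hs m) hv)]
      show a * N.e (s ^ m * v * (s ^ m)⁻¹) 0 = _
      rw [ih v hv, pow_succ']
      ring
  have ha1 : a = 1 := by
    obtain ⟨n, hn⟩ := N.two ⟨s, hs⟩
    have hn' : s ^ 2 ^ n = 1 := congrArg Subtype.val hn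
    obtain ⟨v, hv, hx⟩ := N.exists_l 1
    have h2 := hpow (2 ^ n) v hv
    rw [hn', one_mul, inv_one, mul_one, hx] at h2
    have h3 : a ^ 2 ^ n = 1 := by simpa using h2.symm
    exact pow_two_pow h3
  intro v hv
  refine N.e_inj (N.lV (N.conj_l hs hv)) (N.lV hv) (ext2 ?_ ?_)
  · rw [h1 v hv, ha1, one_mul]; rfl
  · rw [((N.lin _).1 (N.conj_l hs hv)).2, ((N.lin _).1 hv).2]

/-- **LFr.cyc** -/
theorem cyc [Finite F] : ∃ t ∈ S, ∀ s ∈ S, ∃ n : ℤ, ∀ v ∈ l, s * v * s⁻¹ = t ^ n * v * (t ^ n)⁻¹ := by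
  choose f hf using fun s : S => Sm.exists N s.2
  let φ : S →* (F ≃+* F) :=
    { toFun := f
      map_one' := Sm.unique N (hf 1) ⟨1, one_ne_zero, fun v _ => by
        show N.e (1 * v * 1⁻¹) 0 = 1 * N.e v 0
        rw [one_mul, inv_one, mul_one, one_mul]⟩
      map_mul' := fun s t => Sm.unique N (hf (s * t)) (Sm.mul N t.2 (hf s) (hf t)) }
  have hc : IsCyclic (F ≃+* F) := Cfsg.Agent.LieRecognition.FieldSemilinear.isCyclic_ringAut F
  obtain ⟨⟨g, t, hg⟩, hgen⟩ := IsCyclic.exists_generator (α := φ.range)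
  refine ⟨t, t.2, fun s hs => ?_⟩
  obtain ⟨n, hn⟩ := mem_zpowers_iff.1 (hgen ⟨φ ⟨s, hs⟩, ⟨s, hs⟩, rfl⟩)
  refine ⟨n, fun v hv => ?_⟩
  have hn' : φ (t ^ n) = φ ⟨s, hs⟩ := by
    rw [map_zpow, hg]
    exact congrArg Subtype.val hn
  have h1 : φ ((t ^ n)⁻¹ * ⟨s, hs⟩) = 1 := by rw [map_mul, map_inv, hn', inv_mul_cancel]
  have h2 : N.Sm (((t ^ n)⁻¹ * ⟨s, hs⟩ : S) : G) 1 := by
    have h3 := hf ((t ^ n)⁻¹ * ⟨s, hs⟩)
    have h4 : f ((t ^ n)⁻¹ * ⟨s, hs⟩) = 1 := h1
    rwa [h4] at h3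
  have h3 := Sm.one N ((t ^ n)⁻¹ * ⟨s, hs⟩ : S).2 h2 v hv
  have e1 : (((t ^ n)⁻¹ * ⟨s, hs⟩ : S) : G) = ((t : G) ^ n)⁻¹ * s := by
    simp
  rw [e1] at h3
  calc s * v * s⁻¹ = (t : G) ^ n * ((((t : G) ^ n)⁻¹ * s) * v * (((t : G) ^ n)⁻¹ * s)⁻¹) * ((t : G) ^ n)⁻¹ := by group
    _ = _ := by rw [h3]

/-! ### Cardinalities -/

omit [CharP F 2] in
theorem card_V [Finite F] : Nat.card V = Nat.card F * Nat.card F := by
  have h1 : Nat.card V = Nat.card (Fin 2 → F) := by
    refine Nat.card_congr (Equiv.ofBijective (fun v : V => N.e v) ⟨fun v w h => Subtype.ext (N.e_inj v.2 w.2 h),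
      fun x => ?_⟩)
    obtain ⟨v, hv, h⟩ := N.surj x
    exact ⟨⟨v, hv⟩, h⟩
  rw [h1, Nat.card_fun, Nat.card_eq_fintype_card (α := Fin 2), Fintype.card_fin, pow_two]

omit [CharP F 2] in
theorem card_l [Finite F] : Nat.card l = Nat.card F := by
  refine Nat.card_congr (Equiv.ofBijective (fun v : l => N.e v 0) ⟨fun v w h => Subtype.ext
    (N.e_inj (N.lV v.2) (N.lV w.2) (by rw [N.e_l v.2, N.e_l w.2, show N.e v 0 = N.e w 0 from h])), fun x => ?_⟩)
  obtain ⟨v, hv, h⟩ := N.exists_l x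
  exact ⟨⟨v, hv⟩, by show N.e v 0 = x; rw [h]; rfl⟩

omit [CharP F 2] in
/-- **LFr.cardV** -/
theorem cardV [Finite F] : Nat.card V = Nat.card l * Nat.card l := by rw [N.card_V, N.card_l]

/-! ### The torus -/

omit [CharP F 2] in
theorem odd_le : oddGen P ≤ centralizer (W : Set G) := by
  rw [oddGen_def, closure_le]
  rintro g ⟨hg, hgo⟩
  exact N.odd g hg hgo

omit [CharP F 2] in
/-- `P = S O²(P)` -/
theorem exists_odd [Finite G] {g : G} (hg : g ∈ P) : ∃ s ∈ S, ∃ h ∈ oddGen P, g = s * h := by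
  have h1 : oddGen P ⊔ S = P := KL.Star.Core.oddGen_sup N.SP N.syl
  have h2 : g⁻¹ ∈ oddGen P ⊔ S := by rw [h1]; exact inv_mem hg
  obtain ⟨c, hc, s, hs, e⟩ := NatS.mulsup
    (N.SP.trans (MinSimple.VModule.le_normalizer_oddGen P)) h2
  refine ⟨s⁻¹, inv_mem hs, c⁻¹, inv_mem hc, ?_⟩
  rw [← mul_inv_rev, ← e, inv_inv]

omit [CharP F 2] in
theorem oddGen_le : oddGen P ≤ P := by
  rw [oddGen_def, closure_le]
  rintro g ⟨hg, -⟩
  exact hg

omit [CharP F 2] in
/-- `O²(P)` is transitive on `V#` -/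
theorem trans [Finite G] {v z : G} (hv : v ∈ V) (hv1 : v ≠ 1) (hz : z ∈ V) (hz1 : z ≠ 1) (hzS : z ∈ centralizer (S : Set G)) :
    ∃ h ∈ oddGen P, h * v * h⁻¹ = z := by
  obtain ⟨A, hA⟩ := exists_ap (x := N.e v) (y := N.e z) (fun h => hv1 ((N.ker v hv).1 h))
    (fun h => hz1 ((N.ker z hz).1 h))
  obtain ⟨g, hg, hgA⟩ := N.lift A
  have h1 : g * v * g⁻¹ = z := N.e_inj (N.conj_V hg hv) hz (by rw [hgA v hv, hA])
  obtain ⟨s, hs, h, hh, rfl⟩ := N.exists_odd hg
  refine ⟨h, hh, ?_⟩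
  have h2 : s⁻¹ * z * s = z := by
    have := mem_centralizer_iff.1 hzS s hs
    calc s⁻¹ * z * s = s⁻¹ * (z * s) := by group
      _ = s⁻¹ * (s * z) := by rw [this]
      _ = z := by group
  rw [← h2, ← h1]
  group

omit [CharP F 2] in
theorem trV [Finite G] {z : G} (hz : z ∈ V) (hz1 : z ≠ 1) (hzS : z ∈ centralizer (S : Set G)) :
    ∀ v ∈ V, ∃ h ∈ centralizer (W : Set G), h ∈ normalizer (V : Set G) ∧ (h * v * h⁻¹ = 1 ∨ h * v * h⁻¹ = z) := by
  intro v hv
  by_cases hv1 : v = 1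
  · exact ⟨1, one_mem _, one_mem _, Or.inl (by rw [hv1]; group)⟩
  · obtain ⟨h, hh, h1⟩ := N.trans hv hv1 hz hz1 hzS
    exact ⟨h, N.odd_le hh, N.nV (N.oddGen_le hh), Or.inr h1⟩

omit [CharP F 2] in
/-- the diagonal elements, corrected by `S` -/
theorem exists_dg [Finite G] (c : F) (hc : c ≠ 0) : ∃ s ∈ S, ∃ h ∈ oddGen P, h ∈ normalizer (l : Set G) ∧
    ∀ v ∈ V, N.e (s * h * v * (s * h)⁻¹) = ![c * N.e v 0, c⁻¹ * N.e v 1] := by
  obtain ⟨g, hg, hgA⟩ := N.lift (dg c hc)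
  have hact : ∀ v ∈ V, N.e (g * v * g⁻¹) = ![c * N.e v 0, c⁻¹ * N.e v 1] := by
    intro v hv
    rw [hgA v hv]
    apply ext2
    · rw [ap_zero', dg_00, dg_01]; simp
    · rw [ap_one', dg_10, dg_11]; simp
  have hgl : g ∈ normalizer (l : Set G) := by
    rw [mem_normalizer_iff]
    intro v
    rw [N.lin, N.lin]
    constructor
    · rintro ⟨hv, h0⟩
      refine ⟨N.conj_V hg hv, ?_⟩
      rw [hact v hv, h0]; simp
    · rintro ⟨hv, h0⟩
      have hv' : v ∈ V := (mem_normalizer_iff.1 (N.nV hg) v).2 hv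
      refine ⟨hv', ?_⟩
      rw [hact v hv'] at h0
      have h1 : c⁻¹ * N.e v 1 = 0 := h0
      exact (mul_eq_zero.1 h1).resolve_left (inv_ne_zero hc)
  obtain ⟨s, hs, h, hh, rfl⟩ := N.exists_odd hg
  refine ⟨s, hs, h, hh, ?_, hact⟩
  have h1 := mul_mem (inv_mem (N.Sl hs)) hgl
  rwa [inv_mul_cancel_left] at h1

omit [CharP F 2] in
theorem tor_one [Finite G] {z : G} (hz : z ∈ V) (hz1 : z ≠ 1) (hzS : z ∈ centralizer (S : Set G)) {x : G} (hx : x ∈ l)
    (hx1 : x ≠ 1) : ∃ h ∈ oddGen P, h ∈ normalizer (l : Set G) ∧ h * x * h⁻¹ = z := by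
  have hzl := N.fixed_le hz hzS
  have hx0 : N.e x 0 ≠ 0 := fun h => hx1 ((N.ker x (N.lV hx)).1 (by rw [N.e_l hx, h]; exact ext2 rfl rfl))
  have hz0 : N.e z 0 ≠ 0 := fun h => hz1 ((N.ker z hz).1 (by rw [N.e_l hzl, h]; exact ext2 rfl rfl))
  obtain ⟨s, hs, h, hh, hhl, hact⟩ := N.exists_dg (N.e z 0 / N.e x 0) (div_ne_zero hz0 hx0)
  refine ⟨h, hh, hhl, ?_⟩
  have hshP := mul_mem (N.SP hs) (N.oddGen_le hh)
  have h1 : s * h * x * (s * h)⁻¹ = z := by
    refine N.e_inj (N.conj_V hshP (N.lV hx)) hz ?_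
    rw [hact x (N.lV hx)]
    apply ext2
    · show N.e z 0 / N.e x 0 * N.e x 0 = N.e z 0
      field_simp
    · show _ * N.e x 1 = N.e z 1
      rw [((N.lin x).1 hx).2, ((N.lin z).1 hzl).2, mul_zero]
  have h2 : s⁻¹ * z * s = z := by
    have := mem_centralizer_iff.1 hzS s hs
    calc s⁻¹ * z * s = s⁻¹ * (z * s) := by group
      _ = s⁻¹ * (s * z) := by rw [this]
      _ = z := by group
  rw [← h2, ← h1]
  group

omit [CharP F 2] in
/-- **the torus is transitive on `l#`** -/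
theorem tor [Finite G] {z : G} (hz : z ∈ V) (hz1 : z ≠ 1) (hzS : z ∈ centralizer (S : Set G)) {x y : G} (hx : x ∈ l)
    (hx1 : x ≠ 1) (hy : y ∈ l) (hy1 : y ≠ 1) : ∃ h ∈ oddGen P, h ∈ normalizer (l : Set G) ∧ h * x * h⁻¹ = y := by
  obtain ⟨h, hh, hhl, h1⟩ := N.tor_one hz hz1 hzS hx hx1
  obtain ⟨k, hk, hkl, h2⟩ := N.tor_one hz hz1 hzS hy hy1
  refine ⟨k⁻¹ * h, mul_mem (inv_mem hk) hh, mul_mem (inv_mem hkl) hhl, ?_⟩
  have e1 : k⁻¹ * h * x * (k⁻¹ * h)⁻¹ = k⁻¹ * (h * x * h⁻¹) * k := by group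
  rw [e1, h1, ← h2]
  group

omit [CharP F 2] in
theorem e_ne {v : G} (hv : v ∈ V) (hvl : v ∉ l) : N.e v 1 ≠ 0 := fun h => hvl ((N.lin v).2 ⟨hv, h⟩)

omit [CharP F 2] in
theorem mem_l_of {v w : G} (hv : v ∈ V) (hw : w ∈ V) (h : N.e v 1 = N.e w 1) : w⁻¹ * v ∈ l := by
  refine (N.lin _).2 ⟨mul_mem (inv_mem hw) hv, ?_⟩
  rw [N.mul _ (inv_mem hw) _ hv, N.e_inv hw, Pi.add_apply, Pi.neg_apply, h, neg_add_cancel]

omit [CharP F 2] in
/-- **the torus is transitive on `(V / l)#`** -/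
theorem torU [Finite G] (hsq : ∀ x ∈ V, x ^ 2 = 1) {x y : G} (hx : x ∈ V) (hxl : x ∉ l) (hy : y ∈ V) (hyl : y ∉ l) :
    ∃ h ∈ oddGen P, h ∈ normalizer (l : Set G) ∧ y⁻¹ * (h * x * h⁻¹) ∈ l := by
  obtain ⟨w, hw, hwl, hws⟩ := KL.ThmIq.exists_coset N.two hsq (K0 := l) (fun h => hxl (h hx))
    (N.SP.trans N.nV) N.Sl
  have key : ∀ x ∈ V, x ∉ l → ∃ h ∈ oddGen P, h ∈ normalizer (l : Set G) ∧ w⁻¹ * (h * x * h⁻¹) ∈ l := by
    intro x hx hxl
    have h1 := N.e_ne hx hxl
    have h2 := N.e_ne hw hwl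
    obtain ⟨s, hs, h, hh, hhl, hact⟩ := N.exists_dg (N.e x 1 / N.e w 1) (div_ne_zero h1 h2)
    refine ⟨h, hh, hhl, ?_⟩
    have hshP := mul_mem (N.SP hs) (N.oddGen_le hh)
    have h3 : w⁻¹ * (s * h * x * (s * h)⁻¹) ∈ l := by
      refine N.mem_l_of (N.conj_V hshP hx) hw ?_
      rw [hact x hx]
      show (N.e x 1 / N.e w 1)⁻¹ * N.e x 1 = N.e w 1
      field_simp
    have h4 := N.conj_l (inv_mem hs) h3
    rw [inv_inv] at h4
    have h5 := hws s⁻¹ (inv_mem hs)
    rw [inv_inv] at h5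
    -- `s⁻¹ w s = c w`
    have h6 : s⁻¹ * w⁻¹ * s * (h * x * h⁻¹) ∈ l := by
      have e1 : s⁻¹ * (w⁻¹ * (s * h * x * (s * h)⁻¹)) * s = s⁻¹ * w⁻¹ * s * (h * x * h⁻¹) := by group
      rwa [e1] at h4
    have h7 : w⁻¹ * (s⁻¹ * w * s) ∈ l := by
      have h8 : s⁻¹ * w * s ∈ V := N.conj_V' (N.SP hs) hw
      rw [N.comm (inv_mem hw) h8]
      exact h5
    have h8 := mul_mem h7 h6
    have e2 : w⁻¹ * (s⁻¹ * w * s) * (s⁻¹ * w⁻¹ * s * (h * x * h⁻¹)) = w⁻¹ * (h * x * h⁻¹) := by group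
    rwa [e2] at h8
  obtain ⟨h, hh, hhl, h1⟩ := key x hx hxl
  obtain ⟨k, hk, hkl, h2⟩ := key y hy hyl
  refine ⟨k⁻¹ * h, mul_mem (inv_mem hk) hh, mul_mem (inv_mem hkl) hhl, ?_⟩
  have h3 : (k * y * k⁻¹)⁻¹ * (h * x * h⁻¹) ∈ l := by
    have h4 := mul_mem (inv_mem h2) h1
    have e1 : (w⁻¹ * (k * y * k⁻¹))⁻¹ * (w⁻¹ * (h * x * h⁻¹)) = (k * y * k⁻¹)⁻¹ * (h * x * h⁻¹) := by group
    rwa [e1] at h4
  have h4 := (mem_normalizer_iff.1 (inv_mem hkl) _).1 h3
  have e1 : k⁻¹ * ((k * y * k⁻¹)⁻¹ * (h * x * h⁻¹)) * k⁻¹⁻¹ = y⁻¹ * (k⁻¹ * h * x * (k⁻¹ * h)⁻¹) := by group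
  rwa [e1] at h4

omit [CharP F 2] in
/-- **`C_V(P) = 1`** -/
theorem mvs {z : G} (hz : z ∈ V) (hz1 : z ≠ 1) : ¬ P ≤ centralizer ({z} : Set G) := by
  intro hP
  have h1 : ∀ A : Matrix.SpecialLinearGroup (Fin 2) F, ap A (N.e z) = N.e z := by
    intro A
    obtain ⟨g, hg, hgA⟩ := N.lift A
    have h2 : g * z * g⁻¹ = z := by
      rw [mem_centralizer_singleton_iff.1 (hP hg), mul_inv_cancel_right]
    rw [← hgA z hz, h2]
  have h2 : N.e z ≠ 0 := fun h => hz1 ((N.ker z hz).1 h)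
  have h3 := h1 (up 1)
  have h4 := h1 (lo 1)
  apply h2
  apply ext2
  · have := congrFun h4 1
    rw [ap_one', lo_10, lo_11, one_mul, one_mul] at this
    exact right_eq_add.1 (by rw [add_comm] at this ⊢; exact this.symm)
  · have := congrFun h3 0
    rw [ap_zero', up_00, up_01, one_mul, one_mul] at this
    exact left_eq_add.1 this.symm

/-! ### The special linear part -/

/-- the elements of `P` which act on `V` as an element of `SL₂(F)` -/
def E (N : NatS F S P V W l) : Subgroup G where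
  carrier := {g | g ∈ P ∧ ∃ A : Matrix.SpecialLinearGroup (Fin 2) F, ∀ v ∈ V, N.e (g * v * g⁻¹) = ap A (N.e v)}
  one_mem' := ⟨one_mem _, 1, fun v _ => by rw [one_mul, inv_one, mul_one, ap_one]⟩
  mul_mem' := by
    rintro g h ⟨hg, A, hA⟩ ⟨hh, B, hB⟩
    refine ⟨mul_mem hg hh, A * B, fun v hv => ?_⟩
    have e1 : g * h * v * (g * h)⁻¹ = g * (h * v * h⁻¹) * g⁻¹ := by group
    rw [e1, hA _ (N.conj_V hh hv), hB v hv, ap_mul]
  inv_mem' := by
    rintro g ⟨hg, A, hA⟩
    refine ⟨inv_mem hg, A⁻¹, fun v hv => ?_⟩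
    have h1 := hA _ (N.conj_V (inv_mem hg) hv)
    have e1 : g * (g⁻¹ * v * g⁻¹⁻¹) * g⁻¹ = v := by group
    rw [e1] at h1
    rw [h1, ap_inv_ap]

omit [CharP F 2] in
theorem E_le : N.E ≤ P := fun _ h => h.1

omit [CharP F 2] in
theorem E_norm : P ≤ normalizer (N.E : Set G) := by
  have key : ∀ g ∈ P, ∀ x ∈ N.E, g * x * g⁻¹ ∈ N.E := by
    rintro g hg x ⟨hx, A, hA⟩
    obtain ⟨B, hB⟩ := N.norm g hg x hx A hA
    exact ⟨mul_mem (mul_mem hg hx) (inv_mem hg), B, hB⟩
  intro g hg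
  rw [mem_normalizer_iff]
  refine fun x => ⟨key g hg x, fun h => ?_⟩
  have h1 := key g⁻¹ (inv_mem hg) _ h
  have e1 : g⁻¹ * (g * x * g⁻¹) * g⁻¹⁻¹ = x := by group
  rwa [e1] at h1

/-- `C_S(l) ≤ E` -/
theorem cl_le_E [Finite F] {y : G} (hy : y ∈ S) (hyl : y ∈ centralizer (l : Set G)) : y ∈ N.E := by
  obtain ⟨b, hb⟩ := N.unip_of hy hyl
  exact ⟨N.SP hy, up b, hb⟩

/-- `S ∩ E ≤ C(l)` -/
theorem E_cl {s : G} (hs : s ∈ S) (hE : s ∈ N.E) : s ∈ centralizer (l : Set G) := by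
  obtain ⟨hsP, A, hA⟩ := hE
  have h10 : ent A 1 0 = 0 := by
    obtain ⟨v, hv, hx⟩ := N.exists_l 1
    have h1 := ((N.lin _).1 (N.conj_l hs hv)).2
    rw [hA v (N.lV hv), hx, ap_one'] at h1
    simpa using h1
  have h1 : N.Sm s 1 := by
    refine ⟨ent A 0 0, fun h00 => ?_, fun v hv => ?_⟩
    · obtain ⟨v, hv, hx⟩ := N.exists_l 1
      have h2 : s * v * s⁻¹ = 1 := by
        refine (N.ker _ (N.conj_V hsP (N.lV hv))).1 ?_
        rw [hA v (N.lV hv), hx]
        apply ext2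
        · rw [ap_zero', h00]; simp
        · rw [ap_one', h10]; simp
      have h3 : v = 1 := conj_eq_one_iff.1 h2
      rw [h3, N.e_one] at hx
      exact one_ne_zero (congrFun hx 0).symm
    · rw [hA v (N.lV hv), ap_zero', ((N.lin v).1 hv).2, mul_zero, add_zero]
      rfl
  refine mem_centralizer_iff.2 fun v hv => ?_
  have h2 := Sm.one N hs h1 v hv
  calc v * s = (s * v * s⁻¹) * s := by rw [h2]
    _ = s * v := by group

end NatS

/-! ### From the FF theorem -/

section ofNatK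

variable {F : Type} [Field F] {S P V W U D : Subgroup G}

theorem NatS.natK_inv (M : NatK F S P U D 1) {v : G} (hv : v ∈ U) : M.e v⁻¹ = - M.e v := by
  have h0 : M.e 1 = 0 := (M.ker 1 (one_mem _)).2 (one_mem _)
  have h := M.mul v hv v⁻¹ (inv_mem hv)
  rw [mul_inv_cancel, h0] at h
  exact (neg_eq_of_add_eq_zero_right h.symm).symm

/-- the line of `V` -/
def NatS.ln (M : NatK F S P U D 1) (V : Subgroup G) (hV : V ≤ U) : Subgroup G where
  carrier := {v | v ∈ V ∧ M.e v 0 1 = 0}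
  one_mem' := ⟨one_mem _, by rw [(M.ker 1 (one_mem _)).2 (one_mem _)]; rfl⟩
  mul_mem' := by
    rintro v w ⟨hv, hv1⟩ ⟨hw, hw1⟩
    refine ⟨mul_mem hv hw, ?_⟩
    rw [M.mul v (hV hv) w (hV hw), Pi.add_apply, Pi.add_apply, hv1, hw1, add_zero]
  inv_mem' := by
    rintro v ⟨hv, hv1⟩
    refine ⟨inv_mem hv, ?_⟩
    rw [NatS.natK_inv M (hV hv), Pi.neg_apply, Pi.neg_apply, hv1, neg_zero]

theorem NatS.mem_ln {M : NatK F S P U D 1} {hV : V ≤ U} {v : G} : v ∈ NatS.ln M V hV ↔ v ∈ V ∧ M.e v 0 1 = 0 := Iff.rfl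

/-- **`NatS` from the FF theorem** -/
def NatS.ofNatK (hSP : S ≤ P) (two : IsPGroup 2 S) (syl : ¬ 2 ∣ S.relIndex P) (M : NatK F S P U D 1) (hV : V ≤ U)
    (hDU : D ≤ U) (hsup : U ≤ V ⊔ D) (hinf : V ⊓ D = ⊥) (hDV : D ≤ normalizer (V : Set G))
    (hPD : P ≤ normalizer (D : Set G)) (nV : P ≤ normalizer (V : Set G)) (odd : ∀ g ∈ P, Odd (orderOf g) → g ∈ centralizer (W : Set G)) :
    NatS F S P V W (NatS.ln M V hV) where
  SP := hSP
  two := two
  syl := syl
  nV := nV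
  odd := odd
  e g := M.e g 0
  mul v hv w hw := by rw [M.mul v (hV hv) w (hV hw)]; rfl
  surj x := by
    obtain ⟨u, hu, h⟩ := M.surj fun _ => x
    obtain ⟨v, hv, d, hd, e⟩ := NatS.mulsup hDV (hsup hu)
    refine ⟨v, hv, ?_⟩
    have h1 := M.mul v (hV hv) d (hDU hd)
    rw [← e, h, (M.ker d (hDU hd)).2 hd, add_zero] at h1
    exact (congrFun h1 0).symm
  ker v hv := by
    constructor
    · intro h
      have h1 : M.e v = 0 := by
        funext i
        rw [Subsingleton.elim i 0]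
        exact h
      have h2 : v ∈ V ⊓ D := ⟨hv, (M.ker v (hV hv)).1 h1⟩
      rwa [hinf, mem_bot] at h2
    · rintro rfl
      rw [(M.ker 1 (one_mem _)).2 (one_mem _)]
      rfl
  lift A := by
    obtain ⟨g, hg, h1, -⟩ := M.lift fun _ => A
    exact ⟨g, hg, fun v hv => h1 v (hV hv) 0⟩
  norm g hg h hh A hA := by
    have h1 : ∀ v ∈ U, ∀ i, M.e (h * v * h⁻¹) i = ap ((fun _ => A : Fin 1 → _) i) (M.e v i) := by
      intro u hu i
      rw [Subsingleton.elim i 0]
      obtain ⟨v, hv, d, hd, rfl⟩ := NatS.mulsup hDV (hsup hu)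
      have hd' : h * d * h⁻¹ ∈ D := (mem_normalizer_iff.1 (hPD hh) d).1 hd
      have hv' : h * v * h⁻¹ ∈ V := (mem_normalizer_iff.1 (nV hh) v).1 hv
      have e1 : h * (v * d) * h⁻¹ = (h * v * h⁻¹) * (h * d * h⁻¹) := by group
      rw [e1, M.mul _ (hV hv') _ (hDU hd'), M.mul v (hV hv) d (hDU hd), (M.ker _ (hDU hd')).2 hd',
        (M.ker _ (hDU hd)).2 hd, add_zero, add_zero]
      exact hA v hv
    obtain ⟨B, hB⟩ := M.norm g hg h hh (fun _ => A) h1
    exact ⟨B 0, fun v hv => hB v (hV hv) 0⟩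
  unip b := by
    obtain ⟨t, ht, h1, -⟩ := M.unip fun _ => b
    exact ⟨t, ht, fun v hv => h1 v (hV hv) 0⟩
  lin v := NatS.mem_ln
  Sl := by
    have key : ∀ s ∈ S, ∀ v ∈ NatS.ln M V hV, s * v * s⁻¹ ∈ NatS.ln M V hV := by
      rintro s hs v ⟨hv, h0⟩
      refine ⟨(mem_normalizer_iff.1 (nV (hSP hs)) v).1 hv, ?_⟩
      obtain ⟨σ, hσ⟩ := M.line s hs
      have h1 := hσ v (hV hv) 0
      rw [Subsingleton.elim (σ 0) 0] at h1
      exact h1.2 h0
    intro s hs
    rw [mem_normalizer_iff]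
    refine fun x => ⟨key s hs x, fun h => ?_⟩
    have h1 := key s⁻¹ (inv_mem hs) _ h
    have e1 : s⁻¹ * (s * x * s⁻¹) * s⁻¹⁻¹ = x := by group
    rwa [e1] at h1

end ofNatK

end Cfsg.Agent.Omega.NOThreeL.RRed

end

section


/-!
# Sylow 2-subgroups of a finite symmetric group are self-normalising (556's literal)

`norm_le`: for a finite set `X` and `P : Sylow 2 (Equiv.Perm X)`, `N(P) ≤ P`. Induction on the set by
point stabilisers (556): the orbits of `P` have pairwise distinct sizes, and the stabiliser of a point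
of the smallest orbit is a Sylow 2-subgroup of the symmetric group of the remaining points.
-/

namespace Cfsg.Agent.Omega.NOThreeL.RRed.SymSyl
open MulAction Subgroup

universe u

set_option linter.unusedSectionVars false

variable {X : Type u} [Fintype X] [DecidableEq X]

theorem app_inv (f : Equiv.Perm X) (x : X) : f (f⁻¹ x) = x := Equiv.apply_symm_apply f x

theorem inv_app (f : Equiv.Perm X) (x : X) : f⁻¹ (f x) = x := Equiv.symm_apply_apply f x

/-- The permutations supported on `Y`. -/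
def Sy (Y : Finset X) : Subgroup (Equiv.Perm X) where
  carrier := {g | ∀ x, x ∉ Y → g x = x}
  one_mem' := fun x _ => rfl
  mul_mem' := fun {a b} ha hb x hx => by rw [Equiv.Perm.mul_apply, hb x hx, ha x hx]
  inv_mem' := fun {a} ha x hx => by rw [Equiv.Perm.inv_eq_iff_eq]; exact (ha x hx).symm

theorem mem_Sy {Y : Finset X} {g : Equiv.Perm X} : g ∈ Sy Y ↔ ∀ x, x ∉ Y → g x = x := Iff.rfl

theorem card_Sy (Y : Finset X) : Nat.card (Sy Y) = (Y.card).factorial := by
  have h1 : Nat.card (Sy Y) = Nat.card (Equiv.Perm {x // x ∈ Y}) :=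
    (Nat.card_congr (Equiv.Perm.subtypeEquivSubtypePerm (fun x => x ∈ Y))).symm
  rw [h1, Nat.card_eq_fintype_card, Fintype.card_perm, Fintype.card_coe]

/-- `P` is a full Sylow 2-subgroup of `Sym(Y)`. -/
structure Fu (Y : Finset X) (P : Subgroup (Equiv.Perm X)) : Prop where
  le : P ≤ Sy Y
  card : Nat.card P = 2 ^ (Y.card.factorial).factorization 2

theorem map_mem {Y : Finset X} {g : Equiv.Perm X} (hg : g ∈ Sy Y) {x : X} (hx : x ∈ Y) : g x ∈ Y := by
  by_contra h
  have := hg _ h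
  exact h (by rw [g.injective this]; exact hx)

theorem stab_card (P : Subgroup (Equiv.Perm X)) (a : X) :
    (orbit P a).ncard * Nat.card (P ⊓ stabilizer (Equiv.Perm X) a : Subgroup (Equiv.Perm X)) = Nat.card P := by
  have h1 : Nat.card (P ⊓ stabilizer (Equiv.Perm X) a : Subgroup (Equiv.Perm X)) = Nat.card (stabilizer P a) := by
    have h2 : (stabilizer P a).map P.subtype = P ⊓ stabilizer (Equiv.Perm X) a := by
      ext g
      simp only [Subgroup.mem_map, mem_stabilizer_iff, Subgroup.mem_inf, Subgroup.subtype_apply]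
      constructor
      · rintro ⟨g', h1, rfl⟩
        exact ⟨g'.2, h1⟩
      · rintro ⟨h1, h2⟩
        exact ⟨⟨g, h1⟩, h2, rfl⟩
    rw [← h2]
    exact Nat.card_congr ((stabilizer P a).equivMapOfInjective P.subtype P.subtype_injective).toEquiv.symm
  rw [h1, ← MulAction.index_stabilizer]
  exact Subgroup.index_mul_card _

theorem pow_of_dvd {P : Subgroup (Equiv.Perm X)} {Y : Finset X} (hP : P ≤ Sy Y) {k : ℕ}
    (hk : Nat.card P = 2 ^ k) : k ≤ (Y.card.factorial).factorization 2 := by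
  have h1 : 2 ^ k ∣ Y.card.factorial := by
    rw [← hk, ← card_Sy Y]
    exact Subgroup.card_dvd_of_le hP
  exact (Nat.prime_two.pow_dvd_iff_le_factorization (Nat.factorial_ne_zero _)).1 h1

theorem pt {Y : Finset X} {P : Subgroup (Equiv.Perm X)} (F : Fu Y P) {a : X} (ha : a ∈ Y) :
    ∃ j, (orbit P a).ncard = 2 ^ j ∧ Y.card.factorization 2 ≤ j ∧
      (j = Y.card.factorization 2 → Fu (Y.erase a) (P ⊓ stabilizer (Equiv.Perm X) a)) := by
  have h1 := stab_card P a
  rw [F.card] at h1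
  obtain ⟨j, -, hj⟩ := (Nat.dvd_prime_pow Nat.prime_two).1 (Dvd.intro _ h1)
  obtain ⟨k, -, hk⟩ := (Nat.dvd_prime_pow Nat.prime_two).1 (Dvd.intro_left _ h1)
  have hle : P ⊓ stabilizer (Equiv.Perm X) a ≤ Sy (Y.erase a) := by
    rintro g ⟨hg, hga⟩ x hx
    by_cases hxa : x = a
    · subst hxa; exact hga
    · exact F.le hg x fun h => hx (Finset.mem_erase.2 ⟨hxa, h⟩)
  have hk' := pow_of_dvd hle hk
  have hn : Y.card = (Y.erase a).card + 1 := (Finset.card_erase_add_one ha).symm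
  have hN : (Y.card.factorial).factorization 2 =
      Y.card.factorization 2 + ((Y.erase a).card.factorial).factorization 2 := by
    conv_lhs => rw [hn, Nat.factorial_succ, ← hn]
    rw [Nat.factorization_mul (by omega) (Nat.factorial_ne_zero _), Finsupp.add_apply]
  rw [hj, hk, ← pow_add] at h1
  have h2 := Nat.pow_right_injective (le_refl 2) h1
  refine ⟨j, hj, by omega, fun hjm => ⟨hle, ?_⟩⟩
  rw [hk]
  congr 1
  omega

theorem dvd_count (P : Subgroup (Equiv.Perm X)) (k : ℕ) : ∀ (m : ℕ) (Z : Finset X), Z.card ≤ m →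
    (∀ g ∈ P, ∀ x ∈ Z, g x ∈ Z) → (∀ x ∈ Z, k ∣ (orbit P x).ncard) → k ∣ Z.card := by
  classical
  intro m
  induction m with
  | zero =>
    intro Z hZ _ _
    rw [Nat.le_zero.1 hZ]
    exact dvd_zero _
  | succ m ih =>
    intro Z hZ hP hk
    rcases Z.eq_empty_or_nonempty with rfl | ⟨x, hx⟩
    · exact dvd_zero _
    have h1 := Finset.card_filter_add_card_filter_not (s := Z) (fun y => y ∈ orbit P x)
    have h2 : (Z.filter (fun y => y ∈ orbit P x)).card = (orbit P x).ncard := by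
      rw [← Set.ncard_coe_finset]
      congr 1
      ext y
      simp only [Finset.coe_filter, Set.mem_ofPred_eq]
      refine ⟨fun h => h.2, fun h => ⟨?_, h⟩⟩
      obtain ⟨g, rfl⟩ := h
      exact hP g g.2 x hx
    have h3 : 0 < (Z.filter (fun y => y ∈ orbit P x)).card :=
      Finset.card_pos.2 ⟨x, Finset.mem_filter.2 ⟨hx, mem_orbit_self x⟩⟩
    have h4 := ih (Z.filter (fun y => ¬ y ∈ orbit P x)) (by omega) (fun g hg y hy => by
      rw [Finset.mem_filter] at hy ⊢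
      refine ⟨hP g hg y hy.1, fun h => hy.2 ?_⟩
      obtain ⟨g', hg'⟩ := h
      have hg'' : g' • x = (⟨g, hg⟩ : P) • y := hg'
      exact ⟨(⟨g, hg⟩ : P)⁻¹ * g', show ((⟨g, hg⟩ : P)⁻¹ * g') • x = y by
        rw [mul_smul, hg'', inv_smul_smul]⟩) (fun y hy => hk y (Finset.mem_filter.1 hy).1)
    rw [← h1]
    exact dvd_add (h2 ▸ hk x hx) h4

/-- A `P`-invariant set of 2-power size, whose `P`-orbits have 2-power sizes which separate them, is
one orbit. -/
theorem one_orbit {P : Subgroup (Equiv.Perm X)} {Z : Finset X} (hne : Z.Nonempty) {j : ℕ}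
    (hj : Z.card = 2 ^ j) (hP : ∀ g ∈ P, ∀ x ∈ Z, g x ∈ Z)
    (h2 : ∀ x ∈ Z, ∃ i, (orbit P x).ncard = 2 ^ i)
    (hd : ∀ x ∈ Z, ∀ y ∈ Z, (orbit P x).ncard = (orbit P y).ncard → y ∈ orbit P x) :
    ∃ x ∈ Z, (orbit P x).ncard = Z.card := by
  classical
  obtain ⟨x, hx, hmin⟩ := Finset.exists_min_image Z (fun x => (orbit P x).ncard) hne
  obtain ⟨i, hi⟩ := h2 x hx
  refine ⟨x, hx, ?_⟩
  have h1 := Finset.card_filter_add_card_filter_not (s := Z) (fun y => y ∈ orbit P x)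
  have h3 : (Z.filter (fun y => y ∈ orbit P x)).card = (orbit P x).ncard := by
    rw [← Set.ncard_coe_finset]
    congr 1
    ext y
    simp only [Finset.coe_filter, Set.mem_ofPred_eq]
    refine ⟨fun h => h.2, fun h => ⟨?_, h⟩⟩
    obtain ⟨g, rfl⟩ := h
    exact hP g g.2 x hx
  have h4 : 2 ^ (i + 1) ∣ (Z.filter (fun y => ¬ y ∈ orbit P x)).card := by
    refine dvd_count P _ _ _ le_rfl (fun g hg y hy => ?_) fun y hy => ?_
    · rw [Finset.mem_filter] at hy ⊢
      refine ⟨hP g hg y hy.1, fun h => hy.2 ?_⟩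
      obtain ⟨g', hg'⟩ := h
      have hg'' : g' • x = (⟨g, hg⟩ : P) • y := hg'
      exact ⟨(⟨g, hg⟩ : P)⁻¹ * g', show ((⟨g, hg⟩ : P)⁻¹ * g') • x = y by
        rw [mul_smul, hg'', inv_smul_smul]⟩
    · rw [Finset.mem_filter] at hy
      obtain ⟨i', hi'⟩ := h2 y hy.1
      have h5 := hmin y hy.1
      rw [hi, hi'] at h5
      have h6 : i ≤ i' := (Nat.pow_le_pow_iff_right (by norm_num)).1 h5
      have h7 : i ≠ i' := by
        rintro rfl
        exact hy.2 (hd x hx y hy.1 (hi.trans hi'.symm))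
      rw [hi']
      exact pow_dvd_pow 2 (by omega)
  rw [h3, hi, hj] at h1
  rw [hi, hj]
  obtain ⟨c, hc⟩ := h4
  rw [hc] at h1
  have h8 : 2 ^ i ≤ 2 ^ j := by omega
  have h9 : i ≤ j := (Nat.pow_le_pow_iff_right (by norm_num)).1 h8
  rcases eq_or_lt_of_le h9 with h | h
  · rw [h]
  · exfalso
    have h10 : 2 ^ (i + 1) ∣ 2 ^ j := pow_dvd_pow 2 h
    rw [← h1] at h10
    have h11 : 2 ^ (i + 1) ∣ 2 ^ i := (Nat.dvd_add_left (Dvd.intro _ rfl)).1 h10
    have h12 := Nat.le_of_dvd (by positivity) h11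
    have h13 : 2 ^ (i + 1) = 2 * 2 ^ i := by ring
    have h14 : 0 < 2 ^ i := by positivity
    omega

/-- The `P`-orbit as a finset. -/
theorem exists_orb {Y : Finset X} {P : Subgroup (Equiv.Perm X)} (hP : P ≤ Sy Y) {x : X} (hx : x ∈ Y) :
    ∃ Z : Finset X, Z ⊆ Y ∧ (∀ y, y ∈ Z ↔ y ∈ orbit P x) ∧ Z.card = (orbit P x).ncard := by
  classical
  refine ⟨Y.filter (fun y => y ∈ orbit P x), Finset.filter_subset _ _, fun y => ?_, ?_⟩
  · rw [Finset.mem_filter]
    refine ⟨fun h => h.2, fun h => ⟨?_, h⟩⟩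
    obtain ⟨g, rfl⟩ := h
    exact map_mem (hP g.2) hx
  · rw [← Set.ncard_coe_finset]
    congr 1
    ext y
    simp only [Finset.coe_filter, Set.mem_ofPred_eq]
    refine ⟨fun h => h.2, fun h => ⟨?_, h⟩⟩
    obtain ⟨g, rfl⟩ := h
    exact map_mem (hP g.2) hx

/-- Orbits of equal size are equal. -/
theorem orb_eq : ∀ (n : ℕ) (Y : Finset X), Y.card = n → ∀ P : Subgroup (Equiv.Perm X), Fu Y P →
    ∀ x ∈ Y, ∀ y ∈ Y, (orbit P x).ncard = (orbit P y).ncard → y ∈ orbit P x := by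
  classical
  intro n
  induction n with
  | zero =>
    intro Y hY P _ x hx
    rw [Finset.card_eq_zero.1 hY] at hx
    simp at hx
  | succ n ih =>
    intro Y hY P F x hx y hy hxy
    by_contra hno
    obtain ⟨Zx, hZx, hZx', hZxc⟩ := exists_orb F.le hx
    obtain ⟨Zy, hZy, hZy', hZyc⟩ := exists_orb F.le hy
    obtain ⟨j, hj, hmj, -⟩ := pt F hx
    have hdj : Disjoint Zx Zy := by
      rw [Finset.disjoint_left]
      intro z hz hz'
      rw [hZx'] at hz
      rw [hZy'] at hz'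
      have h1 := MulAction.orbit_eq_iff.2 hz
      have h2 := MulAction.orbit_eq_iff.2 hz'
      exact hno (by rw [← h1, h2]; exact mem_orbit_self y)
    -- a point outside with the smallest possible orbit
    have hex : ∃ a ∈ Y, a ∉ Zx ∧ a ∉ Zy ∧ (orbit P a).ncard = 2 ^ (Y.card.factorization 2) := by
      by_contra hcon
      push Not at hcon
      have h1 : 2 ^ (Y.card.factorization 2 + 1) ∣ (Y \ (Zx ∪ Zy)).card := by
        refine dvd_count P _ _ _ le_rfl (fun g hg z hz => ?_) fun z hz => ?_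
        · rw [Finset.mem_sdiff, Finset.mem_union] at hz ⊢
          refine ⟨map_mem (F.le hg) hz.1, fun h => hz.2 ?_⟩
          have key : ∀ w : X, g z ∈ orbit P w → z ∈ orbit P w := by
            rintro w ⟨g', hg'⟩
            have hg'' : g' • w = (⟨g, hg⟩ : P) • z := hg'
            exact ⟨(⟨g, hg⟩ : P)⁻¹ * g', show ((⟨g, hg⟩ : P)⁻¹ * g') • w = z by
              rw [mul_smul, hg'', inv_smul_smul]⟩
          rcases h with h | h
          · exact Or.inl ((hZx' z).2 (key x ((hZx' _).1 h)))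
          · exact Or.inr ((hZy' z).2 (key y ((hZy' _).1 h)))
        · rw [Finset.mem_sdiff, Finset.mem_union] at hz
          push Not at hz
          obtain ⟨i, hi, hmi, -⟩ := pt F hz.1
          have h2 := hcon z hz.1 hz.2.1 hz.2.2
          rw [hi] at h2 ⊢
          refine pow_dvd_pow 2 ?_
          rcases eq_or_lt_of_le hmi with h | h
          · exact absurd (by rw [h]) h2
          · exact h
      have h2 : (Y \ (Zx ∪ Zy)).card + (Zx ∪ Zy).card = Y.card :=
        Finset.card_sdiff_add_card_eq_card (Finset.union_subset hZx hZy)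
      rw [Finset.card_union_of_disjoint hdj, hZxc, hZyc, ← hxy, hj] at h2
      have h3 : 2 ^ (Y.card.factorization 2 + 1) ∣ 2 ^ j + 2 ^ j := by
        have : 2 ^ j + 2 ^ j = 2 ^ (j + 1) := by ring
        rw [this]
        exact pow_dvd_pow 2 (by omega)
      have h4 : 2 ^ (Y.card.factorization 2 + 1) ∣ Y.card := by
        conv_rhs => rw [← h2]
        exact dvd_add h1 h3
      have h5 := (Nat.prime_two.pow_dvd_iff_le_factorization (by omega)).1 h4
      omega
    obtain ⟨a, ha, hax, hay, hca⟩ := hex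
    obtain ⟨i, hi, -, hF⟩ := pt F ha
    have hF' := hF (Nat.pow_right_injective (le_refl 2) (hi.symm.trans hca))
    have hcard : (Y.erase a).card = n := by rw [Finset.card_erase_of_mem ha, hY]; rfl
    have hD := ih _ hcard _ hF'
    have one : ∀ (w : X) (Z : Finset X), Z ⊆ Y → a ∉ Z → (∀ y, y ∈ Z ↔ y ∈ orbit P w) →
        Z.card = (orbit P w).ncard → (orbit P w).ncard = 2 ^ j → w ∈ Y →
        ∃ v ∈ Z, (orbit (P ⊓ stabilizer (Equiv.Perm X) a : Subgroup (Equiv.Perm X)) v).ncard = 2 ^ j := by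
      intro w Z hZ haZ hZ' hZc hwj hw
      have hsub : ∀ v ∈ Z, v ∈ Y.erase a := fun v hv =>
        Finset.mem_erase.2 ⟨fun h => haZ (h ▸ hv), hZ hv⟩
      obtain ⟨v, hv, hvc⟩ := one_orbit (P := P ⊓ stabilizer (Equiv.Perm X) a) (Z := Z)
        ⟨w, (hZ' w).2 (mem_orbit_self w)⟩ (hZc.trans hwj) (fun g hg v hv => by
          rw [hZ'] at hv ⊢
          obtain ⟨g', rfl⟩ := hv
          exact ⟨⟨g, hg.1⟩ * g', rfl⟩)
        (fun v hv => by
          obtain ⟨i', hi', -⟩ := pt hF' (hsub v hv)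
          exact ⟨i', hi'⟩)
        (fun v hv v' hv' => hD v (hsub v hv) v' (hsub v' hv'))
      exact ⟨v, hv, by rw [hvc, hZc, hwj]⟩
    obtain ⟨v, hv, hvc⟩ := one x Zx hZx hax hZx' hZxc hj hx
    obtain ⟨v', hv', hvc'⟩ := one y Zy hZy hay hZy' hZyc (hxy ▸ hj) hy
    have h1 := hD v (Finset.mem_erase.2 ⟨fun h => hax (h ▸ hv), hZx hv⟩) v'
      (Finset.mem_erase.2 ⟨fun h => hay (h ▸ hv'), hZy hv'⟩) (hvc.trans hvc'.symm)
    refine (Finset.disjoint_left.1 hdj) (?_ : v' ∈ Zx) hv'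
    rw [hZx'] at hv ⊢
    obtain ⟨g, rfl⟩ := hv
    obtain ⟨g', rfl⟩ := h1
    exact ⟨⟨g', g'.2.1⟩ * g, rfl⟩

/-- Self-normalising, with support. -/
theorem norm_aux : ∀ (n : ℕ) (Y : Finset X), Y.card = n → ∀ P : Subgroup (Equiv.Perm X), Fu Y P →
    ∀ h ∈ Sy Y, h ∈ Subgroup.normalizer (P : Set (Equiv.Perm X)) → h ∈ P := by
  classical
  intro n
  induction n with
  | zero =>
    intro Y hY P _ h hh _
    rw [Finset.card_eq_zero.1 hY] at hh
    have : h = 1 := Equiv.ext fun x => hh x (by simp)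
    rw [this]
    exact one_mem _
  | succ n ih =>
    intro Y hY P F h hh hn
    have hex : ∃ a ∈ Y, (orbit P a).ncard = 2 ^ (Y.card.factorization 2) := by
      by_contra hcon
      push Not at hcon
      have h1 : 2 ^ (Y.card.factorization 2 + 1) ∣ Y.card := by
        refine dvd_count P _ _ _ le_rfl (fun g hg z hz => map_mem (F.le hg) hz) fun z hz => ?_
        obtain ⟨i, hi, hmi, -⟩ := pt F hz
        have h2 := hcon z hz
        rw [hi] at h2 ⊢
        refine pow_dvd_pow 2 ?_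
        rcases eq_or_lt_of_le hmi with h | h
        · exact absurd (by rw [h]) h2
        · exact h
      have h5 := (Nat.prime_two.pow_dvd_iff_le_factorization (by omega)).1 h1
      omega
    obtain ⟨a, ha, hca⟩ := hex
    obtain ⟨i, hi, -, hF⟩ := pt F ha
    have hF' := hF (Nat.pow_right_injective (le_refl 2) (hi.symm.trans hca))
    have hcard : (Y.erase a).card = n := by rw [Finset.card_erase_of_mem ha, hY]; rfl
    have horb : orbit P (h a) = (fun x => h x) '' orbit P a := by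
      ext z
      constructor
      · rintro ⟨g, rfl⟩
        refine ⟨(h⁻¹ * g * h) a, ⟨⟨h⁻¹ * g * h, ?_⟩, rfl⟩, ?_⟩
        · have := (Subgroup.mem_normalizer_iff.1 (inv_mem hn) (g : Equiv.Perm X)).1 g.2
          rwa [inv_inv] at this
        · change h ((h⁻¹ * (g : Equiv.Perm X) * h) a) = (g : Equiv.Perm X) (h a)
          rw [Equiv.Perm.mul_apply, Equiv.Perm.mul_apply, app_inv]
      · rintro ⟨_, ⟨g, rfl⟩, rfl⟩
        refine ⟨⟨h * g * h⁻¹, (Subgroup.mem_normalizer_iff.1 hn (g : Equiv.Perm X)).1 g.2⟩, ?_⟩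
        change (h * (g : Equiv.Perm X) * h⁻¹) (h a) = h ((g : Equiv.Perm X) a)
        rw [Equiv.Perm.mul_apply, Equiv.Perm.mul_apply, inv_app]
    have hc : (orbit P a).ncard = (orbit P (h a)).ncard := by
      rw [horb, Set.ncard_image_of_injective _ h.injective]
    obtain ⟨g, hg⟩ := orb_eq _ Y rfl P F a ha (h a) (map_mem hh ha) hc
    have hg' : (g : Equiv.Perm X) a = h a := hg
    have hfix : ((g : Equiv.Perm X)⁻¹ * h) a = a := by
      rw [Equiv.Perm.mul_apply, ← hg', inv_app]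
    have hgn : (g : Equiv.Perm X)⁻¹ * h ∈ Subgroup.normalizer (P : Set (Equiv.Perm X)) :=
      mul_mem (inv_mem (Subgroup.le_normalizer g.2)) hn
    have hmem : (g : Equiv.Perm X)⁻¹ * h ∈ P ⊓ stabilizer (Equiv.Perm X) a := by
      refine ih _ hcard _ hF' _ ?_ ?_
      · intro z hz
        by_cases hza : z = a
        · rw [hza, hfix]
        · have hzY : z ∉ Y := fun hzY => hz (Finset.mem_erase.2 ⟨hza, hzY⟩)
          exact mul_mem (inv_mem (F.le g.2)) hh z hzY
      · have hs : (g : Equiv.Perm X)⁻¹ * h ∈ stabilizer (Equiv.Perm X) a := hfix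
        rw [Subgroup.mem_normalizer_iff]
        intro k
        have h1 := Subgroup.mem_normalizer_iff.1 hgn k
        have h2 := Subgroup.mem_normalizer_iff.1 (Subgroup.le_normalizer hs) k
        simp only [Subgroup.mem_inf] at h1 h2 ⊢
        rw [h1, h2]
    have := mul_mem g.2 hmem.1
    rwa [mul_inv_cancel_left] at this

/-- **Sylow 2-subgroups of a finite symmetric group are self-normalising.** -/
theorem norm_le (P : Sylow 2 (Equiv.Perm X)) :
    Subgroup.normalizer ((P : Subgroup (Equiv.Perm X)) : Set (Equiv.Perm X)) ≤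
      (P : Subgroup (Equiv.Perm X)) := by
  intro h hh
  refine norm_aux _ Finset.univ rfl _ ⟨fun g _ x hx => absurd (Finset.mem_univ x) hx, ?_⟩ h
    (fun x hx => absurd (Finset.mem_univ x) hx) hh
  rw [Sylow.card_eq_multiplicity, Nat.card_eq_fintype_card, Fintype.card_perm, Finset.card_univ]

end Cfsg.Agent.Omega.NOThreeL.RRed.SymSyl

end

section


/-!
# One natural block with field automorphisms (helper640): `NatS` from `WideTree.NatBlk`, the offenders

* `NatS.ofBlk` : `NatS F S (D ⊔ S) V W l` from coordinates of a group `D` normalised by `S` which induces `SL₂(F)` on `V`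
  and centralises `W`;
* **`NatS.off`** : an elementary abelian `A ≤ S` with `|V| |C_A(V)| ≤ |A| |C_V(A)|` which moves `V` centralises `l`,
  `C_V(A) = l` and `|A| = |l| |C_A(V)|`.
-/

set_option autoImplicit false
set_option linter.unusedSectionVars false

namespace Cfsg.Agent.Omega.NOThreeL.RRed

open Subgroup Cfsg Cfsg.Agent.ZN Cfsg.Agent.Omega.MinPar
open Cfsg.Agent.Lib.SL2Mat
open Cfsg.Agent.Omega.NatPair (ap ap_add ap_mul ap_one ext2 ap_zero' ap_one' ap_inv_ap ap_ap_inv ap_eq_mulVec)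
open scoped Pointwise

universe u

variable {G : Type u} [Group G]

/-- the elements of odd order of `D S` lie in `D` -/
theorem NatS.odd_mem {D S : Subgroup G} (hS : IsPGroup 2 S) (hSD : S ≤ normalizer (D : Set G)) {g : G}
    (hg : g ∈ D ⊔ S) (ho : Odd (orderOf g)) : g ∈ D := by
  obtain ⟨d, hd, s, hs, rfl⟩ := NatS.mulsup hSD hg
  obtain ⟨n, hn⟩ := hS ⟨s, hs⟩
  have hn' : s ^ 2 ^ n = 1 := congrArg Subtype.val hn
  have hpow : ∀ m : ℕ, (d * s) ^ m * (s ^ m)⁻¹ ∈ D := by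
    intro m
    induction m with
    | zero => simp
    | succ m ih =>
      have e1 : (d * s) ^ (m + 1) * (s ^ (m + 1))⁻¹ = d * (s * ((d * s) ^ m * (s ^ m)⁻¹) * s⁻¹) := by
        rw [pow_succ' (d * s), pow_succ' s]; group
      rw [e1]
      exact mul_mem hd ((mem_normalizer_iff.1 (hSD hs) _).1 ih)
  have h1 : (d * s) ^ 2 ^ n ∈ D := by
    have := hpow (2 ^ n)
    rwa [hn', inv_one, mul_one] at this
  have h2 : Nat.Coprime (orderOf (d * s)) (2 ^ n) := (Nat.coprime_two_right.2 ho).pow_right n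
  obtain ⟨m, hm⟩ := exists_pow_eq_self_of_coprime h2.symm
  rw [← hm]
  exact pow_mem h1 m

/-- **`NatS` from a group `D` which acts as `SL₂(F)`** (`WideTree.NatBlk`) -/
def NatS.ofBlk [Finite G] {F : Type} [Field F] (S : Sylow 2 G) {D V W l : Subgroup G} (e : G → Fin 2 → F)
    (mul : ∀ v ∈ V, ∀ w ∈ V, e (v * w) = e v + e w) (inj : ∀ v ∈ V, e v = 0 → v = 1)
    (sur : ∀ x : Fin 2 → F, ∃ v ∈ V, e v = x)
    (act : ∀ g ∈ D, ∃ M : Matrix.SpecialLinearGroup (Fin 2) F, ∀ v ∈ V, e (g * v * g⁻¹) = M.1.mulVec (e v))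
    (full : ∀ M : Matrix.SpecialLinearGroup (Fin 2) F, ∃ g ∈ D, ∀ v ∈ V, e (g * v * g⁻¹) = M.1.mulVec (e v))
    (line : ∀ v, v ∈ l ↔ v ∈ V ∧ e v 1 = 0)
    (sylow : ∀ c : F, ∃ s ∈ (S : Subgroup G) ⊓ D, ∀ v ∈ V, e (s * v * s⁻¹) = ![e v 0 + c * e v 1, e v 1])
    (SV : (S : Subgroup G) ≤ normalizer (V : Set G)) (DV : D ≤ normalizer (V : Set G))
    (SD : (S : Subgroup G) ≤ normalizer (D : Set G)) (Sl : (S : Subgroup G) ≤ normalizer (l : Set G))
    (DW : D ≤ centralizer (W : Set G)) : NatS F (S : Subgroup G) (D ⊔ (S : Subgroup G)) V W l where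
  SP := le_sup_right
  two := S.2
  syl := by
    intro h
    exact S.not_dvd_index (h.trans (relIndex_dvd_index_of_le le_sup_right))
  nV := sup_le DV SV
  odd g hg ho := DW (NatS.odd_mem S.2 SD hg ho)
  e := e
  mul := mul
  surj := sur
  ker v hv := ⟨inj v hv, fun h => by
    rw [h]
    have := mul 1 (one_mem _) 1 (one_mem _)
    rw [one_mul] at this
    exact left_eq_add.1 this⟩
  lift A := by
    obtain ⟨g, hg, h⟩ := full A
    exact ⟨g, le_sup_left (a := D) hg, fun v hv => by rw [h v hv, ap_eq_mulVec]⟩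
  norm g hg h hh A hA := by
    obtain ⟨d, hd, hdA⟩ := full A
    have hPD : D ⊔ (S : Subgroup G) ≤ normalizer (D : Set G) := sup_le le_normalizer SD
    have hPV : D ⊔ (S : Subgroup G) ≤ normalizer (V : Set G) := sup_le DV SV
    obtain ⟨B, hB⟩ := act _ ((mem_normalizer_iff.1 (hPD hg) d).1 hd)
    refine ⟨B, fun v hv => ?_⟩
    have hw : g⁻¹ * v * g ∈ V := by
      have := (mem_normalizer_iff.1 (hPV (inv_mem hg)) v).1 hv
      rwa [inv_inv] at this
    have h1 : h * (g⁻¹ * v * g) * h⁻¹ ∈ V := (mem_normalizer_iff.1 (hPV hh) _).1 hw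
    have h2 : d * (g⁻¹ * v * g) * d⁻¹ ∈ V := (mem_normalizer_iff.1 (DV hd) _).1 hw
    have h3 : h * (g⁻¹ * v * g) * h⁻¹ = d * (g⁻¹ * v * g) * d⁻¹ := by
      have h4 : e (h * (g⁻¹ * v * g) * h⁻¹) = e (d * (g⁻¹ * v * g) * d⁻¹) := by
        rw [hA _ hw, hdA _ hw, ap_eq_mulVec]
      have h0 : e 1 = 0 := by
        have := mul 1 (one_mem _) 1 (one_mem _)
        rw [one_mul] at this
        exact left_eq_add.1 this
      have h5 : e (h * (g⁻¹ * v * g) * h⁻¹ * (d * (g⁻¹ * v * g) * d⁻¹)⁻¹) = 0 := by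
        have h6 := mul _ h2 _ (inv_mem h2)
        rw [mul_inv_cancel, h0] at h6
        rw [mul _ h1 _ (inv_mem h2), h4, ← h6]
      exact mul_inv_eq_one.1 (inj _ (mul_mem h1 (inv_mem h2)) h5)
    have e1 : g * h * g⁻¹ * v * (g * h * g⁻¹)⁻¹ = g * (h * (g⁻¹ * v * g) * h⁻¹) * g⁻¹ := by group
    have e2 : g * (d * (g⁻¹ * v * g) * d⁻¹) * g⁻¹ = g * d * g⁻¹ * v * (g * d * g⁻¹)⁻¹ := by group
    rw [e1, h3, e2, hB v hv, ap_eq_mulVec]
  unip b := by
    obtain ⟨s, hs, h⟩ := sylow b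
    refine ⟨s, hs.1, fun v hv => ?_⟩
    rw [h v hv]
    apply ext2
    · rw [ap_zero', up_00, up_01, one_mul]; rfl
    · rw [ap_one', up_10, up_11, zero_mul, zero_add, one_mul]; rfl
  lin := line
  Sl := Sl

/-! ### Offenders -/

section off

variable {F : Type} [Field F]

/-- `|X| ≤ |L| |R|` for a homomorphism of `X` into `F` with kernel in `L` and values in `R` -/
theorem NatS.card_le [Finite F] [Finite G] {X L : Subgroup G} (f : G → F)
    (hf : ∀ x ∈ X, ∀ y ∈ X, f (x * y) = f x + f y) (hk : ∀ x ∈ X, f x = 0 → x ∈ L) {R : Set F}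
    (hR : ∀ x ∈ X, f x ∈ R) : Nat.card X ≤ Nat.card L * Nat.card R := by
  let φ : X →* Multiplicative F := MonoidHom.mk' (fun x => Multiplicative.ofAdd (f x)) (by
    rintro ⟨v, hv⟩ ⟨w, hw⟩
    exact congrArg Multiplicative.ofAdd (hf v hv w hw))
  have h1 : Nat.card φ.ker * Nat.card φ.range = Nat.card X := by
    rw [← Subgroup.index_ker, Subgroup.card_mul_index]
  have h2 : Nat.card φ.range ≤ Nat.card R := by
    refine Nat.card_le_card_of_injective (fun y : φ.range => (⟨Multiplicative.toAdd y.1, by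
      obtain ⟨x, hx⟩ := y.2
      rw [← hx]
      exact hR x.1 x.2⟩ : R)) fun a b h => by
      have h' := congrArg (fun z : R => (z : F)) h
      exact Subtype.ext h'
  have h3 : Nat.card φ.ker ≤ Nat.card L := by
    refine Nat.card_le_card_of_injective (fun x : φ.ker => (⟨x.1.1, hk _ x.1.2 (by
      have := MonoidHom.mem_ker.1 x.2
      exact congrArg Multiplicative.toAdd this)⟩ : L)) fun a b h => by
      have h' := congrArg (fun z : L => (z : G)) h
      exact Subtype.ext (Subtype.ext h')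
  rw [← h1]
  exact Nat.mul_le_mul h3 h2

/-- the solutions of `x = c σ(x)` -/
def NatS.sol (σ : F ≃+* F) (c : F) : Set F := {x | x = c * σ x}

theorem NatS.card_sol [Finite F] (σ : F ≃+* F) (c : F) : Nat.card (NatS.sol σ c) ≤ Nat.card (NatS.sol σ 1) := by
  by_cases h : ∃ y ∈ NatS.sol σ c, y ≠ 0
  · obtain ⟨y, hy, hy0⟩ := h
    refine Nat.card_le_card_of_injective (fun x : NatS.sol σ c => (⟨x.1 / y, ?_⟩ : NatS.sol σ 1)) ?_
    · have h1 : x.1 = c * σ x.1 := x.2
      have h2 : y = c * σ y := hy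
      have hc : c ≠ 0 := by
        rintro rfl
        rw [zero_mul] at h2
        exact hy0 h2
      have hs : σ y ≠ 0 := by simpa using hy0
      show x.1 / y = 1 * σ (x.1 / y)
      rw [one_mul, map_div₀]
      conv_lhs => rw [h1, h2]
      field_simp
    · intro a b hab
      have h1 : a.1 / y = b.1 / y := congrArg Subtype.val hab
      exact Subtype.ext (by field_simp at h1; exact h1)
  · push Not at h
    have h1 : Nat.card (NatS.sol σ c) ≤ 1 := by
      have : Subsingleton (NatS.sol σ c) := ⟨fun a b => Subtype.ext ((h a a.2).trans (h b b.2).symm)⟩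
      exact Finite.card_le_one_iff_subsingleton.2 this
    have h2 : 0 < Nat.card (NatS.sol σ 1) := by
      have : Nonempty (NatS.sol σ 1) := ⟨⟨0, by show (0 : F) = 1 * σ 0; simp⟩⟩
      exact Nat.card_pos
    omega

theorem NatS.two_card_sol [Finite F] {σ : F ≃+* F} (h : σ ≠ 1) : 2 * Nat.card (NatS.sol σ 1) ≤ Nat.card F := by
  let K : AddSubgroup F :=
    { carrier := NatS.sol σ 1
      zero_mem' := by show (0 : F) = 1 * σ 0; simp
      add_mem' := by
        intro a b ha hb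
        have ha' : a = 1 * σ a := ha
        have hb' : b = 1 * σ b := hb
        show a + b = 1 * σ (a + b)
        rw [map_add, mul_add, ← ha', ← hb']
      neg_mem' := by
        intro a ha
        have ha' : a = 1 * σ a := ha
        show -a = 1 * σ (-a)
        rw [map_neg, mul_neg, ← ha'] }
  have hK : K ≠ ⊤ := by
    intro h1
    apply h
    ext x
    have h2 : x ∈ K := by rw [h1]; trivial
    have h3 : x = 1 * σ x := h2
    rw [one_mul] at h3
    exact h3.symm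
  have h1 : Nat.card K * K.index = Nat.card F := K.card_mul_index
  have h2 : 1 < K.index := by
    have h3 : K.index ≠ 0 := AddSubgroup.index_ne_zero_of_finite
    have h4 : K.index ≠ 1 := fun e => hK (AddSubgroup.index_eq_one.1 e)
    omega
  have h3 : Nat.card K = Nat.card (NatS.sol σ 1) := rfl
  rw [h3] at h1
  nlinarith [Nat.zero_le (Nat.card (NatS.sol σ 1))]

namespace NatS

variable [Finite F] [CharP F 2] [Finite G] {S P V W l A : Subgroup G} (N : NatS F S P V W l)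
include N

/-- **The offenders in `S` on `V`** -/
theorem off (hA : A ≤ S) (hAc : ∀ a ∈ A, ∀ b ∈ A, a * b = b * a) (hA2 : ∀ a ∈ A, a ^ 2 = 1)
    (hmv : ¬ A ≤ centralizer (V : Set G))
    (hoff : Nat.card V * Nat.card ↥(A ⊓ centralizer (V : Set G)) ≤
      Nat.card A * Nat.card ↥(V ⊓ centralizer (A : Set G))) :
    A ≤ centralizer (l : Set G) ∧ V ⊓ centralizer (A : Set G) = l ∧
      Nat.card A = Nat.card l * Nat.card ↥(A ⊓ centralizer (V : Set G)) := by
  obtain ⟨v1, hv1, hev1⟩ := N.surj ![0, 1]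
  have hcV := N.card_V
  have hcl := N.card_l
  have hC0 : 0 < Nat.card ↥(A ⊓ centralizer (V : Set G)) := Nat.card_pos
  have hq0 : 0 < Nat.card F := Nat.card_pos
  -- the parameters of `X ≤ C_A(l)`
  have par : ∀ u ∈ A, u ∈ centralizer (l : Set G) → ∀ v ∈ V,
      N.e (u * v * u⁻¹) = ![N.e v 0 + N.e (u * v1 * u⁻¹) 0 * N.e v 1, N.e v 1] := by
    intro u hu hul v hv
    obtain ⟨b, hb⟩ := N.unip_of (hA hu) hul
    have h1 : N.e (u * v1 * u⁻¹) 0 = b := by
      rw [hb v1 hv1, hev1, ap_zero', up_00, up_01]; simp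
    rw [h1, hb v hv]
    apply ext2
    · rw [ap_zero', up_00, up_01, one_mul]; rfl
    · rw [ap_one', up_10, up_11, zero_mul, zero_add, one_mul]; rfl
  have cen : ∀ u ∈ A, u ∈ centralizer (l : Set G) → N.e (u * v1 * u⁻¹) 0 = 0 →
      u ∈ A ⊓ centralizer (V : Set G) := by
    intro u hu hul h0
    refine ⟨hu, mem_centralizer_iff.2 fun v hv => ?_⟩
    have h1 : u * v * u⁻¹ = v := by
      refine N.e_inj (N.conj_V (N.SP (hA hu)) hv) hv ?_
      rw [par u hu hul v hv, h0]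
      apply ext2 <;> simp
    calc v * u = (u * v * u⁻¹) * u := by rw [h1]
      _ = u * v := by group
  have add : ∀ u ∈ A ⊓ centralizer (l : Set G), ∀ w ∈ A ⊓ centralizer (l : Set G),
      N.e (u * w * v1 * (u * w)⁻¹) 0 = N.e (u * v1 * u⁻¹) 0 + N.e (w * v1 * w⁻¹) 0 := by
    rintro u ⟨hu, hul⟩ w ⟨hw, hwl⟩
    have e1 : u * w * v1 * (u * w)⁻¹ = u * (w * v1 * w⁻¹) * u⁻¹ := by group
    have h1 : N.e (w * v1 * w⁻¹) 1 = 1 := by
      rw [par w hw hwl v1 hv1, hev1]; rfl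
    rw [e1, par u hu hul _ (N.conj_V (N.SP (hA hw)) hv1), h1]
    show N.e (w * v1 * w⁻¹) 0 + N.e (u * v1 * u⁻¹) 0 * 1 = _
    ring
  by_cases hAl : A ≤ centralizer (l : Set G)
  · -- `A` is unipotent
    obtain ⟨a, ha, haV⟩ := SetLike.not_le_iff_exists.1 hmv
    have h1 : V ⊓ centralizer (A : Set G) = l := by
      apply le_antisymm
      · rintro v ⟨hv, hvA⟩
        by_contra hvl
        exact haV (N.reg a (hA ha) (hAl ha) v hv hvl (mem_centralizer_iff.1 hvA a ha))
      · refine le_inf N.lV ?_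
        rw [le_centralizer_iff]
        exact hAl
    have h2 : Nat.card A ≤ Nat.card ↥(A ⊓ centralizer (V : Set G)) * Nat.card (Set.univ : Set F) := by
      refine NatS.card_le (fun u => N.e (u * v1 * u⁻¹) 0) ?_ ?_ fun _ _ => trivial
      · intro x hx y hy
        exact add x ⟨hx, hAl hx⟩ y ⟨hy, hAl hy⟩
      · intro x hx h0
        exact cen x hx (hAl hx) h0
    rw [Nat.card_univ] at h2
    rw [h1, hcl, hcV] at hoff
    refine ⟨hAl, h1, ?_⟩
    rw [hcl]
    have h3 : Nat.card F * Nat.card ↥(A ⊓ centralizer (V : Set G)) ≤ Nat.card A := by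
      refine Nat.le_of_mul_le_mul_left ?_ hq0
      calc Nat.card F * (Nat.card F * Nat.card ↥(A ⊓ centralizer (V : Set G)))
          = Nat.card F * Nat.card F * Nat.card ↥(A ⊓ centralizer (V : Set G)) := by ring
        _ ≤ Nat.card A * Nat.card F := hoff
        _ = Nat.card F * Nat.card A := by ring
    rw [mul_comm] at h2
    exact le_antisymm h2 h3
  · -- field automorphisms: impossible
    exfalso
    obtain ⟨a, ha, hal⟩ := SetLike.not_le_iff_exists.1 hAl
    have haS := hA ha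
    obtain ⟨σ, α, β, δ, hα, hδ, hact⟩ := N.semi haS
    have hSm : N.Sm a σ := ⟨α, hα, fun v hv => by
      rw [hact v (N.lV hv), ((N.lin v).1 hv).2, map_zero]; simp⟩
    have hσ : σ ≠ 1 := by
      rintro rfl
      apply hal
      refine mem_centralizer_iff.2 fun v hv => ?_
      have h1 := Sm.one N haS hSm v hv
      calc v * a = (a * v * a⁻¹) * a := by rw [h1]
        _ = a * v := by group
    have hone : N.Sm 1 1 := ⟨1, one_ne_zero, fun v _ => by
      show N.e (1 * v * 1⁻¹) 0 = 1 * N.e v 0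
      rw [one_mul, inv_one, mul_one, one_mul]⟩
    set q0 := Nat.card (NatS.sol σ 1) with hq0'
    have hq := NatS.two_card_sol hσ
    -- `|C_l(a)| ≤ q₀`
    have hla : Nat.card ↥(l ⊓ centralizer ({a} : Set G)) ≤ q0 := by
      refine le_trans ?_ (NatS.card_sol σ α)
      have h1 := NatS.card_le (X := l ⊓ centralizer ({a} : Set G)) (L := ⊥) (fun v => N.e v 0)
        (fun x hx y hy => by rw [N.mul x (N.lV hx.1) y (N.lV hy.1)]; rfl)
        (fun x hx h0 => by
          rw [mem_bot]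
          refine (N.ker x (N.lV hx.1)).1 ?_
          rw [N.e_l hx.1, h0]
          exact ext2 rfl rfl) (R := NatS.sol σ α) (fun x hx => by
          have h2 : a * x * a⁻¹ = x := by
            have := mem_centralizer_singleton_iff.1 hx.2
            rw [← this, mul_inv_cancel_right]
          have h3 := hact x (N.lV hx.1)
          rw [h2, ((N.lin x).1 hx.1).2, map_zero, mul_zero, mul_zero, add_zero] at h3
          exact congrFun h3 0)
      rwa [card_bot, one_mul] at h1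
    -- `|C_V(a)| ≤ q₀²`
    have hVa : Nat.card ↥(V ⊓ centralizer ({a} : Set G)) ≤ q0 * q0 := by
      have h1 := NatS.card_le (X := V ⊓ centralizer ({a} : Set G)) (L := l ⊓ centralizer ({a} : Set G))
        (fun v => N.e v 1)
        (fun x hx y hy => by rw [N.mul x hx.1 y hy.1]; rfl)
        (fun x hx h0 => ⟨(N.lin x).2 ⟨hx.1, h0⟩, hx.2⟩) (R := NatS.sol σ δ) (fun x hx => by
          have h2 : a * x * a⁻¹ = x := by
            have := mem_centralizer_singleton_iff.1 hx.2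
            rw [← this, mul_inv_cancel_right]
          have h3 := hact x hx.1
          rw [h2] at h3
          exact congrFun h3 1)
      exact h1.trans (Nat.mul_le_mul hla (NatS.card_sol σ δ))
    -- `|A| ≤ 2 |C_A(l)|`
    have hA0 : Nat.card A ≤ 2 * Nat.card ↥(A ⊓ centralizer (l : Set G)) := by
      have key : ∀ b ∈ A, b ∈ centralizer (l : Set G) ∨ a * b ∈ centralizer (l : Set G) := by
        intro b hb
        obtain ⟨τ, hτ⟩ := Sm.exists N (hA hb)
        have h1 : ∀ c ∈ A, ∀ υ : F ≃+* F, N.Sm c υ → υ ^ 2 = 1 := by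
          intro c hc υ hυ
          have h2 := Sm.mul N (hA hc) hυ hυ
          have h3 : c * c = 1 := by rw [← pow_two]; exact hA2 c hc
          rw [h3] at h2
          rw [pow_two]
          exact Sm.unique N h2 hone
        have hcy : IsCyclic (F ≃+* F) := Cfsg.Agent.LieRecognition.FieldSemilinear.isCyclic_ringAut F
        have hfin : Finite (F ≃+* F) := Finite.of_injective (fun f : F ≃+* F => (f : F → F)) DFunLike.coe_injective
        have hτσ : τ = 1 ∨ τ = σ := by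
          by_contra hcon
          push Not at hcon
          classical
          have := Fintype.ofFinite (F ≃+* F)
          have h4 := IsCyclic.card_pow_eq_one_le (α := F ≃+* F) (n := 2) (by norm_num)
          have h5 : ({1, σ, τ} : Finset (F ≃+* F)) ⊆ Finset.univ.filter fun x => x ^ 2 = 1 := by
            intro x hx
            simp only [Finset.mem_insert, Finset.mem_singleton] at hx
            rw [Finset.mem_filter]
            refine ⟨Finset.mem_univ _, ?_⟩
            rcases hx with rfl | rfl | rfl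
            · exact one_pow _
            · exact h1 a ha _ hSm
            · exact h1 b hb _ hτ
          have h6 := (Finset.card_le_card h5).trans h4
          have h7 : ({1, σ, τ} : Finset (F ≃+* F)).card = 3 := by
            rw [Finset.card_eq_three]
            exact ⟨1, σ, τ, hσ.symm, hcon.1.symm, hcon.2.symm, rfl⟩
          omega
        have h8 : ∀ c ∈ A, N.Sm c 1 → c ∈ centralizer (l : Set G) := by
          intro c hc h9
          refine mem_centralizer_iff.2 fun v hv => ?_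
          have h10 := Sm.one N (hA hc) h9 v hv
          calc v * c = (c * v * c⁻¹) * c := by rw [h10]
            _ = c * v := by group
        rcases hτσ with rfl | rfl
        · exact Or.inl (h8 b hb hτ)
        · refine Or.inr (h8 _ (mul_mem ha hb) ?_)
          have h9 := Sm.mul N (hA hb) hSm hτ
          have h10 := h1 a ha _ hSm
          rw [pow_two] at h10
          rwa [h10] at h9
      have h1 : Nat.card A ≤ Nat.card (Bool × ↥(A ⊓ centralizer (l : Set G))) := by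
        classical
        refine Nat.card_le_card_of_injective (fun b : A => if h : (b : G) ∈ centralizer (l : Set G) then
          (false, ⟨b, b.2, h⟩) else (true, ⟨a * b, mul_mem ha b.2, (key b b.2).resolve_left h⟩)) ?_
        intro b c hbc
        by_cases hb : (b : G) ∈ centralizer (l : Set G) <;> by_cases hc : (c : G) ∈ centralizer (l : Set G)
        · simp only [hb, hc, dite_true] at hbc
          have h' := congrArg (fun z : ↥(A ⊓ centralizer (l : Set G)) => (z : G)) (Prod.ext_iff.1 hbc).2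
          exact Subtype.ext h'
        · simp only [hb, hc, dite_true, dite_false] at hbc
          exact absurd (Prod.ext_iff.1 hbc).1 (by simp)
        · simp only [hb, hc, dite_true, dite_false] at hbc
          exact absurd (Prod.ext_iff.1 hbc).1 (by simp)
        · simp only [hb, hc, dite_false] at hbc
          have h' := congrArg (fun z : ↥(A ⊓ centralizer (l : Set G)) => (z : G)) (Prod.ext_iff.1 hbc).2
          exact Subtype.ext (mul_left_cancel h')
      rwa [Nat.card_prod, Nat.card_eq_fintype_card (α := Bool), Fintype.card_bool] at h1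
    -- `|C_A(l)| ≤ |C_A(V)| q₀`
    have hA1 : Nat.card ↥(A ⊓ centralizer (l : Set G)) ≤ Nat.card ↥(A ⊓ centralizer (V : Set G)) * q0 := by
      have h1 := NatS.card_le (X := A ⊓ centralizer (l : Set G)) (L := A ⊓ centralizer (V : Set G))
        (fun u => N.e (u * v1 * u⁻¹) 0) add (fun x hx h0 => cen x hx.1 hx.2 h0) (R := NatS.sol σ (α / δ))
        (fun u hu => by
          have hc := hAc a ha u hu.1
          have hua : u * (a * v1 * a⁻¹) * u⁻¹ = a * (u * v1 * u⁻¹) * a⁻¹ := by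
            calc u * (a * v1 * a⁻¹) * u⁻¹ = (u * a) * v1 * (u * a)⁻¹ := by group
              _ = (a * u) * v1 * (a * u)⁻¹ := by rw [hc]
              _ = _ := by group
          have h2 := par u hu.1 hu.2 _ (N.conj_V (N.SP haS) hv1)
          have h3 := hact _ (N.conj_V (N.SP (hA hu.1)) hv1)
          rw [hua, h3, hact v1 hv1, hev1] at h2
          have h4 := par u hu.1 hu.2 v1 hv1
          rw [hev1] at h4
          have h5 : N.e (u * v1 * u⁻¹) 1 = 1 := by rw [h4]; rfl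
          have h6 := congrFun h2 0
          rw [h5] at h6
          simp only [Matrix.cons_val_zero, Matrix.cons_val_one, map_zero, map_one, mul_zero, mul_one, zero_add] at h6
          -- `α σ(b) + β = β + b δ`
          have h7 : α * σ (N.e (u * v1 * u⁻¹) 0) = N.e (u * v1 * u⁻¹) 0 * δ := by
            have := h6
            rw [add_comm β] at this
            exact add_right_cancel this
          show N.e (u * v1 * u⁻¹) 0 = α / δ * σ (N.e (u * v1 * u⁻¹) 0)
          rw [div_mul_eq_mul_div, h7]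
          field_simp)
      exact h1.trans (Nat.mul_le_mul_left _ (NatS.card_sol σ _))
    have hq00 : 0 < q0 := by
      have : Nonempty (NatS.sol σ 1) := ⟨⟨0, by show (0 : F) = 1 * σ 0; simp⟩⟩
      exact Nat.card_pos
    have fin : Nat.card A * Nat.card ↥(V ⊓ centralizer (A : Set G)) ≤
        2 * Nat.card ↥(A ⊓ centralizer (V : Set G)) * (q0 * q0) := by
      by_cases hA0V : A ⊓ centralizer (l : Set G) ≤ centralizer (V : Set G)
      · have h1 : Nat.card ↥(A ⊓ centralizer (l : Set G)) ≤ Nat.card ↥(A ⊓ centralizer (V : Set G)) :=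
          card_le_of_le (le_inf inf_le_left hA0V)
        have h2 : Nat.card ↥(V ⊓ centralizer (A : Set G)) ≤ q0 * q0 :=
          (card_le_of_le (inf_le_inf_left _ (centralizer_le (Set.singleton_subset_iff.2 ha)))).trans hVa
        exact Nat.mul_le_mul (hA0.trans (Nat.mul_le_mul_left _ h1)) h2
      · obtain ⟨u, hu, huV⟩ := SetLike.not_le_iff_exists.1 hA0V
        have h1 : V ⊓ centralizer (A : Set G) ≤ l ⊓ centralizer ({a} : Set G) := by
          rintro v ⟨hv, hvA⟩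
          refine ⟨?_, centralizer_le (Set.singleton_subset_iff.2 ha) hvA⟩
          by_contra hvl
          exact huV (N.reg u (hA hu.1) hu.2 v hv hvl (mem_centralizer_iff.1 hvA u hu.1))
        calc Nat.card A * Nat.card ↥(V ⊓ centralizer (A : Set G))
            ≤ (2 * (Nat.card ↥(A ⊓ centralizer (V : Set G)) * q0)) * q0 :=
              Nat.mul_le_mul (hA0.trans (Nat.mul_le_mul_left _ hA1)) ((card_le_of_le h1).trans hla)
          _ = _ := by ring
    have h9 := hoff.trans fin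
    rw [hcV] at h9
    have h10 : Nat.card F * Nat.card F ≤ 2 * (q0 * q0) := by
      refine Nat.le_of_mul_le_mul_right ?_ hC0
      calc Nat.card F * Nat.card F * Nat.card ↥(A ⊓ centralizer (V : Set G))
          ≤ 2 * Nat.card ↥(A ⊓ centralizer (V : Set G)) * (q0 * q0) := h9
        _ = _ := by ring
    have h11 : (2 * q0) * (2 * q0) ≤ Nat.card F * Nat.card F := Nat.mul_le_mul hq hq
    nlinarith

end NatS

end off

end Cfsg.Agent.Omega.NOThreeL.RRed

end
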