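import Cfsg.Agent.Mrg.Omega.NOThreeL.RRed.Two
import Cfsg.Agent.Mrg.Omega.TC.No


/-!
# NO-3L, box R, `|Z| = 4`: two orbits of blocks give the frame `KL.TwoS.Fr` (#22505, #23579)

`TwoV S V v` : `Ω₁Z(S) = ⟨v 0, v 1⟩`, `v i ∈ V i ≤ V_P` for some `P ∈ P*(S)`; every `R ∈ P*(S)` centralises `v 0` or
`v 1`, normalises `V 0`, `V 1`, and (if it moves `v i`) is irreducible on `V i`, its elements of odd order centralise
`V j`, and the orbit `v i ^ R` does not depend on `R`.

* `TwoV.isLong` : `C_G(v i)` is long; `TwoV.kgroup` : it is a `K`-group;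
* `TwoV.cent_of_norm` : `N_G(S) ⊓ C_G(v i)` centralises `Ω₁Z(S)`;
* **`TwoV.fr`** : with `RB S`: `KL.TwoS.Fr S V v`.
-/

set_option autoImplicit false
set_option linter.unusedSectionVars false

namespace Cfsg.Agent.Omega.NOThreeL.RRed

open Subgroup Cfsg Cfsg.Agent.ZN Cfsg.Agent.Omega.MinPar Cfsg.Agent.Omega.Frame Cfsg.Agent.Omega.FrameNOFF
open Cfsg.Agent.Omega.Node.NO3L Cfsg.Agent.Omega.NOThreeL.Basic Cfsg.Agent.Omega.NOThreeL.RTree
open Cfsg.Agent.Omega.NoFF.Basic (conj_conj mem_conj conj_le_iff conj_le_centralizer comm_symm comm_mono)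
open Cfsg.Agent.Omega.NOThreeL.Pair (conj_eq_of_mem)
open Cfsg.Agent.Omega.FFThm (syl_of_sylow)
open Cfsg.Agent.MinSimple.VModule (le_normalizer_o2 zc_le_zl le_centralizer_zc)
open Cfsg.Agent.MinSimple.MinParabolic (IsMinPar)
open scoped Pointwise

universe u

variable {G : Type u} [Group G]

/-- Two orbits of blocks, `|Z| = 4`. -/
structure TwoV (S : Subgroup G) (V : Fin 2 → Subgroup G) (v : Fin 2 → G) : Prop where
  mem : ∀ i, v i ∈ V i
  ne : ∀ i, v i ≠ 1
  zS : ∀ x, x ∈ zc S ↔ x = 1 ∨ x = v 0 ∨ x = v 1 ∨ x = v 0 * v 1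
  VP : ∀ i, ∃ P, IsParS S P ∧ V i ≤ zl S P
  cen : ∀ R, IsParS S R → R ≤ centralizer ({v 0} : Set G) ∨ R ≤ centralizer ({v 1} : Set G)
  nrm : ∀ R, IsParS S R → ∀ i, R ≤ normalizer (V i : Set G)
  odd : ∀ i j, i ≠ j → ∀ R, IsParS S R → R ≤ centralizer ({v j} : Set G) → ¬ R ≤ centralizer ({v i} : Set G) →
    ∀ g ∈ R, Odd (orderOf g) → g ∈ centralizer (V j : Set G)
  irr : ∀ i j, i ≠ j → ∀ R, IsParS S R → R ≤ centralizer ({v j} : Set G) → ¬ R ≤ centralizer ({v i} : Set G) →
    ∀ W : Subgroup G, W ≤ V i → R ≤ normalizer (W : Set G) → W ≠ ⊥ → V i ≤ W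
  same : ∀ i j, i ≠ j → ∀ R, IsParS S R → R ≤ centralizer ({v j} : Set G) → ¬ R ≤ centralizer ({v i} : Set G) →
    ∀ R', IsParS S R' → R' ≤ centralizer ({v j} : Set G) → ¬ R' ≤ centralizer ({v i} : Set G) →
      ∀ r' ∈ R', ∃ r ∈ R, r' * v i * r'⁻¹ = r * v i * r⁻¹

namespace TwoV

section one

variable {S : Subgroup G} {V : Fin 2 → Subgroup G} {v : Fin 2 → G} (T : TwoV S V v)
include T

theorem v_zc (i : Fin 2) : v i ∈ zc S := by
  rw [T.zS]
  rcases Fin.exists_fin_two.1 ⟨i, rfl⟩ with h | h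
  · exact Or.inr (Or.inl (by rw [h]))
  · exact Or.inr (Or.inr (Or.inl (by rw [h])))

theorem comm_s (i : Fin 2) {s : G} (hs : s ∈ S) : s * v i = v i * s := (mem_zc.1 (T.v_zc i)).2.1 s hs

theorem v_sq (i : Fin 2) : v i * v i = 1 := by
  rw [← pow_two]; exact (mem_zc.1 (T.v_zc i)).2.2

theorem v_comm (i j : Fin 2) : v i * v j = v j * v i := T.comm_s j (zc_le _ (T.v_zc i))

/-- the elements of `Ω₁Z(S)` in terms of `i ≠ j` -/
theorem zS' {i j : Fin 2} (hij : i ≠ j) {x : G} (hx : x ∈ zc S) : x = 1 ∨ x = v i ∨ x = v j ∨ x = v i * v j := by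
  have h2 : ∀ a b : Fin 2, a ≠ b → (a = 0 ∧ b = 1) ∨ (a = 1 ∧ b = 0) := by decide
  rcases h2 i j hij with ⟨rfl, rfl⟩ | ⟨rfl, rfl⟩
  · exact (T.zS x).1 hx
  · rcases (T.zS x).1 hx with h | h | h | h
    · exact Or.inl h
    · exact Or.inr (Or.inr (Or.inl h))
    · exact Or.inr (Or.inl h)
    · exact Or.inr (Or.inr (Or.inr (by rw [h, T.v_comm])))

end one

variable [Finite G] {S : Sylow 2 G} {V : Fin 2 → Subgroup G} {v : Fin 2 → G} (T : TwoV (S : Subgroup G) V v)
include T

theorem le_C (i : Fin 2) : (S : Subgroup G) ≤ centralizer ({v i} : Set G) := fun _ hs =>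
  mem_centralizer_singleton_iff.2 (T.comm_s i hs)

theorem CZ_le (i : Fin 2) : CZ (S : Subgroup G) ≤ centralizer ({v i} : Set G) :=
  centralizer_le (Set.singleton_subset_iff.2 (T.v_zc i))

/-- `C_G(v i)` is long. -/
theorem isLong (i : Fin 2) : IsLong (S : Subgroup G) (centralizer ({v i} : Set G)) where
  loc := by
    refine isLoc_of_le_normalizer S (T.le_C i) (U := zpowers (v i)) ?_ ?_ ?_
    · refine S.isPGroup'.to_le ?_
      rw [zpowers_le]; exact zc_le _ (T.v_zc i)
    · rw [Ne, zpowers_eq_bot]; exact T.ne i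
    · refine le_trans ?_ (centralizer_le_normalizer _)
      intro g hg
      refine mem_centralizer_iff.2 fun x hx => ?_
      obtain ⟨k, rfl⟩ := mem_zpowers_iff.1 hx
      have e : Commute (v i) g := (mem_centralizer_singleton_iff.1 hg).symm
      exact (e.zpow_left k).eq
  cz := T.CZ_le i

theorem kgroup (B : RB S) (i : Fin 2) : IsKGroup (centralizer ({v i} : Set G)) := by
  have := B.ctx.simple
  exact B.ctx.kproper _ ((T.isLong i).loc.ne_top S B.ctx.not_isPGroup)

/-- `R ∈ P(S)`, `R ≤ C_G(v j)`, moving `v i`, is in `P*(S)`. -/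
theorem isParS {i j : Fin 2} {R : Subgroup G} (hR : IsMinPar (S : Subgroup G) R)
    (hRj : R ≤ centralizer ({v j} : Set G)) (hRi : ¬ R ≤ centralizer ({v i} : Set G)) : IsParS (S : Subgroup G) R := by
  have hIP : IsPar (S : Subgroup G) R := by
    refine ⟨hR, ?_⟩
    exact ((T.isLong j).loc.of_le S hR.le hRj).o2_ne
  exact ⟨hIP, fun h => hRi ((NoFF.LinesPlug.le_CC S hIP h).trans (T.CZ_le i))⟩

/-- `N_G(S) ⊓ C_G(v i)` centralises `Ω₁Z(S)`. -/
theorem cent_of_norm (i : Fin 2) : centralizer ({v i} : Set G) ⊓ normalizer ((S : Subgroup G) : Set G) ≤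
    centralizer (zc (S : Subgroup G) : Set G) := by
  have hf : Fact (Nat.Prime 2) := ⟨Nat.prime_two⟩
  rintro c ⟨hc, hn⟩
  obtain ⟨j, hij⟩ : ∃ j : Fin 2, i ≠ j := ⟨i + 1, OM.KTwo.ne_add_one i⟩
  have hci : c * v i * c⁻¹ = v i := by rw [mem_centralizer_singleton_iff.1 hc]; group
  have hcj : c * v j * c⁻¹ = v j := by
    have hz : c * v j * c⁻¹ ∈ zc (S : Subgroup G) := by
      have h3 := T.v_zc j
      rw [mem_zc] at h3 ⊢
      refine ⟨(mem_normalizer_iff.1 hn _).1 h3.1, fun t ht => ?_, ?_⟩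
      · have h4 := h3.2.1 _ ((mem_normalizer_iff''.1 hn t).1 ht)
        calc t * (c * v j * c⁻¹) = c * ((c⁻¹ * t * c) * v j) * c⁻¹ := by group
          _ = c * v j * c⁻¹ * t := by rw [h4]; group
      · have e : (c * v j * c⁻¹) ^ 2 = c * (v j ^ 2) * c⁻¹ := by rw [pow_two, pow_two]; group
        rw [e, h3.2.2]; group
    rcases T.zS' hij hz with h | h | h | h
    · exact absurd (conj_eq_one_iff.1 h) (T.ne j)
    · exfalso
      have h5 : v j = v i := by
        calc v j = c⁻¹ * (c * v j * c⁻¹) * c := by group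
          _ = c⁻¹ * (c * v i * c⁻¹) * c := by rw [h, hci]
          _ = v i := by group
      obtain ⟨P, hP, -⟩ := T.VP i
      apply hP.2
      have h6 : P ≤ centralizer ({v i} : Set G) := by
        have h2 : ∀ a b : Fin 2, a ≠ b → (a = 0 ∧ b = 1) ∨ (a = 1 ∧ b = 0) := by decide
        rcases h2 i j hij with ⟨rfl, rfl⟩ | ⟨rfl, rfl⟩
        · rcases T.cen P hP with h7 | h7
          · exact h7
          · rwa [h5] at h7
        · rcases T.cen P hP with h7 | h7
          · rwa [h5] at h7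
          · exact h7
      refine le_trans ?_ (centralizer_le_normalizer _)
      intro p hp
      refine mem_centralizer_iff.2 fun x hx => ?_
      have h7 := mem_centralizer_singleton_iff.1 (h6 hp)
      rcases T.zS' hij hx with h8 | h8 | h8 | h8
      · rw [h8, one_mul, mul_one]
      · rw [h8, h7]
      · rw [h8, h5, h7]
      · rw [h8, h5, T.v_sq, one_mul, mul_one]
    · exact h
    · exfalso
      -- `c²` fixes `v j`; an odd power of `c` lies in `S`
      obtain ⟨a, m, hm, hord⟩ := Nat.exists_eq_two_pow_mul_odd (orderOf_pos c).ne'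
      have hcm : c ^ m ∈ (S : Subgroup G) := by
        have h2 : IsPGroup 2 (zpowers (c ^ m)) := by
          refine IsPGroup.of_card (n := a) ?_
          rw [Nat.card_zpowers, orderOf_pow, hord, Nat.gcd_eq_right (Dvd.intro_left _ rfl),
            Nat.mul_div_cancel _ (Nat.pos_of_ne_zero (by rintro rfl; simp at hm))]
        have h3 : zpowers (c ^ m) ≤ normalizer ((S : Subgroup G) : Set G) := by
          rw [zpowers_le]; exact pow_mem hn m
        have h4 : IsPGroup 2 ((S : Subgroup G) ⊔ zpowers (c ^ m) : Subgroup G) :=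
          IsPGroup.to_sup_of_normal_left' S.isPGroup' h2 h3
        have h5 := S.is_maximal' h4 le_sup_left
        exact h5.le (mem_sup_right (mem_zpowers _))
      have h2 : c ^ 2 * v j = v j * c ^ 2 := by
        have e1 : c * v j = v i * v j * c := by rw [← h]; group
        have e2 : c * v i = v i * c := mem_centralizer_singleton_iff.1 hc
        calc c ^ 2 * v j = c * (c * v j) := by rw [pow_two]; group
          _ = (c * v i) * v j * c := by rw [e1]; group
          _ = v i * (c * v j) * c := by rw [e2]; group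
          _ = (v i * v i) * v j * (c * c) := by rw [e1]; group
          _ = v j * c ^ 2 := by rw [T.v_sq, one_mul, pow_two]
      obtain ⟨k, hk⟩ := hm
      have h6 : c ^ m * v j * (c ^ m)⁻¹ = c * v j * c⁻¹ := by
        have h7 : Commute ((c ^ 2) ^ k) (v j) := (show Commute (c ^ 2) (v j) from h2).pow_left k
        have e : c ^ m = c * (c ^ 2) ^ k := by rw [hk, pow_succ', pow_mul]
        calc c ^ m * v j * (c ^ m)⁻¹ = c * ((c ^ 2) ^ k * v j) * ((c ^ 2) ^ k)⁻¹ * c⁻¹ := by rw [e]; group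
          _ = c * v j * c⁻¹ := by rw [h7.eq]; group
      have h7 : c ^ m * v j * (c ^ m)⁻¹ = v j := by rw [T.comm_s j hcm]; group
      rw [h6, h] at h7
      exact T.ne i (mul_eq_right.1 h7)
  refine mem_centralizer_iff.2 fun x hx => ?_
  have e1 : c * v i = v i * c := mem_centralizer_singleton_iff.1 hc
  have e2 : c * v j = v j * c := by
    calc c * v j = c * v j * c⁻¹ * c := by group
      _ = v j * c := by rw [hcj]
  rcases T.zS' hij hx with h8 | h8 | h8 | h8
  · rw [h8, one_mul, mul_one]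
  · rw [h8, e1]
  · rw [h8, e2]
  · rw [h8]
    calc v i * v j * c = v i * (c * v j) := by rw [e2]; group
      _ = c * (v i * v j) := by rw [← mul_assoc, ← e1]; group

/-- **The frame of two centres.** -/
theorem fr (B : RB S) : KL.TwoS.Fr (S : Subgroup G) V v := by
  have hc := B.ctx.char2
  have hVF : ∀ i j, V i ≤ FH (S : Subgroup G) (centralizer ({v j} : Set G)) := by
    intro i j
    obtain ⟨P, hP, hV⟩ := T.VP i
    exact hV.trans ((zl_le_WP hP).trans (WP_le_FH _ _))
  have hsq : ∀ i, ∀ x ∈ V i, x ^ 2 = 1 := by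
    intro i x hx
    obtain ⟨P, hP, hV⟩ := T.VP i
    exact (FFThm.elem_zl hc S hP.isLoc).2 x (hV hx)
  refine
    { char2 := fun i => MinSimple.Basic.char2_centralizer hc (by rw [pow_two]; exact T.v_sq i) (T.ne i)
      sqV := hsq
      mem := T.mem
      ne := T.ne
      zT := T.zS
      syl := fun i => syl_of_sylow S (T.le_C i)
      nT := fun i => T.cent_of_norm i
      nV := fun i => ?_
      VQ := fun i => (hVF i i).trans (NotA.FH_le_o2 B.data B.notA (T.isLong i))
      VC := fun i c hc' => ?_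
      uni := fun i j _ R hR hRj hRi k => T.nrm R (T.isParS hR hRj hRi) k
      odd := fun i j hij R hR hRj hRi => T.odd i j hij R (T.isParS hR hRj hRi) hRj hRi
      irr := fun i j hij R hR hRj hRi => T.irr i j hij R (T.isParS hR hRj hRi) hRj hRi
      same := fun i j hij R hR hRj hRi R' hR' hRj' hRi' =>
        T.same i j hij R (T.isParS hR hRj hRi) hRj hRi R' (T.isParS hR' hRj' hRi') hRj' hRi'
      nonloc := ?_ }
  · obtain ⟨P, hP, -⟩ := T.VP i
    exact hP.le.trans (T.nrm P hP i)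
  · obtain ⟨P, hP, hV⟩ := T.VP i
    have h1 : MulAut.conj c • V i ≤ FH (S : Subgroup G) (centralizer ({v i} : Set G)) :=
      (conj_le_iff.2 (hV.trans (zl_le_WP hP))).trans (conj_WP_le_FH _ hc')
    exact comm_mono (NotA.FH_comm hc B.data B.notA (T.isLong i)) h1 (hVF i i)
  · intro U hU h0 h1
    refine Merge.nonLoc_MZ B.ctx B.full U hU (sSup_le fun R hR => ?_) ((T.CZ_le 0).trans h0)
    rcases T.cen R hR with h | h
    · exact h.trans h0
    · exact h.trans h1

end TwoV

end Cfsg.Agent.Omega.NOThreeL.RRed
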