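import Cfsg.Agent.Mrg.Omega.NOThreeL.RRed.TvBlk
import Cfsg.Agent.Mrg.Omega.Transv.Point
import Cfsg.Prelude.Def_Transfer


/-!
# The transvections of a group without over-offenders form a system (#18552 (c), #23683, #23880)

`P` acts faithfully on the `𝔽₂`-space `V`, `O₂(P) = 1`, no elementary abelian 2-subgroup `A` of `P` is an over-offender
(`|A| |C_V(A)| > |V|`), and `V` is generated by the conjugates of the fixed vectors of a Sylow 2-subgroup. Then the pairs
(centre, axis) of the transvections of `P` satisfy `Sys`.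
-/

set_option autoImplicit false

namespace Cfsg.Agent.Omega.NOThreeL.RRed.TvBlk

open Cfsg.Agent.Omega.Transv Subgroup
open scoped Pointwise

variable {V : Type*} [AddCommGroup V] [Module (ZMod 2) V]

/-! ## The operators of a commuting family -/

/-- the operator `∑ aᵢ (dᵢ - 1)` of a family of transvections -/
def opr {n : ℕ} (p : Fin n → W V) (a : Fin n → ZMod 2) (x : V) : V := ∑ i, a i • (p i).2 x • (p i).1

theorem opr_vec {n : ℕ} (p : Fin n → W V) (a : Fin n → ZMod 2) (x y : V) :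
    opr p a (x + y) = opr p a x + opr p a y := by
  rw [opr, opr, opr, ← Finset.sum_add_distrib]
  refine Finset.sum_congr rfl fun i _ => ?_
  rw [map_add, add_smul, smul_add]

theorem opr_add {n : ℕ} (p : Fin n → W V) (a b : Fin n → ZMod 2) (x : V) :
    opr p (a + b) x = opr p a x + opr p b x := by
  rw [opr, opr, opr, ← Finset.sum_add_distrib]
  refine Finset.sum_congr rfl fun i _ => ?_
  rw [Pi.add_apply, add_smul]

theorem opr_fun {n : ℕ} {p : Fin n → W V} (hB : ∀ i j, B (p i) (p j) = 0) (b : Fin n → ZMod 2) (x : V)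
    (i : Fin n) : (p i).2 (opr p b x) = 0 := by
  rw [opr, map_sum]
  refine Finset.sum_eq_zero fun j _ => ?_
  have h1 : (p i).2 (p j).1 = 0 := hB i j
  rw [map_smul, map_smul, h1, smul_zero, smul_zero]

theorem opr_opr {n : ℕ} {p : Fin n → W V} (hB : ∀ i j, B (p i) (p j) = 0) (a b : Fin n → ZMod 2) (x : V) :
    opr p a (opr p b x) = 0 := by
  rw [opr]
  refine Finset.sum_eq_zero fun i _ => ?_
  rw [opr_fun hB, zero_smul, smul_zero]

variable {P : Type*} [Group P] [DistribMulAction P V]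

/-- the group of a commuting family -/
def grp (P : Type*) [Group P] [DistribMulAction P V] {n : ℕ} (p : Fin n → W V)
    (hB : ∀ i j, B (p i) (p j) = 0) : Subgroup P where
  carrier := {g | ∃ a : Fin n → ZMod 2, ∀ x : V, g • x = x + opr p a x}
  one_mem' := ⟨0, fun x => by simp [opr]⟩
  mul_mem' := by
    rintro g k ⟨a, ha⟩ ⟨b, hb⟩
    refine ⟨a + b, fun x => ?_⟩
    rw [mul_smul, hb, ha, opr_vec, opr_opr hB, add_zero, opr_add]
    abel
  inv_mem' := by
    rintro g ⟨a, ha⟩
    refine ⟨a, fun x => ?_⟩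
    rw [inv_smul_eq_iff, ha, opr_vec, opr_opr hB, add_zero, add_assoc, add_self, add_zero]

theorem mem_grp {n : ℕ} {p : Fin n → W V} {hB : ∀ i j, B (p i) (p j) = 0} {g : P} :
    g ∈ grp P p hB ↔ ∃ a : Fin n → ZMod 2, ∀ x : V, g • x = x + opr p a x := Iff.rfl

theorem tv_mem_grp {n : ℕ} {p : Fin n → W V} (hB : ∀ i j, B (p i) (p j) = 0) {i : Fin n} {d : P}
    (hd : Tv d (p i).1 (p i).2) : d ∈ grp P p hB := by
  refine ⟨Pi.single i 1, fun x => ?_⟩
  rw [hd.act, opr, Finset.sum_eq_single i]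
  · rw [Pi.single_eq_same, one_smul]
  · intro j _ hj
    rw [Pi.single_eq_of_ne hj, zero_smul]
  · intro h
    exact absurd (Finset.mem_univ i) h

theorem grp_abelian (hf : Faith P V) {n : ℕ} {p : Fin n → W V} (hB : ∀ i j, B (p i) (p j) = 0) :
    IsElementaryAbelian 2 (grp P p hB) := by
  refine ⟨⟨⟨?_⟩⟩, ?_⟩
  · rintro ⟨g, a, ha⟩ ⟨k, b, hb⟩
    refine Subtype.ext (hf.ext fun x => ?_)
    change (g * k) • x = (k * g) • x
    rw [mul_smul, mul_smul, hb, ha, ha, hb, opr_vec, opr_vec, opr_opr hB, opr_opr hB]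
    abel
  · rintro g ⟨a, ha⟩
    refine hf _ fun x => ?_
    rw [pow_two, mul_smul, ha, ha, opr_vec, opr_opr hB, add_zero, add_assoc, add_self, add_zero]

/-- every combination is realised -/
theorem exists_opr {n : ℕ} {p : Fin n → W V} (hR : ∀ i, ∃ d : P, Tv d (p i).1 (p i).2)
    (hB : ∀ i j, B (p i) (p j) = 0) (a : Fin n → ZMod 2) : ∃ g : P, ∀ x : V, g • x = x + opr p a x := by
  classical
  have key : ∀ s : Finset (Fin n), ∃ g : P, ∀ x : V, g • x = x + ∑ i ∈ s, a i • (p i).2 x • (p i).1 := by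
    intro s
    induction s using Finset.induction_on with
    | empty => exact ⟨1, fun x => by rw [one_smul, Finset.sum_empty, add_zero]⟩
    | insert j s hj ih =>
      obtain ⟨g, hg⟩ := ih
      rcases zmod_cases (a j) with h0 | h1
      · refine ⟨g, fun x => ?_⟩
        rw [Finset.sum_insert hj, h0, zero_smul, zero_add, hg]
      · obtain ⟨d, hd⟩ := hR j
        refine ⟨d * g, fun x => ?_⟩
        have h2 : (p j).2 (∑ i ∈ s, a i • (p i).2 x • (p i).1) = 0 := by
          rw [map_sum]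
          refine Finset.sum_eq_zero fun i _ => ?_
          have h3 : (p j).2 (p i).1 = 0 := hB j i
          rw [map_smul, map_smul, h3, smul_zero, smul_zero]
        rw [mul_smul, hg, hd.act, map_add, h2, add_zero, Finset.sum_insert hj, h1, one_smul]
        abel
  exact key Finset.univ

theorem card_grp [Finite P] {n : ℕ} {p : Fin n → W V} (hR : ∀ i, ∃ d : P, Tv d (p i).1 (p i).2)
    (hB : ∀ i j, B (p i) (p j) = 0)
    (hi : ∀ a : Fin n → ZMod 2, (∀ x, ∑ i, a i • (p i).2 x • (p i).1 = 0) → a = 0) :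
    2 ^ n ≤ Nat.card (grp P p hB) := by
  choose g hg using exists_opr (P := P) hR hB
  have h1 : Function.Injective (fun a : Fin n → ZMod 2 => (⟨g a, a, hg a⟩ : grp P p hB)) := by
    intro a b hab
    have h2 : g a = g b := congrArg Subtype.val hab
    have h3 : a + b = 0 := by
      refine hi _ fun x => ?_
      have h4 : opr p a x = opr p b x := by
        have h5 := hg a x
        rw [h2, hg b x] at h5
        exact (add_left_cancel h5).symm
      change opr p (a + b) x = 0
      rw [opr_add, h4, add_self]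
    exact eq_of_add h3
  have h2 := Nat.card_le_card_of_injective _ h1
  rwa [Nat.card_eq_fintype_card, Fintype.card_fun, ZMod.card, Fintype.card_fin] at h2

/-- no over-offenders: the axes of an independent commuting family are independent -/
theorem ex_of [Finite P] [Finite V] (hf : Faith P V)
    (hno : ∀ A : Subgroup P, IsElementaryAbelian 2 A → Nat.card A * Nat.card (fixS V A) ≤ Nat.card V)
    {n : ℕ} {p : Fin n → W V} (hR : ∀ i, ∃ d : P, Tv d (p i).1 (p i).2) (hB : ∀ i j, B (p i) (p j) = 0)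
    (hi : ∀ a : Fin n → ZMod 2, (∀ x, ∑ i, a i • (p i).2 x • (p i).1 = 0) → a = 0)
    (a : Fin n → ZMod 2) (ha : ∑ i, a i • (p i).2 = 0) : a = 0 := by
  classical
  by_contra hne
  obtain ⟨i, hai⟩ : ∃ i, a i ≠ 0 := by
    by_contra hc
    push Not at hc
    exact hne (funext hc)
  let Ψ : V →ₗ[ZMod 2] (Fin n → ZMod 2) := LinearMap.pi fun i => (p i).2
  have hr : Ψ.range ≠ ⊤ := by
    intro htop
    have h1 : (Pi.single i 1 : Fin n → ZMod 2) ∈ Ψ.range := by rw [htop]; exact Submodule.mem_top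
    obtain ⟨x, hx⟩ := h1
    have h2 : ∀ j, (p j).2 x = (Pi.single i 1 : Fin n → ZMod 2) j := fun j => congrFun hx j
    have h3 : (∑ j, a j • (p j).2) x = 0 := by rw [ha]; rfl
    rw [LinearMap.sum_apply, Finset.sum_eq_single i] at h3
    · rw [LinearMap.smul_apply, h2, Pi.single_eq_same, smul_eq_mul, mul_one] at h3
      exact hai h3
    · intro j _ hj
      rw [LinearMap.smul_apply, h2, Pi.single_eq_of_ne hj, smul_zero]
    · intro h
      exact absurd (Finset.mem_univ i) h
  have h1 : Module.finrank (ZMod 2) Ψ.range < n := by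
    have h2 := Submodule.finrank_lt hr
    rwa [Module.finrank_fin_fun] at h2
  have h2 := LinearMap.finrank_range_add_finrank_ker Ψ
  have h3 : Nat.card Ψ.ker ≤ Nat.card (fixS V (grp P p hB)) := by
    have h4 : Ψ.ker ≤ fixS V (grp P p hB) := by
      rintro x hx g ⟨b, hb⟩
      have hx' : ∀ j, (p j).2 x = 0 := fun j => congrFun (LinearMap.mem_ker.mp hx) j
      rw [hb, opr, Finset.sum_eq_zero, add_zero]
      intro j _
      rw [hx', zero_smul, smul_zero]
    exact Nat.card_le_card_of_injective _ (Submodule.inclusion_injective h4)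
  have h4 := hno _ (grp_abelian hf hB)
  have h5 := card_grp (P := P) hR hB hi
  have h6 : 2 ^ n * Nat.card Ψ.ker ≤ Nat.card V := (Nat.mul_le_mul h5 h3).trans h4
  rw [Module.natCard_eq_pow_finrank (K := ZMod 2) (V := V), Module.natCard_eq_pow_finrank (K := ZMod 2) (V := Ψ.ker),
    Nat.card_zmod, ← pow_add, ← h2] at h6
  have h7 := (Nat.pow_le_pow_iff_right (by norm_num : 1 < 2)).mp h6
  omega

/-! ## The normal subgroups acting trivially on `V/U` -/

/-- the elements acting trivially on `V/U` -/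
def kerU {U : Submodule (ZMod 2) V} (hU : Inv P U) : Subgroup P where
  carrier := {g | ∀ v : V, g • v + v ∈ U}
  one_mem' := fun v => by rw [one_smul, add_self]; exact U.zero_mem
  mul_mem' := by
    intro g k hg hk v
    have h1 := U.add_mem (hU g _ (hk v)) (hg v)
    rw [smul_add, ← mul_smul] at h1
    have h2 : (g * k) • v + g • v + (g • v + v) = (g * k) • v + v := by
      rw [add_assoc, ← add_assoc (g • v) (g • v) v, add_self, zero_add]
    rwa [h2] at h1
  inv_mem' := by
    intro g hg v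
    have h1 := hU g⁻¹ _ (hg v)
    rwa [smul_add, inv_smul_smul, add_comm] at h1

theorem mem_kerU {U : Submodule (ZMod 2) V} {hU : Inv P U} {g : P} : g ∈ kerU hU ↔ ∀ v : V, g • v + v ∈ U := Iff.rfl

theorem normal_kerU {U : Submodule (ZMod 2) V} (hU : Inv P U) : (kerU hU).Normal := by
  refine ⟨fun g hg k v => ?_⟩
  have h1 := hU k _ (hg (k⁻¹ • v))
  rwa [smul_add, smul_inv_smul, ← mul_smul, ← mul_smul] at h1

/-- the elements acting trivially on `U` -/
def fixU {U : Submodule (ZMod 2) V} (_hU : Inv P U) : Subgroup P where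
  carrier := {g | ∀ u ∈ U, g • u = u}
  one_mem' := fun u _ => one_smul P u
  mul_mem' := fun {g k} hg hk u hu => by rw [mul_smul, hk u hu, hg u hu]
  inv_mem' := fun {g} hg u hu => by rw [inv_smul_eq_iff, hg u hu]

theorem normal_fixU {U : Submodule (ZMod 2) V} (hU : Inv P U) : (fixU hU).Normal := by
  refine ⟨fun g hg k u hu => ?_⟩
  rw [mul_smul, mul_smul, hg _ (hU k⁻¹ u hu), smul_inv_smul]

theorem inf_eq_bot (hf : Faith P V) (hO : ∀ N : Subgroup P, N.Normal → IsPGroup 2 N → N = ⊥)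
    {U : Submodule (ZMod 2) V} (hU : Inv P U) : kerU hU ⊓ fixU hU = ⊥ := by
  have h1 := normal_kerU hU
  have h2 := normal_fixU hU
  refine hO _ inferInstance fun g => ⟨1, ?_⟩
  obtain ⟨g, hg, hg'⟩ := g
  refine Subtype.ext ?_
  change g ^ (2 ^ 1) = 1
  refine hf _ fun v => ?_
  have h3 := hg' _ (hg v)
  rw [smul_add] at h3
  rw [pow_one, pow_two, mul_smul]
  have h4 : g • g • v + g • v + g • v = g • v + v + g • v := by rw [h3]
  rw [add_add_self] at h4
  rw [h4, add_comm, ← add_assoc, add_self, zero_add]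

/-- the span of the centres of the transvections -/
def cenT (P V : Type*) [Group P] [AddCommGroup V] [Module (ZMod 2) V] [DistribMulAction P V] :
    Submodule (ZMod 2) V := Submodule.span (ZMod 2) {c : V | ∃ (d : P) (f : Du V), Tv d c f}

theorem mem_cenT {d : P} {c : V} {f : Du V} (h : Tv d c f) : c ∈ cenT P V := Submodule.subset_span ⟨d, f, h⟩

theorem inv_cenT : Inv P (cenT P V) := by
  intro g v hv
  have h1 : cenT P V ≤ (cenT P V).comap (lin g : V →ₗ[ZMod 2] V) := by
    rw [cenT, Submodule.span_le]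
    rintro c ⟨d, f, h⟩
    change g • c ∈ cenT P V
    exact mem_cenT (h.conj g)
  exact h1 hv

theorem zero_cenT {f : Du V} (h : ∀ (d : P) (c : V) (k : Du V), Tv d c k → f c = 0) {u : V} (hu : u ∈ cenT P V) :
    f u = 0 := by
  have h1 : cenT P V ≤ f.ker := by
    rw [cenT, Submodule.span_le]
    rintro c ⟨d, k, hd⟩
    exact h d c k hd
  exact h1 hu

/-- an axis does not contain all centres -/
theorem not_zero (hf : Faith P V) (hO : ∀ N : Subgroup P, N.Normal → IsPGroup 2 N → N = ⊥) {d : P} {c : V}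
    {f : Du V} (hd : Tv d c f) (hc : c ∈ cenT P V)
    (h : ∀ (e : P) (b : V) (k : Du V), Tv e b k → f b = 0) : False := by
  have h1 : d ∈ kerU (inv_cenT (P := P) (V := V)) ⊓ fixU (inv_cenT (P := P) (V := V)) := by
    refine ⟨fun v => ?_, fun u hu => ?_⟩
    · rw [hd.act, add_comm, ← add_assoc, add_self, zero_add]
      exact (cenT P V).smul_mem _ hc
    · rw [hd.act, zero_cenT h hu, zero_smul, add_zero]
  rw [inf_eq_bot hf hO] at h1
  exact hd.ne_one (mem_bot.mp h1)

/-! ## Sylow subgroups and normal subgroups -/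

theorem exists_conj_mem [Finite P] {N A : Subgroup P} (hN : N.Normal) (hAN : A ≤ N) (hA : IsPGroup 2 A)
    (T : Sylow 2 P) : ∃ n ∈ N, ∀ a ∈ A, n * a * n⁻¹ ∈ T := by
  have h1 : IsPGroup 2 (A.subgroupOf N) := hA.comap_subtype
  obtain ⟨Q, hQ⟩ := h1.exists_le_sylow
  obtain ⟨S, hS⟩ := Q.exists_comap_subtype_eq
  obtain ⟨x, hx⟩ := MulAction.exists_smul_eq P S T
  have h2 : x ∈ N ⊔ Subgroup.normalizer (Q.map N.subtype : Subgroup P) := by
    rw [sup_comm, Sylow.normalizer_sup_eq_top]
    exact mem_top x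
  obtain ⟨n, hn, y, hy, hxy⟩ := mem_sup_of_normal_left.mp h2
  refine ⟨n, hn, fun a ha => ?_⟩
  have h3 : a ∈ (Q.map N.subtype : Subgroup P) := ⟨⟨a, hAN ha⟩, hQ ha, rfl⟩
  have h4 : y⁻¹ * a * y ∈ (Q.map N.subtype : Subgroup P) := by
    have h5 := (mem_normalizer_iff.mp (inv_mem hy) a).mp h3
    rwa [inv_inv] at h5
  obtain ⟨⟨b, hb⟩, hb', h5⟩ := h4
  have h5' : b = y⁻¹ * a * y := h5
  have h6 : b ∈ (S : Subgroup P) := by
    have h7 : (⟨b, hb⟩ : N) ∈ (S : Subgroup P).comap N.subtype := by rw [hS]; exact hb'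
    exact h7
  have h7 : MulAut.conj x b ∈ x • S := smul_mem_pointwise_smul b (MulAut.conj x) _ h6
  rw [hx, MulAut.conj_apply, h5', ← hxy] at h7
  have h8 : n * y * (y⁻¹ * a * y) * (n * y)⁻¹ = n * a * n⁻¹ := by group
  rwa [h8] at h7

theorem exists_conj_mem' [Finite P] {N A : Subgroup P} (hN : N.Normal) (hAN : A ≤ N) (hA : IsPGroup 2 A)
    (T : Sylow 2 P) (g : P) : ∃ n ∈ N, ∀ a ∈ A, (n * g)⁻¹ * a * (n * g) ∈ T := by
  obtain ⟨n, hn, h⟩ := exists_conj_mem hN hAN hA (g • T)
  refine ⟨n⁻¹, inv_mem hn, fun a ha => ?_⟩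
  have h1 : n * a * n⁻¹ ∈ (MulAut.conj g • (T : Subgroup P)) := h a ha
  rw [mem_pointwise_smul_iff_inv_smul_mem, ← map_inv, MulAut.smul_def, MulAut.conj_apply, inv_inv] at h1
  have h2 : (n⁻¹ * g)⁻¹ * a * (n⁻¹ * g) = g⁻¹ * (n * a * n⁻¹) * g := by group
  rw [h2]
  exact h1

/-- a functional which vanishes on the centres and on the fixed vectors of a commuting family is zero -/
theorem gen_of [Finite P] (hf : Faith P V) (T : Sylow 2 P)
    (hgen : Submodule.span (ZMod 2) {x : V | ∃ g : P, ∃ v, (∀ t ∈ T, t • v = v) ∧ x = g • v} = ⊤)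
    {n : ℕ} {p : Fin n → W V} (hR : ∀ i, ∃ d : P, Tv d (p i).1 (p i).2) (hB : ∀ i j, B (p i) (p j) = 0)
    {h : Du V} (h1 : ∀ (d : P) (c : V) (k : Du V), Tv d c k → h c = 0)
    (h2 : ∀ v, (∀ i, (p i).2 v = 0) → h v = 0) : h = 0 := by
  choose d hd using hR
  have hN := normal_kerU (inv_cenT (P := P) (V := V))
  have hA : IsPGroup 2 (closure (Set.range d)) := by
    have h3 : closure (Set.range d) ≤ grp P p hB := by
      rw [closure_le]
      rintro _ ⟨i, rfl⟩
      exact tv_mem_grp hB (hd i)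
    refine IsPGroup.to_le ?_ h3
    rintro ⟨g, hg⟩
    refine ⟨1, Subtype.ext ?_⟩
    change g ^ (2 ^ 1) = 1
    rw [pow_one]
    exact (grp_abelian hf hB).2 g hg
  have hAN : closure (Set.range d) ≤ kerU (inv_cenT (P := P) (V := V)) := by
    rw [closure_le]
    rintro _ ⟨i, rfl⟩ v
    rw [(hd i).act, add_comm, ← add_assoc, add_self, zero_add]
    exact (cenT P V).smul_mem _ (mem_cenT (hd i))
  refine LinearMap.ext_on hgen ?_
  rintro _ ⟨g, v, hv, rfl⟩
  rw [LinearMap.zero_apply]
  obtain ⟨m, hm, hmT⟩ := exists_conj_mem' hN hAN hA T g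
  have h3 : h (m • g • v) = 0 := by
    refine h2 _ fun i => ?_
    rw [← (hd i).fix_iff]
    have h4 := hv _ (hmT (d i) (subset_closure ⟨i, rfl⟩))
    rw [mul_smul, mul_smul, inv_smul_eq_iff, mul_smul] at h4
    exact h4
  have h4 : h (m • g • v + g • v) = 0 := zero_cenT h1 (hm (g • v))
  rwa [map_add, h3, zero_add] at h4

/-- **The transvections of a group without over-offenders.** -/
theorem sys_of {P : Type*} [Group P] [Finite P] [DistribMulAction P V] [Finite V] (hf : Faith P V)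
    (hno : ∀ A : Subgroup P, IsElementaryAbelian 2 A → Nat.card A * Nat.card (fixS V A) ≤ Nat.card V)
    (hO : ∀ N : Subgroup P, N.Normal → IsPGroup 2 N → N = ⊥) (T : Sylow 2 P)
    (hgen : Submodule.span (ZMod 2) {x : V | ∃ g : P, ∃ v, (∀ t ∈ T, t • v = v) ∧ x = g • v} = ⊤) :
    Sys {p : W V | ∃ d : P, Tv d p.1 p.2} := by
  have h0 : Sys0 {p : W V | ∃ d : P, Tv d p.1 p.2} :=
    { ne1 := fun p ⟨_, hd⟩ => hd.ne
      ne2 := fun p ⟨_, hd⟩ => hd.nz
      self := fun p ⟨_, hd⟩ => hd.self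
      conj := fun p ⟨d, hd⟩ q ⟨e, he⟩ => ⟨d * e * d, hd.conj_tv hf he⟩
      ex := fun n p hp hB hi a ha => ex_of hf hno hp hB hi a ha }
  refine { toSys0 := h0, uf := ?_, nd := ?_, gen := ?_ }
  · rintro p hp q hq hpq
    by_contra hne
    have hne' : p.2 ≠ q.2 := fun h => hne (Prod.ext hpq h)
    obtain ⟨d, hd⟩ := hp
    obtain ⟨e, he⟩ := hq
    have he' : Tv e p.1 q.2 := by rw [hpq]; exact he
    refine not_zero hf hO (hd.mul_centre he' hne') (mem_cenT hd) ?_
    intro k b f hk
    have h1 : B p (b, f) = B (b, f) p := h0.sym ⟨d, hd⟩ ⟨k, hk⟩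
    have h2 : B q (b, f) = B (b, f) q := h0.sym ⟨e, he⟩ ⟨k, hk⟩
    have h3 : B (b, f) p = B (b, f) q := by
      change f p.1 = f q.1
      rw [hpq]
    change B p (b, f) + B q (b, f) = 0
    rw [h1, h2, h3]
    exact add_self _
  · rintro p ⟨d, hd⟩
    by_contra hc
    push Not at hc
    exact not_zero hf hO hd (mem_cenT hd) fun e b k he => hc (b, k) ⟨e, he⟩
  · intro n p hp hB h h1 h2
    exact gen_of hf T hgen hp hB (fun d c k hd => h1 (c, k) ⟨d, hd⟩) h2

end Cfsg.Agent.Omega.NOThreeL.RRed.TvBlk
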