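import Cfsg.Agent.Mrg.Omega.NOThreeL.RRed.TvDec
import Cfsg.Agent.Mrg.Omega.NOThreeL.RRed.TvSys
import Cfsg.Agent.Mrg.Omega.NOThreeL.RRed.InstS
import Cfsg.Agent.Mrg.Omega.KL.TwoS.Inp
import Cfsg.Agent.Mrg.Omega.NO3S.EMany.LowExt

section


/-!
# The block theorem for transvections over `𝔽₂`: final form in the group

* `of_zl` : `GHyp` for `V = zl S L`, `M = L`;
* `Full S M V N E R₀ Om phi` : `Dec` + letters + : every element of `M` which acts on `V` as a transvection is in some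
  `E i` and acts as a transposition of letters; `R₀` = the elements of `V` fixed by all these; `M` acts on the letters;
* `Full.rel_of_fix`, `Full.inner` : an element of `M` which normalises `N i` permutes the letters of `i`, and acts as an
  element of `E i`;
* `exists_full` : from `Sys (RR ..)`; **`blocks`** : from `GHyp` alone; `blocks_zl` : for `V = zl S L`.
-/

set_option autoImplicit false
set_option linter.unusedSectionVars false

namespace Cfsg.Agent.Omega.NOThreeL.RRed.TvFin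

open Subgroup Cfsg.Agent.Omega.TV Cfsg.Agent.Omega.FFBr
open Cfsg.Agent.ZN (zl zc)
open Cfsg.Agent.Omega.Transv (zmod_cases eq_one_of_ne eq_zero_of_ne one_ne add_self eq_of_add)
open Cfsg.Agent.Omega.FFThm (ElemM OffM NoOverM)
open Cfsg.Agent.Omega.NOThreeL.RRed.TvG
open Cfsg.Agent.Omega.NOThreeL.RRed.TvBlk
open Cfsg.Agent.Omega.NOThreeL.RRed.TvDec
open Cfsg.Agent.Omega.NOThreeL.RRed.Blk (Dec Co)
open Cfsg.Agent.Omega.KL.TwoS (Rel Lett)
open scoped Pointwise

universe u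

variable {G : Type u} [Group G]

/-- `GHyp` for `V = zl S L`. -/
theorem of_zl [Finite G] {S L : Subgroup G} (hSL : S ≤ L) (hsq : ∀ v ∈ zl S L, v ^ 2 = 1)
    (hno : NoOverM (zl S L) L) : GHyp S (zl S L) L where
  le := hSL
  norm := Cfsg.Agent.MinSimple.VModule.le_normalizer_zl _ _
  sq x hx := by rw [← pow_two]; exact hsq x hx
  no := hno
  gen K hK := FFBr.zl_le_of fun g hg z hz =>
    hK g hg z (Cfsg.Agent.MinSimple.VModule.zc_le_zl _ _ hz) (Cfsg.Agent.MinSimple.VModule.mem_zc.1 hz).2.1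

/-- `x` acts on `V` as a transvection with centre `c`, or trivially. -/
def TvV (V : Subgroup G) (c x : G) : Prop := ∀ w ∈ V, x * w * x⁻¹ = w ∨ x * w * x⁻¹ = w * c

/-- **Blocks of letters.** -/
structure Full (S M V : Subgroup G) {I : Type u} (N E : I → Subgroup G) (R₀ : Subgroup G) (Om : I → Type u)
    [∀ i, Fintype (Om i)] [∀ i, DecidableEq (Om i)] (phi : ∀ i, Finset (Om i) → G) : Prop
    extends Dec S M V N E R₀ where
  three : ∀ i, 3 ≤ Fintype.card (Om i)
  lett : ∀ i, Lett (N i) (E i) (phi i)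
  tvs : ∀ x ∈ M, ∀ c ∈ V, TvV V c x → x ∉ centralizer (V : Set G) →
    ∃ i, x ∈ E i ∧ ∃ a b : Om i, a ≠ b ∧ c = phi i {a, b} ∧ Rel (phi i) x (Equiv.swap a b)
  swap : ∀ i, ∀ a b : Om i, a ≠ b → ∃ x ∈ E i, Rel (phi i) x (Equiv.swap a b) ∧ TvV V (phi i {a, b}) x
  fixR : ∀ v ∈ V, (v ∈ R₀ ↔ ∀ x ∈ M, ∀ c ∈ V, TvV V c x → x * v * x⁻¹ = v)
  letters : ∀ g ∈ M, ∃ (τ : Equiv.Perm I) (σ : ∀ i, Om i ≃ Om (τ i)), (∀ i, MulAut.conj g • N i = N (τ i)) ∧
    (∀ i, MulAut.conj g • E i = E (τ i)) ∧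
      ∀ i (s : Finset (Om i)), g * phi i s * g⁻¹ = phi (τ i) (s.map (σ i).toEmbedding)

namespace Full

variable {S M V : Subgroup G} {I : Type u} {N E : I → Subgroup G} {R₀ : Subgroup G} {Om : I → Type u}
    [∀ i, Fintype (Om i)] [∀ i, DecidableEq (Om i)] {phi : ∀ i, Finset (Om i) → G}

omit [∀ i, Fintype (Om i)] [∀ i, DecidableEq (Om i)] in
theorem phi_cast (phi : ∀ i, Finset (Om i) → G) {i j : I} (h : j = i) (s : Finset (Om j)) :
    phi j s = phi i (s.map (Equiv.cast (congrArg Om h)).toEmbedding) := by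
  subst h
  congr 1
  ext x
  simp

variable (F : Full S M V N E R₀ Om phi)
include F

/-- an element which normalises `N i` permutes the letters of `i` -/
theorem rel_of_fix {g : G} (hg : g ∈ M) {i : I} (hi : MulAut.conj g • N i = N i) :
    ∃ σ : Equiv.Perm (Om i), Rel (phi i) g σ := by
  obtain ⟨τ, σ, h1, -, h3⟩ := F.letters g hg
  have hτ : τ i = i := F.toDec.Ninj (by rw [← h1 i, hi])
  refine ⟨(σ i).trans (Equiv.cast (congrArg Om hτ)), fun s _ => ?_⟩
  rw [h3 i s, phi_cast phi hτ, Finset.map_map]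
  rfl

/-- it acts on `N i` as an element of `E i` -/
theorem inner {g : G} (hg : g ∈ M) {i : I} (hi : MulAut.conj g • N i = N i) :
    ∃ e ∈ E i, ∀ x ∈ N i, g * x * g⁻¹ = e * x * e⁻¹ := by
  obtain ⟨σ, hσ⟩ := F.rel_of_fix hg hi
  obtain ⟨e, he, h2⟩ := (F.lett i).all σ
  refine ⟨e, he, fun x hx => ?_⟩
  obtain ⟨s, hs, rfl⟩ := ((F.lett i).mem x).1 hx
  rw [hσ s hs, h2 s hs]

end Full

section main

variable {V M : Subgroup G} (sq : ∀ x ∈ V, x * x = 1) (h : M ≤ normalizer (V : Set G))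
variable {Pt I : Type u} [Fintype Pt] [Fintype I] [DecidableEq Pt] [DecidableEq I] {blk : Pt → I} {w : Pt → EA V sq}
  {tr : Pt → Pt → TvBlk.W (EA V sq)} (b : Blk (RR sq h) blk w tr)
include b

theorem w_ne (x : Pt) : w x ≠ 0 := by
  obtain ⟨y, hne, hb⟩ := b.exists_other x
  intro h0
  have h1 := b.tr_self x y hb.symm hne.symm
  rw [h0, map_zero] at h1
  exact one_ne h1.symm

theorem blk_of_mem {y : Pt} {j : I} (hy : w y ∈ TvBlk.U blk w j) : blk y = j := by
  by_contra hne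
  have h1 : w y ∈ TvBlk.U blk w (blk y) ⊓ ((⨆ k : {k // k ≠ blk y}, TvBlk.U blk w k) ⊔ TvBlk.ker (RR sq h)) := by
    refine ⟨TvBlk.Blk.w_mem_U y, ?_⟩
    exact Submodule.mem_sup_left (Submodule.mem_iSup_of_mem (⟨j, fun e => hne e.symm⟩ : {k // k ≠ blk y}) hy)
  rw [b.ind, Submodule.mem_bot] at h1
  exact w_ne sq h b y h1

theorem phi_pair (i : I) (x y : Om blk i) (hxy : x ≠ y) : phi sq blk w i {x, y} = (tr x.1 y.1).1.val := by
  rw [b.tr_fst x.1 y.1 (x.2.trans y.2.symm), phi, Finset.sum_pair hxy]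

variable [Finite G]

theorem tvs {x c : G} (hx : x ∈ M) (hc : c ∈ V) (hT : TvV V c x) (hne : x ∉ centralizer (V : Set G)) :
    ∃ i, x ∈ TvDec.E sq h blk w i ∧ ∃ y z : Om blk i, y ≠ z ∧ c = phi sq blk w i {y, z} ∧
      Rel (phi sq blk w i) x (Equiv.swap y z) := by
  obtain ⟨φ, hφ⟩ := exists_tv (sq := sq) (h := h) hx hc hT hne
  obtain ⟨y, z, hyz, hb, hp⟩ := b.all (EA.mk sq c hc, φ) ⟨_, hφ⟩
  have hφ' : φ = (tr y z).2 := congrArg Prod.snd hp
  have hc' : EA.mk sq c hc = (tr y z).1 := congrArg Prod.fst hp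
  rw [hφ', hc'] at hφ
  have hfix : ∀ a : EA V sq, (tr y z).2 a = 0 → x * a.val * x⁻¹ = a.val := by
    intro a ha
    have h1 := congrArg EA.val (hφ.act a)
    rw [ha, zero_smul, add_zero] at h1
    exact h1
  refine ⟨blk y, (mem_E sq h).2 ⟨hx, ?_, ?_⟩, ⟨y, rfl⟩, ⟨z, hb.symm⟩, fun e => hyz (congrArg Subtype.val e), ?_, ?_⟩
  · rintro j hj _ ⟨a, ha, rfl⟩
    exact hfix a (b.tr_U y z hb (Ne.symm hj) ha)
  · rintro _ ⟨a, ha, rfl⟩
    exact hfix a (b.tr_ker y z hb ha)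
  · rw [phi_pair sq h b _ _ _ (fun e => hyz (congrArg Subtype.val e))]
    exact congrArg EA.val hc'
  · refine rel_of sq h ⟨x, hx⟩ _ fun u => ?_
    have h1 : aut sq h ⟨x, hx⟩ (w u.1) = w u.1 + (tr y z).2 (w u.1) • (tr y z).1 := hφ.act (w u.1)
    rw [h1, b.act_tr y z hb]
    congr 1
    by_cases hy : u = ⟨y, rfl⟩
    · rw [hy, Equiv.swap_apply_left, Equiv.swap_apply_left]
    · by_cases hz : u = ⟨z, hb.symm⟩
      · rw [hz, Equiv.swap_apply_right, Equiv.swap_apply_right]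
      · rw [Equiv.swap_apply_of_ne_of_ne hy hz,
          Equiv.swap_apply_of_ne_of_ne (fun e => hy (Subtype.ext e)) (fun e => hz (Subtype.ext e))]

theorem swap (i : I) (x y : Om blk i) (hxy : x ≠ y) : ∃ g ∈ TvDec.E sq h blk w i,
    Rel (phi sq blk w i) g (Equiv.swap x y) ∧ TvV V (phi sq blk w i {x, y}) g := by
  have hb : blk x.1 = blk y.1 := x.2.trans y.2.symm
  obtain ⟨d, hd⟩ := b.tr_mem x.1 y.1 (fun e => hxy (Subtype.ext e)) hb
  obtain ⟨m, rfl⟩ := pr_surjective h d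
  have hTv : TvV V (phi sq blk w i {x, y}) (m : G) := by
    intro v hv
    rw [phi_pair sq h b i x y hxy]
    exact act_or_of_tv hd hv
  have hfix : ∀ a : EA V sq, (tr x.1 y.1).2 a = 0 → (m : G) * a.val * (m : G)⁻¹ = a.val := by
    intro a ha
    have h1 := congrArg EA.val (hd.act a)
    rw [ha, zero_smul, add_zero] at h1
    exact h1
  refine ⟨m, (mem_E sq h).2 ⟨m.2, ?_, ?_⟩, rel_of sq h m _ fun z => ?_, hTv⟩
  · rintro j hj _ ⟨a, ha, rfl⟩
    exact hfix a (b.tr_U x.1 y.1 hb (by rw [x.2]; exact hj.symm) ha)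
  · rintro _ ⟨a, ha, rfl⟩
    exact hfix a (b.tr_ker x.1 y.1 hb ha)
  · have h1 : aut sq h m (w z.1) = w z.1 + (tr x.1 y.1).2 (w z.1) • (tr x.1 y.1).1 := hd.act (w z.1)
    rw [h1, b.act_tr x.1 y.1 hb]
    congr 1
    by_cases hx : z = x
    · rw [hx, Equiv.swap_apply_left, Equiv.swap_apply_left]
    · by_cases hy : z = y
      · rw [hy, Equiv.swap_apply_right, Equiv.swap_apply_right]
      · rw [Equiv.swap_apply_of_ne_of_ne hx hy,
          Equiv.swap_apply_of_ne_of_ne (fun e => hx (Subtype.ext e)) (fun e => hy (Subtype.ext e))]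

theorem fixR {v : G} (hv : v ∈ V) : v ∈ TvDec.R₀ sq h ↔ ∀ x ∈ M, ∀ c ∈ V, TvV V c x → x * v * x⁻¹ = v := by
  constructor
  · intro hvR x hx c hc hT
    by_cases hne : x ∈ centralizer (V : Set G)
    · have := mem_centralizer_iff.1 hne v hv
      rw [← this]; group
    · obtain ⟨i, hE, -⟩ := tvs sq h b hx hc hT hne
      exact ((mem_E sq h).1 hE).2.2 v hvR
  · intro hfix
    refine ⟨EA.mk sq v hv, ?_, rfl⟩
    rintro p ⟨d, hd⟩
    obtain ⟨m, rfl⟩ := pr_surjective h d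
    have h1 := hfix m m.2 p.1.val p.1.val_mem (fun u hu => act_or_of_tv hd hu)
    have h2 : pr h m • EA.mk sq v hv = EA.mk sq v hv := EA.ext h1
    exact (hd.fix_iff _).1 h2

theorem letters (m : M) : ∃ (τ : Equiv.Perm I) (σ : ∀ i, Om blk i ≃ Om blk (τ i)),
    (∀ i, MulAut.conj (m : G) • TvDec.N sq blk w i = TvDec.N sq blk w (τ i)) ∧
    (∀ i, MulAut.conj (m : G) • TvDec.E sq h blk w i = TvDec.E sq h blk w (τ i)) ∧
      ∀ i (s : Finset (Om blk i)), (m : G) * phi sq blk w i s * (m : G)⁻¹ =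
        phi sq blk w (τ i) (s.map (σ i).toEmbedding) := by
  obtain ⟨τ, hτ⟩ := conj_N sq h b m
  have : Finite (EA V sq) := inferInstance
  obtain ⟨σ, h1, h2, -⟩ := b.perm (aut sq h m) (conj_RR sq h m)
  have key : ∀ x, blk (σ x) = τ (blk x) := by
    intro x
    refine blk_of_mem sq h b ?_
    have h3 : (w x).val ∈ TvDec.N sq blk w (blk x) := ⟨w x, TvBlk.Blk.w_mem_U x, rfl⟩
    have h4 := (RRed.Blk.conj_smul (hτ (blk x))).1 h3
    have h5 : (w (σ x)).val ∈ TvDec.N sq blk w (τ (blk x)) := by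
      rw [← h1]
      exact h4
    exact EA.val_mem_toSub.1 h5
  refine ⟨τ, fun i => σ.subtypeEquiv fun x => ?_, hτ, conj_E sq h b hτ, fun i s => ?_⟩
  · rw [key]
    exact ⟨fun e => by rw [e], fun e => τ.injective e⟩
  · have h3 : (m : G) * phi sq blk w i s * (m : G)⁻¹ = (aut sq h m (∑ x ∈ s, w x.1)).val := rfl
    rw [h3, map_sum, phi, Finset.sum_map]
    exact congrArg EA.val (Finset.sum_congr rfl fun x _ => h1 x.1)

/-- **the block theorem, final form** -/
theorem full {S : Subgroup G} (hS : S ≤ M) :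
    Full S M V (TvDec.N sq blk w) (TvDec.E sq h blk w) (TvDec.R₀ sq h) (Om blk) (phi sq blk w) where
  toDec := dec sq h b hS
  three := card_three sq h b
  lett := TvDec.lett sq h b
  tvs _ hx _ hc hT hne := tvs sq h b hx hc hT hne
  swap := swap sq h b
  fixR _ hv := fixR sq h b hv
  letters g hg := letters sq h b ⟨g, hg⟩

end main

/-- **The block theorem in the group, final form.** -/
theorem exists_full [Finite G] {V M : Subgroup G} {S : Sylow 2 G} (H : GHyp (S : Subgroup G) V M)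
    (hsys : Sys (RR H.sq H.norm)) :
    ∃ (I : Type u) (_ : Fintype I) (_ : DecidableEq I) (N E : I → Subgroup G) (R₀ : Subgroup G) (Om : I → Type u)
      (_ : ∀ i, Fintype (Om i)) (_ : ∀ i, DecidableEq (Om i)) (phi : ∀ i, Finset (Om i) → G),
      Full (S : Subgroup G) M V N E R₀ Om phi := by
  obtain ⟨Pt, I, i1, i2, i3, i4, blk, w, tr, b⟩ := exists_blk hsys
  exact ⟨I, i2, i4, N H.sq blk w, E H.sq H.norm blk w, R₀ H.sq H.norm, Om blk, inferInstance, inferInstance,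
    phi H.sq blk w, full H.sq H.norm b H.le⟩

/-- `Sys` holds. -/
theorem sys [Finite G] {V M : Subgroup G} {S : Sylow 2 G} (H : GHyp (S : Subgroup G) V M) : Sys (RR H.sq H.norm) := by
  have : Finite (EA V H.sq) := inferInstance
  exact sys_of H.faith H.hno H.core H.T H.hgen

/-- **The block theorem in the group.** -/
theorem blocks [Finite G] {V M : Subgroup G} {S : Sylow 2 G} (H : GHyp (S : Subgroup G) V M) :
    ∃ (I : Type u) (_ : Fintype I) (_ : DecidableEq I) (N E : I → Subgroup G) (R₀ : Subgroup G) (Om : I → Type u)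
      (_ : ∀ i, Fintype (Om i)) (_ : ∀ i, DecidableEq (Om i)) (phi : ∀ i, Finset (Om i) → G),
      Full (S : Subgroup G) M V N E R₀ Om phi := exists_full H (sys H)

/-- **The block theorem for `V = zl S L`.** -/
theorem blocks_zl [Finite G] {S : Sylow 2 G} {L : Subgroup G} (hSL : (S : Subgroup G) ≤ L)
    (hsq : ∀ v ∈ zl (S : Subgroup G) L, v ^ 2 = 1) (hno : NoOverM (zl (S : Subgroup G) L) L) :
    ∃ (I : Type u) (_ : Fintype I) (_ : DecidableEq I) (N E : I → Subgroup G) (R₀ : Subgroup G) (Om : I → Type u)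
      (_ : ∀ i, Fintype (Om i)) (_ : ∀ i, DecidableEq (Om i)) (phi : ∀ i, Finset (Om i) → G),
      Full (S : Subgroup G) L (zl (S : Subgroup G) L) N E R₀ Om phi := blocks (of_zl hSL hsq hno)

end Cfsg.Agent.Omega.NOThreeL.RRed.TvFin

end

section


/-!
# NO-3L, box R, `|Z| = 4`, two orbits of blocks, no K2

* `TwoV.false_of_sysE` : `TwoS.Fr` gives a `SysE`: contradiction by EXT;
* **`TwoV.false_of_lett`** : one of the two modules `V i` is the even-set module of `S_n`, `n ≥ 5` (`KL.TwoS.Lett`):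
  contradiction;
* `TwoV.out_or` : otherwise (820's alternative) EXT kills the first alternative of `TwoS.Fr.ex`: `¬ Fail`, `V i ≰ N_i` and
  `J(O)` moves `V i`, for both `i`.
-/

set_option autoImplicit false
set_option linter.unusedSectionVars false

namespace Cfsg.Agent.Omega.NOThreeL.RRed

open Subgroup Cfsg Cfsg.Agent.ZN Cfsg.Agent.Omega.MinPar Cfsg.Agent.Omega.Frame Cfsg.Agent.Omega.FrameNOFF
open Cfsg.Agent.Omega.Node.NO3L Cfsg.Agent.Omega.NOThreeL.Basic Cfsg.Agent.Omega.NOThreeL.RTree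
open Cfsg.Agent.Omega.KL.TwoS (Lett Mx NN Fail)

universe u

variable {G : Type u} [Group G] [Finite G] {S : Sylow 2 G} {V : Fin 2 → Subgroup G} {v : Fin 2 → G}
  (T : TwoV (S : Subgroup G) V v)

include T

/-- **one of the two modules is `S_n`, `n ≥ 5`** -/
theorem TwoV.false_of_lett (B : RB S) (hML : ML.Final.MLK.{u, u}) (hE : ML.Ex.Two.Ext.{u, u}) {i : Fin 2}
    {R : Subgroup G} {Ω : Type*} [Fintype Ω] [DecidableEq Ω] {φ : Finset Ω → G} (L : Lett (V i) R φ)
    (h4 : 4 ≤ Fintype.card Ω) (hSR : (S : Subgroup G) ≤ R) (hRC : R ≤ centralizer ({v (i + 1)} : Set G)) {p : Ω}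
    (hp : v i = φ (Finset.univ.erase p)) : False := by
  obtain ⟨H, _, _, N, _, _, _, T', A', x', y', h⟩ := (T.fr B).sysE_of_lett hML (T.kgroup B) L h4 hSR hRC hp
  exact hE H N T' A' x' y' h.sysT

/-- **the rest**: no side fails, `V i ≰ N_i`, `J(O)` moves `V i` -/
theorem TwoV.rest (B : RB S) (hML : ML.Final.MLK.{u, u}) (hE : ML.Ex.Two.Ext.{u, u}) :
    ∀ i, ¬ Fail (S : Subgroup G) V v i ∧ ¬ V i ≤ NN v i ∧
      ∃ A, Mx (o2 (centralizer (zc (S : Subgroup G) : Set G))) A ∧ ¬ A ≤ centralizer (V i : Set G) := by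
  rcases (T.fr B).ex hML (T.kgroup B) with ⟨i, X, A, O⟩ | h
  · exfalso
    obtain ⟨H, _, _, N, _, _, _, T', A', x', y', h⟩ := (T.fr B).exists_sysE hML (T.kgroup B i) O
    exact hE H N T' A' x' y' h.sysT
  · exact h

end Cfsg.Agent.Omega.NOThreeL.RRed

end
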