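import Cfsg.Agent.Mrg.Omega.NOThreeL.RRed.FourTree
import Cfsg.Agent.Mrg.Omega.NOThreeL.RRed.BFr.OfFull
import Cfsg.Agent.Mrg.Omega.NOThreeL.RRed.BFr.Off
import Cfsg.Agent.Mrg.Omega.NOThreeL.RWide.LemM


/-!
# NO-3L, box R: one class of `𝔽₂`-blocks: a level which moves `V*` moves all blocks (#24972 (3), #24413)

* `trans_of_irr` : `V*` irreducible: `M₀` is transitive on the blocks;
* `Fx L N` : the elements of `L` which normalise all blocks; `best_le_fx` : best offenders on `X ≥ V*` lie in it;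
* `par_move` : `P ∈ P*(S)`, `J ≤ S ∩ Fx`: `P` normalises `J`, or moves the blocks like `S`;
* **`hypJ_of`** : `Bks S N E ⊥ Om phi`, `M₀` transitive, some level (or `J(S)`) moves `V*`: `HypJ S N`.
-/

set_option autoImplicit false
set_option linter.unusedSectionVars false

namespace Cfsg.Agent.Omega.NOThreeL.RRed.HypJOf

open Subgroup Cfsg Cfsg.Agent.ZN Cfsg.Agent.ZN.ChoiceBase Cfsg.Agent.Omega.MinPar
open Cfsg.Agent.Omega.Frame Cfsg.Agent.Omega.FrameNOFF
open Cfsg.Agent.Omega.Node.NO3L Cfsg.Agent.Omega.NOThreeL.Basic Cfsg.Agent.Omega.NOThreeL.RTree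
open Cfsg.Agent.Omega.NOThreeL.Merge (MZ le_MZ S_le_MZ isLoc_MZ zl_MZ_comm zl_MZ_isPGroup)
open Cfsg.Agent.Omega.NOThreeL.Merge
open Cfsg.Agent.Omega.NOThreeL.RRed.FourTree (Bks LevX nxtX HypJ)
open Cfsg.Agent.Omega.NOThreeL.RRed.Blk (Dec Co)
open Cfsg.Agent.Omega.NOThreeL.RWide.LemM (smul_of_nor smul_inv_of)
open Cfsg.Agent.Omega.NOThreeL.RRed.BFr (Ofd ofFull ofFull_r fP cI)
open Cfsg.Agent.Omega.NO1.BestOff (Best)
open Cfsg.Agent.Omega.NOThreeL.RRed.GlueSig
open scoped Pointwise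

universe u v

variable {G : Type u} [Group G]

section abs

variable {ι : Type v} {S L U : Subgroup G} {N E : ι → Subgroup G}

/-- An irreducible sum of blocks: `L` is transitive on the blocks. -/
theorem trans_of_irr (h : Dec S L U N E ⊥)
    (hirr : ∀ W : Subgroup G, W ≤ U → L ≤ normalizer (W : Set G) → W ≠ ⊥ → U ≤ W) (b c : ι) :
    ∃ g ∈ L, MulAut.conj g • N b = N c := by
  classical
  by_contra hcon
  push Not at hcon
  set W : Subgroup G := ⨆ d : {d // ∃ g ∈ L, MulAut.conj g • N b = N d}, N d.1 with hW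
  have hWU : W ≤ U := iSup_le fun d => h.NU d.1
  have hbW : N b ≤ W := le_iSup (fun d : {d // ∃ g ∈ L, MulAut.conj g • N b = N d} => N d.1)
    ⟨b, 1, one_mem _, by rw [map_one, one_smul]⟩
  have hWn : L ≤ normalizer (W : Set G) := by
    have key : ∀ g ∈ L, MulAut.conj g • W ≤ W := by
      intro g hg
      rw [hW, show MulAut.conj g • (⨆ d : {d // ∃ g ∈ L, MulAut.conj g • N b = N d}, N d.1) =
        ⨆ d : {d // ∃ g ∈ L, MulAut.conj g • N b = N d}, MulAut.conj g • N d.1 from Subgroup.map_iSup _ _]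
      refine iSup_le fun d => ?_
      obtain ⟨k, hk, e⟩ := d.2
      obtain ⟨f, hf, -⟩ := h.perm g hg d.1
      rw [hf]
      refine le_iSup (fun d : {d // ∃ g ∈ L, MulAut.conj g • N b = N d} => N d.1) ⟨f, g * k, mul_mem hg hk, ?_⟩
      rw [map_mul, mul_smul, e, hf]
    intro g hg
    rw [mem_normalizer_iff]
    intro x
    constructor
    · intro hx
      exact key g hg ⟨x, hx, rfl⟩
    · intro hx
      have h1 : g⁻¹ * (g * x * g⁻¹) * g⁻¹⁻¹ ∈ W := key g⁻¹ (inv_mem hg) ⟨_, hx, rfl⟩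
      have e : g⁻¹ * (g * x * g⁻¹) * g⁻¹⁻¹ = x := by group
      rwa [e] at h1
  have h1 : U ≤ W := hirr W hWU hWn fun h0 => h.ne b (by rw [eq_bot_iff, ← h0]; exact hbW)
  have h2 : W ≤ Co N ⊥ c := iSup_le fun d => h.N_le_Co fun e => by
    obtain ⟨g, hg, hg'⟩ := d.2
    exact hcon g hg (by rw [hg', e])
  apply h.ne c
  rw [eq_bot_iff, ← h.ind c]
  exact le_inf le_rfl ((h.NU c).trans (h1.trans h2))

/-- The elements of `L` which normalise all `N b`. -/
def Fx (L : Subgroup G) (N : ι → Subgroup G) : Subgroup G := L ⊓ ⨅ b, normalizer (N b : Set G)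

theorem mem_fx {g : G} : g ∈ Fx L N ↔ g ∈ L ∧ ∀ b, g ∈ normalizer (N b : Set G) := by
  unfold Fx
  rw [mem_inf, mem_iInf]

theorem mem_nor_iff {A : Subgroup G} {g : G} : g ∈ normalizer (A : Set G) ↔ MulAut.conj g • A = A := by
  refine ⟨smul_of_nor, fun h => ?_⟩
  rw [mem_normalizer_iff]
  intro x
  exact Blk.conj_smul h

theorem fx_norm (h : ∀ g ∈ L, ∀ b, ∃ c, MulAut.conj g • N b = N c) : L ≤ normalizer (Fx L N : Set G) := by
  have key : ∀ g ∈ L, ∀ x ∈ Fx L N, g * x * g⁻¹ ∈ Fx L N := by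
    intro g hg x hx
    rw [mem_fx] at hx ⊢
    refine ⟨mul_mem (mul_mem hg hx.1) (inv_mem hg), fun b => ?_⟩
    obtain ⟨c, hc⟩ := h g⁻¹ (inv_mem hg) b
    have hc' : MulAut.conj g • N c = N b := smul_inv_of hc
    rw [mem_nor_iff, map_mul, map_mul, mul_smul, mul_smul, hc, mem_nor_iff.1 (hx.2 c), hc']
  intro g hg
  rw [mem_normalizer_iff]
  intro x
  constructor
  · exact key g hg x
  · intro hx
    have h1 := key g⁻¹ (inv_mem hg) _ hx
    have e : g⁻¹ * (g * x * g⁻¹) * g⁻¹⁻¹ = x := by group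
    rwa [e] at h1

end abs

section full

variable {S M V : Subgroup G} {I : Type u} [Fintype I] [DecidableEq I] {N E : I → Subgroup G} {Om : I → Type u}
  [∀ i, Fintype (Om i)] [∀ i, DecidableEq (Om i)] {phi : ∀ i, Finset (Om i) → G}

/-- **Best offenders on `X ≥ V` fix all blocks.** -/
theorem best_le_fx [Finite G] (F : TvFin.Full S M V N E ⊥ Om phi) {X A : Subgroup G} (h : Ofd M X A) (hVX : V ≤ X)
    (hX : ∀ x ∈ X, ∀ y ∈ X, x * y = y * x) : A ≤ Fx M N := by
  intro a ha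
  have haM := h.AM ha
  refine mem_fx.2 ⟨haM, fun i => ?_⟩
  obtain ⟨τ, σ, h1, -, h3⟩ := F.letters a haM
  have hr := ofFull_r F haM h1 h3
  have h3c := F.three i
  obtain ⟨x⟩ : Nonempty (Om i) := Fintype.card_pos_iff.1 (by omega)
  have h4 := Ofd.blk_eq (ofFull F) h hVX hX ha ((fP Om).symm ⟨i, x⟩)
  rw [hr] at h4
  have h5 : (cI I).symm (fP Om ((fP Om).symm (Equiv.sigmaCongr τ σ (fP Om ((fP Om).symm ⟨i, x⟩))))).1 =
      (cI I).symm (fP Om ((fP Om).symm ⟨i, x⟩)).1 := h4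
  rw [Equiv.apply_symm_apply, Equiv.apply_symm_apply] at h5
  have h6 : τ i = i := (cI I).symm.injective h5
  have h7 := h1 i
  rw [h6] at h7
  exact mem_nor_iff.2 h7

end full

section par

variable [Finite G] {S : Sylow 2 G} {ι : Type v} {N E : ι → Subgroup G}

/-- `P ∈ P*(S)` normalises `J ≤ S ∩ Fx`, or moves the blocks like `S`. -/
theorem par_move {L : Subgroup G} (hL : ∀ g ∈ L, ∀ b, ∃ c, MulAut.conj g • N b = N c) {P J : Subgroup G}
    (hP : IsParS (S : Subgroup G) P) (hPL : P ≤ L) (hJ : J ≤ Fx L N) (hJS : J ≤ (S : Subgroup G))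
    (hJn : (S : Subgroup G) ≤ normalizer (J : Set G)) (hPJ : J ≤ o2 P → P ≤ normalizer (J : Set G)) :
    ∀ g ∈ P, ∀ b, ∃ s ∈ normalizer (J : Set G), MulAut.conj g • N b = MulAut.conj s • N b := by
  have hn : P ≤ normalizer ((P ⊓ Fx L N : Subgroup G) : Set G) := by
    refine le_trans ?_ (inf_normalizer_le_normalizer_inf)
    exact le_inf le_normalizer (hPL.trans (fx_norm hL))
  rcases hP.toIsPar.sup_eq_or_inf_le S inf_le_left hn with h1 | h1
  · intro g hg b
    rw [← h1, sup_comm] at hg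
    obtain ⟨s, hs, m, hm, rfl⟩ := Blk.mem_sup_of (hP.le.trans hn) hg
    refine ⟨s, hJn hs, ?_⟩
    rw [map_mul, mul_smul, mem_nor_iff.1 ((mem_fx.1 hm.2).2 b)]
  · have h2 : J ≤ o2 P := (le_inf hJS (le_inf (hJS.trans hP.le) hJ)).trans h1
    exact fun g hg b => ⟨g, hPJ h2 hg, rfl⟩

theorem norm_jj {P : Subgroup G} (hP : IsParS (S : Subgroup G) P) (h : jj (S : Subgroup G) ≤ o2 P) :
    P ≤ normalizer (jj (S : Subgroup G) : Set G) := by
  have h1 : o2 P ≤ (S : Subgroup G) := hP.isLoc.o2_le S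
  have h2 := jj_eq_of_jj_le h h1
  rw [← h2]
  exact (MinSimple.VModule.le_normalizer_o2 P).trans (normalizer_le_jj _)

/-- `H` normalises `nxtX S X` if it normalises `X` and the conjugates of `nxtX S X` under `H` lie in `S` -/
theorem norm_nxtX_of {S X H : Subgroup G} (hX : H ≤ normalizer (X : Set G))
    (hgS : ∀ g ∈ H, ∀ x ∈ nxtX S X, g * x * g⁻¹ ∈ S) : H ≤ normalizer (nxtX S X : Set G) := by
  have key : ∀ g ∈ H, MulAut.conj g • nxtX S X ≤ nxtX S X := by
    intro g hg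
    have hc1 : S ⊓ centralizer (X : Set G) ≤ nxtX S X := le_sup_left
    have hA1 : ∀ A, A ≤ S → Best X A → A ≤ nxtX S X := fun A h1 h2 =>
      (le_sSup (show A ∈ {A | A ≤ S ∧ Best X A} from ⟨h1, h2⟩)).trans le_sup_right
    have hgO := hgS g hg
    conv_lhs => unfold nxtX
    rw [smul_sup]
    refine sup_le ?_ ?_
    · refine le_trans ?_ hc1
      rintro _ ⟨c, hc, rfl⟩
      refine ⟨hgO c (hc1 hc), ?_⟩
      change g * c * g⁻¹ ∈ centralizer (X : Set G)
      rw [mem_centralizer_iff]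
      intro x hx
      have h1 : g⁻¹ * x * g ∈ X := by
        have h2 := (mem_normalizer_iff.1 (inv_mem (hX hg)) x).1 hx
        rwa [inv_inv] at h2
      have h3 := mem_centralizer_iff.1 hc.2 _ h1
      calc x * (g * c * g⁻¹) = g * ((g⁻¹ * x * g) * c) * g⁻¹ := by group
        _ = g * c * g⁻¹ * x := by rw [h3]; group
    · rw [sSup_eq_iSup', show MulAut.conj g • (⨆ A : {A | A ≤ S ∧ Best X A}, (A : Subgroup G)) =
        ⨆ A : {A | A ≤ S ∧ Best X A}, MulAut.conj g • (A : Subgroup G) from Subgroup.map_iSup _ _]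
      refine iSup_le fun A => ?_
      refine hA1 _ ?_ (A.2.2.conj_smul (hX hg))
      rintro _ ⟨a, ha, rfl⟩
      exact hgO a (hA1 A A.2.1 A.2.2 ha)
  intro g hg
  rw [mem_normalizer_iff]
  intro x
  constructor
  · intro hx
    exact key g hg ⟨x, hx, rfl⟩
  · intro hx
    have h1 : g⁻¹ * (g * x * g⁻¹) * g⁻¹⁻¹ ∈ nxtX S X := key g⁻¹ (inv_mem hg) ⟨_, hx, rfl⟩
    have e : g⁻¹ * (g * x * g⁻¹) * g⁻¹⁻¹ = x := by group
    rwa [e] at h1

theorem nxtX_le (S X : Subgroup G) : nxtX S X ≤ S := sup_le inf_le_left (sSup_le fun _ hA => hA.1)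

/-- `nxtX S X` is normal in `P ≤ N(X)` if it lies in `O₂(P)` -/
theorem norm_nxtX {P X : Subgroup G} (hP : IsParS (S : Subgroup G) P) (hX : P ≤ normalizer (X : Set G))
    (h : nxtX (S : Subgroup G) X ≤ o2 P) : P ≤ normalizer (nxtX (S : Subgroup G) X : Set G) :=
  norm_nxtX_of hX fun _ hg x hx =>
    hP.isLoc.o2_le S ((mem_normalizer_iff.1 (MinSimple.VModule.le_normalizer_o2 P hg) x).1 (h hx))

end par

section main

variable [Finite G] {S : Sylow 2 G}

/-- `V* ≤ S`, elementary abelian -/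
theorem wd_le (B : RB S) : Wd (S : Subgroup G) ≤ (S : Subgroup G) :=
  le_of_le_normalizer S (zl_MZ_isPGroup B.ctx B.data.noff)
    ((S_le_MZ B.ctx B.full).trans (MinSimple.VModule.le_normalizer_zl (S : Subgroup G) (MZ (S : Subgroup G))))

/-- Thompson: `A ∈ 𝒜(S)` is a best offender on every elementary abelian `U ≤ S`. -/
theorem best_of_AA {T U A : Subgroup G} (hU : ∀ x ∈ U, ∀ y ∈ U, x * y = y * x) (hU2 : ∀ x ∈ U, x ^ 2 = 1) (hUT : U ≤ T)
    (hA : A ∈ AA T) : Best U A where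
  sq := fun a ha => by rw [(PLocal.ThompsonJ.isElementaryAbelian_iff.1 hA.1).2 a ha]; exact one_mem _
  comm := fun a ha b hb => by
    have e := (PLocal.ThompsonJ.isElementaryAbelian_iff.1 hA.1).1 a ha b hb
    have e2 : a * b * a⁻¹ * b⁻¹ = 1 := by rw [e]; group
    rw [e2]; exact one_mem _
  max := fun F hF2 _ => by
    have hc : F ≤ centralizer ((U ⊓ centralizer (F : Set G) : Subgroup G) : Set G) := fun f hf =>
      mem_centralizer_iff.2 fun v hv => (mem_centralizer_iff.1 hv.2 f hf).symm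
    have hFe := PLocal.ThompsonJ.isElementaryAbelian_mono hA.1 hF2
    have hUe : IsElementaryAbelian 2 U := PLocal.ThompsonJ.isElementaryAbelian_iff.2 ⟨hU, hU2⟩
    have hCe := PLocal.ThompsonJ.isElementaryAbelian_mono hUe (inf_le_left (b := centralizer (F : Set G)))
    have h1 := Cfsg.Agent.PLocal.ElemAbSup.isElementaryAbelian_sup hCe hFe hc
    have h2 := hA.2.2 _ h1 (sup_le (inf_le_left.trans hUT) (hF2.trans hA.2.1))
    have h3 := Cfsg.Agent.PLocal.ElemAbSup.card_sup_mul_card_inf hc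
    have h4 : Nat.card ↥((U ⊓ centralizer (F : Set G)) ⊓ F) ≤ Nat.card ↥(U ⊓ centralizer (A : Set G)) := by
      refine Subgroup.card_le_of_le (le_inf (inf_le_left.trans inf_le_left) fun x hx =>
        mem_centralizer_iff.2 fun a ha => ?_)
      exact congrArg (fun t : A => (t : G)) (hA.1.1.is_comm.comm ⟨a, ha⟩ ⟨x, hF2 hx.2⟩)
    calc Nat.card F * Nat.card ↥(U ⊓ centralizer (F : Set G)) =
        Nat.card ↥(U ⊓ centralizer (F : Set G)) * Nat.card F := mul_comm _ _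
      _ = _ := h3.symm
      _ ≤ _ := Nat.mul_le_mul h2 h4

theorem ofd_of {M X A : Subgroup G} (hAS : A ≤ (S : Subgroup G)) (hSM : (S : Subgroup G) ≤ M) (h : Best X A) :
    Ofd M X A where
  AM := hAS.trans hSM
  p := S.isPGroup'.to_le hAS
  el := h.toElemM
  best := fun F h1 h2 => h.max F h2 h1

variable {I : Type u} [Fintype I] [DecidableEq I] {N E : I → Subgroup G} {Om : I → Type u}
  [∀ i, Fintype (Om i)] [∀ i, DecidableEq (Om i)] {phi : ∀ i, Finset (Om i) → G}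

/-- **A level which moves `V*` moves all blocks.** -/
theorem hypJ_of (B : RB S) (hB : Bks S N E ⊥ Om phi)
    (tr : ∀ b c, ∃ g ∈ MZ (S : Subgroup G), MulAut.conj g • N b = N c)
    (hl : ¬ jj (S : Subgroup G) ≤ centralizer (Wd (S : Subgroup G) : Set G) ∨
      ∃ K X, LevX (S : Subgroup G) K X ∧ ¬ nxtX (S : Subgroup G) X ≤ centralizer (Wd (S : Subgroup G) : Set G)) :
    HypJ (S : Subgroup G) N := by
  have hG := B.ctx
  have hSM := S_le_MZ hG B.full
  have hperm : ∀ g ∈ MZ (S : Subgroup G), ∀ b, ∃ c, MulAut.conj g • N b = N c := fun g hg b => by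
    obtain ⟨c, hc, -⟩ := hB.toDec.perm g hg b
    exact ⟨c, hc⟩
  have hMZ : MZ (S : Subgroup G) = sSup {P | IsParS (S : Subgroup G) P} := rfl
  have hsup : (⨆ b, N b) = Wd (S : Subgroup G) := by
    have := hB.toDec.sup
    rwa [sup_bot_eq] at this
  -- `J` moves a block
  have hmv : ∀ J : Subgroup G, ¬ J ≤ centralizer (Wd (S : Subgroup G) : Set G) →
      ∃ b, ¬ J ≤ centralizer (N b : Set G) := by
    intro J hJ
    by_contra hcon
    push Not at hcon
    apply hJ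
    rw [le_centralizer_iff, ← hsup]
    exact iSup_le fun b => le_centralizer_iff.1 (hcon b)
  have main : ∀ J : Subgroup G, J ≤ (S : Subgroup G) → (S : Subgroup G) ≤ normalizer (J : Set G) →
      J ≤ Fx (MZ (S : Subgroup G)) N → (∀ P, IsParS (S : Subgroup G) P → J ≤ o2 P → P ≤ normalizer (J : Set G)) →
      ¬ J ≤ centralizer (Wd (S : Subgroup G) : Set G) → ∀ b, ¬ J ≤ centralizer (N b : Set G) := by
    intro J h1 h2 h3 h4 h5
    refine RWide.LemM.mv_all (PP := {P | IsParS (S : Subgroup G) P}) hperm ?_ tr (hmv J h5)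
    intro P hP
    exact par_move hperm hP (le_MZ hP) h3 h1 h2 (h4 P hP)
  have hab : ∀ x ∈ Wd (S : Subgroup G), ∀ y ∈ Wd (S : Subgroup G), x * y = y * x := fun x hx y hy =>
    hB.toDec.ucomm hx hy
  rcases hl with hj | ⟨K, X, hKX, hj⟩
  · left
    refine main _ (ChoiceBase.jj_le _) (le_normalizer.trans (normalizer_le_jj _)) ?_ (fun P hP h => norm_jj hP h) hj
    rw [jj_eq]
    refine sSup_le fun A hA => ?_
    exact best_le_fx hB.toFull (ofd_of hA.2.1 hSM (best_of_AA hab (zl_MZ_sq hG.char2 B.data.noff) (wd_le B) hA)) le_rfl hab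
  · right
    refine ⟨K, X, hKX, main _ ?_ ?_ ?_ (fun P hP h => norm_nxtX hP ((le_MZ hP).trans hKX.MX) h) hj⟩
    · exact nxtX_le _ _
    · exact norm_nxtX_of (hSM.trans hKX.MX) fun g hg x hx =>
        mul_mem (mul_mem hg (nxtX_le _ _ hx)) (inv_mem hg)
    · have hXc : ∀ x ∈ X, ∀ y ∈ X, x * y = y * x := fun x hx y hy => MinSimple.VModule.zc_comm _ _ (hKX.Xle hx) _ (hKX.Xle hy)
      refine sup_le ?_ (sSup_le fun A hA => best_le_fx hB.toFull (ofd_of hA.1 hSM hA.2) hKX.VX hXc)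
      rintro c ⟨hcS, hcX⟩
      refine mem_fx.2 ⟨hSM hcS, fun b => ?_⟩
      exact hB.toDec.EN b (hB.toDec.CE b ⟨hSM hcS, centralizer_le hKX.VX hcX⟩)

end main

end Cfsg.Agent.Omega.NOThreeL.RRed.HypJOf
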