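import Cfsg.Agent.Mrg.Omega.NOThreeL.RRed.Side
import Cfsg.Agent.Mrg.Omega.NOThreeL.RRed.Base
import Cfsg.Agent.Mrg.Omega.NOThreeL.VF.Nat
import Cfsg.Agent.Mrg.Omega.SQT.Rank
import Cfsg.Agent.Mrg.Omega.IId.SymWrD.Zero

section


/-!
# NO-3L, box R, the block theorem, (G1) of #23492 (helper704), text: helper245

`S ≤ L`, `L` 2-local, generated by the members of `P*(S)` in `L`; `U = zl S L` (`L = MZ S`: `U = V* = Wd S`).

* `exact_of` : exactness, `U = V C_U(A)`;
* `GOne S L P A` : `P ∈ P*(S)`, `P ≤ L`; no subgroup of `L` over-offends on `U`; `A ≤ S` is an offender on `U` and on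
  `V_P`, `C_A(V_P) ≤ C_A(U)`, `U = V_P C_U(A)`; the conclusion of the FF theorem for `P`;
* `exists_gOne` : existence, if `L` has an offender on `U`;
* `ffMod_of` : box R: some `A ≤ S` is an offender on `V*` (one `P ∈ F_z` with `P ≰ N_G(V^!(S))` suffices);
* `g1` : `GOne S (MZ S) P A` in box R;
* `Two2 S P` : `P` is of type `q = 2` or `S_n`; `GOne.tv` : then some `t ∈ A` is a transvection on `U`, its centre is
  in `V_P`;
* `tv_or` : the case split (a transvection on `U`, or some `P` of type `q ≥ 4`);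
* `gOne_of_opt` : `GOne S L R A` for every `R` whose line is moved by an optimal `A ≤ S`.
-/

set_option autoImplicit false
set_option linter.unusedSectionVars false

namespace Cfsg.Agent.Omega.NOThreeL.RRed

open Subgroup Cfsg Cfsg.Agent.ZN Cfsg.Agent.Omega.MinPar Cfsg.Agent.Omega.Frame Cfsg.Agent.Omega.FrameNOFF
open Cfsg.Agent.Omega.Node.NO3L Cfsg.Agent.Omega.NOThreeL.Basic Cfsg.Agent.Omega.NOThreeL.RTree
open Cfsg.Agent.Omega.NOThreeL.Merge (MZ S_le_MZ isLoc_MZ zl_MZ_comm zl_MZ_isPGroup)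
open Cfsg.Agent.Omega.NOThreeL.ZCut (FZ)
open Cfsg.Agent.Omega.NO3b.Bang (bang NN)
open Cfsg.Agent.Omega.NO3S (FFMod)
open Cfsg.Agent.Omega.FFThm (ElemM OffM NoOverM ConclM NatKM SymKM NatK SymK ActsSL ActsSym)
open Cfsg.Agent.Omega.FrameFF (cv)
open Cfsg.Agent.Omega.HOne.Main (vx SplitPar)
open Cfsg.Agent.ZN.CaseTwo (syl_of_sylow)
open Cfsg.Agent.Omega.NatPair (ap)
open Cfsg.Agent.Lib.SL2Mat

universe u

variable {G : Type u} [Group G]

/-! ### Exactness -/

/-- **Exactness**: `A` offends on `U`, not over-offends on `V ≤ U`, `C_A(V) ≤ C_A(U)`: `U = V C_U(A)`. -/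
theorem exact_of [Finite G] {U V A : Subgroup G} (hU : U ≤ centralizer (U : Set G)) (hVU : V ≤ U)
    (hoff : Nat.card U * Nat.card ↥(A ⊓ centralizer (U : Set G)) ≤
      Nat.card A * Nat.card ↥(U ⊓ centralizer (A : Set G)))
    (hno : Nat.card A * Nat.card ↥(V ⊓ centralizer (A : Set G)) ≤
      Nat.card V * Nat.card ↥(A ⊓ centralizer (V : Set G)))
    (hAc : A ⊓ centralizer (V : Set G) ≤ centralizer (U : Set G)) :
    U = V ⊔ (U ⊓ centralizer (A : Set G)) := by
  have e1 : A ⊓ centralizer (V : Set G) = A ⊓ centralizer (U : Set G) :=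
    le_antisymm (le_inf inf_le_left hAc) (inf_le_inf_left _ (centralizer_le hVU))
  have e2 : V ⊓ (U ⊓ centralizer (A : Set G)) = V ⊓ centralizer (A : Set G) := by
    rw [← inf_assoc, inf_eq_left.2 hVU]
  have h1 := Star.card_sup_mul hU hVU (inf_le_left : U ⊓ centralizer (A : Set G) ≤ U)
  rw [e2] at h1
  rw [e1] at hno
  set m := Nat.card ↥(V ⊔ (U ⊓ centralizer (A : Set G)))
  set w := Nat.card ↥(V ⊓ centralizer (A : Set G))
  set c := Nat.card ↥(A ⊓ centralizer (U : Set G))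
  set n := Nat.card ↥(U ⊓ centralizer (A : Set G))
  have pw : 0 < w := Nat.card_pos
  have pc : 0 < c := Nat.card_pos
  have h2 : Nat.card U * (c * w) ≤ m * (c * w) := by
    calc Nat.card U * (c * w) = (Nat.card U * c) * w := by ring
      _ ≤ (Nat.card A * n) * w := Nat.mul_le_mul_right _ hoff
      _ = (Nat.card A * w) * n := by ring
      _ ≤ (Nat.card V * c) * n := Nat.mul_le_mul_right _ hno
      _ = (m * w) * c := by rw [h1]; ring
      _ = m * (c * w) := by ring
  exact (Subgroup.eq_of_le_of_card_ge (sup_le hVU inf_le_left)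
    (Nat.le_of_mul_le_mul_right h2 (Nat.mul_pos pc pw))).symm

/-! ### (G1) for a pair `(L, U)` -/

/-- **(G1)** for `(L, zl S L)`. -/
structure GOne [Finite G] (S : Sylow 2 G) (L P A : Subgroup G) : Prop where
  par : IsParS (S : Subgroup G) P
  PL : P ≤ L
  AS : A ≤ (S : Subgroup G)
  comm : zl (S : Subgroup G) L ≤ centralizer (zl (S : Subgroup G) L : Set G)
  no : NoOverM (zl (S : Subgroup G) L) L
  offU : OffM (zl (S : Subgroup G) L) A
  offP : OffM (zl (S : Subgroup G) P) A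
  cent : A ⊓ centralizer (zl (S : Subgroup G) P : Set G) ≤ centralizer (zl (S : Subgroup G) L : Set G)
  concl : ConclM (S : Subgroup G) P
  ex : zl (S : Subgroup G) L = zl (S : Subgroup G) P ⊔ (zl (S : Subgroup G) L ⊓ centralizer (A : Set G))

section fin

variable [Finite G] {S : Sylow 2 G} {L P A : Subgroup G}

/-- **(G1)**: existence. -/
theorem exists_gOne (hc : IsCharacteristicTwoType G) (hL : IsLoc (S : Subgroup G) L)
    (hgen : L ≤ sSup {P | IsParS (S : Subgroup G) P ∧ P ≤ L})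
    (hoff : ∃ A ≤ L, OffM (zl (S : Subgroup G) L) A) : ∃ P A, GOne S L P A := by
  obtain ⟨hno, P, hP, hPL, A, hA, hoffU, hoffP, hAc, hcon⟩ := VF.one FFBr.ffthmM hc S hL hgen hoff
  have hVU : zl (S : Subgroup G) P ≤ zl (S : Subgroup G) L := Star.zl_mono _ hPL
  have hcomm : zl (S : Subgroup G) L ≤ centralizer (zl (S : Subgroup G) L : Set G) := by
    intro x hx
    rw [mem_centralizer_iff]
    intro y hy
    exact MinSimple.VModule.zc_comm _ _ (hL.zl_le S hc hy) _ (hL.zl_le S hc hx)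
  have hnoP := (FFBr.ffthmM G (S : Subgroup G) P (syl_of_sylow S hP.le) hP.toIsMinPar
    (hP.isLoc.char2 S hc) ⟨A, hA.trans hP.le, hoffP⟩).1
  refine ⟨P, A, hP, hPL, hA, hcomm, hno, hoffU, hoffP, hAc, hcon, ?_⟩
  exact exact_of hcomm hVU hoffU.le (hnoP A (hA.trans hP.le) hoffP.toElemM) hAc

namespace GOne

variable (h : GOne S L P A)
include h

theorem VU : zl (S : Subgroup G) P ≤ zl (S : Subgroup G) L := Star.zl_mono _ h.PL

theorem dec {u : G} (hu : u ∈ zl (S : Subgroup G) L) :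
    ∃ v ∈ zl (S : Subgroup G) P, ∃ w ∈ zl (S : Subgroup G) L ⊓ centralizer (A : Set G), u = v * w := by
  rw [h.ex] at hu
  have hn : (zl (S : Subgroup G) L ⊓ centralizer (A : Set G) : Subgroup G) ≤
      normalizer (zl (S : Subgroup G) P : Set G) :=
    inf_le_left.trans (h.comm.trans ((centralizer_le h.VU).trans (centralizer_le_normalizer _)))
  have hu' : u ∈ ((zl (S : Subgroup G) P ⊔ (zl (S : Subgroup G) L ⊓ centralizer (A : Set G)) : Subgroup G) :
      Set G) := hu
  rw [coe_mul_of_right_le_normalizer_left _ _ hn] at hu'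
  obtain ⟨v, hv, w, hw, e⟩ := hu'
  exact ⟨v, hv, w, hw, e.symm⟩

/-- `[U, a] = [V_P, a]` for `a ∈ A` -/
theorem comm_eq {u : G} (hu : u ∈ zl (S : Subgroup G) L) :
    ∃ v ∈ zl (S : Subgroup G) P, ∀ a ∈ A, a * u * a⁻¹ * u⁻¹ = a * v * a⁻¹ * v⁻¹ := by
  obtain ⟨v, hv, w, hw, rfl⟩ := h.dec hu
  refine ⟨v, hv, fun a ha => ?_⟩
  have h1 : a * w = w * a := mem_centralizer_iff.1 hw.2 a ha
  calc a * (v * w) * a⁻¹ * (v * w)⁻¹ = a * v * a⁻¹ * (a * w) * a⁻¹ * w⁻¹ * v⁻¹ := by group
    _ = a * v * a⁻¹ * v⁻¹ := by rw [h1]; group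

/-- a transvection on `V_P` in `A` is a transvection on `U` -/
theorem tv_of_tv {c t : G} (ht : t ∈ A) (hc : c ∈ zl (S : Subgroup G) P) (htv : Tv (zl (S : Subgroup G) P) c t) :
    Tv (zl (S : Subgroup G) L) c t := by
  intro u hu
  obtain ⟨v, hv, w, hw, rfl⟩ := h.dec hu
  have h1 : t * w = w * t := mem_centralizer_iff.1 hw.2 t ht
  have e : t * (v * w) * t⁻¹ = t * v * t⁻¹ * w := by
    calc t * (v * w) * t⁻¹ = t * v * t⁻¹ * (t * w) * t⁻¹ := by group
      _ = _ := by rw [h1]; group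
  rcases htv v hv with h2 | h2
  · left; rw [e, h2]
  · right
    rw [e, h2, mul_assoc, mul_assoc]
    congr 1
    exact mem_centralizer_iff.1 (h.comm hw.1) c (h.VU hc)

theorem not_cent {t : G} (ht : t ∉ centralizer (zl (S : Subgroup G) P : Set G)) :
    t ∉ centralizer (zl (S : Subgroup G) L : Set G) := fun h1 => ht (centralizer_le h.VU h1)

theorem SP : (S : Subgroup G) ≤ P := h.par.le

theorem SL : (S : Subgroup G) ≤ L := h.par.le.trans h.PL

end GOne

end fin

/-! ### Transvections on `V_P` -/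

/-- `V = N D`, `N ∩ D = 1`, `a` normalises `N`, centralises `D`, moves the coordinates of `n ∈ N` by `0` or `e c`. -/
theorem tv_of_split {V N D : Subgroup G} {X : Type*} [AddGroup X] (e : G → X) {a c : G}
    (hc : c ∈ N) (hdec : ∀ v ∈ V, ∃ n ∈ N, ∃ d ∈ D, v = n * d)
    (hinj : ∀ n ∈ N, e n = 0 → n = 1) (hmul : ∀ v ∈ N, ∀ w ∈ N, e (v * w) = e v + e w)
    (hcomm : ∀ d ∈ D, c * d = d * c)
    (haN : ∀ n ∈ N, a * n * a⁻¹ ∈ N) (haD : ∀ d ∈ D, a * d = d * a)
    (hact : ∀ n ∈ N, e (a * n * a⁻¹) = e n ∨ e (a * n * a⁻¹) = e n + e c) : Tv V c a := by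
  have h1 : e 1 = 0 := by
    have := hmul 1 (one_mem _) 1 (one_mem _)
    rw [one_mul] at this
    simpa using this
  have hi : ∀ n ∈ N, e n⁻¹ = - e n := by
    intro n hn
    have h2 := hmul n hn n⁻¹ (inv_mem hn)
    rw [mul_inv_cancel, h1] at h2
    exact (neg_eq_of_add_eq_zero_right h2.symm).symm
  have heq : ∀ x ∈ N, ∀ y ∈ N, e x = e y → x = y := by
    intro x hx y hy hxy
    have h2 : e (x * y⁻¹) = 0 := by rw [hmul x hx _ (inv_mem hy), hi y hy, hxy, add_neg_cancel]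
    exact mul_inv_eq_one.1 (hinj _ (mul_mem hx (inv_mem hy)) h2)
  intro v hv
  obtain ⟨n, hn, d, hd, rfl⟩ := hdec v hv
  have e1 : a * (n * d) * a⁻¹ = a * n * a⁻¹ * d := by
    calc a * (n * d) * a⁻¹ = a * n * a⁻¹ * (a * d) * a⁻¹ := by group
      _ = _ := by rw [haD d hd]; group
  rcases hact n hn with h2 | h2
  · left
    rw [e1, heq _ (haN n hn) _ hn h2]
  · right
    rw [← hmul n hn c hc] at h2
    rw [e1, heq _ (haN n hn) _ (mul_mem hn hc) h2, mul_assoc, hcomm d hd, mul_assoc]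

section nat

variable [Finite G] {F : Type} [Field F] [CharP F 2] {S : Sylow 2 G} {P A : Subgroup G} {k : ℕ}

theorem two_of_card (hF : Nat.card F = 2) (x : F) : x = 0 ∨ x = 1 := by
  have hfin : Finite F := Nat.finite_of_card_ne_zero (by rw [hF]; norm_num)
  have h2 := Nat.card_eq_two_iff' (0 : F)
  obtain ⟨y, hy, huniq⟩ := h2.1 hF
  by_cases h0 : x = 0
  · exact Or.inl h0
  · right
    rw [huniq x h0, huniq 1 one_ne_zero]

/-- **`q = 2`**: an offender `A ≤ S` on `V_P` contains a transvection on `V_P`. -/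
theorem tv_nat (hG : IsCharacteristicTwoType G) (hP : IsParS (S : Subgroup G) P)
    (M : NatKM F (S : Subgroup G) P (zl (S : Subgroup G) P) (cv (S : Subgroup G) P) k) (hk : 0 < k)
    (hF : Nat.card F = 2) (hA : A ≤ (S : Subgroup G)) (hoff : OffM (zl (S : Subgroup G) P) A) :
    ∃ t ∈ A, ∃ c ∈ zl (S : Subgroup G) P, c ≠ 1 ∧ Tv (zl (S : Subgroup G) P) c t ∧
      t ∉ centralizer (zl (S : Subgroup G) P : Set G) := by
  classical
  have hs : SplitPar (S : Subgroup G) P := IId.Cv.splitPar_two hG S hP M.toNatK hk hF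
  have hSP := hP.le
  have hDc : ∀ p ∈ P, ∀ d ∈ cv (S : Subgroup G) P, p * d = d * p := fun p hp d hd =>
    (mem_centralizer_iff.1 (IId.Cv.le_centralizer_cv hG S hP M.toNatK hs hp) d hd).symm
  have hinj : ∀ n ∈ vx (S : Subgroup G) P, M.e n = 0 → n = 1 := by
    intro n hn h0
    have h1 : n ∈ vx (S : Subgroup G) P ⊓ cv (S : Subgroup G) P :=
      ⟨hn, (M.ker n (HOne.vx_le _ _ hn)).1 h0⟩
    rwa [hs, mem_bot] at h1
  have hmul : ∀ v ∈ vx (S : Subgroup G) P, ∀ w ∈ vx (S : Subgroup G) P, M.e (v * w) = M.e v + M.e w :=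
    fun v hv w hw => M.mul v (HOne.vx_le _ _ hv) w (HOne.vx_le _ _ hw)
  obtain ⟨I, hI1, hI2⟩ := M.offM A hA hoff
  -- `I ≠ ∅`
  obtain ⟨i, hi⟩ : ∃ i, i ∈ I := by
    by_contra hcon
    push Not at hcon
    apply hoff.ne
    intro a ha
    obtain ⟨b, hb, hact⟩ := hI1 a ha
    have hb0 : b = 0 := funext fun j => hb j (hcon j)
    have haP := hSP (hA ha)
    rw [mem_centralizer_iff]
    intro v hv
    obtain ⟨n, hn, d, hd, rfl⟩ := IId.Cv.exists_mul M.toNatK hv
    have h1 : M.e (a * n * a⁻¹) = M.e n := by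
      funext j
      rw [hact.1 n (HOne.vx_le _ _ hn) j, hb0]
      refine VF.Nat.ext2' ?_ ?_
      · rw [VF.Nat.ap_up_0]; simp
      · rw [VF.Nat.ap_up_1]
    have h2 : a * n * a⁻¹ * n⁻¹ = 1 := by
      have hn' := IId.Cv.natK M.toNatK hs fun s hs' d hd => hDc s (hSP hs') d hd
      have h3 : a * n * a⁻¹ ∈ vx (S : Subgroup G) P :=
        (mem_normalizer_iff.1 (HOne.le_normalizer_vx _ _ haP) n).1 hn
      refine hinj _ (mul_mem h3 (inv_mem hn)) ?_
      have h4 : M.e (a * n * a⁻¹ * n⁻¹) + M.e n = M.e n := by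
        rw [← hmul _ (mul_mem h3 (inv_mem hn)) n hn, inv_mul_cancel_right, h1]
      simpa using h4
    have h3 : a * n = n * a := by
      have := mul_inv_eq_one.1 h2
      rwa [mul_inv_eq_iff_eq_mul] at this
    rw [← mul_assoc, h3, mul_assoc, mul_assoc, hDc a haP d hd]
  obtain ⟨t, ht, hact⟩ := hI2 (Pi.single i 1) (fun j hj => Pi.single_eq_of_ne (fun e => hj (by rw [e]; exact hi)) _)
  have htP := hSP (hA ht)
  obtain ⟨c₀, hc₀, hec₀⟩ := M.surj (Pi.single i ![1, 0])
  obtain ⟨c, hc, d₀, hd₀, rfl⟩ := IId.Cv.exists_mul M.toNatK hc₀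
  have hec : M.e c = Pi.single i ![1, 0] := by
    rw [M.mul c (HOne.vx_le _ _ hc) d₀ (HOne.cv_le _ _ hd₀), (M.ker d₀ (HOne.cv_le _ _ hd₀)).2 hd₀,
      add_zero] at hec₀
    exact hec₀
  have hVc : ∀ x ∈ zl (S : Subgroup G) P, ∀ y ∈ zl (S : Subgroup G) P, x * y = y * x := fun x hx y hy =>
    MinSimple.VModule.zc_comm _ _ (hP.isLoc.zl_le S hG hx) _ (hP.isLoc.zl_le S hG hy)
  refine ⟨t, ht, c, HOne.vx_le _ _ hc, ?_, ?_, ?_⟩
  · rintro rfl
    have h1 : M.e 1 = 0 := by
      have := hmul 1 (one_mem _) 1 (one_mem _)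
      rw [one_mul] at this
      simpa using this
    rw [h1] at hec
    have h2 := congrFun (congrFun hec i) 0
    simp at h2
  · refine tv_of_split (N := vx (S : Subgroup G) P) (D := cv (S : Subgroup G) P) M.e hc
      (fun v hv => IId.Cv.exists_mul M.toNatK hv) hinj hmul
      (fun d hd => hVc c (HOne.vx_le _ _ hc) d (HOne.cv_le _ _ hd))
      (fun n hn => (mem_normalizer_iff.1 (HOne.le_normalizer_vx _ _ htP) n).1 hn)
      (fun d hd => hDc t htP d hd) ?_
    intro n hn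
    have hnV := HOne.vx_le _ _ hn
    rcases two_of_card hF (M.e n i 1) with h0 | h1
    · left
      funext j
      rw [hact.1 n hnV j]
      refine VF.Nat.ext2' ?_ ?_
      · rw [VF.Nat.ap_up_0]
        by_cases hj : j = i
        · subst hj; rw [h0, mul_zero, add_zero]
        · rw [Pi.single_eq_of_ne hj, zero_mul, add_zero]
      · rw [VF.Nat.ap_up_1]
    · right
      rw [hec]
      funext j
      rw [hact.1 n hnV j, Pi.add_apply]
      refine VF.Nat.ext2' ?_ ?_
      · rw [VF.Nat.ap_up_0, Pi.add_apply]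
        by_cases hj : j = i
        · subst hj; rw [h1, Pi.single_eq_same, Pi.single_eq_same]; simp
        · rw [Pi.single_eq_of_ne hj, Pi.single_eq_of_ne hj, zero_mul]; rfl
      · rw [VF.Nat.ap_up_1, Pi.add_apply]
        by_cases hj : j = i
        · subst hj; rw [Pi.single_eq_same]; simp
        · rw [Pi.single_eq_of_ne hj]; simp
  · intro h0
    obtain ⟨v, hv, hev⟩ := M.surj (Pi.single i ![0, 1])
    have h1 : t * v * t⁻¹ = v := by
      rw [← mem_centralizer_iff.1 h0 v hv]; group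
    have h2 := hact.1 v hv i
    rw [h1] at h2
    have h3 := congrFun h2 0
    rw [VF.Nat.ap_up_0, hev] at h3
    simp at h3

end nat

section sym

variable [Finite G] {S : Sylow 2 G} {P A : Subgroup G} {k m : ℕ}

theorem zmod_eq_or (a b : ZMod 2) : a = b ∨ a = b + 1 := by
  revert a b; decide

theorem swp_of_eq {X : Type*} [DecidableEq X] (f : X → ZMod 2) {x y : X} (h : f x = f y) (z : X) :
    f (Equiv.swap x y z) = f z := by
  rcases eq_or_ne z x with rfl | hx
  · rw [Equiv.swap_apply_left, h]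
  · rcases eq_or_ne z y with rfl | hy
    · rw [Equiv.swap_apply_right, h]
    · rw [Equiv.swap_apply_of_ne_of_ne hx hy]

theorem swp_of_ne {X : Type*} [DecidableEq X] (f : X → ZMod 2) {x y : X} (hxy : x ≠ y) (h : f x ≠ f y) (z : X) :
    f (Equiv.swap x y z) = f z + ((Pi.single x 1 : X → ZMod 2) z + (Pi.single y 1 : X → ZMod 2) z) := by
  have h1 : f x = f y + 1 := (zmod_eq_or _ _).resolve_left h
  have h2 : f y = f x + 1 := (zmod_eq_or _ _).resolve_left (Ne.symm h)
  rcases eq_or_ne z x with rfl | hx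
  · rw [Equiv.swap_apply_left, Pi.single_eq_same, Pi.single_eq_of_ne hxy, add_zero, h2]
  · rcases eq_or_ne z y with rfl | hy
    · rw [Equiv.swap_apply_right, Pi.single_eq_same, Pi.single_eq_of_ne hx, zero_add, h1]
    · rw [Equiv.swap_apply_of_ne_of_ne hx hy, Pi.single_eq_of_ne hx, Pi.single_eq_of_ne hy, add_zero, add_zero]

/-- **`S_n`**: an offender `A ≤ S` on `V_P` contains a transvection on `V_P`. -/
theorem tv_sym (hG : IsCharacteristicTwoType G) (hP : IsParS (S : Subgroup G) P)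
    (M : SymKM (S : Subgroup G) P (zl (S : Subgroup G) P) (cv (S : Subgroup G) P) k m) (hk : 0 < k)
    (hm : 2 ≤ m) (hA : A ≤ (S : Subgroup G)) (hoff : OffM (zl (S : Subgroup G) P) A) :
    ∃ t ∈ A, ∃ c ∈ zl (S : Subgroup G) P, c ≠ 1 ∧ Tv (zl (S : Subgroup G) P) c t ∧
      t ∉ centralizer (zl (S : Subgroup G) P : Set G) := by
  classical
  obtain ⟨hDc, N, hNV, hsup, hinf, hNn⟩ := IId.SymWrD.exists_compl M.toSymK hk (by omega) (syl_of_sylow S hP.le)
    (hP.isLoc.char2 S hG)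
  have hSP := hP.le
  have hVc : ∀ x ∈ zl (S : Subgroup G) P, ∀ y ∈ zl (S : Subgroup G) P, x * y = y * x := fun x hx y hy =>
    MinSimple.VModule.zc_comm _ _ (hP.isLoc.zl_le S hG hx) _ (hP.isLoc.zl_le S hG hy)
  have hDV : cv (S : Subgroup G) P ≤ zl (S : Subgroup G) P := inf_le_left
  have hdec : ∀ v ∈ zl (S : Subgroup G) P, ∃ n ∈ N, ∃ d ∈ cv (S : Subgroup G) P, v = n * d := by
    intro v hv
    rw [← hsup] at hv
    exact F4.Split.mem_sup_comm (fun x hx y hy => hVc x (hNV hx) y (hDV hy)) hv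
  have hinj : ∀ n ∈ N, M.e n = 0 → n = 1 := by
    intro n hn h0
    have h1 : n ∈ N ⊓ cv (S : Subgroup G) P := ⟨hn, (M.ker n (hNV hn)).1 h0⟩
    rwa [hinf, mem_bot] at h1
  have hmul : ∀ v ∈ N, ∀ w ∈ N, M.e (v * w) = M.e v + M.e w := fun v hv w hw => M.mul v (hNV hv) w (hNV hw)
  obtain ⟨-, hof⟩ := M.offM A hA hoff
  obtain ⟨a, ha, hane⟩ := SetLike.not_le_iff_exists.1 hoff.ne
  obtain ⟨τ, hτ, hτ2⟩ := hof a ha
  obtain ⟨i, x, hix⟩ : ∃ i x, τ i x ≠ x := by
    by_contra hcon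
    push Not at hcon
    apply hane
    have haP := hSP (hA ha)
    rw [mem_centralizer_iff]
    intro v hv
    obtain ⟨n, hn, d, hd, rfl⟩ := hdec v hv
    have h1 : M.e (a * n * a⁻¹) = M.e n := by
      funext j z
      have := hτ n (hNV hn) j z
      rwa [hcon j z] at this
    have h3 : a * n * a⁻¹ ∈ N := (mem_normalizer_iff.1 (hNn haP) n).1 hn
    have h2 : a * n * a⁻¹ * n⁻¹ = 1 := by
      refine hinj _ (mul_mem h3 (inv_mem hn)) ?_
      have h4 : M.e (a * n * a⁻¹ * n⁻¹) + M.e n = M.e n := by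
        rw [← hmul _ (mul_mem h3 (inv_mem hn)) n hn, inv_mul_cancel_right, h1]
      simpa using h4
    have h4 : a * n = n * a := by
      have := mul_inv_eq_one.1 h2
      rwa [mul_inv_eq_iff_eq_mul] at this
    rw [← mul_assoc, h4, mul_assoc, mul_assoc, hDc a haP d hd]
  obtain ⟨-, t, ht, hact⟩ := hτ2 i x hix
  set y := τ i x with hy
  have hxy : x ≠ y := fun e => hix e.symm
  have htP := hSP (hA ht)
  have act_i : ∀ v ∈ zl (S : Subgroup G) P, ∀ z, M.e (t * v * t⁻¹) i z = M.e v i (Equiv.swap x y z) := by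
    intro v hv z
    have h1 := hact v hv i (Equiv.swap x y z)
    rwa [Function.update_self, Equiv.swap_apply_self] at h1
  have act_j : ∀ v ∈ zl (S : Subgroup G) P, ∀ j, j ≠ i → ∀ z, M.e (t * v * t⁻¹) j z = M.e v j z := by
    intro v hv j hj z
    have h1 := hact v hv j z
    rwa [Function.update_of_ne hj] at h1
  obtain ⟨c₀, hc₀, hec₀⟩ := M.surj (Pi.single i (Pi.single x 1 + Pi.single y 1)) (by
    intro j
    by_cases hj : j = i
    · subst hj
      rw [Pi.single_eq_same]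
      simp only [Pi.add_apply, Finset.sum_add_distrib]
      rw [Finset.sum_pi_single', Finset.sum_pi_single']
      simp
      decide
    · rw [Pi.single_eq_of_ne hj]
      simp)
  obtain ⟨c, hc, d₀, hd₀, rfl⟩ := hdec c₀ hc₀
  have hec : M.e c = Pi.single i (Pi.single x 1 + Pi.single y 1) := by
    rw [M.mul c (hNV hc) d₀ (hDV hd₀), (M.ker d₀ (hDV hd₀)).2 hd₀, add_zero] at hec₀
    exact hec₀
  refine ⟨t, ht, c, hNV hc, ?_, ?_, ?_⟩
  · rintro rfl
    have h1 : M.e 1 = 0 := by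
      have := hmul 1 (one_mem _) 1 (one_mem _)
      rw [one_mul] at this
      simpa using this
    rw [h1] at hec
    have h2 := congrFun (congrFun hec i) x
    rw [Pi.single_eq_same, Pi.add_apply, Pi.single_eq_same, Pi.single_eq_of_ne hxy, add_zero] at h2
    exact zero_ne_one h2
  · refine tv_of_split (N := N) (D := cv (S : Subgroup G) P) M.e hc hdec hinj hmul
      (fun d hd => hVc c (hNV hc) d (hDV hd))
      (fun n hn => (mem_normalizer_iff.1 (hNn htP) n).1 hn) (fun d hd => hDc t htP d hd) ?_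
    intro n hn
    have hnV := hNV hn
    by_cases h0 : M.e n i x = M.e n i y
    · left
      funext j z
      by_cases hj : j = i
      · subst hj; rw [act_i n hnV, swp_of_eq (M.e n j) h0]
      · rw [act_j n hnV j hj]
    · right
      rw [hec]
      funext j z
      by_cases hj : j = i
      · subst hj
        rw [act_i n hnV, swp_of_ne (M.e n j) hxy h0, Pi.add_apply, Pi.add_apply, Pi.single_eq_same, Pi.add_apply]
      · rw [act_j n hnV j hj, Pi.add_apply, Pi.add_apply, Pi.single_eq_of_ne hj]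
        simp
  · intro h0
    -- a third point
    obtain ⟨w, hw⟩ : ∃ w, w ∉ ({x, y} : Finset (Fin (2 ^ m + 1))) := by
      by_contra hcon
      push Not at hcon
      have h1 : (Finset.univ : Finset (Fin (2 ^ m + 1))) ⊆ {x, y} := fun w _ => hcon w
      have h2 := Finset.card_le_card h1
      have h3 : ({x, y} : Finset (Fin (2 ^ m + 1))).card ≤ 2 := Finset.card_le_two
      have h4 : 2 ^ 2 ≤ 2 ^ m := Nat.pow_le_pow_right (by norm_num) hm
      rw [Finset.card_univ, Fintype.card_fin] at h2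
      omega
    rw [Finset.mem_insert, Finset.mem_singleton, not_or] at hw
    obtain ⟨v, hv, hev⟩ := M.surj (Pi.single i (Pi.single x 1 + Pi.single w 1)) (by
      intro j
      by_cases hj : j = i
      · subst hj
        rw [Pi.single_eq_same]
        simp only [Pi.add_apply, Finset.sum_add_distrib]
        rw [Finset.sum_pi_single', Finset.sum_pi_single']
        simp
        decide
      · rw [Pi.single_eq_of_ne hj]
        simp)
    have h1 : t * v * t⁻¹ = v := by
      rw [← mem_centralizer_iff.1 h0 v hv]; group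
    have h2 := act_i v hv y
    rw [h1, Equiv.swap_apply_right, hev, Pi.single_eq_same, Pi.add_apply, Pi.add_apply,
      Pi.single_eq_of_ne hxy.symm, Pi.single_eq_same, Pi.single_eq_of_ne (Ne.symm hw.2),
      Pi.single_eq_of_ne (Ne.symm hw.1)] at h2
    exact absurd h2 (by decide)

end sym

/-! ### Shape `q = 2` or `S_n` -/

/-- `P` is of type `q = 2` or `S_n`. -/
def Two2 [Finite G] (S : Sylow 2 G) (P : Subgroup G) : Prop :=
  (∃ (F : Type) (_ : Field F) (_ : CharP F 2) (k : ℕ), Nat.card F = 2 ∧ 0 < k ∧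
    Nonempty (NatKM F (S : Subgroup G) P (zl (S : Subgroup G) P) (cv (S : Subgroup G) P) k)) ∨
  ∃ k m : ℕ, 0 < k ∧ 2 ≤ m ∧
    Nonempty (SymKM (S : Subgroup G) P (zl (S : Subgroup G) P) (cv (S : Subgroup G) P) k m)

/-- `P` is natural, `q ≥ 4` -/
def Big4 [Finite G] (S : Sylow 2 G) (P : Subgroup G) : Prop :=
  ∃ (F : Type) (_ : Field F) (_ : Finite F) (_ : CharP F 2) (k : ℕ), 4 ≤ Nat.card F ∧ 0 < k ∧
    Nonempty (NatKM F (S : Subgroup G) P (zl (S : Subgroup G) P) (cv (S : Subgroup G) P) k)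

section fin

variable [Finite G] {S : Sylow 2 G} {L P A : Subgroup G}

theorem two2_or (h : ConclM (S : Subgroup G) P) : Two2 S P ∨ Big4 S P := by
  rcases h with ⟨F, _, _, _, k, hk, hM⟩ | ⟨k, m, hk, hm, hM⟩
  · by_cases h4 : 4 ≤ Nat.card F
    · exact Or.inr ⟨F, inferInstance, inferInstance, inferInstance, k, h4, hk, hM⟩
    · left; left
      refine ⟨F, inferInstance, inferInstance, k, ?_, hk, hM⟩
      have hf : Fact (Nat.Prime 2) := ⟨Nat.prime_two⟩
      have hA : IsPGroup 2 (Multiplicative F) := by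
        intro x
        refine ⟨1, ?_⟩
        have : (2 : ℕ) • (Multiplicative.toAdd x) = 0 := by
          rw [two_nsmul]; exact CharTwo.add_self_eq_zero _
        rw [pow_one]
        exact congrArg Multiplicative.ofAdd this
      obtain ⟨n, hn⟩ := IsPGroup.iff_card.1 hA
      have hn' : Nat.card F = 2 ^ n := hn
      have h1 : 1 < Nat.card F := Finite.one_lt_card
      have h2 : n < 2 := by
        by_contra hcon
        push Not at hcon
        have : 2 ^ 2 ≤ 2 ^ n := Nat.pow_le_pow_right (by norm_num) hcon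
        omega
      have h3 : n ≠ 0 := by
        rintro rfl
        rw [hn', pow_zero] at h1
        omega
      have h4 : n = 1 := by omega
      rw [hn', h4, pow_one]
  · exact Or.inl (Or.inr ⟨k, m, hk, hm, hM⟩)

/-- an offender `A ≤ S` on `V_P` contains a transvection on `V_P` -/
theorem tv_par (hG : IsCharacteristicTwoType G) (hP : IsParS (S : Subgroup G) P) (h2 : Two2 S P)
    (hA : A ≤ (S : Subgroup G)) (hoff : OffM (zl (S : Subgroup G) P) A) :
    ∃ t ∈ A, ∃ c ∈ zl (S : Subgroup G) P, c ≠ 1 ∧ Tv (zl (S : Subgroup G) P) c t ∧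
      t ∉ centralizer (zl (S : Subgroup G) P : Set G) := by
  rcases h2 with ⟨F, _, _, k, hF, hk, ⟨M⟩⟩ | ⟨k, m, hk, hm, ⟨M⟩⟩
  · exact tv_nat hG hP M hk hF hA hoff
  · exact tv_sym hG hP M hk hm hA hoff

/-- **The transvection** on `U = zl S L`. -/
theorem GOne.tv (hG : IsCharacteristicTwoType G) (h : GOne S L P A) (h2 : Two2 S P) :
    ∃ t ∈ A, ∃ c ∈ zl (S : Subgroup G) P, c ≠ 1 ∧ Tv (zl (S : Subgroup G) L) c t ∧
      t ∉ centralizer (zl (S : Subgroup G) L : Set G) := by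
  obtain ⟨t, ht, c, hc, hc1, htv, hn⟩ := tv_par hG h.par h2 h.AS h.offP
  exact ⟨t, ht, c, hc, hc1, h.tv_of_tv ht hc htv, h.not_cent hn⟩

/-- **The case split**: a transvection on `U = zl S L` in `S`, or a `P` of type `q ≥ 4`. -/
theorem tv_or (hc : IsCharacteristicTwoType G) (hL : IsLoc (S : Subgroup G) L)
    (hgen : L ≤ sSup {P | IsParS (S : Subgroup G) P ∧ P ≤ L})
    (hoff : ∃ A ≤ L, OffM (zl (S : Subgroup G) L) A) :
    (∃ t ∈ (S : Subgroup G), ∃ c ∈ zl (S : Subgroup G) L, c ≠ 1 ∧ Tv (zl (S : Subgroup G) L) c t ∧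
      t ∉ centralizer (zl (S : Subgroup G) L : Set G)) ∨ ∃ P A, GOne S L P A ∧ Big4 S P := by
  obtain ⟨P, A, h⟩ := exists_gOne hc hL hgen hoff
  rcases two2_or h.concl with h2 | h4
  · left
    obtain ⟨t, ht, c, hc', hc1, htv, hn⟩ := h.tv hc h2
    exact ⟨t, h.AS ht, c, h.VU hc', hc1, htv, hn⟩
  · exact Or.inr ⟨P, A, h, h4⟩

/-- (G1) for every `R ∈ P*(S)`, `R ≤ L`, whose line is moved by an optimal `A ≤ S`. -/
theorem gOne_of_opt (hc : IsCharacteristicTwoType G) {R : Subgroup G} (hR : IsParS (S : Subgroup G) R)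
    (hRL : R ≤ L) (hcomm : zl (S : Subgroup G) L ≤ centralizer (zl (S : Subgroup G) L : Set G))
    (hno : NoOverM (zl (S : Subgroup G) L) L) (hA : A ≤ (S : Subgroup G))
    (h : Star.Opt (zl (S : Subgroup G) L) A) (hne : ¬ A ≤ centralizer (zl (S : Subgroup G) R : Set G)) :
    GOne S L R A := by
  have hVU : zl (S : Subgroup G) R ≤ zl (S : Subgroup G) L := Star.zl_mono _ hRL
  have hff : OffM (zl (S : Subgroup G) R) A → NoOverM (zl (S : Subgroup G) R) R ∧ ConclM (S : Subgroup G) R :=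
    fun ho => FFBr.ffthmM G (S : Subgroup G) R (syl_of_sylow S hR.le) hR.toIsMinPar
      (hR.isLoc.char2 S hc) ⟨A, hA.trans hR.le, ho⟩
  obtain ⟨h1, h2, h3, h4⟩ := h.exact (P := R) hcomm hVU hne (hA.trans hR.le) fun ho => (hff ho).1
  refine ⟨hR, hRL, hA, hcomm, hno, ⟨h.toElemM, h.ne, ?_⟩, h1, h2, (hff h1).2, h3⟩
  rw [FFThm.relIndex_le_iff, h4]

/-! ### Box R -/

/-- **Some `A ≤ S` is an offender on `V*`.** -/
theorem ffMod_of (B : RB S) (hrc : ∃ z ∈ zc (S : Subgroup G), ∃ P ∈ FZ (S : Subgroup G) z,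
    ¬ P ≤ normalizer (bang (S : Subgroup G) : Set G)) : FFMod (S : Subgroup G) (MZ (S : Subgroup G)) := by
  by_contra hn
  have hG := B.ctx
  have hm := B.data.noff
  obtain ⟨z, hz, P, hP, hPn⟩ := hrc
  have hSW : (S : Subgroup G) ≤ normalizer (zl (S : Subgroup G) (MZ (S : Subgroup G)) : Set G) :=
    (S_le_MZ hG B.full).trans (MinSimple.VModule.le_normalizer_zl _ _)
  have hN : NN (S : Subgroup G) (zl (S : Subgroup G) (MZ (S : Subgroup G))) :=
    { le := le_of_le_normalizer S (zl_MZ_isPGroup hG hm) hSW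
      norm := hSW
      comm := zl_MZ_comm hG hm
      sq := zl_MZ_sq hG.char2 hm
      nff := fun A hA ho => hn ⟨A, hA, ho⟩ }
  exact hPn (NO3b.Bang.le_normalizer_bang_of_cent hN (le_norm_cs hz hP))

/-- **(G1)**, `L = MZ S`, `U = V* = Wd S`. -/
theorem g1_of (B : RB S) (hrc : ∃ z ∈ zc (S : Subgroup G), ∃ P ∈ FZ (S : Subgroup G) z,
    ¬ P ≤ normalizer (bang (S : Subgroup G) : Set G)) : ∃ P A, GOne S (MZ (S : Subgroup G)) P A := by
  obtain ⟨A₀, hA₀, hoff₀⟩ := ffMod_of B hrc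
  exact exists_gOne B.ctx.char2 (isLoc_MZ B.ctx B.full B.data.noff)
    (sSup_le fun _ hP => le_sSup ⟨hP, Merge.le_MZ hP⟩) ⟨A₀, hA₀.trans (S_le_MZ B.ctx B.full), hoff₀⟩

/-- the hypothesis of `g1_of` from (RC') -/
theorem rc_ex (B : RB S) (hrc : ∀ z ∈ zc (S : Subgroup G), z ≠ 1 →
    ∃ P ∈ FZ (S : Subgroup G) z, ¬ P ≤ normalizer (bang (S : Subgroup G) : Set G)) :
    ∃ z ∈ zc (S : Subgroup G), ∃ P ∈ FZ (S : Subgroup G) z,
      ¬ P ≤ normalizer (bang (S : Subgroup G) : Set G) := by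
  have hne : zc (S : Subgroup G) ≠ ⊥ := MinSimple.Basic.zc_ne_bot S.isPGroup' (B.ctx.sylow_ne_bot S)
  obtain ⟨⟨z, hz⟩, hz1'⟩ := (Subgroup.ne_bot_iff_exists_ne_one).1 hne
  obtain ⟨P, hP, hPn⟩ := hrc z hz fun h3 => hz1' (Subtype.ext h3)
  exact ⟨z, hz, P, hP, hPn⟩

/-- **(G1)** in box R. -/
theorem g1 (B : RB S) (hrc : ∀ z ∈ zc (S : Subgroup G), z ≠ 1 →
    ∃ P ∈ FZ (S : Subgroup G) z, ¬ P ≤ normalizer (bang (S : Subgroup G) : Set G)) :
    ∃ P A, GOne S (MZ (S : Subgroup G)) P A := g1_of B (rc_ex B hrc)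

end fin

end Cfsg.Agent.Omega.NOThreeL.RRed

end

section


/-!
# NO-3L, box R, input (D) of the class module theorem (#24537, helper241), text: helper245

`V = zl S L`, `GOne S L P A` (BlkG1).

* `cover_nat`, `cover_sym` : a `P`-invariant `W ≤ V_P` is in `C_{V_P}(O²(P))` or covers `V_P / C_{V_P}(O²(P))`;
* `cent_nat`, `cent_sym` : an offender `A ≤ S` on `V_P` which centralises `v` modulo `C_{V_P}(O²(P))` centralises `v`;
* **`GOne.dich`** : for every `P`-invariant `U ≤ V`: `[U, A] = 1` or `V = U C_V(A)`;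
* `GOne.mv` : `A` moves `⟨z^L⟩` for `z ∈ Z` moved by `P`;
* `Mx V A` : `A` is a minimal exact offender; `gOne_of_mx`, **`Mx.dich`** : for every `L`-invariant `U ≤ V`:
  `[U, A] = 1` or `V = U C_V(A)`.
-/

set_option autoImplicit false
set_option linter.unusedSectionVars false

namespace Cfsg.Agent.Omega.NOThreeL.RRed

open Subgroup Pointwise Cfsg Cfsg.Agent.ZN Cfsg.Agent.Omega.MinPar Cfsg.Agent.Omega.Frame
open Cfsg.Agent.Omega.FrameNOFF
open Cfsg.Agent.Omega.FFThm (ElemM OffM NoOverM ConclM NatKM SymKM NatK SymK ActsSL ActsSym)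
open Cfsg.Agent.Omega.FrameFF (cv)
open Cfsg.Agent.ZN.ChoiceBase (cj)
open Cfsg.Agent.ZN.CaseTwo (syl_of_sylow)
open Cfsg.Agent.Omega.NatPair (ap exists_ap)
open Cfsg.Agent.Lib.SL2Mat

universe u

variable {G : Type u} [Group G]

/-- `|K| = |L| |X|` for a homomorphism of `K` onto `X` with kernel `L`. -/
theorem card_map {X : Type*} [AddGroup X] {K L : Subgroup G} (hLK : L ≤ K) (f : G → X)
    (hf : ∀ v ∈ K, ∀ w ∈ K, f (v * w) = f v + f w) (hs : ∀ c, ∃ v ∈ K, f v = c)
    (hk : ∀ v ∈ K, f v = 0 ↔ v ∈ L) : Nat.card K = Nat.card L * Nat.card X := by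
  let φ : K →* Multiplicative X := MonoidHom.mk' (fun v => Multiplicative.ofAdd (f v)) (by
    rintro ⟨v, hv⟩ ⟨w, hw⟩
    exact congrArg Multiplicative.ofAdd (hf v hv w hw))
  have hφ : Function.Surjective φ := by
    intro c
    obtain ⟨v, hv, h⟩ := hs (Multiplicative.toAdd c)
    exact ⟨⟨v, hv⟩, congrArg Multiplicative.ofAdd h⟩
  have h1 : Nat.card φ.ker * Nat.card φ.range = Nat.card K := by
    rw [← Subgroup.index_ker, Subgroup.card_mul_index]
  have h2 : Nat.card φ.range = Nat.card X := by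
    rw [MonoidHom.range_eq_top.2 hφ, Subgroup.card_top]
    rfl
  have h3 : Nat.card φ.ker = Nat.card L := by
    refine Nat.card_congr ⟨fun v => ⟨v.1.1, (hk v.1.1 v.1.2).1 ?_⟩, fun z => ⟨⟨z.1, hLK z.2⟩, ?_⟩, fun _ => rfl,
      fun _ => rfl⟩
    · exact congrArg Multiplicative.toAdd (MonoidHom.mem_ker.1 v.2)
    · exact MonoidHom.mem_ker.2 (congrArg Multiplicative.ofAdd ((hk z.1 (hLK z.2)).2 z.2))
  rw [← h1, h2, h3]

/-- the image of `W` under an additive map -/
def img {X : Type*} [AddGroup X] (W : Subgroup G) (e : G → X)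
    (hmul : ∀ v ∈ W, ∀ w ∈ W, e (v * w) = e v + e w) : AddSubgroup X where
  carrier := {x | ∃ w ∈ W, e w = x}
  zero_mem' := by
    refine ⟨1, one_mem _, ?_⟩
    have := hmul 1 (one_mem _) 1 (one_mem _)
    rw [one_mul] at this
    simpa using this
  add_mem' := by
    rintro _ _ ⟨v, hv, rfl⟩ ⟨w, hw, rfl⟩
    exact ⟨v * w, mul_mem hv hw, hmul v hv w hw⟩
  neg_mem' := by
    rintro _ ⟨v, hv, rfl⟩
    refine ⟨v⁻¹, inv_mem hv, ?_⟩
    have h0 : e 1 = 0 := by
      have := hmul 1 (one_mem _) 1 (one_mem _)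
      rw [one_mul] at this
      simpa using this
    have h2 := hmul v hv v⁻¹ (inv_mem hv)
    rw [mul_inv_cancel, h0] at h2
    exact (neg_eq_of_add_eq_zero_right h2.symm).symm

theorem mem_img {X : Type*} [AddGroup X] {W : Subgroup G} {e : G → X}
    {hmul : ∀ v ∈ W, ∀ w ∈ W, e (v * w) = e v + e w} {x : X} : x ∈ img W e hmul ↔ ∃ w ∈ W, e w = x := Iff.rfl

theorem conj_div {W : Subgroup G} {P : Subgroup G} (hPW : P ≤ normalizer (W : Set G)) {g w : G} (hg : g ∈ P)
    (hw : w ∈ W) : g * w * g⁻¹ ∈ W := (mem_normalizer_iff.1 (hPW hg) w).1 hw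

/-! ### Natural modules -/

section nat

variable {F : Type} [Field F] {T P V D W : Subgroup G} {k : ℕ}

theorem e_sub_nat (M : NatK F T P V D k) (hW : W ≤ V) {v w : G} (hv : v ∈ W) (hw : w ∈ W) :
    M.e (v * w⁻¹) = M.e v - M.e w := by
  have h1 := M.mul (v * w⁻¹) (hW (mul_mem hv (inv_mem hw))) w (hW hw)
  rw [inv_mul_cancel_right] at h1
  rw [h1, add_sub_cancel_right]

/-- **A `P`-invariant `W ≤ V`, `W ≰ D`, covers `V / D`.** -/
theorem cover_nat (M : NatK F T P V D k) (hTP : T ≤ P) (hW : W ≤ V) (hPW : P ≤ normalizer (W : Set G))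
    (hD : ¬ W ≤ D) (x : Fin k → Fin 2 → F) : ∃ w ∈ W, M.e w = x := by
  classical
  have hmul : ∀ v ∈ W, ∀ w ∈ W, M.e (v * w) = M.e v + M.e w := fun v hv w hw => M.mul v (hW hv) w (hW hw)
  set E := img W M.e hmul with hE
  -- one block
  have key : ∀ j, (∃ w ∈ W, M.e w j ≠ 0) → ∀ y : Fin 2 → F, (Pi.single j y : Fin k → Fin 2 → F) ∈ E := by
    rintro j ⟨w, hw, hwj⟩ y
    by_cases hy : y = 0
    · rw [hy, Pi.single_zero]; exact zero_mem _
    -- a vector supported on `j`
    obtain ⟨w', hw', x', hx', hew'⟩ : ∃ w' ∈ W, ∃ x' : Fin 2 → F, x' ≠ 0 ∧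
        M.e w' = (Pi.single j x' : Fin k → Fin 2 → F) := by
      obtain ⟨y₀, hy₀, hne⟩ : ∃ y₀ : Fin 2 → F, y₀ ≠ 0 ∧ y₀ ≠ M.e w j := by
        by_cases h1 : M.e w j = ![1, 0]
        · refine ⟨![0, 1], fun h => ?_, fun h => ?_⟩
          · exact one_ne_zero (congrFun h 1)
          · rw [h1] at h
            exact zero_ne_one (congrFun h 0)
        · exact ⟨![1, 0], fun h => one_ne_zero (congrFun h 0), fun h => h1 h.symm⟩
      obtain ⟨B, hB⟩ := exists_ap hwj hy₀
      obtain ⟨g, hg, hact⟩ := M.lift (Function.update 1 j B)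
      refine ⟨g * w * g⁻¹ * w⁻¹, mul_mem (conj_div hPW hg hw) (inv_mem hw), y₀ - M.e w j, sub_ne_zero.2 hne, ?_⟩
      rw [e_sub_nat M hW (conj_div hPW hg hw) hw]
      funext i
      rw [Pi.sub_apply, hact.1 w (hW hw) i]
      by_cases hi : i = j
      · subst hi
        rw [Function.update_self, hB, Pi.single_eq_same]
      · rw [Function.update_of_ne hi, Pi.one_apply, NatPair.ap_one, sub_self, Pi.single_eq_of_ne hi]
    obtain ⟨B, hB⟩ := exists_ap hx' hy
    obtain ⟨g, hg, hact⟩ := M.lift (Function.update 1 j B)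
    refine ⟨g * w' * g⁻¹, conj_div hPW hg hw', ?_⟩
    funext i
    rw [hact.1 w' (hW hw') i, hew']
    by_cases hi : i = j
    · subst hi
      rw [Function.update_self, Pi.single_eq_same, Pi.single_eq_same, hB]
    · rw [Function.update_of_ne hi, Pi.one_apply, NatPair.ap_one, Pi.single_eq_of_ne hi, Pi.single_eq_of_ne hi]
  -- all blocks
  obtain ⟨w, hw, hwD⟩ := SetLike.not_le_iff_exists.1 hD
  have hw0 : M.e w ≠ 0 := fun h => hwD ((M.ker w (hW hw)).1 h)
  obtain ⟨i, hi⟩ := Function.ne_iff.1 hw0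
  have hall : ∀ j, ∃ w ∈ W, M.e w j ≠ 0 := by
    intro j
    obtain ⟨t, ht, h⟩ := M.trans i j
    exact ⟨t * w * t⁻¹, conj_div hPW (hTP ht) hw, fun h0 => hi ((h w (hW hw)).1 h0)⟩
  have h1 : x ∈ E := by
    rw [← Finset.univ_sum_single x]
    exact sum_mem fun j _ => key j (hall j) (x j)
  exact h1

end nat

section natS

variable [Finite G] {F : Type} [Field F] [Finite F] [CharP F 2] {S : Sylow 2 G} {P A : Subgroup G} {k : ℕ}

/-- **An offender which centralises `v` modulo `D` centralises `v`.** -/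
theorem cent_nat (hG : IsCharacteristicTwoType G) (hP : IsParS (S : Subgroup G) P)
    (M : NatKM F (S : Subgroup G) P (zl (S : Subgroup G) P) (cv (S : Subgroup G) P) k) (hk : 0 < k)
    (hA : A ≤ (S : Subgroup G)) (hoff : OffM (zl (S : Subgroup G) P) A) {v : G}
    (hv : v ∈ zl (S : Subgroup G) P) (h : ∀ a ∈ A, M.e (a * v * a⁻¹) = M.e v) : ∀ a ∈ A, a * v = v * a := by
  classical
  have hSP := hP.le
  have hn : P ≤ normalizer (zl (S : Subgroup G) P : Set G) := MinSimple.VModule.le_normalizer_zl _ _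
  obtain ⟨I, hI1, hI2⟩ := M.offM A hA hoff
  have hA1 : ∀ i : I, ∃ w ∈ zl (S : Subgroup G) P, M.e w = Pi.single (i : Fin k) ![0, 1] := fun i => M.surj _
  choose w hw hew using hA1
  -- the parameters of `a`
  set g : G → (I → F) := fun a i => M.e (a * w i * a⁻¹) (i : Fin k) 0 with hg
  have hgb : ∀ (a : G) (b : Fin k → F), (ActsSL M.e (zl (S : Subgroup G) P) (cv (S : Subgroup G) P) a
      fun i => up (b i)) → g a = fun i : I => b i := by
    intro a b hb
    funext i
    change M.e (a * w i * a⁻¹) (i : Fin k) 0 = b i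
    rw [hb.1 (w i) (hw i), VF.Nat.ap_up_0, hew, Pi.single_eq_same]
    simp
  have hgm : ∀ a ∈ A, ∀ a' ∈ A, g (a * a') = g a + g a' := by
    intro a ha a' ha'
    obtain ⟨b, -, hb⟩ := hI1 a ha
    obtain ⟨b', -, hb'⟩ := hI1 a' ha'
    have h4 : ActsSL M.e (zl (S : Subgroup G) P) (cv (S : Subgroup G) P) (a * a') fun i => up ((b + b') i) := by
      refine ⟨fun v hv j => ?_, fun d hd => ?_⟩
      · have e : a * a' * v * (a * a')⁻¹ = a * (a' * v * a'⁻¹) * a⁻¹ := by group
        change _ = ap (up (b j + b' j)) (M.e v j)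
        rw [e, hb.1 _ (conj_div hn (hSP (hA ha')) hv), hb'.1 v hv, ← NatPair.ap_mul, up_mul]
      · rw [mul_assoc, hb'.2 d hd, ← mul_assoc, hb.2 d hd, mul_assoc]
    rw [hgb _ _ h4, hgb a b hb, hgb a' b' hb']
    rfl
  have hg0 : ∀ a ∈ A, g a = 0 ↔ a ∈ A ⊓ centralizer (zl (S : Subgroup G) P : Set G) := by
    intro a ha
    obtain ⟨b, hb0, hb⟩ := hI1 a ha
    rw [hgb a b hb]
    constructor
    · intro h0
      have hbz : b = 0 := by
        funext i
        by_cases hi : i ∈ I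
        · exact congrFun h0 ⟨i, hi⟩
        · exact hb0 i hi
      refine ⟨ha, mem_centralizer_iff.2 fun v hv => ?_⟩
      have hker : a ∈ IId.Cv.kern M.toNatK := by
        refine ⟨hSP (hA ha), fun v hv => ?_⟩
        funext i
        rw [hb.1 v hv i, hbz]
        refine VF.Nat.ext2' ?_ ?_
        · rw [VF.Nat.ap_up_0]; simp
        · rw [VF.Nat.ap_up_1]
      exact (IId.Cv.comm_of_quot hG S hP M.toNatK hk (hA ha) hker v hv).symm
    · rintro ⟨-, h1⟩
      funext i
      have h2 := hb.1 (w i) (hw i) i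
      have h3 : a * w i * a⁻¹ = w i := by
        rw [← mem_centralizer_iff.1 h1 (w i) (hw i), mul_inv_cancel_right]
      rw [h3] at h2
      have h4 := congrFun h2 0
      rw [VF.Nat.ap_up_0, hew, Pi.single_eq_same] at h4
      simp at h4
      exact h4.symm
  have hcA : Nat.card A = Nat.card ↥(A ⊓ centralizer (zl (S : Subgroup G) P : Set G)) * Nat.card (I → F) := by
    refine card_map inf_le_left g hgm ?_ hg0
    intro c
    obtain ⟨a, ha, hb⟩ := hI2 (fun i => if hi : i ∈ I then c ⟨i, hi⟩ else 0) (fun i hi => by rw [dif_neg hi])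
    refine ⟨a, ha, ?_⟩
    rw [hgb a _ hb]
    funext i
    simp
  -- the vectors
  let KA : Subgroup G :=
    { carrier := {v | v ∈ zl (S : Subgroup G) P ∧ ∀ i : I, M.e v (i : Fin k) 1 = 0}
      one_mem' := ⟨one_mem _, fun i => by
        rw [(M.ker 1 (one_mem _)).2 (one_mem _)]; rfl⟩
      mul_mem' := by
        rintro x y ⟨hx, hx'⟩ ⟨hy, hy'⟩
        refine ⟨mul_mem hx hy, fun i => ?_⟩
        rw [M.mul x hx y hy, Pi.add_apply, Pi.add_apply, hx', hy', add_zero]
      inv_mem' := by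
        rintro x ⟨hx, hx'⟩
        refine ⟨inv_mem hx, fun i => ?_⟩
        have h1 := M.mul x hx x⁻¹ (inv_mem hx)
        rw [mul_inv_cancel, (M.ker 1 (one_mem _)).2 (one_mem _)] at h1
        have h2 := congrFun (congrFun h1 (i : Fin k)) 1
        rw [Pi.add_apply, Pi.add_apply, hx', zero_add] at h2
        exact h2.symm }
  have hKV : KA ≤ zl (S : Subgroup G) P := fun x hx => hx.1
  have hcV : Nat.card (zl (S : Subgroup G) P) = Nat.card KA * Nat.card (I → F) := by
    refine card_map hKV (fun v i => M.e v (i : Fin k) 1) ?_ ?_ ?_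
    · intro v hv w hw
      funext i
      rw [M.mul v hv w hw]
      rfl
    · intro c
      obtain ⟨v, hv, he⟩ := M.surj fun i => if hi : i ∈ I then ![0, c ⟨i, hi⟩] else 0
      refine ⟨v, hv, ?_⟩
      funext i
      rw [he]
      simp
    · intro v hv
      constructor
      · intro h0
        exact ⟨hv, fun i => congrFun h0 i⟩
      · rintro ⟨-, h0⟩
        funext i
        exact h0 i
  have hmem : ∀ v ∈ zl (S : Subgroup G) P, (∀ a ∈ A, M.e (a * v * a⁻¹) = M.e v) → v ∈ KA := by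
    intro v hv h
    refine ⟨hv, fun i => ?_⟩
    obtain ⟨a, ha, hb⟩ := hI2 (Pi.single (i : Fin k) 1)
      (fun j hj => Pi.single_eq_of_ne (fun e => hj (by rw [e]; exact i.2)) _)
    have h1 := hb.1 v hv i
    rw [h a ha] at h1
    have h2 := congrFun h1 0
    rw [VF.Nat.ap_up_0, Pi.single_eq_same, one_mul] at h2
    exact left_eq_add.1 h2
  have hCK : zl (S : Subgroup G) P ⊓ centralizer (A : Set G) ≤ KA := by
    intro v hv
    refine hmem v hv.1 fun a ha => ?_
    rw [mem_centralizer_iff.1 hv.2 a ha, mul_inv_cancel_right]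
  have hle := hoff.le
  rw [hcA, hcV] at hle
  have p1 : 0 < Nat.card ↥(A ⊓ centralizer (zl (S : Subgroup G) P : Set G)) := Nat.card_pos
  have p2 : 0 < Nat.card (I → F) := Nat.card_pos
  have hKc : Nat.card KA ≤ Nat.card ↥(zl (S : Subgroup G) P ⊓ centralizer (A : Set G)) := by
    have h2 : (Nat.card ↥(A ⊓ centralizer (zl (S : Subgroup G) P : Set G)) * Nat.card (I → F)) * Nat.card KA ≤
        (Nat.card ↥(A ⊓ centralizer (zl (S : Subgroup G) P : Set G)) * Nat.card (I → F)) *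
          Nat.card ↥(zl (S : Subgroup G) P ⊓ centralizer (A : Set G)) := by
      calc _ = Nat.card KA * Nat.card (I → F) *
          Nat.card ↥(A ⊓ centralizer (zl (S : Subgroup G) P : Set G)) := by ring
        _ ≤ _ := hle
    exact Nat.le_of_mul_le_mul_left h2 (Nat.mul_pos p1 p2)
  have heq := Subgroup.eq_of_le_of_card_ge hCK hKc
  have hvK := hmem v hv h
  rw [← heq] at hvK
  intro a ha
  exact mem_centralizer_iff.1 hvK.2 a ha

end natS

/-! ### Even-subset modules -/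

section sym

variable {T P V D W : Subgroup G} {k m : ℕ}

theorem e_sub_sym (M : SymK T P V D k m) (hW : W ≤ V) {v w : G} (hv : v ∈ W) (hw : w ∈ W) :
    M.e (v * w⁻¹) = M.e v - M.e w := by
  have h1 := M.mul (v * w⁻¹) (hW (mul_mem hv (inv_mem hw))) w (hW hw)
  rw [inv_mul_cancel_right] at h1
  rw [h1, add_sub_cancel_right]

/-- **A `P`-invariant `W ≤ V`, `W ≰ D`, covers `V / D`.** -/
theorem cover_sym (M : SymK T P V D k m) (hTP : T ≤ P) (hm : 1 ≤ m) (hW : W ≤ V)
    (hPW : P ≤ normalizer (W : Set G)) (hD : ¬ W ≤ D) {v : G} (hv : v ∈ V) : ∃ w ∈ W, M.e w = M.e v := by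
  classical
  have hmul : ∀ v ∈ W, ∀ w ∈ W, M.e (v * w) = M.e v + M.e w := fun v hv w hw => M.mul v (hW hv) w (hW hw)
  set E := img W M.e hmul with hE
  -- one block
  have key : ∀ j, (∃ w ∈ W, M.e w j ≠ 0) → ∀ x y, x ≠ y →
      (Pi.single j (Pi.single x 1 + Pi.single y 1) : Fin k → Fin (2 ^ m + 1) → ZMod 2) ∈ E := by
    rintro j ⟨w, hw, hwj⟩ x y hxy
    -- the vector of a transposition
    obtain ⟨w', hw', x₁, y₁, hne₁, hew'⟩ : ∃ w' ∈ W, ∃ x₁ y₁, x₁ ≠ y₁ ∧
        M.e w' = (Pi.single j (Pi.single x₁ 1 + Pi.single y₁ 1) : Fin k → Fin (2 ^ m + 1) → ZMod 2) := by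
      obtain ⟨x₁, y₁, h1⟩ : ∃ x₁ y₁, M.e w j x₁ ≠ M.e w j y₁ := by
        by_contra hcon
        push Not at hcon
        have h2 : ∀ x, M.e w j x = M.e w j 0 := fun x => hcon x 0
        have h3 := M.even w (hW hw) j
        rw [Finset.sum_congr rfl fun x _ => h2 x, Finset.sum_const, Finset.card_univ, Fintype.card_fin,
          nsmul_eq_mul] at h3
        have h4 : ((2 ^ m + 1 : ℕ) : ZMod 2) = 1 := by
          have h5 : ((2 : ℕ) : ZMod 2) = 0 := by decide
          rw [Nat.cast_add, Nat.cast_pow, h5, zero_pow (by omega), Nat.cast_one, zero_add]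
        rw [h4, one_mul] at h3
        apply hwj
        funext x
        rw [h2 x, h3]; rfl
      have hne : x₁ ≠ y₁ := fun e => h1 (by rw [e])
      obtain ⟨g, hg, hact, -⟩ := M.lift (Function.update 1 j (Equiv.swap x₁ y₁))
      refine ⟨g * w * g⁻¹ * w⁻¹, mul_mem (conj_div hPW hg hw) (inv_mem hw), x₁, y₁, hne, ?_⟩
      rw [e_sub_sym M hW (conj_div hPW hg hw) hw]
      funext i z
      rw [Pi.sub_apply, Pi.sub_apply]
      by_cases hi : i = j
      · subst hi
        have h2 := hact w (hW hw) i (Equiv.swap x₁ y₁ z)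
        rw [Function.update_self, Equiv.swap_apply_self] at h2
        have h3 : M.e (g * w * g⁻¹) i z = M.e w i (Equiv.swap x₁ y₁ z) := h2
        rw [h3, swp_of_ne (M.e w i) hne h1, Pi.single_eq_same, Pi.add_apply, add_sub_cancel_left]
      · have h2 := hact w (hW hw) i z
        rw [Function.update_of_ne hi] at h2
        have h3 : M.e (g * w * g⁻¹) i z = M.e w i z := h2
        rw [h3, sub_self, Pi.single_eq_of_ne hi]; rfl
    -- move it
    obtain ⟨π, hπ1, hπ2⟩ : ∃ π : Equiv.Perm (Fin (2 ^ m + 1)), π x₁ = x ∧ π y₁ = y := by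
      refine ⟨Equiv.swap (Equiv.swap x₁ x y₁) y * Equiv.swap x₁ x, ?_, ?_⟩
      · rw [Equiv.Perm.mul_apply, Equiv.swap_apply_left]
        refine Equiv.swap_apply_of_ne_of_ne (fun e => ?_) hxy
        have h2 : Equiv.swap x₁ x x₁ = Equiv.swap x₁ x y₁ := by rw [Equiv.swap_apply_left]; exact e
        exact hne₁ ((Equiv.swap x₁ x).injective h2)
      · rw [Equiv.Perm.mul_apply, Equiv.swap_apply_left]
    obtain ⟨g, hg, hact, -⟩ := M.lift (Function.update 1 j π)
    refine ⟨g * w' * g⁻¹, conj_div hPW hg hw', ?_⟩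
    funext i z
    by_cases hi : i = j
    · subst hi
      have h2 := hact w' (hW hw') i (π.symm z)
      rw [Function.update_self, Equiv.apply_symm_apply] at h2
      have h3 : M.e (g * w' * g⁻¹) i z = M.e w' i (π.symm z) := h2
      rw [h3, hew', Pi.single_eq_same, Pi.single_eq_same, Pi.add_apply, Pi.add_apply]
      have e1 : (Pi.single x₁ 1 : Fin (2 ^ m + 1) → ZMod 2) (π.symm z) = (Pi.single x 1 : _ → ZMod 2) z := by
        by_cases hz : z = x
        · rw [hz, Pi.single_eq_same, ← hπ1, Equiv.symm_apply_apply, Pi.single_eq_same]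
        · rw [Pi.single_eq_of_ne hz, Pi.single_eq_of_ne]
          intro e
          exact hz (by rw [← hπ1, ← e, Equiv.apply_symm_apply])
      have e2 : (Pi.single y₁ 1 : Fin (2 ^ m + 1) → ZMod 2) (π.symm z) = (Pi.single y 1 : _ → ZMod 2) z := by
        by_cases hz : z = y
        · rw [hz, Pi.single_eq_same, ← hπ2, Equiv.symm_apply_apply, Pi.single_eq_same]
        · rw [Pi.single_eq_of_ne hz, Pi.single_eq_of_ne]
          intro e
          exact hz (by rw [← hπ2, ← e, Equiv.apply_symm_apply])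
      rw [e1, e2]
    · have h2 := hact w' (hW hw') i z
      rw [Function.update_of_ne hi] at h2
      have h3 : M.e (g * w' * g⁻¹) i z = M.e w' i z := h2
      rw [h3, hew', Pi.single_eq_of_ne hi, Pi.single_eq_of_ne hi]
  -- all blocks
  obtain ⟨w, hw, hwD⟩ := SetLike.not_le_iff_exists.1 hD
  have hw0 : M.e w ≠ 0 := fun h => hwD ((M.ker w (hW hw)).1 h)
  obtain ⟨i, hi⟩ := Function.ne_iff.1 hw0
  have hall : ∀ j, ∃ w ∈ W, M.e w j ≠ 0 := by
    intro j
    obtain ⟨t, ht, σ, τ, hact, hσ⟩ := M.trans i j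
    refine ⟨t * w * t⁻¹, conj_div hPW (hTP ht) hw, fun h0 => hi ?_⟩
    funext x
    have h2 := hact w (hW hw) i x
    rw [hσ, h0] at h2
    exact h2.symm
  -- all vectors
  have hblk : ∀ j, ∀ y : Fin (2 ^ m + 1) → ZMod 2, ∑ x, y x = 0 →
      (Pi.single j y : Fin k → Fin (2 ^ m + 1) → ZMod 2) ∈ E := by
    intro j y hy
    have h1 : (Pi.single j y : Fin k → Fin (2 ^ m + 1) → ZMod 2) =
        ∑ x, (Pi.single j (y x • (Pi.single x 1 + Pi.single 0 1 : Fin (2 ^ m + 1) → ZMod 2)) :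
          Fin k → Fin (2 ^ m + 1) → ZMod 2) := by
      have h2 : y = ∑ x, y x • (Pi.single x 1 + Pi.single 0 1 : Fin (2 ^ m + 1) → ZMod 2) := by
        funext z
        rw [Finset.sum_apply]
        simp only [Pi.smul_apply, Pi.add_apply, smul_eq_mul, mul_add, Finset.sum_add_distrib]
        rw [← Finset.sum_mul, hy, zero_mul, add_zero]
        rw [Finset.sum_eq_single z]
        · rw [Pi.single_eq_same, mul_one]
        · intro b _ hb
          rw [Pi.single_eq_of_ne (Ne.symm hb), mul_zero]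
        · intro h; exact absurd (Finset.mem_univ z) h
      conv_lhs => rw [h2]
      funext i
      by_cases hi : i = j
      · subst hi
        rw [Pi.single_eq_same, Finset.sum_apply]
        refine Finset.sum_congr rfl fun x _ => ?_
        rw [Pi.single_eq_same]
      · rw [Pi.single_eq_of_ne hi, Finset.sum_apply]
        symm
        exact Finset.sum_eq_zero fun x _ => by rw [Pi.single_eq_of_ne hi]
    rw [h1]
    refine sum_mem fun x _ => ?_
    rcases zmod_eq_or (y x) 0 with h0 | h0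
    · rw [h0, zero_smul, Pi.single_zero]; exact zero_mem _
    · rw [h0, zero_add, one_smul]
      by_cases hx : x = 0
      · have h2 : (Pi.single x 1 + Pi.single 0 1 : Fin (2 ^ m + 1) → ZMod 2) = 0 := by
          rw [hx]
          funext z
          exact CharTwo.add_self_eq_zero _
        rw [h2, Pi.single_zero]; exact zero_mem _
      · exact key j (hall j) x 0 hx
  have h1 : M.e v ∈ E := by
    rw [← Finset.univ_sum_single (M.e v)]
    exact sum_mem fun j _ => hblk j _ (M.even v hv j)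
  exact h1

end sym

section symS

variable [Finite G] {S : Sylow 2 G} {P A : Subgroup G} {k m : ℕ}

/-- **An offender which centralises `v` modulo `D` centralises `v`.** -/
theorem cent_sym (hG : IsCharacteristicTwoType G) (hP : IsParS (S : Subgroup G) P)
    (M : SymKM (S : Subgroup G) P (zl (S : Subgroup G) P) (cv (S : Subgroup G) P) k m) (hk : 0 < k)
    (hm : 2 ≤ m) {v : G} (hv : v ∈ zl (S : Subgroup G) P) {a : G} (ha : a ∈ P)
    (h : M.e (a * v * a⁻¹) = M.e v) : a * v = v * a := by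
  obtain ⟨hDc, N, hNV, hsup, hinf, hNn⟩ := IId.SymWrD.exists_compl M.toSymK hk (by omega) (syl_of_sylow S hP.le)
    (hP.isLoc.char2 S hG)
  have hVc : ∀ x ∈ zl (S : Subgroup G) P, ∀ y ∈ zl (S : Subgroup G) P, x * y = y * x := fun x hx y hy =>
    MinSimple.VModule.zc_comm _ _ (hP.isLoc.zl_le S hG hx) _ (hP.isLoc.zl_le S hG hy)
  have hDV : cv (S : Subgroup G) P ≤ zl (S : Subgroup G) P := inf_le_left
  rw [← hsup] at hv
  obtain ⟨n, hn, d, hd, rfl⟩ := F4.Split.mem_sup_comm (fun x hx y hy => hVc x (hNV hx) y (hDV hy)) hv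
  have h3 : a * n * a⁻¹ ∈ N := (mem_normalizer_iff.1 (hNn ha) n).1 hn
  have e1 : a * (n * d) * a⁻¹ = a * n * a⁻¹ * d := by
    calc a * (n * d) * a⁻¹ = a * n * a⁻¹ * (a * d) * a⁻¹ := by group
      _ = _ := by rw [hDc a ha d hd]; group
  have e0 : M.e d = 0 := (M.ker d (hDV hd)).2 hd
  rw [e1, M.mul _ (hNV h3) d (hDV hd), M.mul n (hNV hn) d (hDV hd), e0, add_zero, add_zero] at h
  have h5 : a * n * a⁻¹ * n⁻¹ = 1 := by
    have h6 : M.e (a * n * a⁻¹ * n⁻¹) = 0 := by
      rw [e_sub_sym M.toSymK hNV h3 hn, h, sub_self]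
    have h7 : a * n * a⁻¹ * n⁻¹ ∈ N ⊓ cv (S : Subgroup G) P :=
      mem_inf.2 ⟨mul_mem h3 (inv_mem hn), (M.ker _ (hNV (mul_mem h3 (inv_mem hn)))).1 h6⟩
    rwa [hinf, mem_bot] at h7
  have h4 : a * n = n * a := by
    have := mul_inv_eq_one.1 h5
    rwa [mul_inv_eq_iff_eq_mul] at this
  rw [← mul_assoc, h4, mul_assoc, mul_assoc, hDc a ha d hd]

end symS

/-! ### (D) -/

section fin

variable [Finite G] {S : Sylow 2 G} {L P A : Subgroup G}

/-- `W ≤ V_P` normalised by `P`: `V_P = W C_{V_P}(A)`, or the `v ∈ V_P` with `[v, A] ≤ W` are centralised by `A`. -/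
theorem par_dich (hG : IsCharacteristicTwoType G) (hP : IsParS (S : Subgroup G) P) (hc : ConclM (S : Subgroup G) P)
    (hA : A ≤ (S : Subgroup G)) (hoff : OffM (zl (S : Subgroup G) P) A) {W : Subgroup G}
    (hW : W ≤ zl (S : Subgroup G) P) (hPW : P ≤ normalizer (W : Set G)) :
    zl (S : Subgroup G) P ≤ W ⊔ (zl (S : Subgroup G) P ⊓ centralizer (A : Set G)) ∨
      ∀ v ∈ zl (S : Subgroup G) P, (∀ a ∈ A, a * v * a⁻¹ * v⁻¹ ∈ W) → ∀ a ∈ A, a * v = v * a := by
  have hSP := hP.le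
  have hn : P ≤ normalizer (zl (S : Subgroup G) P : Set G) := MinSimple.VModule.le_normalizer_zl _ _
  have hDV : cv (S : Subgroup G) P ≤ zl (S : Subgroup G) P := inf_le_left
  -- from a covering `W` to the first alternative
  have fin : (∀ a ∈ A, ∀ d ∈ cv (S : Subgroup G) P, a * d = d * a) →
      (∀ v ∈ zl (S : Subgroup G) P, ∃ w ∈ W, w⁻¹ * v ∈ cv (S : Subgroup G) P) →
      zl (S : Subgroup G) P ≤ W ⊔ (zl (S : Subgroup G) P ⊓ centralizer (A : Set G)) := by
    intro hDc hcov v hv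
    obtain ⟨w, hw, hd⟩ := hcov v hv
    have e : v = w * (w⁻¹ * v) := by group
    rw [e]
    refine mul_mem_sup hw ⟨hDV hd, mem_centralizer_iff.2 fun a ha => hDc a ha _ hd⟩
  rcases hc with ⟨F, _, _, _, k, hk, ⟨M⟩⟩ | ⟨k, m, hk, hm, ⟨M⟩⟩
  · by_cases hWD : W ≤ cv (S : Subgroup G) P
    · right
      intro v hv h
      refine cent_nat hG hP M hk hA hoff hv fun a ha => ?_
      have h1 : a * v * a⁻¹ ∈ zl (S : Subgroup G) P := conj_div hn (hSP (hA ha)) hv
      have h2 := (M.ker _ (hDV (hWD (h a ha)))).2 (hWD (h a ha))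
      rw [e_sub_nat M.toNatK le_rfl h1 hv] at h2
      exact sub_eq_zero.1 h2
    · left
      obtain ⟨I, hI1, -⟩ := M.offM A hA hoff
      refine fin (fun a ha d hd => ?_) fun v hv => ?_
      · obtain ⟨b, -, hb⟩ := hI1 a ha
        exact hb.2 d hd
      · obtain ⟨w, hw, he⟩ := cover_nat M.toNatK hSP hW hPW hWD (M.e v)
        refine ⟨w, hw, (M.ker _ (mul_mem (inv_mem (hW hw)) hv)).1 ?_⟩
        have h1 := M.mul w (hW hw) (w⁻¹ * v) (mul_mem (inv_mem (hW hw)) hv)
        rw [mul_inv_cancel_left, he] at h1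
        exact left_eq_add.1 h1
  · by_cases hWD : W ≤ cv (S : Subgroup G) P
    · right
      intro v hv h a ha
      refine cent_sym hG hP M hk hm hv (hSP (hA ha)) ?_
      have h1 : a * v * a⁻¹ ∈ zl (S : Subgroup G) P := conj_div hn (hSP (hA ha)) hv
      have h2 := (M.ker _ (hDV (hWD (h a ha)))).2 (hWD (h a ha))
      rw [e_sub_sym M.toSymK le_rfl h1 hv] at h2
      exact sub_eq_zero.1 h2
    · left
      refine fin (M.offM A hA hoff).1 fun v hv => ?_
      obtain ⟨w, hw, he⟩ := cover_sym M.toSymK hSP (by omega) hW hPW hWD hv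
      refine ⟨w, hw, (M.ker _ (mul_mem (inv_mem (hW hw)) hv)).1 ?_⟩
      have h1 := M.mul w (hW hw) (w⁻¹ * v) (mul_mem (inv_mem (hW hw)) hv)
      rw [mul_inv_cancel_left, he] at h1
      exact left_eq_add.1 h1

/-- `W ≤ V_P` normalised by `P`, `[W, O²(P)] ≠ 1`: `V_P = W C_{V_P}(A)`. -/
theorem par_cover (hP : IsParS (S : Subgroup G) P)
    (hc : ConclM (S : Subgroup G) P) (hA : A ≤ (S : Subgroup G)) (hoff : OffM (zl (S : Subgroup G) P) A)
    {W : Subgroup G} (hW : W ≤ zl (S : Subgroup G) P) (hPW : P ≤ normalizer (W : Set G))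
    (hWD : ¬ W ≤ cv (S : Subgroup G) P) :
    zl (S : Subgroup G) P ≤ W ⊔ (zl (S : Subgroup G) P ⊓ centralizer (A : Set G)) := by
  have hSP := hP.le
  have hDV : cv (S : Subgroup G) P ≤ zl (S : Subgroup G) P := inf_le_left
  have fin : (∀ a ∈ A, ∀ d ∈ cv (S : Subgroup G) P, a * d = d * a) →
      (∀ v ∈ zl (S : Subgroup G) P, ∃ w ∈ W, w⁻¹ * v ∈ cv (S : Subgroup G) P) →
      zl (S : Subgroup G) P ≤ W ⊔ (zl (S : Subgroup G) P ⊓ centralizer (A : Set G)) := by
    intro hDc hcov v hv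
    obtain ⟨w, hw, hd⟩ := hcov v hv
    have e : v = w * (w⁻¹ * v) := by group
    rw [e]
    refine mul_mem_sup hw ⟨hDV hd, mem_centralizer_iff.2 fun a ha => hDc a ha _ hd⟩
  rcases hc with ⟨F, _, _, _, k, hk, ⟨M⟩⟩ | ⟨k, m, hk, hm, ⟨M⟩⟩
  · obtain ⟨I, hI1, -⟩ := M.offM A hA hoff
    refine fin (fun a ha d hd => ?_) fun v hv => ?_
    · obtain ⟨b, -, hb⟩ := hI1 a ha
      exact hb.2 d hd
    · obtain ⟨w, hw, he⟩ := cover_nat M.toNatK hSP hW hPW hWD (M.e v)
      refine ⟨w, hw, (M.ker _ (mul_mem (inv_mem (hW hw)) hv)).1 ?_⟩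
      have h1 := M.mul w (hW hw) (w⁻¹ * v) (mul_mem (inv_mem (hW hw)) hv)
      rw [mul_inv_cancel_left, he] at h1
      exact left_eq_add.1 h1
  · refine fin (M.offM A hA hoff).1 fun v hv => ?_
    obtain ⟨w, hw, he⟩ := cover_sym M.toSymK hSP (by omega) hW hPW hWD hv
    refine ⟨w, hw, (M.ker _ (mul_mem (inv_mem (hW hw)) hv)).1 ?_⟩
    have h1 := M.mul w (hW hw) (w⁻¹ * v) (mul_mem (inv_mem (hW hw)) hv)
    rw [mul_inv_cancel_left, he] at h1
    exact left_eq_add.1 h1

/-- `z ∈ Z` moved by `P` is moved by `O²(P)` -/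
theorem not_mem_cv {z : G} (hP : (S : Subgroup G) ≤ P) (hz : z ∈ zc (S : Subgroup G))
    (hzP : ¬ P ≤ centralizer ({z} : Set G)) : z ∉ cv (S : Subgroup G) P := by
  intro h
  apply hzP
  conv_lhs => rw [← NoFF.LinesPlug.oddGen_sup hP (MinSimple.Basic.not_dvd_relIndex S hP)]
  refine sup_le (fun y hy => ?_) (fun y hy => ?_)
  · rw [mem_centralizer_singleton_iff]
    exact mem_centralizer_iff.1 h.2 y hy
  · rw [mem_centralizer_singleton_iff]
    exact (MinSimple.VModule.mem_zc.1 hz).2.1 y hy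

/-- **`z ∈ Z` moved by `P`: `A` moves `⟨z^L⟩`.** -/
theorem GOne.mv (h : GOne S L P A) {z : G} (hz : z ∈ zc (S : Subgroup G))
    (hzP : ¬ P ≤ centralizer ({z} : Set G)) : ¬ A ≤ centralizer (NoFF.Basic.V (zpowers z) L : Set G) := by
  intro hA
  set U : Subgroup G := NoFF.Basic.V (zpowers z) L with hU
  have hn : P ≤ normalizer (zl (S : Subgroup G) P : Set G) := MinSimple.VModule.le_normalizer_zl _ _
  have hzU : z ∈ U := by
    have h1 : MulAut.conj (1 : G) • zpowers z ≤ U := NoFF.Basic.Z_le_V (one_mem L)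
    rw [map_one, one_smul] at h1
    exact h1 (mem_zpowers z)
  have hLU : L ≤ normalizer (U : Set G) := by
    have key : ∀ g ∈ L, ∀ x ∈ U, g * x * g⁻¹ ∈ U := by
      intro g hg
      have h1 : U ≤ U.comap (MulAut.conj g).toMonoidHom := by
        refine NoFF.Basic.V_le fun p hp x hx => ?_
        rw [mem_comap]
        have h2 : MulAut.conj (g * p) • zpowers z ≤ U := NoFF.Basic.Z_le_V (mul_mem hg hp)
        apply h2
        obtain ⟨y, hy, rfl⟩ := hx
        exact ⟨y, hy, by simp [mul_assoc]⟩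
      exact fun x hx => h1 hx
    intro g hg
    rw [mem_normalizer_iff]
    refine fun x => ⟨key g hg x, fun hx => ?_⟩
    have h1 := key g⁻¹ (inv_mem hg) _ hx
    have e : g⁻¹ * (g * x * g⁻¹) * g⁻¹⁻¹ = x := by group
    rwa [e] at h1
  have hPW : P ≤ normalizer ((U ⊓ zl (S : Subgroup G) P : Subgroup G) : Set G) :=
    (le_inf (h.PL.trans hLU) hn).trans (Subgroup.inf_normalizer_le_normalizer_inf)
  have hWD : ¬ U ⊓ zl (S : Subgroup G) P ≤ cv (S : Subgroup G) P := fun h1 =>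
    not_mem_cv h.SP hz hzP (h1 ⟨hzU, MinSimple.VModule.zc_le_zl _ _ hz⟩)
  have h1 := par_cover h.par h.concl h.AS h.offP inf_le_right hPW hWD
  apply h.offP.ne
  rw [le_centralizer_iff]
  refine h1.trans (sup_le ?_ inf_le_right)
  exact inf_le_left.trans (le_centralizer_iff.1 hA)

/-- **(D)**: `U ≤ V` normalised by `P`: `[U, A] = 1` or `V = U C_V(A)`. -/
theorem GOne.dich (hG : IsCharacteristicTwoType G) (h : GOne S L P A) {U : Subgroup G}
    (hUV : U ≤ zl (S : Subgroup G) L) (hPU : P ≤ normalizer (U : Set G)) :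
    U ≤ centralizer (A : Set G) ∨
      zl (S : Subgroup G) L = U ⊔ (zl (S : Subgroup G) L ⊓ centralizer (A : Set G)) := by
  have hn : P ≤ normalizer (zl (S : Subgroup G) P : Set G) := MinSimple.VModule.le_normalizer_zl _ _
  have hPW : P ≤ normalizer ((U ⊓ zl (S : Subgroup G) P : Subgroup G) : Set G) :=
    (le_inf hPU hn).trans (Subgroup.inf_normalizer_le_normalizer_inf)
  rcases par_dich hG h.par h.concl h.AS h.offP (inf_le_right : U ⊓ zl (S : Subgroup G) P ≤ _) hPW with h1 | h1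
  · right
    apply le_antisymm
    · conv_lhs => rw [h.ex]
      refine sup_le (h1.trans (sup_le ?_ ?_)) le_sup_right
      · exact inf_le_left.trans le_sup_left
      · exact (inf_le_inf_right _ h.VU).trans le_sup_right
    · exact sup_le hUV inf_le_left
  · left
    intro u hu
    obtain ⟨v, hv, w, hw, rfl⟩ := h.dec (hUV hu)
    have hvA : ∀ a ∈ A, a * v = v * a := by
      refine h1 v hv fun a ha => ?_
      have haP := h.SP (h.AS ha)
      have haw : a * w = w * a := mem_centralizer_iff.1 hw.2 a ha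
      have e : a * (v * w) * a⁻¹ * (v * w)⁻¹ = a * v * a⁻¹ * v⁻¹ := by
        calc a * (v * w) * a⁻¹ * (v * w)⁻¹ = a * v * a⁻¹ * (a * w) * a⁻¹ * w⁻¹ * v⁻¹ := by group
          _ = a * v * a⁻¹ * v⁻¹ := by rw [haw]; group
      refine mem_inf.2 ⟨?_, mul_mem (conj_div hn haP hv) (inv_mem hv)⟩
      rw [← e]
      exact mul_mem (conj_div hPU haP hu) (inv_mem hu)
    rw [mem_centralizer_iff]
    intro a ha
    have haw : a * w = w * a := mem_centralizer_iff.1 hw.2 a ha
    rw [← mul_assoc, hvA a ha, mul_assoc, haw, mul_assoc]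

end fin

/-! ### Minimal exact offenders -/

/-- `A` is a minimal exact offender on `V`. -/
structure Mx (V A : Subgroup G) : Prop extends ElemM V A where
  pg : IsPGroup 2 A
  ne : ¬ A ≤ centralizer (V : Set G)
  exact : Nat.card V * Nat.card ↥(A ⊓ centralizer (V : Set G)) =
    Nat.card A * Nat.card ↥(V ⊓ centralizer (A : Set G))
  min : ∀ B ≤ A, Nat.card V * Nat.card ↥(B ⊓ centralizer (V : Set G)) =
    Nat.card B * Nat.card ↥(V ⊓ centralizer (B : Set G)) → A ⊓ centralizer (V : Set G) ≤ B →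
      B ≤ centralizer (V : Set G) ∨ B = A

theorem Mx.off {V A : Subgroup G} (h : Mx V A) : OffM V A := ⟨h.toElemM, h.ne, h.exact.le⟩

section mx

variable [Finite G] {S : Sylow 2 G} {L P A : Subgroup G}

/-- a minimal exact offender is conjugate to one in `S` with a `P` -/
theorem gOne_of_mx (hc : IsCharacteristicTwoType G) (hL : IsLoc (S : Subgroup G) L)
    (hgen : L ≤ sSup {P | IsParS (S : Subgroup G) P ∧ P ≤ L}) (hAL : A ≤ L)
    (h : Mx (zl (S : Subgroup G) L) A) : ∃ m ∈ L, ∃ P, GOne S L P (cj m A) := by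
  have hno := (exists_gOne hc hL hgen ⟨A, hAL, h.off⟩).choose_spec.choose_spec.no
  have hcomm := (exists_gOne hc hL hgen ⟨A, hAL, h.off⟩).choose_spec.choose_spec.comm
  have hLV : L ≤ normalizer (zl (S : Subgroup G) L : Set G) := MinSimple.VModule.le_normalizer_zl _ _
  obtain ⟨m, hm, P, hP, hPL, hmS, hmP⟩ := VF.gallery hc S hL hgen hAL h.pg h.ne
  have hmV := hLV hm
  have hcj := VF.fM_cj (A := A) hmV
  refine ⟨m, hm, P, ?_⟩
  have hVU : zl (S : Subgroup G) P ≤ zl (S : Subgroup G) L := Star.zl_mono _ hPL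
  set V : Subgroup G := zl (S : Subgroup G) L with hV
  set W : Subgroup G := zl (S : Subgroup G) P with hW
  set B : Subgroup G := cj m A with hB
  have hCVW : centralizer (V : Set G) ≤ centralizer (W : Set G) := centralizer_le hVU
  have hBE : ElemM V B := VF.elemM_cj hmV h.toElemM
  have hBW : ElemM W B := ⟨fun a ha => hCVW (hBE.sq a ha), fun a ha b hb => hCVW (hBE.comm a ha b hb)⟩
  have hBne : ¬ B ≤ centralizer (V : Set G) := fun h1 => hmP (h1.trans hCVW)
  have hfA : VF.fM V A = Nat.card V := by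
    have h1 := VF.fM_mul V A
    rw [← h.exact] at h1
    exact Nat.eq_of_mul_eq_mul_right Nat.card_pos h1
  have hfB : VF.fM V B = Nat.card V := hcj.1.trans hfA
  have hPFF : (∃ A ≤ P, OffM W A) → NoOverM W P ∧ ConclM (S : Subgroup G) P := fun h =>
    FFBr.ffthmM G (S : Subgroup G) P (syl_of_sylow S hP.le) hP.toIsMinPar (hP.isLoc.char2 S hc) h
  have hBP := hmS.trans hP.le
  have hnoW : Nat.card B * Nat.card ↥(W ⊓ centralizer (B : Set G)) ≤
      Nat.card W * Nat.card ↥(B ⊓ centralizer (W : Set G)) := by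
    by_contra hcon
    have hoffW : OffM W B := ⟨hBW, hmP, (not_le.1 hcon).le⟩
    exact hcon ((hPFF ⟨B, hBP, hoffW⟩).1 B hBP hBW)
  have hle := VF.fM_le hVU hnoW
  -- `C_B(W)` centralises `V`
  have hB1 : B ⊓ centralizer (W : Set G) ≤ centralizer (V : Set G) := by
    set B₁ := B ⊓ centralizer (W : Set G) with hB₁
    have hBL : B₁ ≤ L := (inf_le_left.trans hBP).trans hPL
    have hB₁E : ElemM V B₁ := VF.elemM_mono hBE inf_le_left
    have h2 : VF.fM V B₁ ≤ Nat.card V := VF.fM_le_iff.2 (hno B₁ hBL hB₁E)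
    have h3 : VF.fM V B₁ = Nat.card V := le_antisymm h2 (hfB ▸ hle)
    -- back to `A`
    have hmi : m⁻¹ ∈ normalizer (V : Set G) := inv_mem hmV
    have h4 : VF.fM V (cj m⁻¹ B₁) = Nat.card V := (VF.fM_cj hmi).1.trans h3
    have h5 : Nat.card V * Nat.card ↥(cj m⁻¹ B₁ ⊓ centralizer (V : Set G)) =
        Nat.card ↥(cj m⁻¹ B₁) * Nat.card ↥(V ⊓ centralizer (cj m⁻¹ B₁ : Set G)) := by
      have h6 := VF.fM_mul V (cj m⁻¹ B₁)
      rw [h4] at h6
      exact h6
    have h6 : cj m⁻¹ B₁ ≤ A := by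
      have h7 : cj m⁻¹ B₁ ≤ cj m⁻¹ B := ChoiceBase.cj_mono _ inf_le_left
      rwa [hB, ChoiceBase.cj_inv_cj] at h7
    have h7 : A ⊓ centralizer (V : Set G) ≤ cj m⁻¹ B₁ := by
      have h8 : cj m (A ⊓ centralizer (V : Set G)) ≤ B₁ := by
        rw [ChoiceBase.cj_inf, ChoiceBase.cj_centralizer, ChoiceBase.cj_eq_of_mem_normalizer hmV]
        exact le_inf inf_le_left (inf_le_right.trans hCVW)
      have h9 := ChoiceBase.cj_mono m⁻¹ h8
      rwa [ChoiceBase.cj_inv_cj] at h9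
    rcases h.min _ h6 h5 h7 with h8 | h8
    · have h9 := ChoiceBase.cj_mono m h8
      rwa [ChoiceBase.cj_cj_inv, ChoiceBase.cj_centralizer, ChoiceBase.cj_eq_of_mem_normalizer hmV] at h9
    · exfalso
      apply hmP
      have h9 : B₁ = B := by rw [hB, ← h8, ChoiceBase.cj_cj_inv]
      rw [← h9]
      exact inf_le_right
  have hoffV : OffM V B := ⟨hBE, hBne, VF.le_fM_iff.1 hfB.ge⟩
  have hexV := exact_of hcomm hVU hoffV.le hnoW hB1
  have hoffW : OffM W B := by
    refine ⟨hBW, hmP, ?_⟩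
    -- `|W| |C_B(W)| ≤ |B| |C_W(B)|`
    have e1 : B ⊓ centralizer (W : Set G) = B ⊓ centralizer (V : Set G) :=
      le_antisymm (le_inf inf_le_left hB1) (inf_le_inf_left _ hCVW)
    have e2 : W ⊓ (V ⊓ centralizer (B : Set G)) = W ⊓ centralizer (B : Set G) := by
      rw [← inf_assoc, inf_eq_left.2 hVU]
    have h1 := Star.card_sup_mul hcomm hVU (inf_le_left : V ⊓ centralizer (B : Set G) ≤ V)
    rw [← hexV, e2] at h1
    rw [e1]
    have h2 := hoffV.le
    have p1 : 0 < Nat.card ↥(V ⊓ centralizer (B : Set G)) := Nat.card_pos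
    refine Nat.le_of_mul_le_mul_right ?_ p1
    calc Nat.card W * Nat.card ↥(B ⊓ centralizer (V : Set G)) * Nat.card ↥(V ⊓ centralizer (B : Set G))
        = (Nat.card W * Nat.card ↥(V ⊓ centralizer (B : Set G))) * Nat.card ↥(B ⊓ centralizer (V : Set G)) := by
          ring
      _ = (Nat.card V * Nat.card ↥(B ⊓ centralizer (V : Set G))) * Nat.card ↥(W ⊓ centralizer (B : Set G)) := by
          rw [← h1]; ring
      _ ≤ (Nat.card B * Nat.card ↥(V ⊓ centralizer (B : Set G))) * Nat.card ↥(W ⊓ centralizer (B : Set G)) :=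
          Nat.mul_le_mul_right _ h2
      _ = _ := by ring
  exact ⟨hP, hPL, hmS, hcomm, hno, hoffV, hoffW, hB1, (hPFF ⟨B, hBP, hoffW⟩).2, hexV⟩

/-- **(D)** for all minimal exact offenders: `U ≤ V` normalised by `L`: `[U, A] = 1` or `V = U C_V(A)`. -/
theorem Mx.dich (hc : IsCharacteristicTwoType G) (hL : IsLoc (S : Subgroup G) L)
    (hgen : L ≤ sSup {P | IsParS (S : Subgroup G) P ∧ P ≤ L}) (hAL : A ≤ L)
    (h : Mx (zl (S : Subgroup G) L) A) {U : Subgroup G} (hUV : U ≤ zl (S : Subgroup G) L)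
    (hLU : L ≤ normalizer (U : Set G)) :
    U ≤ centralizer (A : Set G) ∨
      zl (S : Subgroup G) L = U ⊔ (zl (S : Subgroup G) L ⊓ centralizer (A : Set G)) := by
  obtain ⟨m, hm, P, hg⟩ := gOne_of_mx hc hL hgen hAL h
  have hLV : L ≤ normalizer (zl (S : Subgroup G) L : Set G) := MinSimple.VModule.le_normalizer_zl _ _
  have hmU : m⁻¹ ∈ normalizer (U : Set G) := inv_mem (hLU hm)
  have hmV : m⁻¹ ∈ normalizer (zl (S : Subgroup G) L : Set G) := inv_mem (hLV hm)
  have e1 : cj m⁻¹ (centralizer (cj m A : Set G)) = centralizer (A : Set G) := by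
    rw [ChoiceBase.cj_centralizer, ChoiceBase.cj_inv_cj]
  rcases hg.dich hc hUV (hg.PL.trans hLU) with h1 | h1
  · left
    have h2 := ChoiceBase.cj_mono m⁻¹ h1
    rwa [ChoiceBase.cj_eq_of_mem_normalizer hmU, e1] at h2
  · right
    have h2 := congrArg (cj m⁻¹) h1
    have e2 : ∀ X Y : Subgroup G, cj m⁻¹ (X ⊔ Y) = cj m⁻¹ X ⊔ cj m⁻¹ Y := fun X Y => Subgroup.map_sup _ _ _
    rwa [e2, ChoiceBase.cj_inf, ChoiceBase.cj_eq_of_mem_normalizer hmU,
      ChoiceBase.cj_eq_of_mem_normalizer hmV, e1] at h2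

end mx

end Cfsg.Agent.Omega.NOThreeL.RRed

end
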