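import Cfsg.Agent.Mrg.Omega.NOThreeL.RRed.FourTree
import Cfsg.Agent.Mrg.Omega.NOThreeL.RRed.BlkG1
import Cfsg.Agent.Mrg.Omega.NOThreeL.RRed.NS.Blk
import Cfsg.Agent.Mrg.Omega.TC.No
import Cfsg.Agent.Mrg.Omega.NOThreeL.RZ.TwoC.DecE

section


/-!
# NO-3L, box R: the tree of `GlueSig.WideAll` (RR S = 1, some |Z : C_Z(P)| ≥ 4) (integrator helper699)

v5 (helper585, after helper163, 181, 241, 298, 540, 640, 644, 743, 789, 863, 916).
`V* = Wd S = ⟨Z^M₀⟩`, `M₀ = MZ S = ⟨P*(S)⟩`, `C = CZ S = C_G(Z)`, `O = O₂(C)`.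

* `Wide S` : the hypotheses of `WideAll`, or `|Z| = 4` and some `|V_P| ≠ 8` (the hypotheses of `FourOf`);
* `Act S P` : `P ∈ P*(S)` is active: some minimal exact offender `A ≤ S` of `V*` is not in `O₂(P)`;
  `MvAct S` : every `z ∈ Z#` is moved by an active `P`;
* `CM S W` : class modules (#24537): `V* = ∏ W i`, `W i` irreducible for `M₀`, every active `P` moves one `W i`;
* `Co W i` : the product of the other classes; `FS S R B z` : `z ∈ R ∩ Z` is of full support in `R` (`V* = R × B`; the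
  inputs of the two-centre theorem #26172); `Left S W` (#26368, #26343) : for full support `x`, `y` in `W i`, `Co W i` some
  `A ∈ 𝒜(O₂(C_G(x) ∩ C_G(y)))` moves `W i`; `AllB S N` : `𝒜(O)` moves every block;
* `NatBlk S D N l F e` : natural `SL₂(F)`-block `N` with group `D` and line `l`;
  `NBs S N E D l q` : `V* = ∏ N b`, all `N b` natural; `Src S N l q` : the blocks of the active `P` are the blocks `N b`;
  `Fits N W side` : `W i = ∏_{side b = i} N b`;
* sockets, level 1: `CMThm` (class module theorem; #24537), `WNoMv` (not `MvAct`), `WMul` (≥ 2 classes), `WOne` (1 class);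
  **`all_of`** : everything over `Wide S`; **`wideAll_of`** (`FourOf` : FourOfWide.lean, helper743);
* sockets for ≥ 2 classes: `WRun` (not `Left`; #25784, #25809, #25865, #26172), `LeftBlk` (`Left` ⟹ natural blocks),
  `LeftAll` (`𝒜(O)` moves every block; #25809 (2)), `LeftPerm` (`C_G(Z)` permutes the lines; #24948, #24984), `WLeftOne` (two blocks, no fields; TEXT W2 #24006),
  `WLeftFld` (two blocks, fields; #24444 (C), #24700), `WLeftMany` (≥ 3 blocks; U(q) #24915);  **`wMul_of`**;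
* sockets for one class (`V*` irreducible): `OneBlk` (block theorem), `WOneS` (`𝔽₂`-blocks), `WOneOne`, `WOneTwo`,
  `WOneMany` (`1`, `2`, `≥ 3` natural blocks, `q ≥ 4`);  **`wOne_of`**.
-/

set_option autoImplicit false
set_option linter.unusedSectionVars false

namespace Cfsg.Agent.Omega.NOThreeL.RRed.WideTree

open Subgroup Cfsg Cfsg.Agent.ZN Cfsg.Agent.Omega.MinPar Cfsg.Agent.Omega.Frame Cfsg.Agent.Omega.FrameNOFF
open Cfsg.Agent.Omega.Node.NO3L Cfsg.Agent.Omega.NOThreeL.Basic Cfsg.Agent.Omega.NOThreeL.RTree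
open Cfsg.Agent.Omega.NOThreeL.RTreeF
open Cfsg.Agent.Omega.NOThreeL.Merge (MZ)
open Cfsg.Agent.Omega.NOThreeL.RZ (RR)
open Cfsg.Agent.Omega.NOThreeL.RRed.GlueSig
open Cfsg.Agent.Omega.NOThreeL.RRed.FourTree (Bks)
open Cfsg.Agent.Omega.FFThm (NatKM)
open Cfsg.Agent.Omega.FrameFF (cv)
open Cfsg.Agent.Omega.NO3S.ThmB (Nb)
open Cfsg.Agent.Omega.NO3S.KeyRad (blk)

open scoped Pointwise

universe u v w

section defs

variable {G : Type u} [Group G]

/-- The hypotheses of `WideAll`, or of `FourOf`. -/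
structure Wide [Finite G] (S : Sylow 2 G) : Prop extends RB S where
  rr : RR (S : Subgroup G) = ⊥
  wd : (∃ P, IsParS (S : Subgroup G) P ∧
      4 * Nat.card ↥(zc (S : Subgroup G) ⊓ centralizer (P : Set G)) ≤ Nat.card (zc (S : Subgroup G))) ∨
    (Nat.card (zc (S : Subgroup G)) = 4 ∧ ∃ P, IsParS (S : Subgroup G) P ∧ Nat.card (zl (S : Subgroup G) P) ≠ 8)

theorem Wide.four_le [Finite G] {S : Sylow 2 G} (h : Wide S) : 4 ≤ Nat.card (zc (S : Subgroup G)) := by
  rcases h.wd with ⟨P, -, hP⟩ | ⟨h4, -⟩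
  · exact (Nat.le_mul_of_pos_right 4 Nat.card_pos).trans hP
  · exact h4.ge

/-- `P ∈ P*(S)` is active: some minimal exact offender `A ≤ S` of `V*` is not in `O₂(P)` -/
def Act (S P : Subgroup G) : Prop :=
  IsParS S P ∧ ∃ A ≤ S, Mx (Wd S) A ∧ ¬ A ≤ o2 P

/-- every `z ∈ Z#` is moved by an active `P` -/
def MvAct (S : Subgroup G) : Prop :=
  ∀ z ∈ zc S, z ≠ 1 → ∃ P, Act S P ∧ ¬ P ≤ centralizer ({z} : Set G)

/-- **Class modules** (#24537). -/
structure CM (S : Subgroup G) {ι : Type u} (W : ι → Subgroup G) : Prop where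
  ne : ∀ i, W i ≠ ⊥
  sup : ⨆ i, W i = Wd S
  ind : ∀ i, W i ⊓ (⨆ j : {j // j ≠ i}, W j) = ⊥
  inv : ∀ i, MZ S ≤ normalizer (W i : Set G)
  irr : ∀ i, ∀ U : Subgroup G, U ≤ W i → MZ S ≤ normalizer (U : Set G) → U ≠ ⊥ → W i ≤ U
  nS : ∀ n ∈ normalizer (S : Set G), ∀ i, ∃ j, MulAut.conj n • W i = W j
  one : ∀ P, Act S P → ∃ i, ¬ P ≤ centralizer (W i ⊓ zc S : Subgroup G) ∧
    ∀ j, j ≠ i → ∀ g ∈ P, Odd (orderOf g) → g ∈ centralizer (W j : Set G)
  mvd : ∀ i, ∃ A ≤ S, Mx (Wd S) A ∧ ¬ A ≤ centralizer (W i : Set G)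
  off : ∀ A ≤ S, Mx (Wd S) A → ∃ i, ∀ j, j ≠ i → A ≤ centralizer (W j : Set G)
  zero : ∀ i, ∀ U : Subgroup G, U ≤ W i ⊓ zc S → U ≠ ⊥ → ∀ w ∈ W i, w ∈ NoFF.Basic.V U (MZ S)
  gen : ∀ i, W i ≤ NoFF.Basic.V (W i ⊓ zc S) (MZ S ⊓ centralizer {x : G | ∃ j, j ≠ i ∧ x ∈ W j})

/-- `bad` at `G`-level (helper345, 885, 820; #26172) -/
def BadG (Q J Y : Subgroup G) : Prop :=
  ∀ d ∈ Q, Odd (orderOf d) →
    (∀ j ∈ J, ∀ w ∈ Y,
      (j * d * j⁻¹ * d⁻¹) * (d * w * d⁻¹ * w⁻¹) = (d * w * d⁻¹ * w⁻¹) * (j * d * j⁻¹ * d⁻¹)) →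
    d ∈ centralizer (Y : Set G)

/-- `N_{⟨M₀, N_G(S)⟩}(R, B, J)` (#26172) -/
def QQ (S R B J : Subgroup G) : Subgroup G :=
  (MZ S ⊔ normalizer (S : Set G)) ⊓ normalizer (R : Set G) ⊓ normalizer (B : Set G) ⊓ normalizer (J : Set G)

/-- `V* = R × B`; `z ∈ R ∩ Z` has full support in `R` (helper858, helper863; #26368, #26343) -/
structure FS (S R B : Subgroup G) (z : G) : Prop where
  mem : z ∈ R ⊓ zc S
  ne : z ≠ 1
  fact : MZ S ≤ (MZ S ⊓ centralizer (B : Set G)) ⊔ (MZ S ⊓ centralizer ({z} : Set G))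
  nS : centralizer ({z} : Set G) ⊓ normalizer (S : Set G) ≤ normalizer (R : Set G) ⊓ normalizer (B : Set G)
  bad : BadG (centralizer ({z} : Set G) ⊓ QQ S R B (S ⊓ centralizer (B : Set G))) (S ⊓ centralizer (B : Set G)) R

/-- the product of the other classes -/
abbrev Co {ι : Type v} (W : ι → Subgroup G) (i : ι) : Subgroup G := ⨆ j : {j // j ≠ i}, W j

/-- **The left case** : `𝒜(O₂(C_G(x) ∩ C_G(y)))` moves `W i`, for every pair of full-support vectors `x` of `W i`, `y` of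
the product of the other classes. -/
def Left (S : Subgroup G) {ι : Type v} (W : ι → Subgroup G) : Prop :=
  ∀ i, ∀ x y : G, FS S (W i) (Co W i) x → FS S (Co W i) (W i) y →
    ∃ A : Subgroup G, KL.TwoS.Mx (o2 (centralizer ({x} : Set G) ⊓ centralizer ({y} : Set G))) A ∧
      ¬ A ≤ centralizer (W i : Set G)

/-- `𝒜(O)` moves every block, `O = O₂(C_G(Z))` -/
def AllB (S : Subgroup G) {κ : Type v} (N : κ → Subgroup G) : Prop :=
  ∀ b, ∃ A : Subgroup G, KL.TwoS.Mx (o2 (centralizer (zc S : Set G))) A ∧ ¬ A ≤ centralizer (N b : Set G)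

/-- **A natural `SL₂(F)`-block** `N` for the group `D` (acting as `SL₂(F)`), with line `l = C_N(S ∩ D)`; `e` are
coordinates. -/
structure NatBlk (S D N l : Subgroup G) (F : Type) [Field F] (e : G → Fin 2 → F) : Prop where
  mul : ∀ v ∈ N, ∀ w ∈ N, e (v * w) = e v + e w
  inj : ∀ v ∈ N, e v = 0 → v = 1
  sur : ∀ x : Fin 2 → F, ∃ v ∈ N, e v = x
  act : ∀ g ∈ D, ∃ M : Matrix.SpecialLinearGroup (Fin 2) F, ∀ v ∈ N, e (g * v * g⁻¹) = M.1.mulVec (e v)
  full : ∀ M : Matrix.SpecialLinearGroup (Fin 2) F, ∃ g ∈ D, ∀ v ∈ N, e (g * v * g⁻¹) = M.1.mulVec (e v)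
  line : ∀ v, v ∈ l ↔ v ∈ N ∧ e v 1 = 0
  root : ∀ s ∈ S ⊓ D, ∃ c : F, ∀ v ∈ N, e (s * v * s⁻¹) = ![e v 0 + c * e v 1, e v 1]
  sylow : ∀ c : F, ∃ s ∈ S ⊓ D, ∀ v ∈ N, e (s * v * s⁻¹) = ![e v 0 + c * e v 1, e v 1]

/-- **Natural blocks** of `V*` : `E b` = the elements of `M₀` which centralise the other blocks, `D b ≤ E b` acts as
`SL₂(q b)` on `N b` (for `q b = 4` the group `E b` may induce more, `A₇` on `2⁴`: `D b` is not `M₀`-invariant). -/
structure NBs (S : Subgroup G) {ι : Type u} (N E D l : ι → Subgroup G) (q : ι → ℕ) : Prop where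
  dec : Blk.Dec S (MZ S) (Wd S) N E ⊥
  memE : ∀ b, ∀ g, g ∈ E b ↔ g ∈ MZ S ∧ ∀ c, c ≠ b → g ∈ centralizer (N c : Set G)
  DE : ∀ b, D b ≤ E b
  nat : ∀ b, ∃ (F : Type) (_ : Field F) (_ : Finite F) (_ : CharP F 2) (e : G → Fin 2 → F),
    Nat.card F = q b ∧ NatBlk S (D b) (N b) (l b) F e
  perm : ∀ g ∈ MZ S, ∀ b, ∃ c, MulAut.conj g • N b = N c ∧ q c = q b
  ln : ∀ s ∈ S, ∀ b, ∃ c, MulAut.conj s • l b = l c
  sD : ∀ s ∈ S, ∀ b, ∃ c, MulAut.conj s • N b = N c ∧ MulAut.conj s • D b = D c ∧ MulAut.conj s • l b = l c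
  permN : ∀ g ∈ normalizer (S : Set G), ∀ b, ∃ c, MulAut.conj g • N b = N c ∧ MulAut.conj g • l b = l c
  lnY : ∀ g ∈ MZ S, ∀ b, ∃ c, ∃ x ∈ E c, MulAut.conj g • N b = N c ∧ MulAut.conj g • l b = MulAut.conj x • l c

/-- **The blocks of the active `P` are the blocks `N b`** (helper540, helper916). -/
structure Src (S : Subgroup G) {ι : Type u} (N l : ι → Subgroup G) (q : ι → ℕ) : Prop where
  act : ∀ P, Act S P → ∃ (F : Type) (_ : Field F) (_ : Finite F) (_ : CharP F 2) (k : ℕ) (_ : 0 < k)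
    (M : NatKM F S P (zl S P) (cv S P) k) (h : Nb M), (∀ i, NS.DD M i = ⊥) ∧
      ∀ j, ∃ b, N b = blk M j ∧ l b = NS.YY h j ∧ q b = Nat.card F
  mov : ∀ b, ∃ P, Act S P ∧ ∃ (F : Type) (_ : Field F) (_ : Finite F) (_ : CharP F 2) (k : ℕ) (_ : 0 < k)
    (M : NatKM F S P (zl S P) (cv S P) k) (h : Nb M), (∀ i, NS.DD M i = ⊥) ∧
      (∃ j, N b = blk M j ∧ l b = NS.YY h j ∧ q b = Nat.card F) ∧
      ∀ j, ∃ c, N c = blk M j ∧ l c = NS.YY h j ∧ q c = Nat.card F

/-- `W i = ∏_{side b = i} N b` -/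
def Fits {κ : Type u} {ι : Type v} (N : κ → Subgroup G) (W : ι → Subgroup G) (side : κ → ι) : Prop :=
  ∀ i, W i = ⨆ b : {b // side b = i}, N b

/-- `S` acts linearly on the blocks (no field automorphisms): `[N b, N_S(N b)] ≤ l b` -/
def NoFld (S : Subgroup G) {ι : Type v} (N l : ι → Subgroup G) : Prop :=
  ∀ b, ∀ s ∈ S, s ∈ normalizer (N b : Set G) → ∀ v ∈ l b, s * v * s⁻¹ = v

/-- `C_G(Z)` permutes the lines of each side -/
def PermL (S : Subgroup G) {κ : Type u} {ι : Type v} (l : κ → Subgroup G) (side : κ → ι) : Prop :=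
  ∀ c ∈ centralizer (zc S : Set G), ∀ b, ∃ b', side b' = side b ∧ MulAut.conj c • l b = l b'

end defs

/-! ### Level 1 -/

section sockets

/-- **The class module theorem** (`K`-free, #24537). -/
def CMThm : Prop :=
  ∀ (G : Type u) [Group G] [Finite G] (S : Sylow 2 G), Wide S → MvAct (S : Subgroup G) →
    ∃ (ι : Type u) (_ : Finite ι) (W : ι → Subgroup G), CM (S : Subgroup G) W

variable (K : Cls.{u}) (B : Fr.{u})

/-- some `z ∈ Z#` is moved by inactive `P` only -/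
def WNoMv : Prop :=
  ∀ (G : Type u) [Group G] [Finite G], K G → ∀ (S : Sylow 2 G), B G S → Wide S → ¬ MvAct (S : Subgroup G) →
    IsKnownSimple' G

/-- at least two classes -/
def WMul : Prop :=
  ∀ (G : Type u) [Group G] [Finite G], K G → ∀ (S : Sylow 2 G), B G S → Wide S → MvAct (S : Subgroup G) →
    ∀ (ι : Type u) [Finite ι] (W : ι → Subgroup G), CM (S : Subgroup G) W → (∃ i j : ι, i ≠ j) → IsKnownSimple' G

/-- one class -/
def WOne : Prop :=
  ∀ (G : Type u) [Group G] [Finite G], K G → ∀ (S : Sylow 2 G), B G S → Wide S → MvAct (S : Subgroup G) →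
    CM (S : Subgroup G) (fun _ : PUnit.{u + 1} => Wd (S : Subgroup G)) → IsKnownSimple' G

end sockets

section lemmas

variable {G : Type u} [Group G] {S : Subgroup G} {ι κ : Type u} {W : ι → Subgroup G}

/-- reindexing -/
theorem CM.equiv (h : CM S W) (e : κ ≃ ι) : CM S (fun k => W (e k)) where
  ne k := h.ne _
  sup := by rw [← h.sup]; exact e.iSup_comp (g := W)
  ind k := by
    rw [eq_bot_iff, ← h.ind (e k)]
    refine inf_le_inf_left _ (iSup_le fun j => ?_)
    exact le_iSup (fun j : {j // j ≠ e k} => W j) ⟨e j, fun hj => j.2 (e.injective hj)⟩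
  inv k := h.inv _
  irr k := h.irr _
  nS n hn k := by
    obtain ⟨j, hj⟩ := h.nS n hn (e k)
    exact ⟨e.symm j, by rw [hj, e.apply_symm_apply]⟩
  one P hP := by
    obtain ⟨i, h1, h2⟩ := h.one P hP
    refine ⟨e.symm i, by rwa [e.apply_symm_apply], fun j hj => h2 (e j) fun hji => hj ?_⟩
    rw [← hji, e.symm_apply_apply]
  mvd k := h.mvd _
  off A hA hm := by
    obtain ⟨i, h1⟩ := h.off A hA hm
    refine ⟨e.symm i, fun j hj => h1 (e j) fun hji => hj ?_⟩
    rw [← hji, e.symm_apply_apply]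
  zero k := h.zero _
  gen k := by
    have h1 : {x : G | ∃ j : κ, j ≠ k ∧ x ∈ W (e j)} = {x : G | ∃ j, j ≠ e k ∧ x ∈ W j} := by
      ext x
      constructor
      · rintro ⟨j, hj, hx⟩
        exact ⟨e j, fun h2 => hj (e.injective h2), hx⟩
      · rintro ⟨j, hj, hx⟩
        refine ⟨e.symm j, fun h2 => hj ?_, by rwa [e.apply_symm_apply]⟩
        rw [← h2, e.apply_symm_apply]
    have h2 := h.gen (e k)
    rwa [← h1] at h2

end lemmas

section tree

variable {K : Cls.{u}} {B : Fr.{u}}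

/-- **everything over `Wide S` from the sockets of level 1** -/
theorem all_of (hc : CMThm.{u}) (h0 : WNoMv K B) (h2 : WMul K B) (h1 : WOne K B) :
    ∀ (G : Type u) [Group G] [Finite G], K G → ∀ (S : Sylow 2 G), B G S → Wide S → IsKnownSimple' G := by
  intro G _ _ hK S hB hW
  by_cases hm : MvAct (S : Subgroup G)
  swap
  · exact h0 G hK S hB hW hm
  obtain ⟨ι, _, W, hCM⟩ := hc G S hW hm
  by_cases h2' : ∃ i j : ι, i ≠ j
  · exact h2 G hK S hB hW hm ι W hCM h2'
  push Not at h2'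
  have hne : Nonempty ι := by
    by_contra hn
    rw [not_nonempty_iff] at hn
    have h3 : (⊥ : Subgroup G) = Wd (S : Subgroup G) := by rw [← hCM.sup, iSup_of_empty]
    have h4 : zc (S : Subgroup G) ≤ Wd (S : Subgroup G) := MinSimple.VModule.zc_le_zl _ _
    exact MinSimple.Basic.zc_ne_bot S.isPGroup' (hW.ctx.sylow_ne_bot S) (le_bot_iff.1 (h4.trans_eq h3.symm))
  obtain ⟨i⟩ := hne
  have e1 : PUnit.{u + 1} ≃ ι :=
    { toFun := fun _ => i, invFun := fun _ => PUnit.unit, left_inv := fun _ => rfl, right_inv := fun k => h2' i k }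
  have h6 := hCM.equiv e1
  have h7 : (fun k : PUnit.{u + 1} => W (e1 k)) = fun _ => Wd (S : Subgroup G) := by
    funext k
    have h8 := h6.sup
    rw [← h8]
    exact le_antisymm (le_iSup (fun k => W (e1 k)) k) (iSup_le fun _ => le_rfl)
  rw [h7] at h6
  exact h1 G hK S hB hW hm h6

/-- **`WideAll` from the sockets of level 1** -/
theorem wideAll_of (hb : ∀ (G : Type u) [Group G] [Finite G] (S : Sylow 2 G), B G S → RB S) (hc : CMThm.{u})
    (h0 : WNoMv K B) (h2 : WMul K B) (h1 : WOne K B) : WideAll K B :=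
  fun G _ _ hK S hB hr hwd => all_of hc h0 h2 h1 G hK S hB { toRB := hb G S hB, rr := hr, wd := Or.inl hwd }

end tree

/-! ### At least two classes -/

section two

/-- **(K-free) natural blocks in the left case** -/
def LeftBlk : Prop :=
  ∀ (G : Type u) [Group G] [Finite G] (S : Sylow 2 G), Wide S → MvAct (S : Subgroup G) →
    ∀ (ι : Type u) [Finite ι] (W : ι → Subgroup G), CM (S : Subgroup G) W → (∃ i j : ι, i ≠ j) →
      Left (S : Subgroup G) W → ∃ (κ : Type u) (_ : Finite κ) (N E D l : κ → Subgroup G) (q : κ → ℕ) (side : κ → ι),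
        NBs (S : Subgroup G) N E D l q ∧ Src (S : Subgroup G) N l q ∧ Fits N W side

variable (K : Cls.{u}) (B : Fr.{u})

/-- the first run: not the left case -/
def WRun : Prop :=
  ∀ (G : Type u) [Group G] [Finite G], K G → ∀ (S : Sylow 2 G), B G S → Wide S → MvAct (S : Subgroup G) →
    ∀ (ι : Type u) [Finite ι] (W : ι → Subgroup G), CM (S : Subgroup G) W → (∃ i j : ι, i ≠ j) →
      ¬ Left (S : Subgroup G) W → IsKnownSimple' G

/-- `𝒜(O)` moves every block -/
def LeftAll : Prop :=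
  ∀ (G : Type u) [Group G] [Finite G] (S : Sylow 2 G), B G S → Wide S → MvAct (S : Subgroup G) →
    ∀ (ι : Type u) [Finite ι] (W : ι → Subgroup G), CM (S : Subgroup G) W → (∃ i j : ι, i ≠ j) →
      Left (S : Subgroup G) W → ∀ (κ : Type u) [Finite κ] (N E D l : κ → Subgroup G) (q : κ → ℕ) (side : κ → ι),
        NBs (S : Subgroup G) N E D l q → Src (S : Subgroup G) N l q → Fits N W side → AllB (S : Subgroup G) N

/-- `C_G(Z)` permutes the lines -/
def LeftPerm : Prop :=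
  ∀ (G : Type u) [Group G] [Finite G] (S : Sylow 2 G), B G S → Wide S → MvAct (S : Subgroup G) →
    ∀ (ι : Type u) [Finite ι] (W : ι → Subgroup G), CM (S : Subgroup G) W → (∃ i j : ι, i ≠ j) →
      Left (S : Subgroup G) W → ∀ (κ : Type u) [Finite κ] (N E D l : κ → Subgroup G) (q : κ → ℕ) (side : κ → ι),
        NBs (S : Subgroup G) N E D l q → Src (S : Subgroup G) N l q → Fits N W side → AllB (S : Subgroup G) N →
          PermL (S : Subgroup G) l side

/-- two natural blocks, no fields (TEXT W2) -/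
def WLeftOne : Prop :=
  ∀ (G : Type u) [Group G] [Finite G], K G → ∀ (S : Sylow 2 G), B G S → Wide S → MvAct (S : Subgroup G) →
    ∀ W : Fin 2 → Subgroup G, CM (S : Subgroup G) (fun i : ULift.{u} (Fin 2) => W i.down) →
      Left (S : Subgroup G) W → ∀ (E D l : Fin 2 → Subgroup G) (q : Fin 2 → ℕ),
        NBs (S : Subgroup G) (fun i : ULift.{u} (Fin 2) => W i.down) (fun i => E i.down) (fun i => D i.down)
          (fun i => l i.down) (fun i => q i.down) →
          Src (S : Subgroup G) (fun i : ULift.{u} (Fin 2) => W i.down) (fun i => l i.down) (fun i => q i.down) →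
          AllB (S : Subgroup G) W →
          (∀ c ∈ centralizer (zc (S : Subgroup G) : Set G), ∀ i, c ∈ normalizer (l i : Set G)) →
          NoFld (S : Subgroup G) W l → IsKnownSimple' G

/-- two natural blocks, fields -/
def WLeftFld : Prop :=
  ∀ (G : Type u) [Group G] [Finite G], K G → ∀ (S : Sylow 2 G), B G S → Wide S → MvAct (S : Subgroup G) →
    ∀ W : Fin 2 → Subgroup G, CM (S : Subgroup G) (fun i : ULift.{u} (Fin 2) => W i.down) →
      Left (S : Subgroup G) W → ∀ (E D l : Fin 2 → Subgroup G) (q : Fin 2 → ℕ),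
        NBs (S : Subgroup G) (fun i : ULift.{u} (Fin 2) => W i.down) (fun i => E i.down) (fun i => D i.down)
          (fun i => l i.down) (fun i => q i.down) →
          Src (S : Subgroup G) (fun i : ULift.{u} (Fin 2) => W i.down) (fun i => l i.down) (fun i => q i.down) →
          AllB (S : Subgroup G) W →
          (∀ c ∈ centralizer (zc (S : Subgroup G) : Set G), ∀ i, c ∈ normalizer (l i : Set G)) →
          ¬ NoFld (S : Subgroup G) W l → IsKnownSimple' G

/-- at least three natural blocks -/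
def WLeftMany : Prop :=
  ∀ (G : Type u) [Group G] [Finite G], K G → ∀ (S : Sylow 2 G), B G S → Wide S → MvAct (S : Subgroup G) →
    ∀ (ι : Type u) [Finite ι] (W : ι → Subgroup G), CM (S : Subgroup G) W → (∃ i j : ι, i ≠ j) →
      Left (S : Subgroup G) W → ∀ (κ : Type u) [Finite κ] (N E D l : κ → Subgroup G) (q : κ → ℕ) (side : κ → ι),
        NBs (S : Subgroup G) N E D l q → Src (S : Subgroup G) N l q → Fits N W side → AllB (S : Subgroup G) N →
          PermL (S : Subgroup G) l side → (∀ a b : κ, ∃ c, c ≠ a ∧ c ≠ b) → IsKnownSimple' G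

end two

/-! ### One class -/

section one

/-- **(K-free) the block theorem for an irreducible `V*`** : natural blocks, `q ≥ 4`, or `𝔽₂`-blocks -/
def OneBlk : Prop :=
  ∀ (G : Type u) [Group G] [Finite G] (S : Sylow 2 G), Wide S → MvAct (S : Subgroup G) →
    CM (S : Subgroup G) (fun _ : PUnit.{u + 1} => Wd (S : Subgroup G)) →
    (∃ (ι : Type u) (_ : Finite ι) (N E D l : ι → Subgroup G) (q : ℕ), 4 ≤ q ∧ Nonempty ι ∧
      NBs (S : Subgroup G) N E D l (fun _ => q) ∧ Src (S : Subgroup G) N l (fun _ => q)) ∨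
    ∃ (I : Type u) (_ : Fintype I) (_ : DecidableEq I) (N E : I → Subgroup G) (Om : I → Type u)
      (_ : ∀ i, Fintype (Om i)) (_ : ∀ i, DecidableEq (Om i)) (phi : ∀ i, Finset (Om i) → G), Bks S N E ⊥ Om phi

variable (K : Cls.{u}) (B : Fr.{u})

/-- `𝔽₂`-blocks, one class -/
def WOneS : Prop :=
  ∀ (G : Type u) [Group G] [Finite G], K G → ∀ (S : Sylow 2 G), B G S → Wide S → MvAct (S : Subgroup G) →
    CM (S : Subgroup G) (fun _ : PUnit.{u + 1} => Wd (S : Subgroup G)) →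
      ∀ (I : Type u) [Fintype I] [DecidableEq I] (N E : I → Subgroup G) (Om : I → Type u)
        [∀ i, Fintype (Om i)] [∀ i, DecidableEq (Om i)] (phi : ∀ i, Finset (Om i) → G), Bks S N E ⊥ Om phi →
          IsKnownSimple' G

/-- natural blocks, `q ≥ 4`, one class, `ι` as given -/
def WOneN (p : Type u → Prop) : Prop :=
  ∀ (G : Type u) [Group G] [Finite G], K G → ∀ (S : Sylow 2 G), B G S → Wide S → MvAct (S : Subgroup G) →
    CM (S : Subgroup G) (fun _ : PUnit.{u + 1} => Wd (S : Subgroup G)) →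
      ∀ (ι : Type u) [Finite ι] (N E D l : ι → Subgroup G) (q : ℕ), 4 ≤ q →
        NBs (S : Subgroup G) N E D l (fun _ => q) → Src (S : Subgroup G) N l (fun _ => q) →
        p ι → IsKnownSimple' G

/-- one block -/
def WOneOne : Prop := WOneN K B fun ι => Nat.card ι = 1

/-- two blocks -/
def WOneTwo : Prop := WOneN K B fun ι => Nat.card ι = 2

/-- at least three blocks -/
def WOneMany : Prop := WOneN K B fun ι => 3 ≤ Nat.card ι

end one

section trees

variable {K : Cls.{u}} {B : Fr.{u}}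

/-- reindexing of `Blk.Dec` -/
theorem dec_equiv {G : Type u} [Group G] {ι κ : Type u} {S L U R₀ : Subgroup G} {N E : ι → Subgroup G}
    (h : Blk.Dec S L U N E R₀) (e : κ ≃ ι) : Blk.Dec S L U (fun k => N (e k)) (fun k => E (e k)) R₀ where
  SL := h.SL
  LU := h.LU
  ab := h.ab
  sup := by rw [← h.sup]; congr 1; exact e.iSup_comp (g := N)
  ind k := by
    rw [eq_bot_iff, ← h.ind (e k)]
    refine inf_le_inf_left _ (sup_le_sup_right (iSup_le fun j => ?_) _)
    exact le_iSup (fun j : {j // j ≠ e k} => N j) ⟨e j, fun hj => j.2 (e.injective hj)⟩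
  ne k := h.ne _
  Rnor := h.Rnor
  EL k := h.EL _
  CE k := h.CE _
  perm g hg k := by
    obtain ⟨c, h1, h2⟩ := h.perm g hg (e k)
    exact ⟨e.symm c, by rw [e.apply_symm_apply]; exact h1, by rw [e.apply_symm_apply]; exact h2⟩
  EN k := h.EN _
  EC j k hjk := h.EC _ _ fun h1 => hjk (e.injective h1)
  ER k := h.ER _

/-- reindexing of `NBs` -/
theorem nbs_equiv {G : Type u} [Group G] {ι κ : Type u} {S : Subgroup G} {N E D l : ι → Subgroup G} {q : ι → ℕ}
    (h : NBs S N E D l q) (e : κ ≃ ι) :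
    NBs S (fun k => N (e k)) (fun k => E (e k)) (fun k => D (e k)) (fun k => l (e k)) fun k => q (e k) where
  dec := dec_equiv h.dec e
  memE k g := by
    rw [h.memE]
    refine and_congr_right fun _ => ⟨fun h1 c hc => h1 _ fun h2 => hc (e.injective h2), fun h1 c hc => ?_⟩
    have h2 := h1 (e.symm c) fun h3 => hc (by rw [← h3, e.apply_symm_apply])
    rwa [e.apply_symm_apply] at h2
  DE k := h.DE _
  nat k := h.nat _
  perm g hg k := by
    obtain ⟨c, h1, h2⟩ := h.perm g hg (e k)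
    exact ⟨e.symm c, by rw [e.apply_symm_apply]; exact h1, by rw [e.apply_symm_apply]; exact h2⟩
  ln s hs k := by
    obtain ⟨c, h1⟩ := h.ln s hs (e k)
    exact ⟨e.symm c, by rw [e.apply_symm_apply]; exact h1⟩
  sD s hs k := by
    obtain ⟨c, h1⟩ := h.sD s hs (e k)
    exact ⟨e.symm c, by rw [e.apply_symm_apply]; exact h1⟩
  permN g hg k := by
    obtain ⟨c, h1⟩ := h.permN g hg (e k)
    exact ⟨e.symm c, by rw [e.apply_symm_apply]; exact h1⟩
  lnY g hg k := by
    obtain ⟨c, x, hx, h1, h2⟩ := h.lnY g hg (e k)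
    refine ⟨e.symm c, x, ?_, ?_, ?_⟩
    · rwa [e.apply_symm_apply]
    · rw [e.apply_symm_apply]; exact h1
    · rw [e.apply_symm_apply]; exact h2

/-- reindexing of `Src` -/
theorem src_equiv {G : Type u} [Group G] {ι κ : Type u} {S : Subgroup G} {N l : ι → Subgroup G} {q : ι → ℕ}
    (h : Src S N l q) (e : κ ≃ ι) : Src S (fun k => N (e k)) (fun k => l (e k)) fun k => q (e k) where
  act P hP := by
    obtain ⟨F, i1, i2, i3, k, hk, M, hb, h1, h2⟩ := h.act P hP
    refine ⟨F, i1, i2, i3, k, hk, M, hb, h1, fun j => ?_⟩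
    obtain ⟨b, h3⟩ := h2 j
    exact ⟨e.symm b, by simpa using h3⟩
  mov k := by
    obtain ⟨P, hP, F, i1, i2, i3, m, hm, M, hb, h1, h2, h3⟩ := h.mov (e k)
    refine ⟨P, hP, F, i1, i2, i3, m, hm, M, hb, h1, h2, fun j => ?_⟩
    obtain ⟨c, h4⟩ := h3 j
    exact ⟨e.symm c, by simpa using h4⟩

/-- reindexing of `Co` -/
theorem co_equiv {G : Type u} [Group G] {ι : Type v} {κ : Type w} (W : ι → Subgroup G) (e : κ ≃ ι) (k : κ) :
    Co (fun k => W (e k)) k = Co W (e k) := by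
  refine le_antisymm (iSup_le fun j => ?_) (iSup_le fun j => ?_)
  · exact le_iSup (fun j : {j // j ≠ e k} => W j) ⟨e j, fun hj => j.2 (e.injective hj)⟩
  · have h1 : e.symm j ≠ k := fun h2 => j.2 ((e.apply_symm_apply _).symm.trans (congrArg e h2))
    have h2 : W (e (e.symm j)) ≤ ⨆ j : {j // j ≠ k}, W (e j) :=
      le_iSup (fun j : {j // j ≠ k} => W (e j)) ⟨e.symm j, h1⟩
    rw [e.apply_symm_apply] at h2
    exact h2

/-- reindexing of `Left` -/
theorem left_equiv {G : Type u} [Group G] {ι : Type v} {κ : Type w} {S : Subgroup G} {W : ι → Subgroup G}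
    (h : Left S W) (e : κ ≃ ι) : Left S fun k => W (e k) := fun k x y h1 h2 => by
  rw [co_equiv W e k] at h1 h2
  exact h _ x y h1 h2

/-- **at least two classes from their sockets** -/
theorem wMul_of (hl : LeftBlk.{u}) (ha : LeftAll B) (hp : LeftPerm B) (hr : WRun K B) (h1 : WLeftOne K B)
    (hf : WLeftFld K B) (h3 : WLeftMany K B) : WMul K B := by
  classical
  intro G _ _ hK S hB hW hm ι _ W hCM hij
  by_cases hL : Left (S : Subgroup G) W
  swap
  · exact hr G hK S hB hW hm ι W hCM hij hL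
  obtain ⟨κ, _, N, E, D, l, q, side, hN, hsrc, hfit⟩ := hl G S hW hm ι W hCM hij hL
  have hall := ha G S hB hW hm ι W hCM hij hL κ N E D l q side hN hsrc hfit
  have hperm := hp G S hB hW hm ι W hCM hij hL κ N E D l q side hN hsrc hfit hall
  by_cases h3' : ∀ a b : κ, ∃ c, c ≠ a ∧ c ≠ b
  · exact h3 G hK S hB hW hm ι W hCM hij hL κ N E D l q side hN hsrc hfit hall hperm h3'
  have hne : ∀ i : ι, ∃ b, side b = i := by
    intro i
    by_contra hc
    push Not at hc
    have h4 : W i = ⊥ := by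
      rw [hfit i, eq_bot_iff]
      exact iSup_le fun b => absurd b.2 (hc b.1)
    exact hCM.ne i h4
  obtain ⟨i0, i1, hi01⟩ := hij
  obtain ⟨b0, hb0⟩ := hne i0
  obtain ⟨b1, hb1⟩ := hne i1
  have h01 : b0 ≠ b1 := by
    rintro rfl
    exact hi01 (hb0.symm.trans hb1)
  have hallb : ∀ k, k = b0 ∨ k = b1 := by
    push Not at h3'
    obtain ⟨a, b, hab⟩ := h3'
    have h5 : ∀ k, k = a ∨ k = b := fun k => by
      by_contra hk
      push Not at hk
      exact hk.2 (hab k hk.1)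
    intro k
    rcases h5 k with h6 | h6 <;> rcases h5 b0 with h7 | h7 <;> rcases h5 b1 with h8 | h8 <;>
      first
        | exact Or.inl (h6.trans h7.symm)
        | exact Or.inr (h6.trans h8.symm)
        | exact absurd (h7.trans h8.symm) h01
  have hinj : Function.Injective side := by
    intro b b' hbb
    rcases hallb b with rfl | rfl <;> rcases hallb b' with rfl | rfl
    · rfl
    · exact absurd (hb0.symm.trans (hbb.trans hb1)) hi01
    · exact absurd (hb0.symm.trans (hbb.symm.trans hb1)) hi01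
    · rfl
  let g : ULift.{u} (Fin 2) → κ := fun i => if i.down = 0 then b0 else b1
  have hg0 : g ⟨0⟩ = b0 := rfl
  have hg1 : g ⟨1⟩ = b1 := rfl
  have hgb : Function.Bijective g := by
    constructor
    · rintro ⟨a⟩ ⟨b⟩ hab
      fin_cases a <;> fin_cases b
      · rfl
      · exact absurd hab h01
      · exact absurd hab.symm h01
      · rfl
    · intro k
      rcases hallb k with h | h
      · exact ⟨⟨0⟩, by rw [h]; rfl⟩
      · exact ⟨⟨1⟩, by rw [h]; rfl⟩
  have hsb : Function.Bijective side := ⟨hinj, hne⟩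
  let eg : ULift.{u} (Fin 2) ≃ κ := Equiv.ofBijective g hgb
  let es : κ ≃ ι := Equiv.ofBijective side hsb
  have hWN : ∀ b : κ, W (side b) = N b := by
    intro b
    rw [hfit (side b)]
    refine le_antisymm (iSup_le fun c => ?_) (le_iSup (fun c : {c // side c = side b} => N c) ⟨b, rfl⟩)
    rw [hinj c.2]
  have hCM2 : CM (S : Subgroup G) (fun i : ULift.{u} (Fin 2) => N (g i)) := by
    have h5 := hCM.equiv (eg.trans es)
    have h6 : (fun i : ULift.{u} (Fin 2) => W ((eg.trans es) i)) = fun i => N (g i) := by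
      funext i
      exact hWN (g i)
    rwa [h6] at h5
  let dn : Fin 2 ≃ ULift.{u} (Fin 2) := Equiv.ulift.symm
  have hL2 : Left (S : Subgroup G) (fun i : Fin 2 => N (g ⟨i⟩)) := by
    have h5 := left_equiv hL (dn.trans (eg.trans es))
    have h6 : (fun i : Fin 2 => W ((dn.trans (eg.trans es)) i)) = fun i => N (g ⟨i⟩) := by
      funext i
      exact hWN (g ⟨i⟩)
    rwa [h6] at h5
  have hNB := nbs_equiv hN eg
  have hS2 := src_equiv hsrc eg
  have hA2 : AllB (S : Subgroup G) (fun i : Fin 2 => N (g ⟨i⟩)) := fun i => hall (g ⟨i⟩)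
  have hcl : ∀ c ∈ centralizer (zc (S : Subgroup G) : Set G), ∀ i : Fin 2, c ∈ normalizer (l (g ⟨i⟩) : Set G) := by
    intro c hc i
    obtain ⟨b', h5, h6⟩ := hperm c hc (g ⟨i⟩)
    rw [hinj h5] at h6
    rw [mem_normalizer_iff]
    intro x
    nth_rw 2 [← h6]
    rw [← MulAut.conj_apply]
    exact (smul_mem_pointwise_smul_iff (a := MulAut.conj c) (S := l (g ⟨i⟩)) (x := x)).symm
  by_cases hF : NoFld (S : Subgroup G) (fun i : Fin 2 => N (g ⟨i⟩)) fun i => l (g ⟨i⟩)
  · exact h1 G hK S hB hW hm (fun i => N (g ⟨i⟩)) hCM2 hL2 (fun i => E (g ⟨i⟩)) (fun i => D (g ⟨i⟩))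
      (fun i => l (g ⟨i⟩)) (fun i => q (g ⟨i⟩)) hNB hS2 hA2 hcl hF
  · exact hf G hK S hB hW hm (fun i => N (g ⟨i⟩)) hCM2 hL2 (fun i => E (g ⟨i⟩)) (fun i => D (g ⟨i⟩))
      (fun i => l (g ⟨i⟩)) (fun i => q (g ⟨i⟩)) hNB hS2 hA2 hcl hF

/-- **one class from its sockets** -/
theorem wOne_of (hc : OneBlk.{u}) (hs : WOneS K B) (h1 : WOneOne K B) (h2 : WOneTwo K B) (h3 : WOneMany K B) :
    WOne K B := by
  intro G _ _ hK S hB hW hm hCM
  rcases hc G S hW hm hCM with ⟨ι, _, N, E, D, l, q, hq, hne, h, hsrc⟩ | ⟨I, i1, i2, N, E, Om, i3, i4, phi, h⟩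
  · have h0 : 0 < Nat.card ι := Nat.card_pos
    by_cases e1 : Nat.card ι = 1
    · exact h1 G hK S hB hW hm hCM ι N E D l q hq h hsrc e1
    by_cases e2 : Nat.card ι = 2
    · exact h2 G hK S hB hW hm hCM ι N E D l q hq h hsrc e2
    exact h3 G hK S hB hW hm hCM ι N E D l q hq h hsrc (by omega)
  · exact hs G hK S hB hW hm hCM I N E Om phi h

end trees

end Cfsg.Agent.Omega.NOThreeL.RRed.WideTree

end

section


/-!
# Box R, classes: the vectors of full support (#26368 `FS`, #26343 `tr`)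

* `NatBlk.trans` : `D` is transitive on `N ∖ {1}`; **`nbs_orbs`** : `NBs` gives `Orbs (MZ S) N E (N b ∖ {1})`; `nbs_hdif`;
* `NBsJ` : for an `MZ S`-invariant set `J` of blocks, `R = ⨆ b ∈ J, N b`, `B = ⨆ b ∉ J, N b`:
  **`exists_full`** : `z ∈ R ⊓ zc S`, `z ≠ 1`, all components `b ∈ J` in `O b`; **`fact_of`** for every such `z`;
  **`tr_of`** : blocks which are `MZ S`-conjugate are conjugate under `MZ S ⊓ C(z) ⊓ C(z')`;
* classes `cls : ι → κ`, `W k = ⨆_{cls b = k} N b` : `inv_cls`, `W_eq`, `coW_eq`; `nS_one`, `nS_co` : `n ∈ N(S)` which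
  permutes the `W k` and fixes `z` (support `{i}`), resp. `e` (support `κ ∖ {i}`), normalises `W i`.
-/

set_option autoImplicit false
set_option linter.unusedSectionVars false

namespace Cfsg.Agent.Omega.NOThreeL.RRed.FullSup

open Subgroup Cfsg Cfsg.Agent.ZN
open Cfsg.Agent.Omega.NOThreeL.Merge (MZ)
open Cfsg.Agent.Omega.NOThreeL.RTree (RB)
open Cfsg.Agent.Omega.NOThreeL.RRed.Blk
open Cfsg.Agent.Omega.NOThreeL.RRed.WideTree (NatBlk NBs)
open Cfsg.Agent.Omega.NOThreeL.RZ.TwoC.DecE (Orbs PP)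

open scoped Pointwise Matrix

universe u v w

section nat

variable {G : Type u} [Group G] {S D N l : Subgroup G} {F : Type} [Field F] {e : G → Fin 2 → F}

/-- `SL₂(F)` is transitive on nonzero vectors -/
theorem sl_from {x : Fin 2 → F} (hx : x ≠ 0) : ∃ M : Matrix.SpecialLinearGroup (Fin 2) F, M.1.mulVec ![1, 0] = x := by
  by_cases h0 : x 0 = 0
  · have h1 : x 1 ≠ 0 := by
      intro h1
      apply hx
      funext i
      fin_cases i
      · exact h0
      · exact h1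
    refine ⟨⟨!![0, -(x 1)⁻¹; x 1, 0], ?_⟩, ?_⟩
    · rw [Matrix.det_fin_two_of]
      field_simp
      ring
    · funext i
      fin_cases i
      · simp [Matrix.mulVec, dotProduct, h0]
      · simp [Matrix.mulVec, dotProduct]
  · refine ⟨⟨!![x 0, 0; x 1, (x 0)⁻¹], ?_⟩, ?_⟩
    · rw [Matrix.det_fin_two_of]
      field_simp
      ring
    · funext i
      fin_cases i
      · simp [Matrix.mulVec, dotProduct]
      · simp [Matrix.mulVec, dotProduct]

theorem sl_trans {x y : Fin 2 → F} (hx : x ≠ 0) (hy : y ≠ 0) :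
    ∃ M : Matrix.SpecialLinearGroup (Fin 2) F, M.1.mulVec x = y := by
  obtain ⟨A, hA⟩ := sl_from hx
  obtain ⟨B, hB⟩ := sl_from hy
  refine ⟨B * A⁻¹, ?_⟩
  rw [← hA, Matrix.mulVec_mulVec, ← Matrix.SpecialLinearGroup.coe_mul, inv_mul_cancel_right, hB]

variable (h : NatBlk S D N l F e)
include h

theorem e_one : e 1 = 0 := by
  have h1 := h.mul 1 (one_mem _) 1 (one_mem _)
  rw [one_mul] at h1
  exact left_eq_add.1 h1

theorem e_ne {v : G} (hv : v ∈ N) (h1 : v ≠ 1) : e v ≠ 0 := fun h0 => h1 (h.inj v hv h0)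

theorem sq_one [CharP F 2] {v : G} (hv : v ∈ N) : v * v = 1 := by
  refine h.inj _ (mul_mem hv hv) ?_
  rw [h.mul v hv v hv]
  funext i
  exact CharTwo.add_self_eq_zero _

theorem e_inj [CharP F 2] {v w : G} (hv : v ∈ N) (hw : w ∈ N) (e1 : e v = e w) : v = w := by
  have h1 : v * w = 1 := by
    refine h.inj _ (mul_mem hv hw) ?_
    rw [h.mul v hv w hw, e1]
    funext i
    exact CharTwo.add_self_eq_zero _
  have h2 : v * w = w * w := by rw [h1, sq_one h hw]
  exact mul_right_cancel h2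

/-- `D` is transitive on `N ∖ {1}` -/
theorem NatBlk_trans [CharP F 2] (hD : D ≤ normalizer (N : Set G)) {x y : G} (hx : x ∈ N) (hx1 : x ≠ 1) (hy : y ∈ N)
    (hy1 : y ≠ 1) : ∃ g ∈ D, g * x * g⁻¹ = y := by
  obtain ⟨M, hM⟩ := sl_trans (e_ne h hx hx1) (e_ne h hy hy1)
  obtain ⟨g, hg, hgM⟩ := h.full M
  exact ⟨g, hg, e_inj h (conj_of (hD hg) hx) hy (by rw [hgM x hx, hM])⟩

theorem card_even [Finite G] [CharP F 2] : Even (Nat.card N) := by
  obtain ⟨v, hv, hev⟩ := h.sur ![1, 0]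
  have h1 : v ≠ 1 := by
    rintro rfl
    rw [e_one h] at hev
    have := congrFun hev 0
    simp at this
  have h2 : orderOf (⟨v, hv⟩ : N) = 2 := by
    refine orderOf_eq_prime ?_ fun e1 => h1 (congrArg Subtype.val e1)
    exact Subtype.ext (by show v ^ 2 = 1; rw [pow_two]; exact sq_one h hv)
  rw [even_iff_two_dvd, ← h2]
  exact orderOf_dvd_natCard _

theorem odd_sharp [Finite G] [CharP F 2] : Odd (Nat.card {x | x ∈ N ∧ x ≠ 1}) := by
  have h1 : Nat.card {x | x ∈ N ∧ x ≠ 1} + 1 = Nat.card N := by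
    have e1 : {x | x ∈ N ∧ x ≠ 1} = (N : Set G) \ {1} := rfl
    rw [e1]
    have h2 := Set.ncard_sdiff_singleton_add_one (s := (N : Set G)) (a := 1) N.one_mem (Set.toFinite _)
    exact h2
  have h2 := card_even h
  rw [← h1] at h2
  rcases Nat.even_or_odd (Nat.card {x | x ∈ N ∧ x ≠ 1}) with h3 | h3
  · exact absurd h2 (Nat.not_even_iff_odd.2 h3.add_one)
  · exact h3

/-- `N` is generated by differences of elements of `N ∖ {1}` -/
theorem le_diff [CharP F 2] :
    N ≤ closure {g | ∃ x ∈ {x | x ∈ N ∧ x ≠ 1}, ∃ y ∈ {x | x ∈ N ∧ x ≠ 1}, g = y * x⁻¹} := by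
  intro v hv
  by_cases hv1 : v = 1
  · rw [hv1]; exact one_mem _
  have key : ∀ u : Fin 2 → F, u ≠ 0 → u ≠ e v →
      v ∈ closure {g | ∃ x ∈ {x | x ∈ N ∧ x ≠ 1}, ∃ y ∈ {x | x ∈ N ∧ x ≠ 1}, g = y * x⁻¹} := by
    intro u hu huv
    obtain ⟨x, hx, hxu⟩ := h.sur u
    refine subset_closure ⟨x, ⟨hx, ?_⟩, v * x, ⟨mul_mem hv hx, ?_⟩, by group⟩
    · rintro rfl
      rw [e_one h] at hxu
      exact hu hxu.symm
    · intro h1
      have h2 : v * x = x * x := by rw [h1, sq_one h hx]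
      have h3 : v = x := mul_right_cancel h2
      exact huv (by rw [h3, hxu])
  by_cases h1 : (![1, 0] : Fin 2 → F) = e v
  · refine key ![0, 1] ?_ ?_
    · intro h2
      have := congrFun h2 1
      simp at this
    · rw [← h1]
      intro h2
      have := congrFun h2 1
      simp at this
  · refine key ![1, 0] ?_ h1
    intro h2
    have := congrFun h2 0
    simp at this

end nat

section nbs

variable {G : Type u} [Group G] [Finite G] {S : Subgroup G} {ι : Type u} {N E D l : ι → Subgroup G} {q : ι → ℕ}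

/-- **natural blocks: `O b = N b ∖ {1}`** -/
theorem nbs_orbs (h : NBs S N E D l q) : Orbs (MZ S) N E (fun b => {x | x ∈ N b ∧ x ≠ 1}) where
  sub b := fun _ hx => hx.1
  one b := fun hx => hx.2 rfl
  odd b := by
    obtain ⟨F, _, _, _, e, -, hn⟩ := h.nat b
    exact odd_sharp hn
  tr b := by
    obtain ⟨F, _, _, _, e, -, hn⟩ := h.nat b
    intro x hx y hy
    obtain ⟨g, hg, h1⟩ := NatBlk_trans hn ((h.DE b).trans (h.dec.EN b)) hx.1 hx.2 hy.1 hy.2
    exact ⟨g, h.DE b hg, h1⟩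
  inv g _ b c hbc x hx := ⟨(conj_smul hbc).1 hx.1, fun h1 => hx.2 (by
    have h2 : g⁻¹ * (g * x * g⁻¹) * g = g⁻¹ * 1 * g := by rw [h1]
    simpa [mul_assoc] using h2)⟩

theorem nbs_hdif (h : NBs S N E D l q) (b : ι) :
    N b ≤ closure {g | ∃ x ∈ {x | x ∈ N b ∧ x ≠ 1}, ∃ y ∈ {x | x ∈ N b ∧ x ≠ 1}, g = y * x⁻¹} := by
  obtain ⟨F, _, _, _, e, -, hn⟩ := h.nat b
  exact le_diff hn

end nbs

/-! ### `R = ⨆ b ∈ J, N b`, `B = ⨆ b ∉ J, N b` -/

section inv

variable {G : Type u} [Group G] [Finite G] {S : Sylow 2 G} {ι : Type v} [Finite ι] {N E : ι → Subgroup G}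
  {O : ι → Set G} {J : Set ι}

/-- **the vector of full support** -/
theorem exists_full (hB : RB S) (h : Dec (S : Subgroup G) (MZ (S : Subgroup G)) (Wd (S : Subgroup G)) N E ⊥)
    (o : Orbs (MZ (S : Subgroup G)) N E O) (hJ : InvJ (MZ (S : Subgroup G)) N J) (hne : J.Nonempty) :
    ∃ z ∈ FSup N ⊥ O J, z ∈ (⨆ b : J, N b) ⊓ zc (S : Subgroup G) ∧ z ≠ 1 := by
  obtain ⟨z, hz, hzS⟩ := exists_fsup h o S.isPGroup' hJ
  have hW : z ∈ Wd (S : Subgroup G) := (iSup_le fun b : J => h.NU b : (⨆ b : J, N b) ≤ _) hz.1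
  refine ⟨z, hz, mem_inf.2 ⟨hz.1, zc_of_fix hB hW fun s hs => ?_⟩, fsup_ne_one h o hz hne⟩
  rw [mul_inv_eq_iff_eq_mul]
  exact (mem_centralizer_singleton_iff.1 (hzS hs))

/-- **`fact`** -/
theorem fact_of (h : Dec (S : Subgroup G) (MZ (S : Subgroup G)) (Wd (S : Subgroup G)) N E ⊥)
    (o : Orbs (MZ (S : Subgroup G)) N E O) (hJ : InvJ (MZ (S : Subgroup G)) N J) {z : G} (hz : z ∈ FSup N ⊥ O J) :
    MZ (S : Subgroup G) ≤ (MZ (S : Subgroup G) ⊓ centralizer ((⨆ b : {b // b ∉ J}, N b : Subgroup G) : Set G)) ⊔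
      (MZ (S : Subgroup G) ⊓ centralizer ({z} : Set G)) := by
  have h1 := fsup_le h o hJ hz
  have e : CoJ N ⊥ J = ⨆ b : {b // b ∉ J}, N b := sup_bot_eq _
  rwa [e] at h1

/-- **863's `tr`** -/
theorem tr_of (h : Dec (S : Subgroup G) (MZ (S : Subgroup G)) (Wd (S : Subgroup G)) N E ⊥)
    (o : Orbs (MZ (S : Subgroup G)) N E O) (hJ : InvJ (MZ (S : Subgroup G)) N J) {z z' : G} (hz : z ∈ FSup N ⊥ O J)
    (hz' : z' ∈ FSup N ⊥ O Jᶜ) {b c : ι} (hbc : ∃ y ∈ MZ (S : Subgroup G), MulAut.conj y • N b = N c) :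
    ∃ k ∈ MZ (S : Subgroup G) ⊓ centralizer ({z} : Set G) ⊓ centralizer ({z'} : Set G),
      MulAut.conj k • N b = N c := by
  obtain ⟨y, hy, hyb⟩ := hbc
  obtain ⟨g, hg, h1⟩ := fsup_joint h o hJ hz hz' hy
  have hgL : g ∈ MZ (S : Subgroup G) := RZ.TwoC.DecE.E_le h hg
  have hgc : g ∈ normalizer (N c : Set G) := by
    have h2 : (⨆ b, E b) ≤ normalizer (N c : Set G) := iSup_le fun d => by
      by_cases hd : d = c
      · rw [hd]; exact h.EN c
      · exact (h.EC d c hd).trans (centralizer_le_normalizer _)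
    exact h2 hg
  refine ⟨g⁻¹ * y, mem_inf.2 ⟨mem_inf.2 ⟨mul_mem (inv_mem hgL) hy, h1.1⟩, h1.2⟩, ?_⟩
  rw [map_mul, mul_smul, hyb]
  exact RZ.TwoC.DecE.smul_of_norm (inv_mem hgc)

end inv

/-! ### Classes -/

section cls

variable {G : Type u} [Group G] {S L U : Subgroup G} {ι : Type v} {κ : Type w} {N E : ι → Subgroup G}
  {W : κ → Subgroup G} {cls : ι → κ}

/-- the blocks of one class are `L`-invariant -/
theorem inv_cls (h : Dec S L U N E ⊥) (hW : ∀ k, W k = ⨆ b : {b // cls b = k}, N b)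
    (hn : ∀ k, L ≤ normalizer (W k : Set G)) (k : κ) : InvJ L N {b | cls b = k} := by
  intro g hg b hb c hbc
  by_contra hc
  have h1 : N b ≤ W k := by rw [hW]; exact le_iSup (fun b : {b // cls b = k} => N b) ⟨b, hb⟩
  have h2 : N c ≤ W k := by
    rw [← hbc]
    rintro _ ⟨x, hx, rfl⟩
    exact conj_of (hn k hg) (h1 hx)
  have h3 : W k ≤ Co N ⊥ c := by
    rw [hW]
    exact iSup_le fun d => h.N_le_Co fun e => hc (by rw [← e]; exact d.2)
  apply h.ne c
  rw [eq_bot_iff, ← (show N c ⊓ Co N ⊥ c = ⊥ from h.ind c)]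
  exact le_inf le_rfl (h2.trans h3)

theorem W_eq (hW : ∀ k, W k = ⨆ b : {b // cls b = k}, N b) (k : κ) :
    W k = ⨆ b : ({b | cls b = k} : Set ι), N b := hW k

theorem coW_eq (hW : ∀ k, W k = ⨆ b : {b // cls b = k}, N b) (k : κ) :
    (⨆ j : {j // j ≠ k}, W j) = ⨆ b : {b // b ∉ ({b | cls b = k} : Set ι)}, N b := by
  apply le_antisymm
  · refine iSup_le fun j => ?_
    rw [hW]
    exact iSup_le fun b => le_iSup (fun b : {b // b ∉ ({b | cls b = k} : Set ι)} => N b)
      ⟨b.1, fun e => j.2 (by rw [← b.2]; exact e)⟩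
  · refine iSup_le fun b => ?_
    refine le_trans ?_ (le_iSup (fun j : {j // j ≠ k} => W j) ⟨cls b.1, b.2⟩)
    rw [hW]
    exact le_iSup (fun c : {c // cls c = cls b.1} => N c) ⟨b.1, rfl⟩

/-- a class vector of full support is outside `⨆ m ≠ k, W m` for every class `k` of its support -/
theorem not_mem_of_fsup (h : Dec S L U N E ⊥) {O : ι → Set G} (o : Orbs L N E O)
    (hW : ∀ k, W k = ⨆ b : {b // cls b = k}, N b) {J : Set ι} {e : G} (he : e ∈ FSup N ⊥ O J) {b : ι} (hb : b ∈ J) :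
    e ∉ ⨆ m : {m // m ≠ cls b}, W m := by
  intro h1
  obtain ⟨n, hn, hc⟩ := he.2 b hb
  have h2 : (⨆ m : {m // m ≠ cls b}, W m) ≤ Co N ⊥ b := by
    refine iSup_le fun m => ?_
    rw [hW]
    exact iSup_le fun d => h.N_le_Co fun e => m.2 (by rw [← d.2, e])
  have h3 := h.uniq hc (h.comp_one (h2 h1))
  exact o.one b (h3 ▸ hn)

end cls

section perm

variable {G : Type u} [Group G] {κ : Type w} {W : κ → Subgroup G} {P : Subgroup G}
  (hne : ∀ i, W i ≠ ⊥) (hind : ∀ i, W i ⊓ (⨆ j : {j // j ≠ i}, W j) = ⊥)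
  (hP : ∀ n ∈ P, ∀ i, ∃ j, MulAut.conj n • W i = W j)
include hne hind

theorem W_inj {i j : κ} (e : W i = W j) : i = j := by
  by_contra hij
  apply hne j
  rw [eq_bot_iff, ← hind j]
  exact le_inf le_rfl (by rw [← e]; exact le_iSup (fun m : {m // m ≠ j} => W m) ⟨i, hij⟩)

include hP

/-- `n` fixes the class `i`: it maps the other classes to classes `≠ i` -/
theorem norm_co {n : G} (hn : n ∈ P) {i : κ} (hi : MulAut.conj n • W i = W i) :
    n ∈ normalizer (W i : Set G) ∧ n ∈ normalizer ((⨆ j : {j // j ≠ i}, W j : Subgroup G) : Set G) := by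
  have key : ∀ n ∈ P, MulAut.conj n • W i = W i → ∀ x ∈ (⨆ j : {j // j ≠ i}, W j),
      n * x * n⁻¹ ∈ ⨆ j : {j // j ≠ i}, W j := by
    intro n hn hi x hx
    have h1 : MulAut.conj n • (⨆ j : {j // j ≠ i}, W j) ≤ ⨆ j : {j // j ≠ i}, W j := by
      rw [show MulAut.conj n • (⨆ j : {j // j ≠ i}, W j) = ⨆ j : {j // j ≠ i}, MulAut.conj n • W j from
        Subgroup.map_iSup _ _]
      refine iSup_le fun j => ?_
      obtain ⟨m, hm⟩ := hP n hn j
      rw [hm]
      refine le_iSup (fun j : {j // j ≠ i} => W j) ⟨m, fun e => j.2 ?_⟩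
      rw [e, ← hi] at hm
      exact W_inj hne hind (smul_left_cancel _ hm)
    exact h1 ((conj_smul rfl).1 hx)
  have hi' : MulAut.conj n⁻¹ • W i = W i := by
    conv_lhs => rw [← hi]
    rw [map_inv, inv_smul_smul]
  constructor
  · rw [mem_normalizer_iff]
    exact fun x => conj_smul hi
  · rw [mem_normalizer_iff]
    refine fun x => ⟨fun hx => key n hn hi x hx, fun hx => ?_⟩
    have h1 := key n⁻¹ (inv_mem hn) hi' _ hx
    have e : n⁻¹ * (n * x * n⁻¹) * n⁻¹⁻¹ = x := by group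
    rwa [e] at h1

/-- **`FS.nS` for one class** -/
theorem nS_one {i : κ} {z : G} (hz : z ∈ W i) (hz1 : z ≠ 1) :
    centralizer ({z} : Set G) ⊓ P ≤ normalizer (W i : Set G) ⊓
      normalizer ((⨆ j : {j // j ≠ i}, W j : Subgroup G) : Set G) := by
  rintro n ⟨hnz, hn⟩
  obtain ⟨j, hj⟩ := hP n hn i
  have h1 : z ∈ W j := by
    have h2 := (conj_smul hj).1 hz
    rwa [mem_centralizer_singleton_iff.1 hnz, mul_inv_cancel_right] at h2
  have h3 : j = i := by
    by_contra hji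
    apply hz1
    have h4 : z ∈ W i ⊓ (⨆ j : {j // j ≠ i}, W j) :=
      mem_inf.2 ⟨hz, (le_iSup (fun j : {j // j ≠ i} => W j) ⟨j, hji⟩) h1⟩
    rwa [hind, mem_bot] at h4
  rw [h3] at hj
  exact mem_inf.2 (norm_co hne hind hP hn hj)

/-- **`FS.nS` for all classes but one** -/
theorem nS_co {i : κ} {e : G} (he : e ∈ ⨆ j : {j // j ≠ i}, W j)
    (hf : ∀ k, k ≠ i → e ∉ ⨆ m : {m // m ≠ k}, W m) :
    centralizer ({e} : Set G) ⊓ P ≤ normalizer ((⨆ j : {j // j ≠ i}, W j : Subgroup G) : Set G) ⊓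
      normalizer (W i : Set G) := by
  rintro n ⟨hnz, hn⟩
  obtain ⟨k, hk⟩ := hP n hn i
  have h3 : k = i := by
    by_contra hki
    apply hf k hki
    have h1 : MulAut.conj n • (⨆ j : {j // j ≠ i}, W j) ≤ ⨆ m : {m // m ≠ k}, W m := by
      rw [show MulAut.conj n • (⨆ j : {j // j ≠ i}, W j) = ⨆ j : {j // j ≠ i}, MulAut.conj n • W j from
        Subgroup.map_iSup _ _]
      refine iSup_le fun j => ?_
      obtain ⟨m, hm⟩ := hP n hn j
      rw [hm]
      refine le_iSup (fun m : {m // m ≠ k} => W m) ⟨m, fun e => j.2 ?_⟩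
      rw [e, ← hk] at hm
      exact W_inj hne hind (smul_left_cancel _ hm)
    have h2 := h1 ((conj_smul rfl).1 he)
    rwa [mem_centralizer_singleton_iff.1 hnz, mul_inv_cancel_right] at h2
  rw [h3] at hk
  have h4 := norm_co hne hind hP hn hk
  exact mem_inf.2 ⟨h4.2, h4.1⟩

end perm

end Cfsg.Agent.Omega.NOThreeL.RRed.FullSup

end

section


/-!
# NO-3L, WideAll, one natural block (`WOneOne`): the active minimal parabolics

`V` is a natural `SL₂(F)`-module (coordinates `e`), `T ≤ S` acts on `V` as the full root group of the line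
`{x | x 1 = 0}`, `P ∈ P*(S)`, `V_P = zl S P ≤ V`, `T ≰ O₂(P)`: then `C_{Z}(P) = 1` (`fix_eq_one`).
-/

set_option autoImplicit false
set_option linter.unusedSectionVars false
set_option linter.unusedVariables false

namespace Cfsg.Agent.Omega.NOThreeL.RRed.WOneA

open Subgroup Pointwise Cfsg Cfsg.Agent.ZN Cfsg.Agent.Omega.MinPar Cfsg.Agent.Omega.Frame
open Cfsg.Agent.Omega.FrameNOFF
open Cfsg.Agent.Omega.FFThm (ElemM OffM NoOverM ConclM NatKM SymKM NatK SymK ActsSL ActsSym)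
open Cfsg.Agent.Omega.FrameFF (cv)
open Cfsg.Agent.ZN.CaseTwo (syl_of_sylow)
open Cfsg.Agent.Omega.NatPair (ap exists_ap)
open Cfsg.Agent.Lib.SL2Mat

universe u

variable {G : Type u} [Group G]

/-- `|K| ≤ |L| |X|` for a homomorphism of `K` into `X` with kernel `L`. -/
theorem card_map_le [Finite G] {X : Type*} [AddGroup X] [Finite X] {K L : Subgroup G} (hLK : L ≤ K) (f : G → X)
    (hf : ∀ v ∈ K, ∀ w ∈ K, f (v * w) = f v + f w)
    (hk : ∀ v ∈ K, f v = 0 ↔ v ∈ L) : Nat.card K ≤ Nat.card L * Nat.card X := by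
  let φ : K →* Multiplicative X := MonoidHom.mk' (fun v => Multiplicative.ofAdd (f v)) (by
    rintro ⟨v, hv⟩ ⟨w, hw⟩
    exact congrArg Multiplicative.ofAdd (hf v hv w hw))
  have h1 : Nat.card φ.ker * Nat.card φ.range = Nat.card K := by
    rw [← Subgroup.index_ker, Subgroup.card_mul_index]
  have h2 : Nat.card φ.range ≤ Nat.card X := by
    have h3 : Nat.card φ.range ≤ Nat.card (Multiplicative X) := Subgroup.card_le_card_group _
    exact h3
  have h3 : Nat.card φ.ker = Nat.card L := by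
    refine Nat.card_congr ⟨fun v => ⟨v.1.1, (hk v.1.1 v.1.2).1 ?_⟩, fun z => ⟨⟨z.1, hLK z.2⟩, ?_⟩, fun _ => rfl,
      fun _ => rfl⟩
    · exact congrArg Multiplicative.toAdd (MonoidHom.mem_ker.1 v.2)
    · exact MonoidHom.mem_ker.2 (congrArg Multiplicative.ofAdd ((hk z.1 (hLK z.2)).2 z.2))
  rw [← h1, h3]
  exact Nat.mul_le_mul_left _ h2

section main

variable [Finite G] {S : Sylow 2 G}

/-- an element of `S` which acts trivially on the natural quotient centralises `V_P` -/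
theorem cent_of_up {F : Type} [Field F] [Finite F] [CharP F 2] {P : Subgroup G} {k : ℕ}
    (hG : IsCharacteristicTwoType G) (hP : IsParS (S : Subgroup G) P)
    (M : NatKM F (S : Subgroup G) P (zl (S : Subgroup G) P) (cv (S : Subgroup G) P) k) (hk : 0 < k)
    {x a : G} (hx : x ∈ zl (S : Subgroup G) P) (hxe : M.e x = fun _ => ![0, 1]) (ha : a ∈ (S : Subgroup G))
    {b : Fin k → F} (hb : ActsSL M.e (zl (S : Subgroup G) P) (cv (S : Subgroup G) P) a fun i => up (b i))
    (h : M.e (a * x * a⁻¹) = M.e x) : a ∈ centralizer (zl (S : Subgroup G) P : Set G) := by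
  have hbz : b = 0 := by
    funext i
    have h2 := hb.1 x hx i
    rw [h, hxe] at h2
    have h4 := congrFun h2 0
    rw [VF.Nat.ap_up_0] at h4
    simp at h4
    exact h4.symm
  refine mem_centralizer_iff.2 fun v hv => ?_
  have hker : a ∈ IId.Cv.kern M.toNatK := by
    refine ⟨hP.le ha, fun v hv => ?_⟩
    funext i
    rw [hb.1 v hv i, hbz]
    refine VF.Nat.ext2' ?_ ?_
    · rw [VF.Nat.ap_up_0]; simp
    · rw [VF.Nat.ap_up_1]
  exact (IId.Cv.comm_of_quot hG S hP M.toNatK hk ha hker v hv).symm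

/-- **`C_Z(P) = 1`** for `P ∈ P*(S)` with `V_P ≤ V`, `V` a natural `SL₂(F)`-module, `T ≤ S` the root group of a
line, `T ≰ O₂(P)`. -/
theorem fix_eq_one (hc : IsCharacteristicTwoType G) {P V T : Subgroup G} (hP : IsParS (S : Subgroup G) P)
    (hVP : zl (S : Subgroup G) P ≤ V) (hV : V ≤ centralizer (V : Set G)) (hTS : T ≤ (S : Subgroup G))
    (hTP : ¬ T ≤ o2 P) {F : Type} [Field F] [Finite F] [CharP F 2] {e : G → Fin 2 → F}
    (mul : ∀ v ∈ V, ∀ w ∈ V, e (v * w) = e v + e w) (inj : ∀ v ∈ V, e v = 0 → v = 1)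
    (sur : ∀ x, ∃ v ∈ V, e v = x)
    (root : ∀ s ∈ T, ∃ c : F, ∀ v ∈ V, e (s * v * s⁻¹) = ![e v 0 + c * e v 1, e v 1])
    (syl : ∀ c : F, ∃ s ∈ T, ∀ v ∈ V, e (s * v * s⁻¹) = ![e v 0 + c * e v 1, e v 1]) {z : G}
    (hz : z ∈ zc (S : Subgroup G)) (hzP : z ∈ centralizer (P : Set G)) : z = 1 := by
  classical
  set U : Subgroup G := zl (S : Subgroup G) P with hU
  have hSP := hP.le
  have hTP' : T ≤ P := hTS.trans hSP
  have hn : P ≤ normalizer (U : Set G) := MinSimple.VModule.le_normalizer_zl _ _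
  have hzU : z ∈ U := MinSimple.VModule.zc_le_zl _ _ hz
  -- equality in `V`
  have hinj : ∀ v ∈ V, ∀ w ∈ V, e v = e w → v = w := by
    intro v hv w hw h
    have h1 := mul (v * w⁻¹) (mul_mem hv (inv_mem hw)) w hw
    rw [inv_mul_cancel_right, h] at h1
    exact mul_inv_eq_one.1 (inj _ (mul_mem hv (inv_mem hw)) (left_eq_add.1 (by rwa [add_comm] at h1)))
  have hTU : ∀ s ∈ T, ∀ v ∈ U, s * v * s⁻¹ ∈ U := fun s hs v hv =>
    (mem_normalizer_iff.1 (hn (hTP' hs)) v).1 hv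
  -- a moved element
  have hTC : ¬ T ≤ centralizer (U : Set G) := by
    intro h
    apply hTP
    have h1 := IsParS.inf_centralizer S hc hP
    rw [← h1]
    exact le_inf hTS h
  obtain ⟨t, ht, htC⟩ := SetLike.not_le_iff_exists.1 hTC
  -- fixed elements have `e v 1 = 0`
  have hfix : ∀ v ∈ V, (∀ s ∈ T, s * v * s⁻¹ = v) → e v 1 = 0 := by
    intro v hv h
    obtain ⟨s, hs, h1⟩ := syl 1
    have h2 := h1 v hv
    rw [h s hs] at h2
    have h3 := congrFun h2 0
    simp at h3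
    exact h3
  have hmov : ∀ v ∈ V, e v 1 = 0 → ∀ s ∈ T, s * v * s⁻¹ ∈ V → s * v * s⁻¹ = v := by
    intro v hv h0 s hs hsv
    obtain ⟨c, hcv⟩ := root s hs
    refine hinj _ hsv v hv ?_
    rw [hcv v hv, h0, mul_zero, add_zero]
    funext i
    fin_cases i
    · rfl
    · exact h0.symm
  have hz1 : e z 1 = 0 := by
    refine hfix z (hVP hzU) fun s hs => ?_
    rw [mem_centralizer_iff.1 hzP s (hTP' hs), mul_inv_cancel_right]
  -- `z` is a commutator
  have key : ∀ x ∈ U, e x 1 ≠ 0 → ∃ s ∈ T, s * x * s⁻¹ = z * x := by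
    intro x hx hx1
    obtain ⟨s, hs, h1⟩ := syl (e z 0 / e x 1)
    refine ⟨s, hs, hinj _ (hVP (hTU s hs x hx)) _ (hVP (mul_mem hzU hx)) ?_⟩
    rw [h1 x (hVP hx), mul z (hVP hzU) x (hVP hx)]
    funext i
    fin_cases i
    · simp [div_mul_cancel₀ _ hx1, add_comm]
    · simp [hz1]
  -- a moved vector
  obtain ⟨x, hx, hx1⟩ : ∃ x ∈ U, e x 1 ≠ 0 := by
    by_contra hcon
    push Not at hcon
    apply htC
    refine mem_centralizer_iff.2 fun v hv => ?_
    have h1 := hmov v (hVP hv) (hcon v hv) t ht (hVP (hTU t ht v hv))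
    rw [mul_inv_eq_iff_eq_mul] at h1
    exact h1.symm
  -- `T` is an offender on `V_P`
  have hTcent : ∀ s ∈ T, e (s * x * s⁻¹) 0 - e x 0 = 0 ↔ s ∈ T ⊓ centralizer (U : Set G) := by
    intro s hs
    obtain ⟨c, hcv⟩ := root s hs
    constructor
    · intro h0
      have h1 := congrFun (hcv x (hVP hx)) 0
      have h2 : c * e x 1 = 0 := by
        have h3 : e (s * x * s⁻¹) 0 = e x 0 + c * e x 1 := h1
        rw [h3, add_sub_cancel_left] at h0
        exact h0
      have h3 : c = 0 := (mul_eq_zero.1 h2).resolve_right hx1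
      refine ⟨hs, mem_centralizer_iff.2 fun v hv => ?_⟩
      have h4 : s * v * s⁻¹ = v := by
        refine hinj _ (hVP (hTU s hs v hv)) v (hVP hv) ?_
        rw [hcv v (hVP hv), h3, zero_mul, add_zero]
        funext i
        fin_cases i <;> rfl
      rw [mul_inv_eq_iff_eq_mul] at h4
      exact h4.symm
    · rintro ⟨-, h1⟩
      have h2 : s * x * s⁻¹ = x := by
        rw [← mem_centralizer_iff.1 h1 x hx, mul_inv_cancel_right]
      rw [h2, sub_self]
  have hcT : Nat.card T = Nat.card ↥(T ⊓ centralizer (U : Set G)) * Nat.card F := by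
    refine card_map inf_le_left (fun s => e (s * x * s⁻¹) 0 - e x 0) ?_ ?_ hTcent
    · intro s hs s' hs'
      obtain ⟨c, hcv⟩ := root s hs
      obtain ⟨c', hcv'⟩ := root s' hs'
      have h1 : s * s' * x * (s * s')⁻¹ = s * (s' * x * s'⁻¹) * s⁻¹ := by group
      have h2 := hcv _ (hVP (hTU s' hs' x hx))
      have h3 := hcv' x (hVP hx)
      have h4 := hcv x (hVP hx)
      rw [h1, h2, h3, h4]
      simp
      ring
    · intro y
      obtain ⟨s, hs, h1⟩ := syl (y / e x 1)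
      refine ⟨s, hs, ?_⟩
      rw [h1 x (hVP hx)]
      simp [div_mul_cancel₀ _ hx1]
  have hcU : Nat.card U ≤ Nat.card ↥(U ⊓ centralizer (T : Set G)) * Nat.card F := by
    refine card_map_le inf_le_left (fun v => e v 1) ?_ ?_
    · intro v hv w hw
      rw [mul v (hVP hv) w (hVP hw)]; rfl
    · intro v hv
      constructor
      · intro h0
        refine ⟨hv, mem_centralizer_iff.2 fun s hs => ?_⟩
        have h1 := hmov v (hVP hv) h0 s hs (hVP (hTU s hs v hv))
        rwa [mul_inv_eq_iff_eq_mul] at h1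
      · rintro ⟨-, h1⟩
        refine hfix v (hVP hv) fun s hs => ?_
        rw [mem_centralizer_iff.1 h1 s hs, mul_inv_cancel_right]
  have hact0 : ∀ s : G, s ∈ T → (∀ v ∈ V, e (s * v * s⁻¹) = e v) → s ∈ centralizer (U : Set G) := by
    intro s hs h
    refine mem_centralizer_iff.2 fun v hv => ?_
    have h4 : s * v * s⁻¹ = v := hinj _ (hVP (hTU s hs v hv)) v (hVP hv) (h v (hVP hv))
    rw [mul_inv_eq_iff_eq_mul] at h4
    exact h4.symm
  have hoff : OffM U T := by
    refine ⟨⟨fun a ha => ?_, fun a ha b hb => ?_⟩, hTC, ?_⟩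
    · -- squares
      refine mem_centralizer_iff.2 fun v hv => ?_
      obtain ⟨c, hcv⟩ := root a ha
      have h2 := hcv _ (hVP (hTU a ha v hv))
      rw [hcv v (hVP hv)] at h2
      have h3 : a ^ 2 * v * (a ^ 2)⁻¹ = v := by
        have h5 : a ^ 2 * v * (a ^ 2)⁻¹ = a * (a * v * a⁻¹) * a⁻¹ := by rw [pow_two]; group
        rw [h5]
        refine hinj _ (hVP (hTU a ha _ (hTU a ha v hv))) v (hVP hv) ?_
        rw [h2]
        funext i
        fin_cases i
        · simp [add_assoc, CharTwo.add_self_eq_zero]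
        · simp
      rw [mul_inv_eq_iff_eq_mul] at h3
      exact h3.symm
    · -- commutators
      obtain ⟨c, hcv⟩ := root a ha
      obtain ⟨d, hdv⟩ := root b hb
      have h3 : ∀ v ∈ U, a * b * v * (a * b)⁻¹ = b * a * v * (b * a)⁻¹ := by
        intro v hv
        have h5 : a * b * v * (a * b)⁻¹ = a * (b * v * b⁻¹) * a⁻¹ := by group
        have h6 : b * a * v * (b * a)⁻¹ = b * (a * v * a⁻¹) * b⁻¹ := by group
        rw [h5, h6]
        refine hinj _ (hVP (hTU a ha _ (hTU b hb v hv))) _ (hVP (hTU b hb _ (hTU a ha v hv))) ?_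
        rw [hcv _ (hVP (hTU b hb v hv)), hdv _ (hVP (hTU a ha v hv)), hcv v (hVP hv), hdv v (hVP hv)]
        funext i
        fin_cases i
        · simp; ring
        · simp
      refine mem_centralizer_iff.2 fun v hv => ?_
      have hv' : (b * a)⁻¹ * v * (b * a) ∈ U :=
        (mem_normalizer_iff.1 (hn (mul_mem (hTP' hb) (hTP' ha))) _).2 (by
          have e1 : b * a * ((b * a)⁻¹ * v * (b * a)) * (b * a)⁻¹ = v := by group
          rwa [e1])
      have h4 := h3 _ hv'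
      have e1 : b * a * ((b * a)⁻¹ * v * (b * a)) * (b * a)⁻¹ = v := by group
      rw [e1] at h4
      have e2 : a * b * a⁻¹ * b⁻¹ * v = a * b * ((b * a)⁻¹ * v * (b * a)) * (a * b)⁻¹ * (a * b * a⁻¹ * b⁻¹) := by group
      rw [e2, h4]
    · -- order
      rw [hcT]
      calc Nat.card U * Nat.card ↥(T ⊓ centralizer (U : Set G))
          ≤ (Nat.card ↥(U ⊓ centralizer (T : Set G)) * Nat.card F) * Nat.card ↥(T ⊓ centralizer (U : Set G)) :=
            Nat.mul_le_mul_right _ hcU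
        _ = _ := by ring
  -- the FF theorem
  obtain ⟨-, hconcl⟩ := FFBr.ffthmM G (S : Subgroup G) P (syl_of_sylow S hP.le) hP.toIsMinPar
    (hP.isLoc.char2 S hc) ⟨T, hTP', hoff⟩
  have hDV : cv (S : Subgroup G) P ≤ U := inf_le_left
  have hzD : z ∈ cv (S : Subgroup G) P :=
    mem_inf.2 ⟨hzU, centralizer_le (MinSimple.VModule.oddGen_le P) hzP⟩
  have hend : ∀ y ∈ U, ∀ s ∈ T, s * y = y * s → s * y * s⁻¹ = z * y → z = 1 := by
    intro y hy s hs h1 h2
    rw [h1, mul_inv_cancel_right] at h2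
    exact right_eq_mul.1 h2
  rcases hconcl with ⟨F', _, _, _, k, hk, ⟨M⟩⟩ | ⟨k, m, hk, hm, ⟨M⟩⟩
  · obtain ⟨I, hI1, -⟩ := M.offM T hTS hoff
    obtain ⟨y, hy, hye⟩ := M.surj fun _ => ![0, 1]
    have hy1 : e y 1 ≠ 0 := by
      intro h0
      obtain ⟨b, -, hb⟩ := hI1 t ht
      refine htC (cent_of_up hc hP M hk hy hye (hTS ht) hb ?_)
      rw [hmov y (hVP hy) h0 t ht (hVP (hTU t ht y hy))]
    obtain ⟨s, hs, hsy⟩ := key y hy hy1
    obtain ⟨b, -, hb⟩ := hI1 s hs
    have h1 : s ∈ centralizer (U : Set G) := by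
      refine cent_of_up hc hP M hk hy hye (hTS hs) hb ?_
      rw [hsy, M.mul z hzU y hy, (M.ker z hzU).2 hzD, zero_add]
    exact hend y hy s hs (mem_centralizer_iff.1 h1 y hy).symm hsy
  · obtain ⟨s, hs, hsx⟩ := key x hx hx1
    refine hend x hx s hs (cent_sym hc hP M hk hm hx (hTP' hs) ?_) hsx
    rw [hsx, M.mul z hzU x hx, (M.ker z hzU).2 hzD, zero_add]

end main

end Cfsg.Agent.Omega.NOThreeL.RRed.WOneA

end
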