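import Cfsg.Agent.Mrg.Omega.NOThreeL.RRed.TvFin
import Cfsg.Agent.Mrg.Omega.NOThreeL.RRed.Blk.Orbit
import Cfsg.Agent.Mrg.Omega.Lie.PermNorm


/-!
# NO-3L, box R: the letter blocks (885's inputs `irr`, `mv`, `syl`, `Kind` of the field `bad`)

`Lett V R φ`: `V` = even sets of the letters `Ω` (`|Ω|` odd), `R` acts as `Sym(Ω)`.

* `img φ T` : the permutations of letters induced by `T`; `img_syl` : a Sylow 2-subgroup if `T` is one of `R`;
* `Lett.irr`, `Lett.not_cent` : `R` is irreducible on `V`, `T` moves `V`;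
* `rel_of_norm` : `d` normalises `V`, `R` and maps transvections to transvections: `d` permutes the letters;
* `cent_of_odd` : if it has odd order and normalises `T` modulo `C(V)`, then it centralises `V`;
* over `TvFin.Full` : `irr`, `mv`, `syl`, **`kind`**.
-/

set_option autoImplicit false
set_option linter.unusedSectionVars false

namespace Cfsg.Agent.Omega.NOThreeL.RRed.TvKind

open Subgroup
open Cfsg.Agent.Omega.KL.TwoS (Rel Lett even_symmDiff)
open Cfsg.Agent.ZN.ChoiceSit (Syl syl_not_dvd)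

universe u w

section lett

variable {G : Type u} [Group G] {Ω : Type w} [Fintype Ω] [DecidableEq Ω] {V R : Subgroup G} {φ : Finset Ω → G}

/-- The permutations of letters induced by `T`. -/
def img (φ : Finset Ω → G) (T : Subgroup G) : Subgroup (Equiv.Perm Ω) where
  carrier := {σ | ∃ t ∈ T, Rel φ t σ}
  mul_mem' := by
    rintro σ τ ⟨s, hs, h1⟩ ⟨t, ht, h2⟩
    exact ⟨s * t, mul_mem hs ht, h1.mul h2⟩
  one_mem' := ⟨1, one_mem _, Rel.one⟩
  inv_mem' := by
    rintro σ ⟨s, hs, h1⟩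
    exact ⟨s⁻¹, inv_mem hs, h1.inv⟩

theorem mem_img {T : Subgroup G} {σ : Equiv.Perm Ω} : σ ∈ img φ T ↔ ∃ t ∈ T, Rel φ t σ := Iff.rfl

variable (L : Lett V R φ) (h3 : 3 ≤ Fintype.card Ω)

/-- The action on the letters. -/
noncomputable def pi : R →* Equiv.Perm Ω where
  toFun g := (L.act g g.2).choose
  map_one' := L.unique h3 (L.act _ (1 : R).2).choose_spec Rel.one
  map_mul' g h := L.unique h3 (L.act _ (g * h).2).choose_spec
    ((L.act _ g.2).choose_spec.mul (L.act _ h.2).choose_spec)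

theorem pi_spec (g : R) : Rel φ g (pi L h3 g) := (L.act g g.2).choose_spec

theorem pi_surj : Function.Surjective (pi L h3) := by
  intro σ
  obtain ⟨g, hg, h⟩ := L.all σ
  exact ⟨⟨g, hg⟩, L.unique h3 (pi_spec L h3 ⟨g, hg⟩) h⟩

include L h3 in
theorem img_eq {T : Subgroup G} (hT : T ≤ R) : img φ T = (T.subgroupOf R).map (pi L h3) := by
  ext σ
  constructor
  · rintro ⟨t, ht, h⟩
    exact ⟨⟨t, hT ht⟩, mem_subgroupOf.2 ht, L.unique h3 (pi_spec L h3 ⟨t, hT ht⟩) h⟩
  · rintro ⟨t, ht, rfl⟩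
    exact ⟨t, mem_subgroupOf.1 ht, pi_spec L h3 t⟩

include L h3 in
/-- `img φ T` as a Sylow 2-subgroup. -/
theorem exists_img [Finite G] {T : Subgroup G} (hT : Syl T R) :
    ∃ P : Sylow 2 (Equiv.Perm Ω), (P : Subgroup (Equiv.Perm Ω)) = img φ T := by
  have hf : Fact (Nat.Prime 2) := ⟨Nat.prime_two⟩
  have h1 : IsPGroup 2 (img φ T) := by
    rw [img_eq L h3 hT.1]
    exact (hT.2.1.comap_subtype).map _
  have h2 : ¬ 2 ∣ (img φ T).index := by
    rw [img_eq L h3 hT.1]
    intro h4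
    exact syl_not_dvd hT (h4.trans (Subgroup.index_map_dvd _ (pi_surj L h3)))
  exact ⟨h1.toSylow h2, rfl⟩

theorem map_swap_eq_iff {a b : Ω} (hab : a ≠ b) {s : Finset Ω} :
    s.map (Equiv.swap a b).toEmbedding = s ↔ (a ∈ s ↔ b ∈ s) := by
  constructor
  · intro h
    constructor
    · intro ha
      have h1 : Equiv.swap a b a ∈ s.map (Equiv.swap a b).toEmbedding := Finset.mem_map_of_mem _ ha
      rwa [Equiv.swap_apply_left, h] at h1
    · intro hb
      have h1 : Equiv.swap a b b ∈ s.map (Equiv.swap a b).toEmbedding := Finset.mem_map_of_mem _ hb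
      rwa [Equiv.swap_apply_right, h] at h1
  · intro h
    have h1 : ∀ x ∈ s, Equiv.swap a b x ∈ s := by
      intro x hx
      rcases eq_or_ne x a with rfl | hxa
      · rw [Equiv.swap_apply_left]; exact h.1 hx
      · rcases eq_or_ne x b with rfl | hxb
        · rw [Equiv.swap_apply_right]; exact h.2 hx
        · rwa [Equiv.swap_apply_of_ne_of_ne hxa hxb]
    refine Finset.eq_of_subset_of_card_le (fun y hy => ?_) (Finset.card_map _).ge
    obtain ⟨x, hx, rfl⟩ := Finset.mem_map.1 hy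
    exact h1 x hx

theorem symmDiff_map_swap {a b : Ω} {s : Finset Ω} (ha : a ∈ s) (hb : b ∉ s) :
    symmDiff s (s.map (Equiv.swap a b).toEmbedding) = {a, b} := by
  have hab : a ≠ b := fun e => hb (e ▸ ha)
  have hm : ∀ x, x ∈ s.map (Equiv.swap a b).toEmbedding ↔ Equiv.swap a b x ∈ s := by
    intro x
    constructor
    · intro hx
      obtain ⟨y, hy, rfl⟩ := Finset.mem_map.1 hx
      rw [Equiv.coe_toEmbedding, Equiv.swap_apply_self]
      exact hy
    · intro hx
      refine Finset.mem_map.2 ⟨_, hx, ?_⟩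
      rw [Equiv.coe_toEmbedding, Equiv.swap_apply_self]
  ext x
  rw [Finset.mem_symmDiff, hm, Finset.mem_insert, Finset.mem_singleton]
  rcases eq_or_ne x a with rfl | hxa
  · rw [Equiv.swap_apply_left]; tauto
  · rcases eq_or_ne x b with rfl | hxb
    · rw [Equiv.swap_apply_right]; tauto
    · rw [Equiv.swap_apply_of_ne_of_ne hxa hxb]; tauto

theorem exists_split {s : Finset Ω} {n : ℕ} (hs : s.card = 2 * (n + 1)) :
    ∃ a b : Ω, ∃ t : Finset Ω, a ≠ b ∧ s = symmDiff {a, b} t ∧ t.card = 2 * n := by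
  obtain ⟨a, ha⟩ : s.Nonempty := Finset.card_pos.1 (by omega)
  obtain ⟨b, hb⟩ : (s.erase a).Nonempty := Finset.card_pos.1 (by rw [Finset.card_erase_of_mem ha]; omega)
  have hab : b ≠ a := (Finset.mem_erase.1 hb).1
  have hbs : b ∈ s := (Finset.mem_erase.1 hb).2
  refine ⟨a, b, (s.erase a).erase b, hab.symm, ?_, ?_⟩
  · ext x
    rw [Finset.mem_symmDiff, Finset.mem_insert, Finset.mem_singleton, Finset.mem_erase, Finset.mem_erase]
    rcases eq_or_ne x a with rfl | hxa
    · tauto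
    · rcases eq_or_ne x b with rfl | hxb
      · tauto
      · tauto
  · rw [Finset.card_erase_of_mem hb, Finset.card_erase_of_mem ha]
    omega

include L in
/-- every even set is generated by pairs -/
theorem mem_of_pairs {W : Subgroup G} (h : ∀ a b : Ω, a ≠ b → φ {a, b} ∈ W) :
    ∀ (n : ℕ) (s : Finset Ω), s.card = 2 * n → φ s ∈ W := by
  intro n
  induction n with
  | zero =>
    intro s hs
    obtain rfl := Finset.card_eq_zero.1 (by simpa using hs)
    rw [L.phi_empty]
    exact one_mem _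
  | succ n ih =>
    intro s hs
    obtain ⟨a, b, t, hab, rfl, ht⟩ := exists_split hs
    rw [L.mul]
    exact mul_mem (h a b hab) (ih _ ht)

include L in
/-- `R` is irreducible on `V`. -/
theorem lett_irr {W : Subgroup G} (hW : W ≤ V) (hn : R ≤ normalizer (W : Set G)) (hne : W ≠ ⊥) : V ≤ W := by
  obtain ⟨⟨f, hf⟩, hf1⟩ := Subgroup.ne_bot_iff_exists_ne_one.1 hne
  obtain ⟨s, hs, rfl⟩ := (L.mem f).1 (hW hf)
  have hse : s ≠ ∅ := by
    rintro rfl
    exact hf1 (Subtype.ext L.phi_empty)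
  obtain ⟨a, ha⟩ := Finset.nonempty_iff_ne_empty.2 hse
  obtain ⟨b, hb⟩ : ∃ b, b ∉ s := by
    by_contra hcon
    push Not at hcon
    have h1 : s = Finset.univ := Finset.eq_univ_of_forall hcon
    rw [h1, Finset.card_univ] at hs
    exact (Nat.not_even_iff_odd.2 L.odd) hs
  have hab : a ≠ b := fun e => hb (e ▸ ha)
  -- one pair
  have hp : φ {a, b} ∈ W := by
    obtain ⟨g, hg, h⟩ := L.all (Equiv.swap a b)
    have h1 : g * φ s * g⁻¹ ∈ W := (mem_normalizer_iff.1 (hn hg) _).1 hf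
    rw [h s hs] at h1
    have h2 := mul_mem hf h1
    rwa [← L.mul, symmDiff_map_swap ha hb] at h2
  -- all pairs
  have hall : ∀ x y : Ω, x ≠ y → φ {x, y} ∈ W := by
    intro x y hxy
    obtain ⟨σ, h1, h2⟩ : ∃ σ : Equiv.Perm Ω, σ a = x ∧ σ b = y := by
      refine ⟨Equiv.swap (Equiv.swap a x b) y * Equiv.swap a x, ?_, ?_⟩
      · rw [Equiv.Perm.mul_apply, Equiv.swap_apply_left, Equiv.swap_apply_of_ne_of_ne _ hxy]
        intro e
        have : Equiv.swap a x a = Equiv.swap a x b := by rw [Equiv.swap_apply_left]; exact e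
        exact hab ((Equiv.swap a x).injective this)
      · rw [Equiv.Perm.mul_apply, Equiv.swap_apply_left]
    obtain ⟨g, hg, h⟩ := L.all σ
    have h4 : g * φ {a, b} * g⁻¹ ∈ W := (mem_normalizer_iff.1 (hn hg) _).1 hp
    rwa [L.pair h hab, h1, h2] at h4
  intro f hf
  obtain ⟨t, ⟨k, hk⟩, rfl⟩ := (L.mem f).1 hf
  exact mem_of_pairs L hall k t (by omega)

include L h3 in
/-- A Sylow 2-subgroup of `R` moves `V`. -/
theorem lett_mv [Finite G] {T : Subgroup G} (hT : Syl T R) : ¬ T ≤ centralizer (V : Set G) := by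
  have hf : Fact (Nat.Prime 2) := ⟨Nat.prime_two⟩
  intro hcon
  obtain ⟨P, hP⟩ := exists_img L h3 hT
  have h1 : img φ T = ⊥ := by
    rw [eq_bot_iff]
    rintro σ ⟨t, ht, h⟩
    rw [mem_bot]
    refine L.unique h3 h fun s hs => ?_
    have h2 : φ s ∈ V := (L.mem _).2 ⟨s, hs, rfl⟩
    have e : (1 : Equiv.Perm Ω).toEmbedding = Function.Embedding.refl Ω := by
      ext x
      simp
    rw [e, Finset.map_refl, ← mem_centralizer_iff.1 (hcon ht) _ h2, mul_inv_cancel_right]
  rw [h1] at hP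
  have h2 : ¬ 2 ∣ (⊥ : Subgroup (Equiv.Perm Ω)).index := hP ▸ P.not_dvd_index
  rw [index_bot, Nat.card_perm, Nat.card_eq_fintype_card] at h2
  exact h2 (Nat.Prime.dvd_factorial Nat.prime_two |>.2 (by omega))

/-! ### Elements normalising `V` and `R` -/

include L in
/-- a swap acts as a transvection -/
theorem tv_swap {x : G} {a b : Ω} (hab : a ≠ b) (hx : Rel φ x (Equiv.swap a b)) {w : G} (hw : w ∈ V) :
    x * w * x⁻¹ = w ∨ x * w * x⁻¹ = w * φ {a, b} := by
  obtain ⟨t, ht, rfl⟩ := (L.mem w).1 hw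
  rw [hx t ht]
  have key : ∀ {a b : Ω}, a ∈ t → b ∉ t → φ (t.map (Equiv.swap a b).toEmbedding) = φ t * φ {a, b} := by
    intro a b ha hb
    rw [← symmDiff_map_swap ha hb, L.mul, ← mul_assoc, L.phi_sq, one_mul]
  by_cases ha : a ∈ t
  · by_cases hb : b ∈ t
    · left; rw [(map_swap_eq_iff hab).2 (by tauto)]
    · right; exact key ha hb
  · by_cases hb : b ∈ t
    · right; rw [Equiv.swap_comm, Finset.pair_comm]; exact key hb ha
    · left; rw [(map_swap_eq_iff hab).2 (by tauto)]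

/-- the transvections in `R` are swaps -/
def Tvs (V R : Subgroup G) (φ : Finset Ω → G) : Prop :=
  ∀ y ∈ R, ∀ c ∈ V, y ∉ centralizer (V : Set G) → (∀ w ∈ V, y * w * y⁻¹ = w ∨ y * w * y⁻¹ = w * c) →
    ∃ a b : Ω, a ≠ b ∧ c = φ {a, b} ∧ Rel φ y (Equiv.swap a b)

theorem conj_mem' {W : Subgroup G} {d : G} (hd : d ∈ normalizer (W : Set G)) {x : G} (hx : x ∈ W) :
    d⁻¹ * x * d ∈ W := by
  have := (mem_normalizer_iff.1 (inv_mem hd) x).1 hx
  rwa [inv_inv] at this

include L h3 in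
/-- `d` maps pairs to pairs -/
theorem pair_pair (hP : Tvs V R φ) {d : G} (hV : d ∈ normalizer (V : Set G)) (hR : d ∈ normalizer (R : Set G))
    {a b : Ω} (hab : a ≠ b) : ∃ a' b' : Ω, a' ≠ b' ∧ d * φ {a, b} * d⁻¹ = φ {a', b'} ∧
      ∃ x ∈ R, Rel φ x (Equiv.swap a b) ∧ Rel φ (d * x * d⁻¹) (Equiv.swap a' b') := by
  obtain ⟨x, hx, h⟩ := L.all (Equiv.swap a b)
  have h2 : Even ({a, b} : Finset Ω).card := by rw [Finset.card_pair hab]; exact even_two
  have hc : φ {a, b} ∈ V := (L.mem _).2 ⟨_, h2, rfl⟩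
  have hA : d * x * d⁻¹ ∉ centralizer (V : Set G) := by
    intro hcon
    have h7 : x ∈ centralizer (V : Set G) := by
      rw [mem_centralizer_iff]
      intro v hv
      have h8 := mem_centralizer_iff.1 hcon _ ((mem_normalizer_iff.1 hV v).1 hv)
      have h9 : d * (v * x) * d⁻¹ = d * (x * v) * d⁻¹ := by
        calc d * (v * x) * d⁻¹ = d * v * d⁻¹ * (d * x * d⁻¹) := by group
          _ = d * x * d⁻¹ * (d * v * d⁻¹) := h8
          _ = _ := by group
      exact mul_left_cancel (mul_right_cancel h9)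
    have h8 : Equiv.swap a b = 1 := by
      refine L.unique h3 h fun s hs => ?_
      have h9 : φ s ∈ V := (L.mem _).2 ⟨s, hs, rfl⟩
      have e : (1 : Equiv.Perm Ω).toEmbedding = Function.Embedding.refl Ω := by
        ext x
        simp
      rw [e, Finset.map_refl, ← mem_centralizer_iff.1 h7 _ h9, mul_inv_cancel_right]
    exact hab (Equiv.swap_eq_one_iff.1 h8)
  have hB : ∀ w ∈ V, d * x * d⁻¹ * w * (d * x * d⁻¹)⁻¹ = w ∨
      d * x * d⁻¹ * w * (d * x * d⁻¹)⁻¹ = w * (d * φ {a, b} * d⁻¹) := by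
    intro w hw
    rcases tv_swap L hab h (conj_mem' hV hw) with e | e
    · left
      calc d * x * d⁻¹ * w * (d * x * d⁻¹)⁻¹ = d * (x * (d⁻¹ * w * d) * x⁻¹) * d⁻¹ := by group
        _ = w := by rw [e]; group
    · right
      calc d * x * d⁻¹ * w * (d * x * d⁻¹)⁻¹ = d * (x * (d⁻¹ * w * d) * x⁻¹) * d⁻¹ := by group
        _ = w * (d * φ {a, b} * d⁻¹) := by rw [e]; group
  obtain ⟨a', b', h4, h5, h6⟩ := hP (d * x * d⁻¹) ((mem_normalizer_iff.1 hR x).1 hx) (d * φ {a, b} * d⁻¹)
    ((mem_normalizer_iff.1 hV _).1 hc) hA hB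
  exact ⟨a', b', h4, h5, x, hx, h, h6⟩

theorem pair_symmDiff {a u v : Ω} (hu : u ≠ a) (hv : v ≠ a) (huv : u ≠ v) :
    symmDiff ({a, u} : Finset Ω) {a, v} = {u, v} := by
  ext x
  simp only [Finset.mem_symmDiff, Finset.mem_insert, Finset.mem_singleton]
  rcases eq_or_ne x a with rfl | hxa
  · simp [Ne.symm hu, Ne.symm hv]
  · rcases eq_or_ne x u with rfl | hxu
    · simp [hxa, huv]
    · simp [hxa, hxu]

theorem erase_symmDiff {a b : Ω} (hab : a ≠ b) :
    symmDiff ((Finset.univ : Finset Ω).erase a) (Finset.univ.erase b) = {a, b} := by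
  ext x
  simp only [Finset.mem_symmDiff, Finset.mem_insert, Finset.mem_singleton, Finset.mem_erase, Finset.mem_univ,
    and_true]
  rcases eq_or_ne x a with rfl | hxa
  · simp [hab]
  · rcases eq_or_ne x b with rfl | hxb
    · simp [hxa]
    · simp [hxa, hxb]

include L h3 in
/-- `d` permutes the vectors `φ (Ω ∖ {a})` -/
theorem erase_erase (hP : Tvs V R φ) {d : G} (hV : d ∈ normalizer (V : Set G)) (hR : d ∈ normalizer (R : Set G))
    (a : Ω) : ∃ a' : Ω, d * φ (Finset.univ.erase a) * d⁻¹ = φ (Finset.univ.erase a') := by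
  have h1 : φ (Finset.univ.erase a) ∈ V := (L.mem _).2 ⟨_, L.even_erase a, rfl⟩
  obtain ⟨s', hs', e⟩ := (L.mem _).1 ((mem_normalizer_iff.1 hV _).1 h1)
  -- a letter outside `s'`
  obtain ⟨y, hy⟩ : ∃ y, y ∉ s' := by
    by_contra hcon
    push Not at hcon
    rw [Finset.eq_univ_of_forall hcon, Finset.card_univ] at hs'
    exact (Nat.not_even_iff_odd.2 L.odd) hs'
  refine ⟨y, ?_⟩
  rw [← e]
  congr 1
  by_contra hne
  obtain ⟨y', hy', hyy⟩ : ∃ y', y' ∉ s' ∧ y' ≠ y := by
    by_contra hcon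
    push Not at hcon
    apply hne
    ext x
    rw [Finset.mem_erase]
    refine ⟨fun hx => ⟨fun e1 => hy (e1 ▸ hx), Finset.mem_univ _⟩, fun hx => ?_⟩
    by_contra hxs
    exact hx.1 (hcon x hxs)
  -- two letters in `s'`
  have hs0 : s' ≠ ∅ := by
    rintro rfl
    rw [L.phi_empty] at e
    have h2 : φ (Finset.univ.erase a) = 1 := by
      have h4 : d * φ (Finset.univ.erase a) * d⁻¹ = 1 := e.symm
      have h5 : φ (Finset.univ.erase a) = d⁻¹ * 1 * d := by rw [← h4]; group
      simpa using h5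
    have h4 := congrArg Finset.card (L.inj _ (L.even_erase a) h2)
    rw [Finset.card_erase_of_mem (Finset.mem_univ a), Finset.card_univ, Finset.card_empty] at h4
    omega
  obtain ⟨x, hx⟩ := Finset.nonempty_iff_ne_empty.2 hs0
  obtain ⟨x', hx'⟩ : (s'.erase x).Nonempty := by
    rw [Finset.nonempty_iff_ne_empty]
    intro h4
    have h5 := Finset.card_erase_of_mem hx
    rw [h4, Finset.card_empty] at h5
    have h6 : 0 < s'.card := Finset.card_pos.2 ⟨x, hx⟩
    obtain ⟨k, hk⟩ := hs'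
    omega
  have hxx : x' ≠ x := (Finset.mem_erase.1 hx').1
  have hx's : x' ∈ s' := (Finset.mem_erase.1 hx').2
  have hxy : x ≠ y := fun e1 => hy (e1 ▸ hx)
  have hx'y' : x' ≠ y' := fun e1 => hy' (e1 ▸ hx's)
  have hVi : d⁻¹ ∈ normalizer (V : Set G) := inv_mem hV
  have hRi : d⁻¹ ∈ normalizer (R : Set G) := inv_mem hR
  -- a pair which separates `s'` comes from a pair containing `a`
  have key : ∀ {x y : Ω}, x ∈ s' → y ∉ s' → ∃ u, u ≠ a ∧ d * φ {a, u} * d⁻¹ = φ {x, y} := by
    intro x y hx hy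
    have hxy : x ≠ y := fun e1 => hy (e1 ▸ hx)
    obtain ⟨u, v, huv, h5, z, hz, h6, h7⟩ := pair_pair L h3 hP hVi hRi hxy
    rw [inv_inv] at h5 h7
    have h8 : d * φ {u, v} * d⁻¹ = φ {x, y} := by rw [← h5]; group
    -- `a ∈ {u, v}`
    have h9 : a = u ∨ a = v := by
      by_contra hcon
      rw [not_or] at hcon
      have h10 := h7 _ (L.even_erase a)
      rw [(map_swap_eq_iff huv).2 (by
        simp only [Finset.mem_erase, Finset.mem_univ, and_true]
        exact ⟨fun _ => Ne.symm hcon.2, fun _ => Ne.symm hcon.1⟩)] at h10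
      have h11 : z * φ s' * z⁻¹ = φ s' := by
        rw [e]
        calc z * (d * φ (Finset.univ.erase a) * d⁻¹) * z⁻¹
            = d * (d⁻¹ * z * d * φ (Finset.univ.erase a) * (d⁻¹ * z * d)⁻¹) * d⁻¹ := by group
          _ = _ := by rw [h10]
      rw [h6 s' hs'] at h11
      have h12 := L.phi_inj (by rw [Finset.card_map]; exact hs') hs' h11
      have h13 := (map_swap_eq_iff hxy).1 h12
      exact hy (h13.1 hx)
    rcases h9 with rfl | rfl
    · exact ⟨v, huv.symm, h8⟩
    · exact ⟨u, huv, by rw [Finset.pair_comm]; exact h8⟩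
  obtain ⟨u, hu, h5⟩ := key hx hy
  obtain ⟨v, hv, h6⟩ := key hx's hy'
  have h7 : symmDiff ({x, y} : Finset Ω) {x', y'} = {x, y} ∪ {x', y'} := by
    ext t
    simp only [Finset.mem_symmDiff, Finset.mem_insert, Finset.mem_singleton, Finset.mem_union]
    have e1 : x ≠ y' := fun e1 => hy' (e1 ▸ hx)
    have e2 : x' ≠ y := fun e1 => hy (e1 ▸ hx's)
    constructor
    · tauto
    · rintro ((rfl | rfl) | (rfl | rfl))
      · left; exact ⟨Or.inl rfl, by rintro (h | h); exacts [hxx h.symm, e1 h]⟩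
      · left; exact ⟨Or.inr rfl, by rintro (h | h); exacts [e2 h.symm, hyy h.symm]⟩
      · right; exact ⟨Or.inl rfl, by rintro (h | h); exacts [hxx h, e2 h]⟩
      · right; exact ⟨Or.inr rfl, by rintro (h | h); exacts [e1 h.symm, hyy h]⟩
  have h8 : (symmDiff ({x, y} : Finset Ω) {x', y'}).card = 4 := by
    rw [h7, Finset.card_union_of_disjoint, Finset.card_pair hxy, Finset.card_pair hx'y']
    rw [Finset.disjoint_left]
    intro t h9 h10
    simp only [Finset.mem_insert, Finset.mem_singleton] at h9 h10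
    rcases h9 with rfl | rfl <;> rcases h10 with h | h
    · exact hxx h.symm
    · exact hy' (h ▸ hx)
    · exact hy (h ▸ hx's)
    · exact hyy h.symm
  have huv : u ≠ v := by
    rintro rfl
    rw [h5] at h6
    have h9 := L.phi_inj (by rw [Finset.card_pair hxy]; exact even_two)
      (by rw [Finset.card_pair hx'y']; exact even_two) h6
    rw [h9, symmDiff_self] at h8
    simp at h8
  obtain ⟨p, q, hpq, h9, -⟩ := pair_pair L h3 hP hV hR huv
  have h10 : φ (symmDiff ({x, y} : Finset Ω) {x', y'}) = φ {p, q} := by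
    rw [L.mul, ← h5, ← h6, ← h9, ← pair_symmDiff hu hv huv, L.mul]
    group
  have h11 := L.phi_inj (by rw [h8]; decide) (by rw [Finset.card_pair hpq]; exact even_two) h10
  rw [h11, Finset.card_pair hpq] at h8
  omega

include L h3 in
/-- **`d` permutes the letters.** -/
theorem rel_of_norm (hP : Tvs V R φ) {d : G} (hV : d ∈ normalizer (V : Set G)) (hR : d ∈ normalizer (R : Set G)) :
    ∃ σ : Equiv.Perm Ω, Rel φ d σ := by
  choose f hf using erase_erase L h3 hP hV hR
  have hinj : Function.Injective f := by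
    intro a b hab
    by_contra hne
    have h1 : d * φ (Finset.univ.erase a) * d⁻¹ = d * φ (Finset.univ.erase b) * d⁻¹ := by rw [hf, hf, hab]
    have h2 := mul_left_cancel (mul_right_cancel h1)
    have h4 := L.phi_inj (L.even_erase a) (L.even_erase b) h2
    have h5 : b ∈ (Finset.univ : Finset Ω).erase a := Finset.mem_erase.2 ⟨Ne.symm hne, Finset.mem_univ _⟩
    rw [h4] at h5
    exact (Finset.mem_erase.1 h5).1 rfl
  refine ⟨Equiv.ofBijective f (Finite.injective_iff_bijective.1 hinj), ?_⟩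
  set σ := Equiv.ofBijective f (Finite.injective_iff_bijective.1 hinj) with hσ
  have hσf : ∀ x, σ x = f x := fun _ => rfl
  have hpair : ∀ a b : Ω, a ≠ b → d * φ {a, b} * d⁻¹ = φ {σ a, σ b} := by
    intro a b hab
    rw [← erase_symmDiff hab, L.mul, ← erase_symmDiff (σ.injective.ne hab), L.mul, hσf, hσf, ← hf, ← hf]
    group
  have key : ∀ (n : ℕ) (s : Finset Ω), s.card = 2 * n → d * φ s * d⁻¹ = φ (s.map σ.toEmbedding) := by
    intro n
    induction n with
    | zero =>
      intro s hs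
      obtain rfl := Finset.card_eq_zero.1 (by simpa using hs)
      rw [Finset.map_empty, L.phi_empty]
      group
    | succ n ih =>
      intro s hs
      obtain ⟨a, b, t, hab, rfl, ht⟩ := exists_split hs
      have e : (symmDiff {a, b} t).map σ.toEmbedding = symmDiff {σ a, σ b} (t.map σ.toEmbedding) := by
        ext x
        obtain ⟨z, rfl⟩ := σ.surjective x
        have h1 : ∀ s : Finset Ω, σ z ∈ s.map σ.toEmbedding ↔ z ∈ s := fun s => by
          rw [← Equiv.coe_toEmbedding, Finset.mem_map' σ.toEmbedding]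
        rw [h1, Finset.mem_symmDiff, Finset.mem_symmDiff, h1]
        simp only [Finset.mem_insert, Finset.mem_singleton, EmbeddingLike.apply_eq_iff_eq]
      rw [e, L.mul, L.mul, ← hpair a b hab, ← ih t ht]
      group
  intro s hs
  obtain ⟨k, hk⟩ := hs
  exact key k s (by omega)

include L h3 in
/-- **An element of odd order which normalises `V`, `R` and a Sylow 2-subgroup modulo `C(V)` centralises `V`.** -/
theorem cent_of_odd [Finite G] (hP : Tvs V R φ) {T : Subgroup G} (hT : Syl T R) {d : G} (ho : Odd (orderOf d))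
    (hV : d ∈ normalizer (V : Set G)) (hR : d ∈ normalizer (R : Set G))
    (hd : ∀ t ∈ T, ∃ t' ∈ T, ∀ w ∈ V, d * t * d⁻¹ * w * (d * t * d⁻¹)⁻¹ = t' * w * t'⁻¹) :
    d ∈ centralizer (V : Set G) := by
  obtain ⟨σ, hσ⟩ := rel_of_norm L h3 hP hV hR
  obtain ⟨P, hPi⟩ := exists_img L h3 hT
  have h1 : Odd (orderOf σ) := by
    have h2 := hσ.pow (orderOf d)
    rw [pow_orderOf_eq_one] at h2
    have h4 : σ ^ orderOf d = 1 := L.unique h3 h2 Rel.one
    exact Odd.of_dvd_nat ho (orderOf_dvd_of_pow_eq_one h4)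
  have key : ∀ τ ∈ (P : Subgroup (Equiv.Perm Ω)), σ * τ * σ⁻¹ ∈ (P : Subgroup (Equiv.Perm Ω)) := by
    intro τ hτ
    rw [hPi] at hτ ⊢
    obtain ⟨t, ht, h2⟩ := hτ
    obtain ⟨t', ht', h4⟩ := hd t ht
    refine ⟨t', ht', fun s hs => ?_⟩
    have h5 := ((hσ.mul h2).mul hσ.inv) s hs
    rw [← h4 _ ((L.mem _).2 ⟨s, hs, rfl⟩)]
    exact h5
  have hn : σ ∈ normalizer ((P : Subgroup (Equiv.Perm Ω)) : Set (Equiv.Perm Ω)) := by
    have hle : (P : Subgroup (Equiv.Perm Ω)).map (MulAut.conj σ).toMonoidHom ≤ (P : Subgroup (Equiv.Perm Ω)) := by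
      rintro _ ⟨τ, hτ, rfl⟩
      exact key τ hτ
    have hcard : Nat.card ((P : Subgroup (Equiv.Perm Ω)).map (MulAut.conj σ).toMonoidHom) =
        Nat.card (P : Subgroup (Equiv.Perm Ω)) :=
      Nat.card_congr ((P : Subgroup (Equiv.Perm Ω)).equivMapOfInjective _ (MulAut.conj σ).injective).symm.toEquiv
    have heq := Subgroup.eq_of_le_of_card_ge hle hcard.ge
    rw [mem_normalizer_iff]
    intro τ
    refine ⟨key τ, fun h => ?_⟩
    rw [← heq] at h
    obtain ⟨y, hy, hyx⟩ := h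
    have e : y = τ := (MulAut.conj σ).injective hyx
    rw [← e]
    exact hy
  have h2 := Cfsg.Agent.Omega.Lie.PermNorm.eq_one_of_normalizer P h1 hn
  rw [h2] at hσ
  exact L.cent_of_one hσ

end lett

/-! ### Over `TvFin.Full` -/

section full

open Cfsg.Agent.Omega.NOThreeL.RRed.Blk
open scoped Pointwise

variable {G : Type u} [Group G] {S M V : Subgroup G} {I : Type u} {N E : I → Subgroup G} {R₀ : Subgroup G}
  {Om : I → Type u} [∀ i, Fintype (Om i)] [∀ i, DecidableEq (Om i)] {phi : ∀ i, Finset (Om i) → G}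

/-- an element of `E b` which acts on `N b` as a transvection acts as one on `V` -/
theorem tvV_of (F : TvFin.Full S M V N E R₀ Om phi) {b : I} {y c : G} (hy : y ∈ E b)
    (h : ∀ w ∈ N b, y * w * y⁻¹ = w ∨ y * w * y⁻¹ = w * c) (hc : c ∈ N b) : TvFin.TvV V c y := by
  intro v hv
  rw [← F.toDec.sup_Co b] at hv
  obtain ⟨n, hn, x, hx, rfl⟩ := mem_sup_of (F.toDec.nor (F.toDec.NU b) (F.toDec.CoU b)) hv
  have hx1 : y * x * y⁻¹ = x := by
    have h1 : Co N R₀ b ≤ centralizer ({y} : Set G) := by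
      refine sup_le (iSup_le fun k => ?_) ?_
      · intro z hz
        rw [mem_centralizer_singleton_iff]
        exact (mem_centralizer_iff.1 (F.EC b k.1 (Ne.symm k.2) hy) z hz)
      · intro z hz
        rw [mem_centralizer_singleton_iff]
        exact (mem_centralizer_iff.1 (F.ER b hy) z hz)
    rw [← mem_centralizer_singleton_iff.1 (h1 hx)]
    group
  have e1 : y * (n * x) * y⁻¹ = (y * n * y⁻¹) * (y * x * y⁻¹) := by group
  rw [e1, hx1]
  rcases h n hn with e | e
  · left; rw [e]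
  · right
    rw [e, mul_assoc, mul_assoc, F.toDec.ucomm (F.toDec.NU b hc) (F.toDec.CoU b hx)]

/-- the transvections in `E b` on `N b` are swaps of letters -/
theorem tvs_blk (F : TvFin.Full S M V N E R₀ Om phi) (b : I) : Tvs (N b) (E b) (phi b) := by
  intro y hy c hc hne h
  have h1 := tvV_of F hy h hc
  have h2 : y ∉ centralizer (V : Set G) := fun h3 => hne ((centralizer_le (F.toDec.NU b)) h3)
  obtain ⟨i, hi, p, q, hpq, h4, h5⟩ := F.tvs y (F.EL b hy) c (F.toDec.NU b hc) h1 h2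
  have hib : i = b := by
    by_contra hib
    apply hne
    exact F.EC i b hib hi
  subst hib
  exact ⟨p, q, hpq, h4, h5⟩

/-- `irr` -/
theorem irr (F : TvFin.Full S M V N E R₀ Om phi) (b : I) {W : Subgroup G} (hW : W ≤ N b)
    (hn : E b ≤ normalizer (W : Set G)) (hne : W ≠ ⊥) : N b ≤ W := lett_irr (F.lett b) hW hn hne

variable [Finite G] {S : Sylow 2 G}

/-- `syl` -/
theorem syl (F : TvFin.Full (S : Subgroup G) M V N E R₀ Om phi) (b : I) : Syl ((S : Subgroup G) ⊓ E b) (E b) :=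
  F.toDec.syl_E b

/-- `syl`, in the form of 885 -/
theorem syl_max (F : TvFin.Full (S : Subgroup G) M V N E R₀ Om phi) (b : I) {T : Subgroup G} (hT : T ≤ E b)
    (h2 : IsPGroup 2 T) (h : (S : Subgroup G) ⊓ E b ≤ T) : T = (S : Subgroup G) ⊓ E b :=
  (syl F b).2.2 T hT h2 h

/-- `mv` -/
theorem mv (F : TvFin.Full (S : Subgroup G) M V N E R₀ Om phi) (b : I) :
    ¬ (S : Subgroup G) ⊓ E b ≤ centralizer (N b : Set G) := lett_mv (F.lett b) (F.three b) (syl F b)

/-- **`Kind`, letter blocks** -/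
theorem kind (F : TvFin.Full (S : Subgroup G) M V N E R₀ Om phi) (b : I) {d : G} (ho : Odd (orderOf d))
    (hN : d ∈ normalizer (N b : Set G)) (hE : d ∈ normalizer (E b : Set G))
    (hd : d ∈ normalizer (((S : Subgroup G) ⊓ E b ⊔ centralizer (N b : Set G) : Subgroup G) : Set G)) :
    d ∈ centralizer (N b : Set G) := by
  refine cent_of_odd (F.lett b) (F.three b) (tvs_blk F b) (syl F b) ho hN hE fun t ht => ?_
  have h1 : d * t * d⁻¹ ∈ (S : Subgroup G) ⊓ E b ⊔ centralizer (N b : Set G) :=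
    (mem_normalizer_iff.1 hd t).1 (mem_sup_left ht)
  have h2 : (S : Subgroup G) ⊓ E b ≤ normalizer (centralizer (N b : Set G) : Set G) := by
    refine (inf_le_right.trans (F.EN b)).trans fun g hg => ?_
    rw [mem_normalizer_iff]
    have key : ∀ g ∈ normalizer (N b : Set G), ∀ x ∈ centralizer (N b : Set G), g * x * g⁻¹ ∈
        centralizer (N b : Set G) := by
      intro g hg x hx
      rw [mem_centralizer_iff]
      intro v hv
      have h3 := mem_centralizer_iff.1 hx _ (conj_mem' hg hv)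
      calc v * (g * x * g⁻¹) = g * ((g⁻¹ * v * g) * x) * g⁻¹ := by group
        _ = g * x * g⁻¹ * v := by rw [h3]; group
    refine fun x => ⟨key g hg x, fun hx => ?_⟩
    have h3 := key g⁻¹ (inv_mem hg) _ hx
    have e : g⁻¹ * (g * x * g⁻¹) * g⁻¹⁻¹ = x := by group
    rwa [e] at h3
  obtain ⟨t', ht', k, hk, e⟩ := mem_sup_of h2 h1
  refine ⟨t', ht', fun w hw => ?_⟩
  rw [e]
  have h3 : k * w * k⁻¹ = w := cent hk hw
  calc t' * k * w * (t' * k)⁻¹ = t' * (k * w * k⁻¹) * t'⁻¹ := by group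
    _ = t' * w * t'⁻¹ := by rw [h3]

end full

end Cfsg.Agent.Omega.NOThreeL.RRed.TvKind
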