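import Cfsg.Agent.Mrg.Omega.NOThreeL.RRed.BlkG1
import Cfsg.Agent.Mrg.Omega.NOThreeL.RZ.Frame
import Cfsg.Agent.Mrg.Omega.NOThreeL.RRed.Base
import Cfsg.Agent.Mrg.Omega.KL.FlagNO
import Cfsg.Agent.Mrg.Omega.Assembly
import Cfsg.Agent.Mrg.Omega.FrameI

section


/-!
# NO-3L, box R: minimal exact offenders (#24537, #24733), text: helper245

`V = zl S L`.

* `exists_mx` : an exact offender contains a minimal exact one;
* `exact_split` : `A ≤ S` exact on `V`, moving `V_P`, `F = C_A(V_P)`: `F` is exact (or trivial) on `V`, `A` is an exact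
  offender on `V_P`, `C_V(F) = V_P C_V(A)`;
* **`GOne.exists_mx`** : `GOne S L P A` implies `GOne S L P B` for a minimal exact `B ≤ A`;
* `odd_le_ncl`, `odd_cent` : `A ≤ S`, `A ≰ O₂(P)`: `O²(P) ≤ ⟨A^P⟩`, `O²(P)` centralises `C_V(⟨A^L⟩)`.
-/

set_option autoImplicit false
set_option linter.unusedSectionVars false

namespace Cfsg.Agent.Omega.NOThreeL.RRed

open Subgroup Pointwise Cfsg Cfsg.Agent.ZN Cfsg.Agent.Omega.MinPar Cfsg.Agent.Omega.Frame
open Cfsg.Agent.Omega.FrameNOFF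
open Cfsg.Agent.Omega.FFThm (ElemM OffM NoOverM ConclM)
open Cfsg.Agent.ZN.ChoiceBase (cj)
open Cfsg.Agent.ZN.CaseTwo (syl_of_sylow)
open Cfsg.Agent.MinSimple.VModule (oddGen)

universe u

variable {G : Type u} [Group G]

/-- `A` is exact on `V`. -/
def Exa (V A : Subgroup G) : Prop :=
  Nat.card V * Nat.card ↥(A ⊓ centralizer (V : Set G)) = Nat.card A * Nat.card ↥(V ⊓ centralizer (A : Set G))

/-- **An exact offender contains a minimal exact one.** -/
theorem exists_mx [Finite G] {V A : Subgroup G} (hE : ElemM V A) (hp : IsPGroup 2 A)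
    (hne : ¬ A ≤ centralizer (V : Set G)) (hex : Exa V A) :
    ∃ B ≤ A, A ⊓ centralizer (V : Set G) ≤ B ∧ Mx V B := by
  obtain ⟨B, ⟨hBA, hAB, hBn, hBe⟩, hmin⟩ := Set.exists_min_image
    {B : Subgroup G | B ≤ A ∧ A ⊓ centralizer (V : Set G) ≤ B ∧ ¬ B ≤ centralizer (V : Set G) ∧ Exa V B}
    (fun B => Nat.card B) (Set.toFinite _) ⟨A, le_rfl, inf_le_left, hne, hex⟩
  refine ⟨B, hBA, hAB, ⟨VF.elemM_mono hE hBA, hp.to_le hBA, hBn, hBe, fun C hC hCe hCc => ?_⟩⟩
  by_cases hCn : C ≤ centralizer (V : Set G)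
  · exact Or.inl hCn
  · right
    have h1 : A ⊓ centralizer (V : Set G) ≤ C := (le_inf hAB inf_le_right).trans hCc
    have h2 := hmin C ⟨hC.trans hBA, h1, hCn, hCe⟩
    exact Subgroup.eq_of_le_of_card_ge hC h2

section fin

variable [Finite G] {S : Sylow 2 G} {L P A : Subgroup G}

/-- **`F = C_A(V_P)`, `A` exact on `V`.** -/
theorem exact_split (hc : IsCharacteristicTwoType G) (hP : IsParS (S : Subgroup G) P) (hPL : P ≤ L)
    (hno : NoOverM (zl (S : Subgroup G) L) L)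
    (hcomm : zl (S : Subgroup G) L ≤ centralizer (zl (S : Subgroup G) L : Set G))
    (hA : A ≤ (S : Subgroup G)) (hE : ElemM (zl (S : Subgroup G) L) A)
    (hex : Exa (zl (S : Subgroup G) L) A) (hne : ¬ A ≤ centralizer (zl (S : Subgroup G) P : Set G)) :
    Exa (zl (S : Subgroup G) L) (A ⊓ centralizer (zl (S : Subgroup G) P : Set G)) ∧
      Exa (zl (S : Subgroup G) P) A ∧ OffM (zl (S : Subgroup G) P) A ∧ ConclM (S : Subgroup G) P ∧
      zl (S : Subgroup G) L ⊓ centralizer ((A ⊓ centralizer (zl (S : Subgroup G) P : Set G) : Subgroup G) : Set G) =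
        zl (S : Subgroup G) P ⊔ (zl (S : Subgroup G) L ⊓ centralizer (A : Set G)) := by
  have hVU : zl (S : Subgroup G) P ≤ zl (S : Subgroup G) L := Star.zl_mono _ hPL
  set V : Subgroup G := zl (S : Subgroup G) L with hV
  set W : Subgroup G := zl (S : Subgroup G) P with hW
  set F : Subgroup G := A ⊓ centralizer (W : Set G) with hF
  have hCVW : centralizer (V : Set G) ≤ centralizer (W : Set G) := centralizer_le hVU
  have hAP := hA.trans hP.le
  have hAW : ElemM W A := ⟨fun a ha => hCVW (hE.sq a ha), fun a ha b hb => hCVW (hE.comm a ha b hb)⟩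
  have hPFF : (∃ A ≤ P, OffM W A) → NoOverM W P ∧ ConclM (S : Subgroup G) P := fun h =>
    FFBr.ffthmM G (S : Subgroup G) P (syl_of_sylow S hP.le) hP.toIsMinPar (hP.isLoc.char2 S hc) h
  have hnoW : Nat.card A * Nat.card ↥(W ⊓ centralizer (A : Set G)) ≤ Nat.card W * Nat.card F := by
    by_contra hcon
    have hoffW : OffM W A := ⟨hAW, hne, (not_le.1 hcon).le⟩
    exact hcon ((hPFF ⟨A, hAP, hoffW⟩).1 A hAP hAW)
  have hFV : F ⊓ centralizer (V : Set G) = A ⊓ centralizer (V : Set G) := by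
    rw [hF, inf_assoc, inf_eq_right.2 hCVW]
  have hFno := hno F ((inf_le_left.trans hAP).trans hPL) (VF.elemM_mono hE inf_le_left)
  rw [hFV] at hFno
  have e2 : W ⊓ (V ⊓ centralizer (A : Set G)) = W ⊓ centralizer (A : Set G) := by
    rw [← inf_assoc, inf_eq_left.2 hVU]
  have h1 := Star.card_sup_mul hcomm hVU (inf_le_left : V ⊓ centralizer (A : Set G) ≤ V)
  rw [e2] at h1
  have hsup : W ⊔ (V ⊓ centralizer (A : Set G)) ≤ V ⊓ centralizer (F : Set G) := by
    refine sup_le (le_inf hVU ?_) (le_inf inf_le_left (inf_le_right.trans (centralizer_le inf_le_left)))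
    exact le_centralizer_iff.1 inf_le_right
  have h2 := Subgroup.card_le_of_le hsup
  have hex' : Nat.card V * Nat.card ↥(A ⊓ centralizer (V : Set G)) =
    Nat.card A * Nat.card ↥(V ⊓ centralizer (A : Set G)) := hex
  -- numbers
  set m := Nat.card ↥(W ⊔ (V ⊓ centralizer (A : Set G)))
  set w := Nat.card ↥(W ⊓ centralizer (A : Set G))
  set c := Nat.card ↥(A ⊓ centralizer (V : Set G))
  set n := Nat.card ↥(V ⊓ centralizer (A : Set G))
  set nF := Nat.card ↥(V ⊓ centralizer (F : Set G))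
  set f := Nat.card F
  set a := Nat.card A
  set v := Nat.card V
  set W' := Nat.card W
  have pw : 0 < w := Nat.card_pos
  have pc : 0 < c := Nat.card_pos
  have pn : 0 < n := Nat.card_pos
  have pf : 0 < f := Nat.card_pos
  have pm : 0 < m := Nat.card_pos
  -- `f nF ≤ v c = a n`, `a w ≤ W' f`, `m w = W' n`, `m ≤ nF`
  have i1 : f * m ≤ a * n := by
    calc f * m ≤ f * nF := Nat.mul_le_mul_left _ h2
      _ ≤ v * c := hFno
      _ = a * n := hex'
  have i2 : (a * n) * w ≤ (f * m) * w := by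
    calc (a * n) * w = (a * w) * n := by ring
      _ ≤ (W' * f) * n := Nat.mul_le_mul_right _ hnoW
      _ = f * (m * w) := by rw [h1]; ring
      _ = (f * m) * w := by ring
  have i3 : f * m = a * n := le_antisymm i1 (Nat.le_of_mul_le_mul_right i2 pw)
  have i4 : f * nF = a * n := le_antisymm (hFno.trans hex'.le) (i3 ▸ Nat.mul_le_mul_left _ h2)
  have i5 : m = nF := Nat.eq_of_mul_eq_mul_left pf (i3.trans i4.symm)
  have i6 : W' * f = a * w := by
    have : (W' * f) * n = (a * w) * n := by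
      calc (W' * f) * n = f * (m * w) := by rw [h1]; ring
        _ = (f * m) * w := by ring
        _ = (a * n) * w := by rw [i3]
        _ = (a * w) * n := by ring
    exact Nat.eq_of_mul_eq_mul_right pn this
  have hoffW : OffM W A := ⟨hAW, hne, i6.le⟩
  refine ⟨?_, i6, hoffW, (hPFF ⟨A, hAP, hoffW⟩).2, (Subgroup.eq_of_le_of_card_ge hsup i5.ge).symm⟩
  unfold Exa
  rw [hFV]
  exact hex'.trans i4.symm

/-- **`GOne S L P A` gives `GOne S L P B` with `B ≤ A` minimal exact.** -/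
theorem GOne.exists_mx (hc : IsCharacteristicTwoType G) (h : GOne S L P A) :
    ∃ B ≤ A, A ⊓ centralizer (zl (S : Subgroup G) L : Set G) ≤ B ∧ Mx (zl (S : Subgroup G) L) B ∧
      GOne S L P B := by
  have hAL : A ≤ L := h.AS.trans h.SL
  have hex : Exa (zl (S : Subgroup G) L) A :=
    le_antisymm h.offU.le (h.no A hAL h.offU.toElemM)
  obtain ⟨B, hBA, hAB, hB⟩ := RRed.exists_mx h.offU.toElemM (S.isPGroup'.to_le h.AS) h.offU.ne hex
  have hBn : ¬ B ≤ centralizer (zl (S : Subgroup G) P : Set G) := fun h1 =>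
    hB.ne fun x hx => h.cent ⟨hBA hx, h1 hx⟩
  obtain ⟨-, -, h2, h3, h4⟩ := exact_split hc h.par h.PL h.no h.comm (hBA.trans h.AS) hB.toElemM hB.exact hBn
  have h5 : B ⊓ centralizer (zl (S : Subgroup G) P : Set G) ≤ centralizer (zl (S : Subgroup G) L : Set G) :=
    (inf_le_inf_right _ hBA).trans h.cent
  refine ⟨B, hBA, hAB, hB, h.par, h.PL, hBA.trans h.AS, h.comm, h.no, hB.off, h2, h5, h3, ?_⟩
  rw [← h4]
  exact (inf_eq_left.2 (le_centralizer_iff.1 h5)).symm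

/-- `A ≤ S`, `A ≰ O₂(P)`: `O²(P) ≤ ⟨A^P⟩`. -/
theorem odd_le_ncl (hP : IsParS (S : Subgroup G) P) (hA : A ≤ (S : Subgroup G)) (hAn : ¬ A ≤ o2 P) :
    oddGen P ≤ NoFF.Basic.V A P := by
  have hSP := hP.le
  have hAV : A ≤ NoFF.Basic.V A P := by
    have h1 : MulAut.conj (1 : G) • A ≤ NoFF.Basic.V A P := NoFF.Basic.Z_le_V (one_mem P)
    rwa [map_one, one_smul] at h1
  have hVP : NoFF.Basic.V A P ≤ P := by
    refine NoFF.Basic.V_le fun p hp x hx => ?_
    obtain ⟨y, hy, rfl⟩ := hx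
    change p * y * p⁻¹ ∈ P
    exact mul_mem (mul_mem hp (hSP (hA hy))) (inv_mem hp)
  have hn : P ≤ normalizer (NoFF.Basic.V A P : Set G) := by
    have key : ∀ g ∈ P, ∀ x ∈ NoFF.Basic.V A P, g * x * g⁻¹ ∈ NoFF.Basic.V A P := by
      intro g hg
      have h1 : NoFF.Basic.V A P ≤ (NoFF.Basic.V A P).comap (MulAut.conj g).toMonoidHom := by
        refine NoFF.Basic.V_le fun p hp x hx => ?_
        rw [mem_comap]
        have h2 : MulAut.conj (g * p) • A ≤ NoFF.Basic.V A P := NoFF.Basic.Z_le_V (mul_mem hg hp)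
        apply h2
        obtain ⟨y, hy, rfl⟩ := hx
        exact ⟨y, hy, by simp [mul_assoc]⟩
      exact fun x hx => h1 hx
    intro g hg
    rw [mem_normalizer_iff]
    refine fun x => ⟨key g hg x, fun hx => ?_⟩
    have h1 := key g⁻¹ (inv_mem hg) _ hx
    have e : g⁻¹ * (g * x * g⁻¹) * g⁻¹⁻¹ = x := by group
    rwa [e] at h1
  have hsup : P ≤ NoFF.Basic.V A P ⊔ (S : Subgroup G) := by
    rcases hP.toIsPar.sup_eq_or_inf_le S hVP hn with h1 | h1
    · rw [sup_comm] at h1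
      exact (sup_comm (NoFF.Basic.V A P) (S : Subgroup G) ▸ h1).ge
    · exact absurd ((le_inf hA hAV).trans h1) hAn
  rw [MinSimple.VModule.oddGen_def, closure_le]
  rintro g ⟨hg, ho⟩
  exact IId.Cv.mem_of_odd hn hSP hsup S.isPGroup' hg ho

/-- `A ≤ S`, `A ≰ O₂(P)`, `P ≤ L`: `O²(P)` centralises `C_G(⟨A^L⟩)`. -/
theorem odd_cent (hP : IsParS (S : Subgroup G) P) (hPL : P ≤ L) (hA : A ≤ (S : Subgroup G)) (hAn : ¬ A ≤ o2 P) :
    centralizer (NoFF.Basic.V A L : Set G) ≤ centralizer (oddGen P : Set G) := by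
  refine centralizer_le ((odd_le_ncl hP hA hAn).trans ?_)
  exact NoFF.Basic.V_le fun p hp => NoFF.Basic.Z_le_V (hPL hp)

end fin

end Cfsg.Agent.Omega.NOThreeL.RRed

end

section


/-!
# NO-3L, box R: the definitions of `E₁`, `Z₁`, `R₁`, `B₁` (#25243)

`V* = ⟨Z^Y⟩`, `Y = YS S = MZ S = ⟨P*(S)⟩`. An ATOM is a minimal exact offender (`Mx V* A`, ClassD) in `S`.

* `J1 S` : generated by the atoms `A ≤ S` on `V*`;
* `E1 S = ⟨J1^Y⟩`;
* `E1S S` : `C_Z(E₁) = 1`; `E1Fr` : the same as a frame;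
* `Z1 S = C_Z(E₁)`, `R1 S = ⟨Z1^Y⟩`, `B1 S = [V*, E₁]`.
-/

set_option autoImplicit false
set_option linter.unusedSectionVars false

namespace Cfsg.Agent.Omega.NOThreeL.RRed.EOne

open Subgroup Cfsg Cfsg.Agent.Omega.MinPar Cfsg.Agent.Omega.Frame Cfsg.Agent.Omega.FrameNOFF
open Cfsg.Agent.ZN (o2 zc zl jj)
open Cfsg.Agent.ZN.ChoiceBase hiding mem_zc
open Cfsg.Agent.Omega.NOThreeL.Star (YS)
open Cfsg.Agent.Omega.NOThreeL.Merge (MZ)
open Cfsg.Agent.Omega.NOThreeL.RRed (Mx)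

universe u

variable {G : Type u} [Group G]

/-- generated by the atoms of `S` on `V*` -/
def J1 (S : Subgroup G) : Subgroup G := sSup {A | A ≤ S ∧ Mx (zl S (YS S)) A}

/-- `E₁ = ⟨J1^Y⟩` -/
def E1 (S : Subgroup G) : Subgroup G := NoFF.Basic.V (J1 S) (YS S)

/-- `C_Z(E₁) = 1` -/
def E1S (S : Subgroup G) : Prop := zc S ⊓ centralizer (E1 S : Set G) = ⊥

/-- `C_Z(E₁) = 1`, as a frame -/
abbrev E1Fr : ∀ (G : Type u) [Group G] [Finite G], Sylow 2 G → Prop := fun G _ _ S => E1S (S : Subgroup G)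

/-- `C_Z(E₁)` -/
def Z1 (S : Subgroup G) : Subgroup G := zc S ⊓ centralizer (E1 S : Set G)

/-- `⟨C_Z(E₁)^Y⟩` -/
def R1 (S : Subgroup G) : Subgroup G := NoFF.Basic.V (Z1 S) (YS S)

/-- `[V*, E₁]` -/
def B1 (S : Subgroup G) : Subgroup G := ⁅zl S (YS S), E1 S⁆

theorem e1s_iff (S : Subgroup G) : E1S S ↔ Z1 S = ⊥ := Iff.rfl

theorem Wd_eq (S : Subgroup G) : Wd S = zl S (YS S) := rfl

theorem mx_le_J1 {S A : Subgroup G} (hA : A ≤ S) (h : Mx (zl S (YS S)) A) : A ≤ J1 S :=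
  le_sSup (show A ∈ {A | A ≤ S ∧ Mx (zl S (YS S)) A} from ⟨hA, h⟩)

theorem J1_le (S : Subgroup G) : J1 S ≤ S := sSup_le fun _ h => h.1

theorem J1_le_E1 (S : Subgroup G) : J1 S ≤ E1 S := RZ.Z_le _ _

theorem mx_le_E1 {S A : Subgroup G} (hA : A ≤ S) (h : Mx (zl S (YS S)) A) : A ≤ E1 S :=
  (mx_le_J1 hA h).trans (J1_le_E1 S)

theorem YS_le_norm_E1 (S : Subgroup G) : YS S ≤ normalizer (E1 S : Set G) := RZ.le_norm_V _ _

theorem E1_le {S : Subgroup G} (hS : S ≤ YS S) : E1 S ≤ YS S :=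
  RZ.V_le_of ((J1_le S).trans hS) le_normalizer

/-- `E₁ ≤ D` if `D` is normalised by `Y` and contains the atoms -/
theorem E1_le_of {S D : Subgroup G} (hD : YS S ≤ normalizer (D : Set G))
    (h : ∀ A : Subgroup G, A ≤ S → Mx (zl S (YS S)) A → A ≤ D) : E1 S ≤ D :=
  RZ.V_le_of (sSup_le fun A hA => h A hA.1 hA.2) hD

theorem Z1_le (S : Subgroup G) : Z1 S ≤ zc S := inf_le_left

theorem Z1_le_R1 (S : Subgroup G) : Z1 S ≤ R1 S := RZ.Z_le _ _

theorem YS_le_norm_R1 (S : Subgroup G) : YS S ≤ normalizer (R1 S : Set G) := RZ.le_norm_V _ _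

end Cfsg.Agent.Omega.NOThreeL.RRed.EOne

end

section


/-!
# Box R, #25243: every `A ∈ 𝒜(O₂(C_G(Z)))` centralises `R₀` (helper930)

`V = B × R`, `B`, `R` invariant under `L`.
* `card_cent` : `|C_V(A)| = |C_B(A)| |C_R(A)|`;
* **`le_cent`** : an offender `A` on `V` which is no over-offender on `B` centralises `R`, if the minimal exact offenders
  in `A` do;
* **`hA`** : `V = zl S L ≤ O₂(C_G(Z))`, `Z = (Z ∩ B)(Z ∩ R)`, `B = ⟨(Z ∩ B)^{C_L(Z ∩ R)}⟩`, the minimal exact offenders of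
  `S` centralise `R`: every `A ∈ 𝒜(O₂(C_G(Z)))` centralises `R` (`MLK` for `C_L(Z ∩ R)` on `B`).
-/

set_option autoImplicit false
set_option linter.unusedSectionVars false

namespace Cfsg.Agent.Omega.NOThreeL.RRed.BestR

open Subgroup Cfsg Cfsg.Agent.ZN Cfsg.Agent.ZN.ChoiceBase Cfsg.Agent.Omega.MinPar
open Cfsg.Agent.Omega.FFThm (ElemM OffM NoOverM off_of_AA relIndex_le_iff)
open Cfsg.Agent.Omega.NOThreeL.RRed (Mx Exa)
open Cfsg.Agent.Omega.ML.Final (MLK)
open Cfsg.Agent.MinSimple.VModule (o2_isPGroup o2_le)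
open scoped Pointwise

universe u

variable {G : Type u} [Group G]

section abs

variable {V B R A L : Subgroup G}

/-- `C_V(A) = C_B(A) C_R(A)` -/
theorem cent_split (hVc : V ≤ centralizer (V : Set G)) (hs : B ⊔ R = V) (hi : B ⊓ R = ⊥)
    (nB : A ≤ normalizer (B : Set G)) (nR : A ≤ normalizer (R : Set G)) :
    V ⊓ centralizer (A : Set G) = (B ⊓ centralizer (A : Set G)) ⊔ (R ⊓ centralizer (A : Set G)) := by
  have hBV : B ≤ V := hs ▸ le_sup_left
  have hRV : R ≤ V := hs ▸ le_sup_right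
  apply le_antisymm
  · rintro x ⟨hx, hxA⟩
    have hx' : x ∈ B ⊔ R := by rw [hs]; exact hx
    have hn : B ≤ normalizer (R : Set G) :=
      hBV.trans (hVc.trans ((centralizer_le hRV).trans (centralizer_le_normalizer _)))
    have h1 : x ∈ ((B ⊔ R : Subgroup G) : Set G) := hx'
    rw [coe_mul_of_left_le_normalizer_right _ _ hn] at h1
    obtain ⟨b, hb, r, hr, e⟩ := h1
    have e' : b * r = x := e
    have key : ∀ a ∈ A, a * b * a⁻¹ = b ∧ a * r * a⁻¹ = r := by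
      intro a ha
      have hab : a * b * a⁻¹ ∈ B := (mem_normalizer_iff.1 (nB ha) b).1 hb
      have har : a * r * a⁻¹ ∈ R := (mem_normalizer_iff.1 (nR ha) r).1 hr
      have h2 : a * x = x * a := mem_centralizer_iff.1 hxA a ha
      have h3 : (a * b * a⁻¹) * (a * r * a⁻¹) = b * r := by
        have : (a * b * a⁻¹) * (a * r * a⁻¹) = a * (b * r) * a⁻¹ := by group
        rw [this, e', h2]; group
      have h4 : b⁻¹ * (a * b * a⁻¹) = r * (a * r * a⁻¹)⁻¹ := by
        rw [eq_mul_inv_iff_mul_eq, mul_assoc, h3]; group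
      have h5 : b⁻¹ * (a * b * a⁻¹) ∈ B ⊓ R := by
        refine mem_inf.2 ⟨mul_mem (inv_mem hb) hab, ?_⟩
        rw [h4]
        exact mul_mem hr (inv_mem har)
      have h6 := h5
      rw [hi, mem_bot] at h6
      refine ⟨(inv_mul_eq_one.1 h6).symm, ?_⟩
      rw [h6] at h4
      exact (mul_inv_eq_one.1 h4.symm).symm
    rw [← e']
    refine mul_mem (mem_sup_left ⟨hb, ?_⟩) (mem_sup_right ⟨hr, ?_⟩)
    · refine mem_centralizer_iff.2 ?_
      intro a ha
      have := (key a ha).1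
      calc a * b = (a * b * a⁻¹) * a := by group
        _ = b * a := by rw [this]
    · refine mem_centralizer_iff.2 ?_
      intro a ha
      have := (key a ha).2
      calc a * r = (a * r * a⁻¹) * a := by group
        _ = r * a := by rw [this]
  · exact sup_le (inf_le_inf_right _ hBV) (inf_le_inf_right _ hRV)

/-- `|C_V(A)| = |C_B(A)| |C_R(A)|` -/
theorem card_cent [Finite G] (hVc : V ≤ centralizer (V : Set G)) (hs : B ⊔ R = V) (hi : B ⊓ R = ⊥)
    (nB : A ≤ normalizer (B : Set G)) (nR : A ≤ normalizer (R : Set G)) :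
    Nat.card ↥(V ⊓ centralizer (A : Set G)) =
      Nat.card ↥(B ⊓ centralizer (A : Set G)) * Nat.card ↥(R ⊓ centralizer (A : Set G)) := by
  have hBV : B ≤ V := hs ▸ le_sup_left
  have hRV : R ≤ V := hs ▸ le_sup_right
  have h1 := Star.card_sup_mul hVc ((inf_le_left : B ⊓ centralizer (A : Set G) ≤ B).trans hBV)
    ((inf_le_left : R ⊓ centralizer (A : Set G) ≤ R).trans hRV)
  have h2 : (B ⊓ centralizer (A : Set G)) ⊓ (R ⊓ centralizer (A : Set G)) = ⊥ := by
    rw [eq_bot_iff, ← hi]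
    exact inf_le_inf inf_le_left inf_le_left
  rw [h2, card_bot, mul_one, ← cent_split hVc hs hi nB nR] at h1
  exact h1

theorem card_mul [Finite G] (hVc : V ≤ centralizer (V : Set G)) (hs : B ⊔ R = V) (hi : B ⊓ R = ⊥) :
    Nat.card V = Nat.card B * Nat.card R := by
  have h1 := Star.card_sup_mul hVc (hs ▸ le_sup_left : B ≤ V) (hs ▸ le_sup_right : R ≤ V)
  rwa [hi, card_bot, mul_one, hs] at h1

/-- **(BA)** -/
theorem le_cent [Finite G] (hVc : V ≤ centralizer (V : Set G)) (hs : B ⊔ R = V) (hi : B ⊓ R = ⊥)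
    (nB : A ≤ normalizer (B : Set G)) (nR : A ≤ normalizer (R : Set G)) (pg : IsPGroup 2 A) (hE : ElemM V A)
    (off : Nat.card V * Nat.card ↥(A ⊓ centralizer (V : Set G)) ≤
      Nat.card A * Nat.card ↥(V ⊓ centralizer (A : Set G)))
    (noB : Nat.card A * Nat.card ↥(B ⊓ centralizer (A : Set G)) ≤
      Nat.card B * Nat.card ↥(A ⊓ centralizer (B : Set G)))
    (no : NoOverM V L) (AL : A ≤ L) (hat : ∀ X ≤ A, Mx V X → X ≤ centralizer (R : Set G)) :
    A ≤ centralizer (R : Set G) := by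
  have hBV : B ≤ V := hs ▸ le_sup_left
  have hRV : R ≤ V := hs ▸ le_sup_right
  set A₂ : Subgroup G := A ⊓ centralizer (B : Set G) with hA₂
  have hle : A₂ ≤ A := inf_le_left
  have hcV : A₂ ⊓ centralizer (V : Set G) = A ⊓ centralizer (V : Set G) := by
    rw [hA₂, inf_assoc, inf_eq_right.2 (centralizer_le hBV)]
  have hE₂ : ElemM V A₂ := VF.elemM_mono hE hle
  have h1 := card_cent hVc hs hi nB nR
  have h2 := card_cent (A := A₂) hVc hs hi (hle.trans nB) (hle.trans nR)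
  have h3 := card_mul hVc hs hi
  have hBA : B ⊓ centralizer (A₂ : Set G) = B :=
    inf_eq_left.2 (le_centralizer_iff.1 (inf_le_right : A₂ ≤ centralizer (B : Set G)))
  rw [hBA] at h2
  have h4 : Nat.card ↥(R ⊓ centralizer (A : Set G)) ≤ Nat.card ↥(R ⊓ centralizer (A₂ : Set G)) :=
    Subgroup.card_le_of_le (inf_le_inf_left _ (centralizer_le hle))
  have h5 := no A₂ (hle.trans AL) hE₂
  rw [hcV, h2, h3] at h5
  rw [h1, h3] at off
  set bb := Nat.card B
  set rr := Nat.card R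
  set a := Nat.card A
  set a2 := Nat.card A₂
  set cV := Nat.card ↥(A ⊓ centralizer (V : Set G))
  set bA := Nat.card ↥(B ⊓ centralizer (A : Set G))
  set rA := Nat.card ↥(R ⊓ centralizer (A : Set G))
  set rA2 := Nat.card ↥(R ⊓ centralizer (A₂ : Set G))
  have pb : 0 < bb := Nat.card_pos
  have pc : 0 < cV := Nat.card_pos
  -- `rr cV ≤ a2 rA`
  have k1 : rr * cV ≤ a2 * rA := by
    refine Nat.le_of_mul_le_mul_left ?_ pb
    calc bb * (rr * cV) = bb * rr * cV := by ring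
      _ ≤ a * (bA * rA) := off
      _ = (a * bA) * rA := by ring
      _ ≤ (bb * a2) * rA := Nat.mul_le_mul_right _ noB
      _ = bb * (a2 * rA) := by ring
  by_cases hC : A₂ ≤ centralizer (V : Set G)
  · have k2 : a2 = cV := by
      change Nat.card A₂ = Nat.card ↥(A ⊓ centralizer (V : Set G))
      rw [← hcV, inf_eq_left.2 hC]
    rw [k2, mul_comm] at k1
    have k3 : rr ≤ rA := Nat.le_of_mul_le_mul_left k1 pc
    have k4 : R ⊓ centralizer (A : Set G) = R := Subgroup.eq_of_le_of_card_ge inf_le_left k3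
    exact le_centralizer_iff.1 (inf_eq_left.1 k4)
  · exfalso
    have hex : Exa V A₂ := by
      unfold Exa
      rw [hcV, h2, h3]
      refine le_antisymm ?_ h5
      calc bb * rr * cV = bb * (rr * cV) := by ring
        _ ≤ bb * (a2 * rA) := Nat.mul_le_mul_left _ k1
        _ ≤ bb * (a2 * rA2) := Nat.mul_le_mul_left _ (Nat.mul_le_mul_left _ h4)
        _ = a2 * (bb * rA2) := by ring
    obtain ⟨X, hX, -, hXm⟩ := exists_mx hE₂ (pg.to_le hle) hC hex
    apply hXm.ne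
    have e1 := hat X (hX.trans hle) hXm
    have e2 : X ≤ centralizer (B : Set G) := hX.trans inf_le_right
    rw [le_centralizer_iff] at e1 e2 ⊢
    rw [← hs]
    exact sup_le e2 e1

end abs

section main

variable [Finite G] {S : Sylow 2 G} {L B R : Subgroup G}

/-- **`hA`** of #25243 -/
theorem hA (ml : MLK.{u, u}) (SL : (S : Subgroup G) ≤ L) (KG : IsKGroup L)
    (el : IsElementaryAbelian 2 (zl (S : Subgroup G) L))
    (VO : zl (S : Subgroup G) L ≤ o2 (centralizer (zc (S : Subgroup G) : Set G)))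
    (hs : B ⊔ R = zl (S : Subgroup G) L) (hi : B ⊓ R = ⊥) (nB : L ≤ normalizer (B : Set G))
    (nR : L ≤ normalizer (R : Set G))
    (hZ : zc (S : Subgroup G) ≤ (zc (S : Subgroup G) ⊓ B) ⊔ (zc (S : Subgroup G) ⊓ R))
    (gB : B ≤ NoFF.Basic.V (zc (S : Subgroup G) ⊓ B) (L ⊓ centralizer ((zc (S : Subgroup G) ⊓ R : Subgroup G) : Set G)))
    (no : NoOverM (zl (S : Subgroup G) L) L)
    (hat : ∀ X ≤ (S : Subgroup G), Mx (zl (S : Subgroup G) L) X → X ≤ centralizer (R : Set G)) :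
    ∀ A ∈ AA (o2 (centralizer (zc (S : Subgroup G) : Set G))), A ≤ centralizer (R : Set G) := by
  intro A hA
  set Z : Subgroup G := zc (S : Subgroup G) with hZd
  set V : Subgroup G := zl (S : Subgroup G) L with hV
  have hRV : R ≤ V := hs ▸ le_sup_right
  have hBV : B ≤ V := hs ▸ le_sup_left
  by_cases hne : A ≤ centralizer (V : Set G)
  · exact hne.trans (centralizer_le hRV)
  have hCS : Z ≤ centralizer ((S : Subgroup G) : Set G) := fun z hz =>
    mem_centralizer_iff.2 fun s hs => (ChoiceBase.mem_zc.1 hz).2.2 s hs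
  have hSC : (S : Subgroup G) ≤ centralizer (Z : Set G) := le_centralizer_iff.1 hCS
  have hOS : o2 (centralizer (Z : Set G)) ≤ (S : Subgroup G) := by
    refine MinSimple.VModule.o2_le_of_sylow S.isPGroup' ?_
    exact MinSimple.Basic.not_dvd_relIndex S hSC
  have hAS : A ≤ (S : Subgroup G) := hA.2.1.trans hOS
  have hVc : V ≤ centralizer (V : Set G) := by
    intro x hx
    rw [mem_centralizer_iff]
    exact fun y hy => congrArg (fun t : V => (t : G)) (el.1.is_comm.comm ⟨y, hy⟩ ⟨x, hx⟩)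
  have hoff := (off_of_AA el VO hA hne).offM
  refine le_cent hVc hs hi ((hAS.trans SL).trans nB) ((hAS.trans SL).trans nR) (S.isPGroup'.to_le hAS)
    hoff.toElemM hoff.le ?_ no (hAS.trans SL) fun X hX => hat X (hX.trans hAS)
  -- (NO) on `B`
  have AC : A ≤ centralizer (Z : Set G) := hAS.trans hSC
  set H : Subgroup G := L ⊓ centralizer ((Z ⊓ R : Subgroup G) : Set G) with hH
  have SH : (S : Subgroup G) ≤ H := le_inf SL (hSC.trans (centralizer_le inf_le_left))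
  have hBH : NoFF.Basic.V (Z ⊓ B) H = B := by
    refine le_antisymm (KL.FlagNO.V_le_of_norm inf_le_right (inf_le_left.trans nB)) gB
  have hX : H ⊓ centralizer ((Z ⊓ B : Subgroup G) : Set G) ≤ centralizer (Z : Set G) := by
    rintro x ⟨hx1, hx2⟩
    have h1 : Z ≤ centralizer ((zpowers x : Subgroup G) : Set G) := by
      refine hZ.trans (sup_le ?_ ?_)
      · rw [le_centralizer_iff, zpowers_le]; exact hx2
      · rw [le_centralizer_iff, zpowers_le]; exact hx1.2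
    rw [le_centralizer_iff, zpowers_le] at h1
    exact h1
  have hsqV : ∀ v ∈ V, v ^ 2 = 1 := fun v hv => el.2 v hv
  have key := KL.FlagNO.flag_no_of (T := (S : Subgroup G)) (H := H) (Z := Z ⊓ B) (B := A) ml S.isPGroup' SH
    (MinSimple.Basic.not_dvd_relIndex S SH) (hSC.trans (centralizer_le inf_le_left)) (KL.FlagNO.kgroup_le KG inf_le_left)
    (by rw [hBH]; exact fun v hv => hsqV v (hBV hv)) hX hA.2.1 (hAS.trans SH)
    (hAS.trans (hSC.trans (centralizer_le inf_le_left))) (fun a ha => hA.1.2 a ha)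
  have h1 := key.1
  rw [hBH] at h1
  have h2 := (relIndex_le_iff (V := A) (A := B) (B := centralizer (A : Set G)) (D := centralizer (B : Set G))).2 h1
  exact h2

end main

end Cfsg.Agent.Omega.NOThreeL.RRed.BestR

end

section


/-!
# NO-3L, box R, one natural block (`WideTree.WOneOne`): the case `T ≤ O₂(P)`

`V = F²` (coordinates `e`), `T` acts on `V` as the full root group with line `l` (`Rt V T l F e`), `S ≤ N(l)`.

* `Rt.line_conj` : `g ∈ N(V)`, `gTg⁻¹ ≤ S` ⟹ `g` normalises `l`;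
* `Rt.acts` : no over-offender in `S` on `V` : the elements of `S` which centralise `l` and `V / l` act as elements of `T`;
* `Rt.mulc` : `g ∈ N(V) ∩ N(l)`, `gTg⁻¹` acts as `T`, `gzg⁻¹ = z` for some `1 ≠ z ∈ l` : `g` acts on `l = F z`
  multiplicatively; `Rt.comm` : two such elements commute on `l`;
* `Rt.not_fix` : `P ∈ P*(S)`, `T ≤ O₂(P)` : `P` fixes no `z ∈ l#`.
-/

set_option autoImplicit false
set_option linter.unusedSectionVars false

namespace Cfsg.Agent.Omega.NOThreeL.RRed.WOneB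

open Subgroup Cfsg Cfsg.Agent.ZN Cfsg.Agent.Omega.MinPar
open Cfsg.Agent.Omega.FFThm (ElemM)

universe u

variable {G : Type u} [Group G]

/-- `V = F²`, `T` acts on `V` as the full root group with line `l`. -/
structure Rt (V T l : Subgroup G) (F : Type) [Field F] (e : G → Fin 2 → F) : Prop where
  mul : ∀ v ∈ V, ∀ w ∈ V, e (v * w) = e v + e w
  inj : ∀ v ∈ V, e v = 0 → v = 1
  sur : ∀ x : Fin 2 → F, ∃ v ∈ V, e v = x
  line : ∀ v, v ∈ l ↔ v ∈ V ∧ e v 1 = 0
  root : ∀ s ∈ T, ∃ c : F, ∀ v ∈ V, e (s * v * s⁻¹) = ![e v 0 + c * e v 1, e v 1]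
  syl : ∀ c : F, ∃ s ∈ T, ∀ v ∈ V, e (s * v * s⁻¹) = ![e v 0 + c * e v 1, e v 1]
  nV : T ≤ normalizer (V : Set G)

theorem cjV {V : Subgroup G} {g v : G} (hg : g ∈ normalizer (V : Set G)) (hv : v ∈ V) : g * v * g⁻¹ ∈ V :=
  (mem_normalizer_iff.1 hg v).1 hv

theorem cjV' {V : Subgroup G} {g v : G} (hg : g ∈ normalizer (V : Set G)) (hv : v ∈ V) : g⁻¹ * v * g ∈ V := by
  have h1 := cjV (inv_mem hg) hv
  rwa [inv_inv] at h1

namespace Rt

variable {V T l : Subgroup G} {F : Type} [Field F] {e : G → Fin 2 → F} (h : Rt V T l F e)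
include h

theorem e_one : e 1 = 0 := by
  have h1 := h.mul 1 (one_mem V) 1 (one_mem V)
  rw [mul_one] at h1
  exact left_eq_add.1 h1

theorem e_inv {v : G} (hv : v ∈ V) : e v⁻¹ = -e v := by
  have h1 := h.mul v hv v⁻¹ (inv_mem hv)
  rw [mul_inv_cancel, h.e_one] at h1
  exact (neg_eq_of_add_eq_zero_right h1.symm).symm

theorem ext {v w : G} (hv : v ∈ V) (hw : w ∈ V) (he : e v = e w) : v = w := by
  have h1 := h.inj (v * w⁻¹) (mul_mem hv (inv_mem hw)) (by
    rw [h.mul v hv _ (inv_mem hw), h.e_inv hw, he, add_neg_cancel])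
  exact mul_inv_eq_one.1 h1

theorem lV : l ≤ V := fun _ hx => ((h.line _).1 hx).1

theorem comm {v w : G} (hv : v ∈ V) (hw : w ∈ V) : v * w = w * v :=
  h.ext (mul_mem hv hw) (mul_mem hw hv) (by rw [h.mul v hv w hw, h.mul w hw v hv, add_comm])

/-- `[v, T] = l` for `v ∉ l` -/
theorem reach {v x : G} (hv : v ∈ V) (hvl : v ∉ l) (hx : x ∈ l) : ∃ t ∈ T, t * v * t⁻¹ = v * x := by
  have h0 : e v 1 ≠ 0 := fun h1 => hvl ((h.line v).2 ⟨hv, h1⟩)
  obtain ⟨hxV, hx1⟩ := (h.line x).1 hx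
  obtain ⟨t, ht, hc⟩ := h.syl (e x 0 / e v 1)
  refine ⟨t, ht, h.ext (cjV (h.nV ht) hv) (mul_mem hv hxV) ?_⟩
  rw [hc v hv, h.mul v hv x hxV]
  funext i
  fin_cases i
  · show e v 0 + e x 0 / e v 1 * e v 1 = e v 0 + e x 0
    rw [div_mul_cancel₀ _ h0]
  · show e v 1 = e v 1 + e x 1
    rw [hx1, add_zero]

/-- `T` centralises `l` -/
theorem Tl {t x : G} (ht : t ∈ T) (hx : x ∈ l) : t * x * t⁻¹ = x := by
  obtain ⟨hxV, hx1⟩ := (h.line x).1 hx
  obtain ⟨c, hc⟩ := h.root t ht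
  refine h.ext (cjV (h.nV ht) hxV) hxV ?_
  rw [hc x hxV]
  funext i
  fin_cases i
  · show e x 0 + c * e x 1 = e x 0
    rw [hx1, mul_zero, add_zero]
  · rfl

/-- `g ∈ N(V)`, `gTg⁻¹ ≤ S ≤ N(l)` : `g⁻¹lg ≤ l`. -/
theorem line_conj [Finite G] {S : Subgroup G} (hSl : S ≤ normalizer (l : Set G)) {g : G} (hg : g ∈ normalizer (V : Set G))
    (hT : ∀ t ∈ T, g * t * g⁻¹ ∈ S) {v : G} (hv : v ∈ l) : g⁻¹ * v * g ∈ l := by
  by_contra hcon
  have hvV := cjV' hg (h.lV hv)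
  have h1 : ∀ y ∈ l, g * y * g⁻¹ ∈ l := by
    intro y hy
    obtain ⟨t, ht, htv⟩ := h.reach hvV hcon hy
    have h2 := (mem_normalizer_iff.1 (hSl (hT t ht)) v).1 hv
    have h3 : g * t * g⁻¹ * v * (g * t * g⁻¹)⁻¹ = v * (g * y * g⁻¹) := by
      calc g * t * g⁻¹ * v * (g * t * g⁻¹)⁻¹ = g * (t * (g⁻¹ * v * g) * t⁻¹) * g⁻¹ := by group
        _ = g * (g⁻¹ * v * g * y) * g⁻¹ := by rw [htv]
        _ = _ := by group
    rw [h3] at h2
    exact (mul_mem_cancel_left hv).1 h2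
  -- `x ↦ gxg⁻¹` is a bijection of `l`
  let f : l → l := fun x => ⟨g * x * g⁻¹, h1 x x.2⟩
  have hf : Function.Injective f := by
    intro x y hxy
    have h2 : g * (x : G) * g⁻¹ = g * (y : G) * g⁻¹ := congrArg Subtype.val hxy
    exact Subtype.ext (mul_left_cancel (mul_right_cancel h2))
  obtain ⟨y, hy⟩ := (Finite.injective_iff_surjective.1 hf) ⟨v, hv⟩
  have h2 : g * (y : G) * g⁻¹ = v := congrArg Subtype.val hy
  apply hcon
  rw [← h2]
  have h3 : g⁻¹ * (g * (y : G) * g⁻¹) * g = y := by group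
  rw [h3]
  exact y.2

end Rt

/-- the elements of `S` which centralise `l` and `V / l` -/
def Hs (S V l : Subgroup G) : Subgroup G where
  carrier := {s | s ∈ S ∧ s ∈ normalizer (V : Set G) ∧ (∀ x ∈ l, s * x * s⁻¹ = x) ∧ ∀ v ∈ V, v⁻¹ * (s * v * s⁻¹) ∈ l}
  one_mem' := ⟨one_mem S, one_mem _, fun x _ => by group, fun v _ => by
    have h1 : v⁻¹ * (1 * v * 1⁻¹) = 1 := by group
    rw [h1]
    exact one_mem l⟩
  mul_mem' := by
    rintro s t ⟨h1, h2, h3, h4⟩ ⟨k1, k2, k3, k4⟩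
    refine ⟨mul_mem h1 k1, mul_mem h2 k2, fun x hx => ?_, fun v hv => ?_⟩
    · calc s * t * x * (s * t)⁻¹ = s * (t * x * t⁻¹) * s⁻¹ := by group
        _ = x := by rw [k3 x hx, h3 x hx]
    · have e1 : v⁻¹ * (s * t * v * (s * t)⁻¹) =
          v⁻¹ * (s * v * s⁻¹) * (s * (v⁻¹ * (t * v * t⁻¹)) * s⁻¹) := by group
      rw [e1]
      refine mul_mem (h4 v hv) ?_
      rw [h3 _ (k4 v hv)]
      exact k4 v hv
  inv_mem' := by
    rintro s ⟨h1, h2, h3, h4⟩
    have h5 : ∀ x ∈ l, s⁻¹ * x * s⁻¹⁻¹ = x := by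
      intro x hx
      calc s⁻¹ * x * s⁻¹⁻¹ = s⁻¹ * (s * x * s⁻¹) * s := by rw [h3 x hx]; group
        _ = x := by group
    refine ⟨inv_mem h1, inv_mem h2, h5, fun v hv => ?_⟩
    have h6 := h4 (s⁻¹ * v * s) (cjV' h2 hv)
    have e1 : v⁻¹ * (s⁻¹ * v * s⁻¹⁻¹) = ((s⁻¹ * v * s)⁻¹ * (s * (s⁻¹ * v * s) * s⁻¹))⁻¹ := by group
    rw [e1]
    exact inv_mem h6


/-! ### The elements of `Hs` act as elements of `T` -/

section acts

variable {V T l : Subgroup G} {F : Type} [Field F] {e : G → Fin 2 → F} (h : Rt V T l F e)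
include h

theorem Rt.hs_e {S : Subgroup G} {s : G} (hs : s ∈ Hs S V l) {v : G} (hv : v ∈ V) :
    e (s * v * s⁻¹) 1 = e v 1 := by
  have h2 := ((h.line _).1 (hs.2.2.2 v hv)).2
  rw [h.mul _ (inv_mem hv) _ (cjV hs.2.1 hv), Pi.add_apply, h.e_inv hv, Pi.neg_apply] at h2
  exact (neg_add_eq_zero.1 h2).symm

theorem Rt.T_le_Hs {S : Subgroup G} (hTS : T ≤ S) : T ≤ Hs S V l := by
  intro t ht
  refine ⟨hTS ht, h.nV ht, fun x hx => h.Tl ht hx, fun v hv => ?_⟩
  obtain ⟨c, hc⟩ := h.root t ht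
  have h1 := cjV (h.nV ht) hv
  refine (h.line _).2 ⟨mul_mem (inv_mem hv) h1, ?_⟩
  rw [h.mul _ (inv_mem hv) _ h1, Pi.add_apply, h.e_inv hv, Pi.neg_apply, hc v hv]
  show -e v 1 + e v 1 = 0
  exact neg_add_cancel _

theorem Rt.sq_one [CharP F 2] {x : G} (hx : x ∈ V) : x * x = 1 :=
  h.inj _ (mul_mem hx hx) (by rw [h.mul x hx x hx]; exact CharTwo.add_self_eq_zero _)

theorem Rt.elem [CharP F 2] {S : Subgroup G} : ElemM V (Hs S V l) := by
  have key : ∀ s ∈ Hs S V l, ∀ v ∈ V, ∃ x ∈ l, s * v * s⁻¹ = v * x := fun s hs v hv =>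
    ⟨v⁻¹ * (s * v * s⁻¹), hs.2.2.2 v hv, by group⟩
  refine ⟨fun a ha => mem_centralizer_iff.2 fun v hv => ?_, fun a ha b hb => mem_centralizer_iff.2 fun v hv => ?_⟩
  · obtain ⟨x, hx, hax⟩ := key a ha v hv
    have h1 : a ^ 2 * v * (a ^ 2)⁻¹ = v := by
      calc a ^ 2 * v * (a ^ 2)⁻¹ = a * (a * v * a⁻¹) * a⁻¹ := by rw [sq]; group
        _ = a * (v * x) * a⁻¹ := by rw [hax]
        _ = a * v * a⁻¹ * (a * x * a⁻¹) := by group
        _ = v * (x * x) := by rw [hax, ha.2.2.1 x hx, mul_assoc]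
        _ = v := by rw [h.sq_one (h.lV hx), mul_one]
    exact (mul_inv_eq_iff_eq_mul.1 h1).symm
  · have hab : ∀ w ∈ V, a * (b * w * b⁻¹) * a⁻¹ = b * (a * w * a⁻¹) * b⁻¹ := by
      intro w hw
      obtain ⟨x, hx, hax⟩ := key a ha w hw
      obtain ⟨y, hy, hby⟩ := key b hb w hw
      calc a * (b * w * b⁻¹) * a⁻¹ = a * w * a⁻¹ * (a * y * a⁻¹) := by rw [hby]; group
        _ = w * (x * y) := by rw [hax, ha.2.2.1 y hy, mul_assoc]
        _ = w * (y * x) := by rw [h.comm (h.lV hx) (h.lV hy)]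
        _ = b * w * b⁻¹ * (b * x * b⁻¹) := by rw [hby, hb.2.2.1 x hx, mul_assoc]
        _ = _ := by rw [hax]; group
    have hw : a⁻¹ * (b⁻¹ * v * b) * a ∈ V := cjV' ha.2.1 (cjV' hb.2.1 hv)
    have h1 : a * b * a⁻¹ * b⁻¹ * v * (a * b * a⁻¹ * b⁻¹)⁻¹ = v := by
      calc a * b * a⁻¹ * b⁻¹ * v * (a * b * a⁻¹ * b⁻¹)⁻¹ =
          a * (b * (a⁻¹ * (b⁻¹ * v * b) * a) * b⁻¹) * a⁻¹ := by group
        _ = b * (a * (a⁻¹ * (b⁻¹ * v * b) * a) * a⁻¹) * b⁻¹ := hab _ hw
        _ = v := by group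
    exact (mul_inv_eq_iff_eq_mul.1 h1).symm

theorem Rt.card_V : Nat.card V = Nat.card l * Nat.card F :=
  card_map h.lV (fun v => e v 1) (fun v hv w hw => by rw [h.mul v hv w hw]; rfl)
    (fun c => by
      obtain ⟨v, hv, hc⟩ := h.sur ![0, c]
      exact ⟨v, hv, by rw [hc]; rfl⟩)
    (fun v hv => ⟨fun h1 => (h.line v).2 ⟨hv, h1⟩, fun h1 => ((h.line v).1 h1).2⟩)

/-- **`S` acts on `V`, centralising `l` and `V / l`, as `T`** (no over-offender in `S`). -/
theorem Rt.acts [Finite G] [Finite F] [CharP F 2] {S : Subgroup G}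
    (hno : ∀ A ≤ S, ElemM V A → Nat.card A * Nat.card ↥(V ⊓ centralizer (A : Set G)) ≤
      Nat.card V * Nat.card ↥(A ⊓ centralizer (V : Set G)))
    (hTS : T ≤ S) {s : G} (hs : s ∈ Hs S V l) : ∃ t ∈ T, ∀ v ∈ V, s * v * s⁻¹ = t * v * t⁻¹ := by
  classical
  by_contra hcon
  push Not at hcon
  set H := Hs S V l with hH
  have hHS : H ≤ S := fun x hx => hx.1
  have h1 := hno H hHS h.elem
  have h2 : l ≤ V ⊓ centralizer (H : Set G) := fun x hx => ⟨h.lV hx, mem_centralizer_iff.2 fun a ha =>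
    mul_inv_eq_iff_eq_mul.1 (ha.2.2.1 x hx)⟩
  have h3 := card_le_of_le h2
  have pl : 0 < Nat.card l := Nat.card_pos
  have h4 : Nat.card H ≤ Nat.card F * Nat.card ↥(H ⊓ centralizer (V : Set G)) := by
    refine Nat.le_of_mul_le_mul_right (c := Nat.card l) ?_ pl
    calc Nat.card H * Nat.card l ≤ Nat.card H * Nat.card ↥(V ⊓ centralizer (H : Set G)) := Nat.mul_le_mul_left _ h3
      _ ≤ Nat.card V * Nat.card ↥(H ⊓ centralizer (V : Set G)) := h1
      _ = _ := by rw [h.card_V]; ring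
  choose t ht hc using h.syl
  have hTH : T ≤ H := h.T_le_Hs hTS
  -- `H ⊇ (F ∪ {∞}) × C_H(V)`
  let φ : Option F × ↥(H ⊓ centralizer (V : Set G)) → H := fun p =>
    match p with
    | (none, k) => ⟨s * k, mul_mem hs k.2.1⟩
    | (some c, k) => ⟨t c * k, mul_mem (hTH (ht c)) k.2.1⟩
  have act : ∀ a b : G, ∀ k ∈ centralizer (V : Set G), ∀ k' ∈ centralizer (V : Set G), a * k = b * k' →
      ∀ v ∈ V, a * v * a⁻¹ = b * v * b⁻¹ := by
    intro a b k hk k' hk' hab v hv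
    have e1 : k * v * k⁻¹ = v := by rw [← mem_centralizer_iff.1 hk v hv]; group
    have e2 : k' * v * k'⁻¹ = v := by rw [← mem_centralizer_iff.1 hk' v hv]; group
    calc a * v * a⁻¹ = a * (k * v * k⁻¹) * a⁻¹ := by rw [e1]
      _ = (a * k) * v * (a * k)⁻¹ := by group
      _ = (b * k') * v * (b * k')⁻¹ := by rw [hab]
      _ = b * (k' * v * k'⁻¹) * b⁻¹ := by group
      _ = b * v * b⁻¹ := by rw [e2]
  have hφ : Function.Injective φ := by
    rintro ⟨a | a, k, hk⟩ ⟨b | b, k', hk'⟩ hab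
    · have h5 : s * k = s * k' := congrArg Subtype.val hab
      have h6 : k = k' := mul_left_cancel h5
      subst h6
      rfl
    · exfalso
      have h5 : s * k = t b * k' := congrArg Subtype.val hab
      obtain ⟨v, hv, hne⟩ := hcon (t b) (ht b)
      exact hne (act _ _ k hk.2 k' hk'.2 h5 v hv)
    · exfalso
      have h5 : t a * k = s * k' := congrArg Subtype.val hab
      obtain ⟨v, hv, hne⟩ := hcon (t a) (ht a)
      exact hne (act _ _ k hk.2 k' hk'.2 h5 v hv).symm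
    · have h5 : t a * k = t b * k' := congrArg Subtype.val hab
      obtain ⟨w, hw, hw1⟩ := h.sur ![0, 1]
      have h6 := act _ _ k hk.2 k' hk'.2 h5 w hw
      have h7 := congrFun (congrArg e h6) 0
      rw [hc a w hw, hc b w hw, hw1] at h7
      have h8 : a = b := by simpa using h7
      subst h8
      have h9 : k = k' := mul_left_cancel h5
      subst h9
      rfl
  have h5 := Nat.card_le_card_of_injective φ hφ
  rw [Nat.card_prod, Finite.card_option] at h5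
  have pk : 0 < Nat.card ↥(H ⊓ centralizer (V : Set G)) := Nat.card_pos
  have h6 := h5.trans h4
  have h7 := Nat.le_of_mul_le_mul_right h6 pk
  omega

end acts


/-! ### The action on `l` -/

/-- multiplicative maps of a finite field commute -/
theorem mulmap_comm {F : Type} [Field F] [Finite F] {f g : F → F} (hf1 : f 1 = 1) (hfm : ∀ x y, f (x * y) = f x * f y)
    (hf0 : f 0 = 0) (hg1 : g 1 = 1) (hgm : ∀ x y, g (x * y) = g x * g y) (hg0 : g 0 = 0) (x : F) :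
    f (g x) = g (f x) := by
  by_cases hx : x = 0
  · rw [hx, hg0, hf0, hg0]
  let f' : F →* F := { toFun := f, map_one' := hf1, map_mul' := hfm }
  let g' : F →* F := { toFun := g, map_one' := hg1, map_mul' := hgm }
  obtain ⟨m, hm⟩ := (Units.map f').map_cyclic
  obtain ⟨n, hn⟩ := (Units.map g').map_cyclic
  have h1 : Units.map f' (Units.map g' (Units.mk0 x hx)) = Units.map g' (Units.map f' (Units.mk0 x hx)) := by
    rw [hm, hn, hm (Units.mk0 x hx), hn, ← zpow_mul, ← zpow_mul, mul_comm]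
  exact congrArg Units.val h1

/-- `g` normalises `V`, `l` and the action of `T`, and fixes `z`. -/
structure Gd (V T l : Subgroup G) (z g : G) : Prop where
  nV : g ∈ normalizer (V : Set G)
  nl : ∀ x ∈ l, g * x * g⁻¹ ∈ l
  nT : ∀ t ∈ T, ∃ t' ∈ T, ∀ v ∈ V, g * t * g⁻¹ * v * (g * t * g⁻¹)⁻¹ = t' * v * t'⁻¹
  fz : g * z * g⁻¹ = z

section line

variable {V T l : Subgroup G} {F : Type} [Field F] {e : G → Fin 2 → F} (h : Rt V T l F e)

/-- the element with coordinates `x` -/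
noncomputable def Rt.vec (h : Rt V T l F e) (x : Fin 2 → F) : G := (h.sur x).choose

include h

theorem Rt.vec_mem (x : Fin 2 → F) : h.vec x ∈ V := (h.sur x).choose_spec.1

theorem Rt.e_vec (x : Fin 2 → F) : e (h.vec x) = x := (h.sur x).choose_spec.2

theorem Rt.vec_line (x : F) : h.vec ![x, 0] ∈ l := (h.line _).2 ⟨h.vec_mem _, by rw [h.e_vec]; rfl⟩

theorem Rt.eq_vec {x : G} (hx : x ∈ l) : x = h.vec ![e x 0, 0] := by
  refine h.ext (h.lV hx) (h.vec_mem _) ?_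
  rw [h.e_vec]
  funext i
  fin_cases i
  · rfl
  · exact ((h.line x).1 hx).2

theorem Gd.key {z g : G} (hg : Gd V T l z g) (x : F) : ∃ b : F, ∀ y : F,
    e (g * h.vec ![x * y, 0] * g⁻¹) 0 = b * e (g * h.vec ![0, y] * g⁻¹) 1 := by
  obtain ⟨t, ht, hc⟩ := h.syl x
  obtain ⟨t', ht', hact⟩ := hg.nT t ht
  obtain ⟨b, hb⟩ := h.root t' ht'
  refine ⟨b, fun y => ?_⟩
  set w := h.vec ![0, y] with hw
  set u := h.vec ![x * y, 0] with hu
  have hwV : w ∈ V := h.vec_mem _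
  have huV : u ∈ V := h.vec_mem _
  have h1 : t * w * t⁻¹ = w * u := by
    refine h.ext (cjV (h.nV ht) hwV) (mul_mem hwV huV) ?_
    rw [hc w hwV, h.mul w hwV u huV, hw, hu, h.e_vec, h.e_vec]
    funext i
    fin_cases i <;> simp
  have h2 : g * t * g⁻¹ * (g * w * g⁻¹) * (g * t * g⁻¹)⁻¹ = g * w * g⁻¹ * (g * u * g⁻¹) := by
    calc g * t * g⁻¹ * (g * w * g⁻¹) * (g * t * g⁻¹)⁻¹ = g * (t * w * t⁻¹) * g⁻¹ := by group
      _ = _ := by rw [h1]; group
  have hgw := cjV hg.nV hwV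
  have hgu := cjV hg.nV huV
  rw [hact _ hgw] at h2
  have h3 := congrFun (congrArg e h2) 0
  rw [hb _ hgw, h.mul _ hgw _ hgu] at h3
  have h4 : e (g * w * g⁻¹) 0 + b * e (g * w * g⁻¹) 1 = e (g * w * g⁻¹) 0 + e (g * u * g⁻¹) 0 := h3
  exact (add_left_cancel h4).symm

/-- the multiplicative map of `g` -/
noncomputable def Gd.s (h : Rt V T l F e) (z g : G) (x : F) : F :=
  e (g * h.vec ![e z 0 * x, 0] * g⁻¹) 0 / e z 0

theorem Gd.s_one {z g : G} (hz : z ∈ l) (hz1 : z ≠ 1) (hg : Gd V T l z g) : Gd.s h z g 1 = 1 := by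
  have h0 : e z 0 ≠ 0 := fun h1 => hz1 (h.inj z (h.lV hz) (by
    funext i
    fin_cases i
    · exact h1
    · exact ((h.line z).1 hz).2))
  unfold Gd.s
  rw [mul_one, ← h.eq_vec hz, hg.fz, div_self h0]

theorem Gd.s_zero {z g : G} : Gd.s h z g 0 = 0 := by
  unfold Gd.s
  have h1 : h.vec ![e z 0 * 0, 0] = 1 := h.inj _ (h.vec_mem _) (by
    rw [h.e_vec, mul_zero]
    funext i
    fin_cases i <;> rfl)
  have h2 : g * 1 * g⁻¹ = 1 := by group
  rw [h1, h2, h.e_one, Pi.zero_apply, zero_div]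

theorem Gd.s_mul {z g : G} (hz : z ∈ l) (hz1 : z ≠ 1) (hg : Gd V T l z g) (x y : F) :
    Gd.s h z g (x * y) = Gd.s h z g x * Gd.s h z g y := by
  have h0 : e z 0 ≠ 0 := fun h1 => hz1 (h.inj z (h.lV hz) (by
    funext i
    fin_cases i
    · exact h1
    · exact ((h.line z).1 hz).2))
  obtain ⟨b1, hb1⟩ := Gd.key h hg (e z 0 * x)
  obtain ⟨b0, hb0⟩ := Gd.key h hg (e z 0)
  have e1 := hb1 y
  have e2 := hb1 1
  have e3 := hb0 y
  have e4 := hb0 1
  rw [mul_one] at e2 e4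
  rw [← h.eq_vec hz, hg.fz] at e4
  unfold Gd.s
  rw [← mul_assoc, e1, e2, e3]
  field_simp
  rw [e4]
  ring

theorem Gd.act {z g : G} (hz : z ∈ l) (hz1 : z ≠ 1) (hg : Gd V T l z g) (x : F) :
    g * h.vec ![e z 0 * x, 0] * g⁻¹ = h.vec ![e z 0 * Gd.s h z g x, 0] := by
  have h0 : e z 0 ≠ 0 := fun h1 => hz1 (h.inj z (h.lV hz) (by
    funext i
    fin_cases i
    · exact h1
    · exact ((h.line z).1 hz).2))
  rw [h.eq_vec (hg.nl _ (h.vec_line _))]
  congr 2
  unfold Gd.s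
  rw [mul_div_cancel₀ _ h0]

/-- two such elements commute on `l` -/
theorem Gd.comm [Finite F] {z g g' : G} (hz : z ∈ l) (hz1 : z ≠ 1) (hg : Gd V T l z g) (hg' : Gd V T l z g') {x : G}
    (hx : x ∈ l) : g * (g' * x * g'⁻¹) * g⁻¹ = g' * (g * x * g⁻¹) * g'⁻¹ := by
  have h0 : e z 0 ≠ 0 := fun h1 => hz1 (h.inj z (h.lV hz) (by
    funext i
    fin_cases i
    · exact h1
    · exact ((h.line z).1 hz).2))
  have e1 : x = h.vec ![e z 0 * (e x 0 / e z 0), 0] := by
    rw [mul_div_cancel₀ _ h0]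
    exact h.eq_vec hx
  rw [e1, Gd.act h hz hz1 hg', Gd.act h hz hz1 hg, Gd.act h hz hz1 hg, Gd.act h hz hz1 hg',
    mulmap_comm (Gd.s_one h hz hz1 hg) (Gd.s_mul h hz hz1 hg) (Gd.s_zero h) (Gd.s_one h hz hz1 hg')
      (Gd.s_mul h hz hz1 hg') (Gd.s_zero h)]

end line

/-- the elements of `P` which act on `l` as an element of `S` -/
def Ns (S P l : Subgroup G) (hSl : S ≤ normalizer (l : Set G)) : Subgroup G where
  carrier := {g | g ∈ P ∧ ∃ s ∈ S, ∀ x ∈ l, g * x * g⁻¹ = s * x * s⁻¹}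
  one_mem' := ⟨one_mem P, 1, one_mem S, fun _ _ => rfl⟩
  mul_mem' := by
    rintro a b ⟨ha, s, hs, h1⟩ ⟨hb, t, ht, h2⟩
    refine ⟨mul_mem ha hb, s * t, mul_mem hs ht, fun x hx => ?_⟩
    calc a * b * x * (a * b)⁻¹ = a * (b * x * b⁻¹) * a⁻¹ := by group
      _ = a * (t * x * t⁻¹) * a⁻¹ := by rw [h2 x hx]
      _ = s * (t * x * t⁻¹) * s⁻¹ := h1 _ (cjV (hSl ht) hx)
      _ = _ := by group
  inv_mem' := by
    rintro a ⟨ha, s, hs, h1⟩
    refine ⟨inv_mem ha, s⁻¹, inv_mem hs, fun x hx => ?_⟩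
    have h2 := h1 (s⁻¹ * x * s) (cjV' (hSl hs) hx)
    have h3 : s * (s⁻¹ * x * s) * s⁻¹ = x := by group
    rw [h3] at h2
    calc a⁻¹ * x * a⁻¹⁻¹ = a⁻¹ * (a * (s⁻¹ * x * s) * a⁻¹) * a := by rw [h2]; group
      _ = _ := by group

/-- **`P ∈ P*(S)`, `T ≤ O₂(P)`: `P` fixes no `z ∈ l#`.** -/
theorem Rt.not_fix [Finite G] {S : Sylow 2 G} {P V T l : Subgroup G} {F : Type} [Field F] [Finite F] [CharP F 2]
    {e : G → Fin 2 → F} (h : Rt V T l F e) (hP : IsParS (S : Subgroup G) P) (hPV : P ≤ normalizer (V : Set G))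
    (hno : ∀ A ≤ (S : Subgroup G), ElemM V A → Nat.card A * Nat.card ↥(V ⊓ centralizer (A : Set G)) ≤
      Nat.card V * Nat.card ↥(A ⊓ centralizer (V : Set G)))
    (hSl : (S : Subgroup G) ≤ normalizer (l : Set G)) (hTP : T ≤ o2 P) (hZl : zc (S : Subgroup G) ≤ l) {z : G}
    (hz : z ∈ l) (hzP : z ∈ centralizer (P : Set G)) : z = 1 := by
  by_contra hz1
  have hoS : o2 P ≤ (S : Subgroup G) := hP.isLoc.o2_le S
  have hTS : T ≤ (S : Subgroup G) := hTP.trans hoS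
  have hpT : ∀ p ∈ P, ∀ t ∈ T, p * t * p⁻¹ ∈ (S : Subgroup G) := fun p hp t ht =>
    hoS ((mem_normalizer_iff.1 (le_normalizer_o2 P hp) t).1 (hTP ht))
  have hl1 : ∀ p ∈ P, ∀ x ∈ l, p⁻¹ * x * p ∈ l := fun p hp x hx => h.line_conj hSl (hPV hp) (hpT p hp) hx
  have hl2 : ∀ p ∈ P, ∀ x ∈ l, p * x * p⁻¹ ∈ l := fun p hp x hx => by
    have h1 := hl1 p⁻¹ (inv_mem hp) x hx
    rwa [inv_inv] at h1
  -- the elements of `P` are good
  have hgd : ∀ p ∈ P, Gd V T l z p := fun p hp =>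
    { nV := hPV hp
      nl := hl2 p hp
      nT := fun t ht => by
        refine h.acts hno hTS (s := p * t * p⁻¹) ⟨hpT p hp t ht, mul_mem (mul_mem (hPV hp) (h.nV ht)) (inv_mem (hPV hp)),
          fun x hx => ?_, fun v hv => ?_⟩
        · calc p * t * p⁻¹ * x * (p * t * p⁻¹)⁻¹ = p * (t * (p⁻¹ * x * p) * t⁻¹) * p⁻¹ := by group
            _ = p * (p⁻¹ * x * p) * p⁻¹ := by rw [h.Tl ht (hl1 p hp x hx)]
            _ = x := by group
        · have h1 := (h.T_le_Hs hTS ht).2.2.2 (p⁻¹ * v * p) (cjV' (hPV hp) hv)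
          have h2 := hl2 p hp _ h1
          have h3 : p * ((p⁻¹ * v * p)⁻¹ * (t * (p⁻¹ * v * p) * t⁻¹)) * p⁻¹ =
              v⁻¹ * (p * t * p⁻¹ * v * (p * t * p⁻¹)⁻¹) := by group
          rwa [h3] at h2
      fz := by
        rw [mem_centralizer_iff.1 hzP p hp]
        group }
  set N := Ns (S : Subgroup G) P l hSl with hN
  have hSN : (S : Subgroup G) ≤ N := fun s hs => ⟨hP.le hs, s, hs, fun _ _ => rfl⟩
  have hNP : N ≤ P := fun g hg => hg.1
  have hPN1 : ∀ p ∈ P, ∀ g ∈ N, p * g * p⁻¹ ∈ N := by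
    rintro p hp g ⟨hgP, s, hs, h1⟩
    refine ⟨mul_mem (mul_mem hp hgP) (inv_mem hp), s, hs, fun x hx => ?_⟩
    calc p * g * p⁻¹ * x * (p * g * p⁻¹)⁻¹ = p * (g * (p⁻¹ * x * p) * g⁻¹) * p⁻¹ := by group
      _ = g * (p * (p⁻¹ * x * p) * p⁻¹) * g⁻¹ := Gd.comm h hz hz1 (hgd p hp) (hgd g hgP) (hl1 p hp x hx)
      _ = g * x * g⁻¹ := by group
      _ = _ := h1 x hx
  have hPN : P ≤ normalizer (N : Set G) := by
    intro p hp
    rw [mem_normalizer_iff]
    intro g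
    refine ⟨hPN1 p hp g, fun hg => ?_⟩
    have h1 := hPN1 p⁻¹ (inv_mem hp) _ hg
    have h2 : p⁻¹ * (p * g * p⁻¹) * p⁻¹⁻¹ = g := by group
    rwa [h2] at h1
  rcases hP.toIsMinPar.sup_eq_or_inf_le S.isPGroup' (MinSimple.Basic.not_dvd_relIndex S hP.le) hNP hPN with h1 | h1
  · rw [sup_eq_left.2 hSN] at h1
    apply hP.not_zc
    refine le_trans (fun p hp => mem_centralizer_iff.2 fun y hy => ?_) (centralizer_le_normalizer _)
    have hpN : p ∈ N := by rw [h1]; exact hp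
    obtain ⟨-, s, hs, h2⟩ := hpN
    have h3 := h2 y (hZl hy)
    have h4 : s * y * s⁻¹ = y := by
      rw [(MinSimple.VModule.mem_zc.1 hy).2.1 s hs]
      group
    rw [h4] at h3
    exact (mul_inv_eq_iff_eq_mul.1 h3).symm
  · rw [inf_eq_left.2 hSN] at h1
    have h2 : (S : Subgroup G) = o2 P := le_antisymm h1 hoS
    apply hP.toIsMinPar.not_le
    rw [h2]
    exact le_normalizer_o2 P

end Cfsg.Agent.Omega.NOThreeL.RRed.WOneB

end
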