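import Cfsg.Agent.Mrg.Omega.NOThreeL.RRed.TvTr
import Cfsg.Agent.Mrg.Omega.NOThreeL.RZ.TwoC.DecE
import Cfsg.Agent.Mrg.Omega.NOThreeL.RRed.ClassMx
import Cfsg.Agent.Mrg.Omega.NOThreeL.RRed.Base
import Cfsg.Agent.Mrg.Omega.NOThreeL.RZ.Trace
import Cfsg.Agent.Mrg.Omega.NOThreeL.RRed.TvFin

section


/-!
# Blocks of letters: 455's `Orbs` (`O i = {{1, .., n} - p}`) and the generation of `N i` by differences

* `orbs : Full S M V N E R₀ Om phi → DecE.Orbs M N E (Orb phi)`;
* `hdif : N i ≤ ⟨y x⁻¹ : x, y ∈ Orb phi i⟩`.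
-/

set_option autoImplicit false
set_option linter.unusedSectionVars false

namespace Cfsg.Agent.Omega.NOThreeL.RRed.TvTr

open Subgroup Cfsg
open Cfsg.Agent.Omega.KL.TwoS (Rel Lett)
open Cfsg.Agent.Omega.NOThreeL.RRed.TvFin (Full)
open Cfsg.Agent.Omega.NOThreeL.RZ.TwoC.DecE (Orbs)
open scoped Pointwise

universe u

variable {G : Type u} [Group G]

section lett

variable {Ω : Type u} [Fintype Ω] [DecidableEq Ω] {V R : Subgroup G} {φ : Finset Ω → G} (L : Lett V R φ)
include L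

theorem phi_comm (s t : Finset Ω) : φ s * φ t = φ t * φ s := by
  rw [← L.mul, ← L.mul, symmDiff_comm]

theorem phi_insert {a : Ω} {s : Finset Ω} (ha : a ∉ s) : φ (insert a s) = φ {a} * φ s := by
  rw [← L.mul]
  congr 1
  ext x
  rw [Finset.mem_symmDiff, Finset.mem_insert, Finset.mem_singleton]
  by_cases hx : x = a
  · subst hx
    simp [ha]
  · simp [hx]

theorem erase_mul (p q : Ω) : φ (Finset.univ.erase p) * (φ (Finset.univ.erase q))⁻¹ = φ {p} * φ {q} := by
  rw [L.phi_inv, ← L.mul, ← L.mul]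
  congr 1
  ext x
  rw [Finset.mem_symmDiff, Finset.mem_symmDiff, Finset.mem_erase, Finset.mem_erase, Finset.mem_singleton,
    Finset.mem_singleton]
  by_cases h1 : x = p <;> by_cases h2 : x = q <;> simp [h1, h2]

theorem diff_le {K : Subgroup G} (hK : ∀ p q, φ (Finset.univ.erase p) * (φ (Finset.univ.erase q))⁻¹ ∈ K) : V ≤ K := by
  have key : ∀ s : Finset Ω, (Even s.card → φ s ∈ K) ∧ (Odd s.card → ∀ p, φ s * φ {p} ∈ K) := by
    intro s
    induction s using Finset.induction_on with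
    | empty =>
      refine ⟨fun _ => by rw [L.phi_empty]; exact one_mem _, fun h => ?_⟩
      rw [Finset.card_empty] at h
      exact absurd h (by decide)
    | insert a s ha ih =>
      rw [Finset.card_insert_of_notMem ha, phi_insert L ha]
      refine ⟨fun h => ?_, fun h p => ?_⟩
      · rw [phi_comm L]
        exact ih.2 (by rcases Nat.even_or_odd s.card with h1 | h1
                       · exact absurd h (Nat.not_even_iff_odd.2 h1.add_one)
                       · exact h1) a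
      · have h1 : Even s.card := by
          rcases Nat.even_or_odd s.card with h1 | h1
          · exact h1
          · exact absurd h (Nat.not_odd_iff_even.2 h1.add_one)
        have e : φ {a} * φ s * φ {p} = φ s * (φ {a} * φ {p}) := by
          rw [phi_comm L {a} s, mul_assoc]
        rw [e, ← erase_mul L]
        exact mul_mem (ih.1 h1) (hK a p)
  intro v hv
  obtain ⟨s, hs, rfl⟩ := (L.mem v).1 hv
  exact (key s).1 hs

end lett

section full

variable {S M V : Subgroup G} {I : Type u} {N E : I → Subgroup G} {R₀ : Subgroup G} {Om : I → Type u}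
    [∀ i, Fintype (Om i)] [∀ i, DecidableEq (Om i)] {phi : ∀ i, Finset (Om i) → G}
    (F : Full S M V N E R₀ Om phi)
include F

theorem card_orb (i : I) : Nat.card (Orb phi i) = Fintype.card (Om i) := by
  rw [← Nat.card_eq_fintype_card]
  refine (Nat.card_congr (Equiv.ofBijective
    (fun p : Om i => (⟨phi i (Finset.univ.erase p), p, rfl⟩ : Orb phi i)) ⟨?_, ?_⟩)).symm
  · intro p q hpq
    have h1 : phi i (Finset.univ.erase p) = phi i (Finset.univ.erase q) := congrArg Subtype.val hpq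
    have h2 := (F.lett i).phi_inj ((F.lett i).even_erase p) ((F.lett i).even_erase q) h1
    by_contra hne
    have h3 : q ∈ Finset.univ.erase p := Finset.mem_erase.2 ⟨Ne.symm hne, Finset.mem_univ _⟩
    rw [h2] at h3
    exact (Finset.mem_erase.1 h3).1 rfl
  · rintro ⟨_, p, rfl⟩
    exact ⟨p, rfl⟩

/-- **455's `Orbs`** -/
theorem orbs : Orbs M N E (Orb phi) where
  sub := orb_sub F
  one := orb_one F
  odd i := by rw [card_orb F i]; exact (F.lett i).odd
  tr i _ hx _ hy := orb_tr F i hx hy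
  inv _ hg _ _ hij _ hx := orb_conj F hg hij hx

/-- the differences generate -/
theorem hdif (i : I) : N i ≤ closure {y | ∃ a ∈ Orb phi i, ∃ b ∈ Orb phi i, y = b * a⁻¹} :=
  diff_le (F.lett i) fun p q => subset_closure ⟨_, ⟨q, rfl⟩, _, ⟨p, rfl⟩, rfl⟩

end full

end Cfsg.Agent.Omega.NOThreeL.RRed.TvTr

end

section


/-!
# NO-3L, box R, natural blocks: the root group of a block (WideTree row 7 / 8, helper958)

`V = W × W'` abelian, `W ≅ F²` (coordinates `e`), `l = {e v 1 = 0}`; `A` centralises `W'` and acts on `W` as the full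
group of transvections with centre `l`.

* `Rt V W W' l A F e` : this situation;
* `Rt.com`, `Rt.free`, `Rt.full`, `Rt.root'` : commutators; `Rt.card_W` : `|W| = |l|²`;
* `Rt.elem`, `Rt.exa` : `A` is an exact offender on `V`; `Rt.exists_mx` : it contains a minimal one.
-/

set_option autoImplicit false
set_option linter.unusedSectionVars false

namespace Cfsg.Agent.Omega.NOThreeL.RRed.WLeft

open Subgroup Cfsg
open Cfsg.Agent.Omega.FFThm (ElemM OffM)

universe u

variable {G : Type u} [Group G]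

/-- **the root group `A` of the block `W` of `V = W × W'`** -/
structure Rt (V W W' l A : Subgroup G) (F : Type) [Field F] (e : G → Fin 2 → F) : Prop where
  ab : V ≤ centralizer (V : Set G)
  sup : W ⊔ W' = V
  dis : W ⊓ W' = ⊥
  nor : A ≤ normalizer (W : Set G)
  cW : A ≤ centralizer (W' : Set G)
  mul : ∀ v ∈ W, ∀ w ∈ W, e (v * w) = e v + e w
  inj : ∀ v ∈ W, e v = 0 → v = 1
  sur : ∀ x : Fin 2 → F, ∃ v ∈ W, e v = x
  line : ∀ v, v ∈ l ↔ v ∈ W ∧ e v 1 = 0
  root : ∀ s ∈ A, ∃ c : F, ∀ v ∈ W, e (s * v * s⁻¹) = ![e v 0 + c * e v 1, e v 1]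
  sylow : ∀ c : F, ∃ s ∈ A, ∀ v ∈ W, e (s * v * s⁻¹) = ![e v 0 + c * e v 1, e v 1]

namespace Rt

variable {V W W' l A : Subgroup G} {F : Type} [Field F] {e : G → Fin 2 → F} (r : Rt V W W' l A F e)
include r

theorem e_one : e 1 = 0 := by
  have h := r.mul 1 (one_mem _) 1 (one_mem _)
  rw [one_mul] at h
  exact left_eq_add.1 h

theorem e_inv {v : G} (hv : v ∈ W) : e v⁻¹ = - e v := by
  have h := r.mul v⁻¹ (inv_mem hv) v hv
  rw [inv_mul_cancel, r.e_one] at h
  exact eq_neg_of_add_eq_zero_left h.symm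

theorem eq_of {v w : G} (hv : v ∈ W) (hw : w ∈ W) (h : e v = e w) : v = w := by
  have h1 : e (v * w⁻¹) = 0 := by rw [r.mul v hv _ (inv_mem hw), r.e_inv hw, h, add_neg_cancel]
  exact mul_inv_eq_one.1 (r.inj _ (mul_mem hv (inv_mem hw)) h1)

theorem WV : W ≤ V := by rw [← r.sup]; exact le_sup_left

theorem WV' : W' ≤ V := by rw [← r.sup]; exact le_sup_right

theorem l_le : l ≤ W := fun _ hv => ((r.line _).1 hv).1

theorem comm {x y : G} (hx : x ∈ V) (hy : y ∈ V) : x * y = y * x := (mem_centralizer_iff.1 (r.ab hx) y hy).symm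

theorem conj {a w : G} (ha : a ∈ A) (hw : w ∈ W) : a * w * a⁻¹ ∈ W := (mem_normalizer_iff.1 (r.nor ha) w).1 hw

theorem dec {v : G} (hv : v ∈ V) : ∃ w ∈ W, ∃ w' ∈ W', v = w * w' := by
  have h1 : W ≤ normalizer (W' : Set G) :=
    (r.WV.trans r.ab).trans ((centralizer_le r.WV').trans (centralizer_le_normalizer _))
  have h2 : v ∈ ((W ⊔ W' : Subgroup G) : Set G) := by rw [r.sup]; exact hv
  rw [coe_mul_of_left_le_normalizer_right _ _ h1] at h2
  obtain ⟨w, hw, w', hw', h⟩ := h2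
  exact ⟨w, hw, w', hw', h.symm⟩

/-- the coordinates of `[a, v]` -/
theorem e_comm {a v : G} {c : F} (ha : a ∈ A) (hv : v ∈ W) (h : e (a * v * a⁻¹) = ![e v 0 + c * e v 1, e v 1]) :
    e (a * v * a⁻¹ * v⁻¹) = ![c * e v 1, 0] := by
  rw [r.mul _ (r.conj ha hv) _ (inv_mem hv), r.e_inv hv, h]
  ext i
  fin_cases i
  · simp
  · simp

theorem comm_iff {a v : G} {c : F} (ha : a ∈ A) (hv : v ∈ W) (h : e (a * v * a⁻¹) = ![e v 0 + c * e v 1, e v 1]) :
    a * v = v * a ↔ c * e v 1 = 0 := by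
  constructor
  · intro h1
    have h2 := r.e_comm ha hv h
    rw [h1, mul_inv_cancel_right, mul_inv_cancel, r.e_one] at h2
    have := congrFun h2 0
    simpa using this.symm
  · intro h1
    have h2 : a * v * a⁻¹ = v := by
      refine r.eq_of (r.conj ha hv) hv ?_
      rw [h, h1, add_zero]
      ext i
      fin_cases i <;> rfl
    calc a * v = (a * v * a⁻¹) * a := by group
      _ = v * a := by rw [h2]

theorem com {a v : G} (ha : a ∈ A) (hv : v ∈ W) : a * v * a⁻¹ * v⁻¹ ∈ l := by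
  obtain ⟨c, hc⟩ := r.root a ha
  refine (r.line _).2 ⟨mul_mem (r.conj ha hv) (inv_mem hv), ?_⟩
  rw [r.e_comm ha hv (hc v hv)]
  rfl

theorem cent_l : A ≤ centralizer (l : Set G) := by
  intro a ha
  obtain ⟨c, hc⟩ := r.root a ha
  refine mem_centralizer_iff.2 fun v hv => ?_
  obtain ⟨hvW, hv1⟩ := (r.line v).1 hv
  exact ((r.comm_iff ha hvW (hc v hvW)).2 (by rw [hv1, mul_zero])).symm

/-- the scalar of `a ∉ C(W)` is not `0` -/
theorem c_ne {a : G} {c : F} (ha : a ∈ A) (hc : ∀ v ∈ W, e (a * v * a⁻¹) = ![e v 0 + c * e v 1, e v 1])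
    (hn : a ∉ centralizer (W : Set G)) : c ≠ 0 := by
  rintro rfl
  apply hn
  refine mem_centralizer_iff.2 fun v hv => ?_
  exact ((r.comm_iff ha hv (hc v hv)).2 (zero_mul _)).symm

theorem free {a : G} (ha : a ∈ A) (hn : a ∉ centralizer (W : Set G)) {v : G} (hv : v ∈ W) (h : a * v = v * a) :
    v ∈ l := by
  obtain ⟨c, hc⟩ := r.root a ha
  have h1 := (r.comm_iff ha hv (hc v hv)).1 h
  exact (r.line v).2 ⟨hv, (mul_eq_zero.1 h1).resolve_left (r.c_ne ha hc hn)⟩

/-- `[W, a] = l` -/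
theorem full {a : G} (ha : a ∈ A) (hn : a ∉ centralizer (W : Set G)) {z : G} (hz : z ∈ l) :
    ∃ v ∈ W, a * v * a⁻¹ * v⁻¹ = z := by
  obtain ⟨c, hc⟩ := r.root a ha
  have hc0 := r.c_ne ha hc hn
  obtain ⟨v, hv, hev⟩ := r.sur ![0, c⁻¹ * e z 0]
  obtain ⟨hzW, hz1⟩ := (r.line z).1 hz
  refine ⟨v, hv, r.eq_of (mul_mem (r.conj ha hv) (inv_mem hv)) hzW ?_⟩
  rw [r.e_comm ha hv (hc v hv), hev]
  ext i
  fin_cases i
  · simp [mul_inv_cancel_left₀ hc0]
  · simp [hz1]

/-- `[v, A] = l` for `v ∈ W \ l` -/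
theorem root' {v : G} (hv : v ∈ W) (hvl : v ∉ l) {z : G} (hz : z ∈ l) : ∃ a ∈ A, a * v * a⁻¹ * v⁻¹ = z := by
  have h1 : e v 1 ≠ 0 := fun h => hvl ((r.line v).2 ⟨hv, h⟩)
  obtain ⟨a, ha, hc⟩ := r.sylow (e z 0 * (e v 1)⁻¹)
  obtain ⟨hzW, hz1⟩ := (r.line z).1 hz
  refine ⟨a, ha, r.eq_of (mul_mem (r.conj ha hv) (inv_mem hv)) hzW ?_⟩
  rw [r.e_comm ha hv (hc v hv)]
  ext i
  fin_cases i
  · simp [inv_mul_cancel_right₀ h1]
  · simp [hz1]

/-- `A ⊓ C(V) = A ⊓ C(W)` -/
theorem mem_cent {a : G} (ha : a ∈ A) : a ∈ centralizer (V : Set G) ↔ a ∈ centralizer (W : Set G) := by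
  constructor
  · exact fun h => centralizer_le r.WV h
  · intro h
    refine mem_centralizer_iff.2 fun v hv => ?_
    obtain ⟨w, hw, w', hw', rfl⟩ := r.dec hv
    have h1 := mem_centralizer_iff.1 h w hw
    have h2 := mem_centralizer_iff.1 (r.cW ha) w' hw'
    rw [mul_assoc, h2, ← mul_assoc, h1, mul_assoc]

theorem exists_v : ∃ v ∈ W, v ∉ l ∧ e v = ![0, 1] := by
  obtain ⟨v, hv, h⟩ := r.sur ![0, 1]
  refine ⟨v, hv, fun h1 => ?_, h⟩
  have h2 := ((r.line v).1 h1).2
  rw [h] at h2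
  exact one_ne_zero (α := F) (by simpa using h2)

theorem exists_z : ∃ z ∈ l, z ≠ 1 := by
  obtain ⟨v, hv, h⟩ := r.sur ![1, 0]
  refine ⟨v, (r.line v).2 ⟨hv, by rw [h]; rfl⟩, ?_⟩
  rintro rfl
  rw [r.e_one] at h
  exact zero_ne_one (α := F) (by simpa using congrFun h 0)

theorem not_le : ¬ A ≤ centralizer (V : Set G) := by
  intro h
  obtain ⟨v, hv, hvl, -⟩ := r.exists_v
  obtain ⟨z, hz, hz1⟩ := r.exists_z
  obtain ⟨a, ha, h1⟩ := r.root' hv hvl hz
  apply hz1
  rw [← h1, ← mem_centralizer_iff.1 (h ha) v (r.WV hv)]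
  group

/-- `C_V(B) = l W'` for `B ≤ A` which moves `W` -/
theorem cent_eq {B : Subgroup G} (hB : B ≤ A) (hn : ¬ B ≤ centralizer (V : Set G)) :
    V ⊓ centralizer (B : Set G) = l ⊔ W' := by
  apply le_antisymm
  · rintro x ⟨hx, hxB⟩
    obtain ⟨b, hb, hbn⟩ := SetLike.not_le_iff_exists.1 hn
    rw [r.mem_cent (hB hb)] at hbn
    obtain ⟨w, hw, w', hw', rfl⟩ := r.dec hx
    have h1 := mem_centralizer_iff.1 hxB b hb
    have h2 := mem_centralizer_iff.1 (r.cW (hB hb)) w' hw'
    have h3 : b * w = w * b := by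
      have h4 : b * w * w' = w * b * w' := by
        calc b * w * w' = b * (w * w') := by group
          _ = w * (w' * b) := by rw [h1]; group
          _ = w * b * w' := by rw [h2]; group
      exact mul_right_cancel h4
    exact mul_mem_sup (r.free (hB hb) hbn hw h3) hw'
  · refine sup_le (le_inf (r.l_le.trans r.WV) ?_) (le_inf r.WV' ?_)
    · exact le_centralizer_iff.1 (hB.trans r.cent_l)
    · exact le_centralizer_iff.1 (hB.trans r.cW)

theorem inf_l : l ⊓ W' = ⊥ := by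
  rw [eq_bot_iff, ← r.dis]
  exact inf_le_inf_right _ r.l_le

section fin

variable [Finite G] [Finite F]

theorem card_l : Nat.card l = Nat.card F := by
  have h1 := card_map (X := F) (K := l) (L := ⊥) bot_le (fun v => e v 0)
    (fun v hv w hw => by rw [r.mul v (r.l_le hv) w (r.l_le hw)]; rfl)
    (fun c => by
      obtain ⟨v, hv, h⟩ := r.sur ![c, 0]
      exact ⟨v, (r.line v).2 ⟨hv, by rw [h]; rfl⟩, by rw [h]; rfl⟩)
    (fun v hv => by
      rw [mem_bot]
      constructor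
      · intro h
        refine r.inj v (r.l_le hv) ?_
        ext i
        fin_cases i
        · exact h
        · exact ((r.line v).1 hv).2
      · rintro rfl
        rw [r.e_one]; rfl)
  rw [h1, card_bot, one_mul]

theorem card_W' : Nat.card W = Nat.card l * Nat.card F :=
  card_map (X := F) r.l_le (fun v => e v 1)
    (fun v hv w hw => by rw [r.mul v hv w hw]; rfl)
    (fun c => by
      obtain ⟨v, hv, h⟩ := r.sur ![0, c]
      exact ⟨v, hv, by rw [h]; rfl⟩)
    (fun v hv => by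
      rw [r.line]
      exact ⟨fun h => ⟨hv, h⟩, fun h => h.2⟩)

/-- `|W| = |l|²` -/
theorem card_W : Nat.card W = Nat.card l * Nat.card l := by
  rw [r.card_W', r.card_l]

/-- `|A| = |C_A(V)| |F|` -/
theorem card_A : Nat.card A = Nat.card ↥(A ⊓ centralizer (V : Set G)) * Nat.card F := by
  obtain ⟨v, hv, hvl, hev⟩ := r.exists_v
  have key : ∀ a ∈ A, ∀ c : F, (∀ v ∈ W, e (a * v * a⁻¹) = ![e v 0 + c * e v 1, e v 1]) →
      e (a * v * a⁻¹) 0 = c := by
    intro a _ c hc
    rw [hc v hv, hev]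
    simp
  refine card_map (X := F) inf_le_left (fun a => e (a * v * a⁻¹) 0) ?_ ?_ ?_
  · intro a ha b hb
    obtain ⟨c, hc⟩ := r.root a ha
    obtain ⟨d, hd⟩ := r.root b hb
    have e1 : a * b * v * (a * b)⁻¹ = a * (b * v * b⁻¹) * a⁻¹ := by group
    change e (a * b * v * (a * b)⁻¹) 0 = e (a * v * a⁻¹) 0 + e (b * v * b⁻¹) 0
    rw [e1, hc _ (r.conj hb hv), key a ha c hc, key b hb d hd, hd v hv, hev]
    simp [add_comm]
  · intro c
    obtain ⟨a, ha, hc⟩ := r.sylow c
    exact ⟨a, ha, key a ha c hc⟩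
  · intro a ha
    obtain ⟨c, hc⟩ := r.root a ha
    change e (a * v * a⁻¹) 0 = 0 ↔ _
    rw [key a ha c hc]
    constructor
    · rintro rfl
      refine mem_inf.2 ⟨ha, (r.mem_cent ha).2 (mem_centralizer_iff.2 fun w hw => ?_)⟩
      exact ((r.comm_iff ha hw (hc w hw)).2 (zero_mul _)).symm
    · intro h
      by_contra hc0
      have h1 := (r.comm_iff ha hv (hc v hv)).1 (mem_centralizer_iff.1 (mem_inf.1 h).2 v (r.WV hv)).symm
      rw [hev] at h1
      exact hc0 (by simpa using h1)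

theorem elem [CharP F 2] : ElemM V A := by
  constructor
  · intro a ha
    obtain ⟨c, hc⟩ := r.root a ha
    rw [r.mem_cent (pow_mem ha 2)]
    refine mem_centralizer_iff.2 fun v hv => ?_
    have e1 : a ^ 2 * v * (a ^ 2)⁻¹ = a * (a * v * a⁻¹) * a⁻¹ := by rw [pow_two]; group
    have h1 : a ^ 2 * v * (a ^ 2)⁻¹ = v := by
      refine r.eq_of ?_ hv ?_
      · rw [e1]; exact r.conj ha (r.conj ha hv)
      · rw [e1, hc _ (r.conj ha hv), hc v hv]
        ext i
        fin_cases i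
        · simp [add_assoc, CharTwo.add_self_eq_zero]
        · simp
    calc v * a ^ 2 = (a ^ 2 * v * (a ^ 2)⁻¹) * a ^ 2 := by rw [h1]
      _ = a ^ 2 * v := by group
  · intro a ha b hb
    obtain ⟨c, hc⟩ := r.root a ha
    obtain ⟨d, hd⟩ := r.root b hb
    have hmem : a * b * a⁻¹ * b⁻¹ ∈ A := mul_mem (mul_mem (mul_mem ha hb) (inv_mem ha)) (inv_mem hb)
    rw [r.mem_cent hmem]
    refine mem_centralizer_iff.2 fun v hv => ?_
    -- `a b v = b a v`
    have h1 : ∀ w ∈ W, a * (b * w * b⁻¹) * a⁻¹ = b * (a * w * a⁻¹) * b⁻¹ := by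
      intro w hw
      refine r.eq_of (r.conj ha (r.conj hb hw)) (r.conj hb (r.conj ha hw)) ?_
      rw [hc _ (r.conj hb hw), hd _ (r.conj ha hw), hc w hw, hd w hw]
      ext i
      fin_cases i
      · simp only [Matrix.cons_val_zero, Matrix.cons_val_one, Fin.zero_eta, Fin.isValue]
        ring
      · rfl
    have h2 : a⁻¹ * (b⁻¹ * v * b) * a ∈ W := by
      have h3 := r.conj (inv_mem hb) hv
      rw [inv_inv] at h3
      have h4 := r.conj (inv_mem ha) h3
      rwa [inv_inv] at h4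
    have h3 := h1 _ h2
    have e1 : a * (b * (a⁻¹ * (b⁻¹ * v * b) * a) * b⁻¹) * a⁻¹ =
        (a * b * a⁻¹ * b⁻¹) * v * (a * b * a⁻¹ * b⁻¹)⁻¹ := by group
    have e2 : b * (a * (a⁻¹ * (b⁻¹ * v * b) * a) * a⁻¹) * b⁻¹ = v := by group
    rw [e1, e2] at h3
    calc v * (a * b * a⁻¹ * b⁻¹) = ((a * b * a⁻¹ * b⁻¹) * v * (a * b * a⁻¹ * b⁻¹)⁻¹) * (a * b * a⁻¹ * b⁻¹) := by
          rw [h3]
      _ = (a * b * a⁻¹ * b⁻¹) * v := by group

/-- **`A` is exact on `V`** -/
theorem exa : Exa V A := by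
  unfold Exa
  have h1 := Star.card_sup_mul r.ab r.WV r.WV'
  have h2 := Star.card_sup_mul r.ab (r.l_le.trans r.WV) r.WV'
  rw [r.sup, r.dis, card_bot, mul_one] at h1
  rw [r.inf_l, card_bot, mul_one] at h2
  rw [r.cent_eq le_rfl r.not_le, h1, h2, r.card_W', r.card_A]
  ring

theorem exists_mx [CharP F 2] (hp : IsPGroup 2 A) : ∃ B ≤ A, A ⊓ centralizer (V : Set G) ≤ B ∧ Mx V B :=
  RRed.exists_mx r.elem hp r.not_le r.exa

end fin

end Rt

end Cfsg.Agent.Omega.NOThreeL.RRed.WLeft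

end

section


/-!
# `N_G(S)` permutes the blocks (transvection type)

* `pair_le` : the even sets are generated by the pairs;
* `perm_of` : over `TvFin.Full S M V N E R₀ Om phi`, every `g` which normalises `M` and `V` permutes the `N b`
  (a block is a class of non-commuting transpositions, `N b` is generated by their centres);
* **`permN`** : `N_G(S)` permutes the blocks of `V* = Wd S`.
-/

set_option autoImplicit false
set_option linter.unusedSectionVars false

namespace Cfsg.Agent.Omega.NOThreeL.RRed.FourPermN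

open Subgroup Cfsg
open Cfsg.Agent.Omega.KL.TwoS (Rel Lett)
open Cfsg.Agent.Omega.NOThreeL.RRed.TvFin (Full TvV)
open Cfsg.Agent.Omega.NOThreeL.RRed.Blk (Dec Co)
open Cfsg.Agent.Omega.NOThreeL.Merge (MZ)
open scoped Pointwise

universe u

variable {G : Type u} [Group G]

section lett

variable {Ω : Type u} [Fintype Ω] [DecidableEq Ω] {V R : Subgroup G} {φ : Finset Ω → G} (L : Lett V R φ)
include L

theorem pair_le {K : Subgroup G} (hK : ∀ p q, p ≠ q → φ {p, q} ∈ K) : V ≤ K := by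
  refine TvTr.diff_le L fun p q => ?_
  rw [TvTr.erase_mul L, ← L.mul]
  by_cases h : p = q
  · subst h
    rw [symmDiff_self, Finset.bot_eq_empty, L.phi_empty]
    exact one_mem _
  · have e : symmDiff {p} {q} = ({p, q} : Finset Ω) := by
      ext x
      rw [Finset.mem_symmDiff, Finset.mem_singleton, Finset.mem_singleton, Finset.mem_insert, Finset.mem_singleton]
      constructor
      · rintro (⟨h1, -⟩ | ⟨h1, -⟩)
        · exact Or.inl h1
        · exact Or.inr h1
      · rintro (h1 | h1)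
        · exact Or.inl ⟨h1, fun h2 => h (h1.symm.trans h2)⟩
        · exact Or.inr ⟨h1, fun h2 => h (h2.symm.trans h1)⟩
    rw [e]
    exact hK p q h

/-- the transposition `(p q)` moves `{p, r}` -/
theorem swap_moves {x : G} {p q r : Ω} (hpq : p ≠ q) (hpr : p ≠ r) (hqr : q ≠ r)
    (hx : Rel φ x (Equiv.swap p q)) : x * φ {p, r} * x⁻¹ ≠ φ {p, r} := by
  intro h
  rw [L.pair hx hpr, Equiv.swap_apply_left, Equiv.swap_apply_of_ne_of_ne hpr.symm hqr.symm] at h
  have h1 := L.phi_inj (by rw [Finset.card_pair hqr]; exact even_two) (by rw [Finset.card_pair hpr]; exact even_two) h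
  have h2 : p ∈ ({q, r} : Finset Ω) := by rw [h1]; exact Finset.mem_insert_self _ _
  rw [Finset.mem_insert, Finset.mem_singleton] at h2
  rcases h2 with h2 | h2
  · exact hpq h2
  · exact hpr h2

theorem exists_third (h3 : 3 ≤ Fintype.card Ω) (a b : Ω) : ∃ c, c ≠ a ∧ c ≠ b := by
  obtain ⟨c, hc⟩ : ∃ c, c ∉ ({a, b} : Finset Ω) := by
    by_contra hcon
    push Not at hcon
    have h1 : (Finset.univ : Finset Ω) ⊆ {a, b} := fun x _ => hcon x
    have h2 := Finset.card_le_card h1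
    rw [Finset.card_univ] at h2
    have h4 : ({a, b} : Finset Ω).card ≤ 2 := Finset.card_le_two
    omega
  rw [Finset.mem_insert, Finset.mem_singleton, not_or] at hc
  exact ⟨c, hc⟩

end lett

section full

variable {S M V : Subgroup G} {I : Type u} {N E : I → Subgroup G} {R₀ : Subgroup G} {Om : I → Type u}
    [∀ i, Fintype (Om i)] [∀ i, DecidableEq (Om i)] {phi : ∀ i, Finset (Om i) → G}
    (F : Full S M V N E R₀ Om phi)
include F

theorem phi_mem {b : I} {p q : Om b} (hpq : p ≠ q) : phi b {p, q} ∈ N b :=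
  ((F.lett b).mem _).2 ⟨_, by rw [Finset.card_pair hpq]; exact even_two, rfl⟩

theorem phi_ne {b : I} {p q : Om b} (hpq : p ≠ q) : phi b {p, q} ≠ 1 := fun h => by
  have h1 := (F.lett b).inj _ (by rw [Finset.card_pair hpq]; exact even_two) h
  have h2 : p ∈ ({p, q} : Finset (Om b)) := Finset.mem_insert_self _ _
  rw [h1] at h2
  exact absurd h2 (Finset.notMem_empty p)

/-- blocks are independent -/
theorem eq_of_mem {i j : I} {v : G} (hi : v ∈ N i) (hj : v ∈ N j) (h1 : v ≠ 1) : i = j := by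
  by_contra hij
  have h2 : v ∈ N i ⊓ ((⨆ c : {c // c ≠ i}, N c) ⊔ R₀) :=
    ⟨hi, mem_sup_left (mem_iSup_of_mem ⟨j, fun h => hij h.symm⟩ hj)⟩
  rw [F.toDec.ind i, mem_bot] at h2
  exact h1 h2

/-- the image of a transposition -/
theorem pair_map {g : G} (hM : g ∈ normalizer (M : Set G)) (hV : g ∈ normalizer (V : Set G)) {b : I} {p q : Om b}
    (hpq : p ≠ q) : ∃ i, ∃ x ∈ E b, Rel (phi b) x (Equiv.swap p q) ∧ g * x * g⁻¹ ∈ E i ∧
      g * phi b {p, q} * g⁻¹ ∈ N i := by
  obtain ⟨x, hx, hr, ht⟩ := F.swap b p q hpq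
  have hxM : x ∈ M := F.toDec.EL b hx
  have hyM : g * x * g⁻¹ ∈ M := (mem_normalizer_iff.1 hM x).1 hxM
  have hcV : g * phi b {p, q} * g⁻¹ ∈ V := (mem_normalizer_iff.1 hV _).1 (F.toDec.NU b (phi_mem F hpq))
  have hT : TvV V (g * phi b {p, q} * g⁻¹) (g * x * g⁻¹) := by
    intro w hw
    have hw' : g⁻¹ * w * g ∈ V := by
      have h1 := (mem_normalizer_iff.1 (inv_mem hV) w).1 hw
      rwa [inv_inv] at h1
    rcases ht _ hw' with h1 | h1
    · left
      calc g * x * g⁻¹ * w * (g * x * g⁻¹)⁻¹ = g * (x * (g⁻¹ * w * g) * x⁻¹) * g⁻¹ := by group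
        _ = w := by rw [h1]; group
    · right
      calc g * x * g⁻¹ * w * (g * x * g⁻¹)⁻¹ = g * (x * (g⁻¹ * w * g) * x⁻¹) * g⁻¹ := by group
        _ = w * (g * phi b {p, q} * g⁻¹) := by rw [h1]; group
  have hne : g * x * g⁻¹ ∉ centralizer (V : Set G) := by
    intro h
    obtain ⟨r, hr1, hr2⟩ := exists_third (F.lett b) (F.three b) p q
    refine swap_moves (F.lett b) hpq (r := r) hr1.symm hr2.symm hr ?_
    have h1 : g * phi b {p, r} * g⁻¹ ∈ V := (mem_normalizer_iff.1 hV _).1 (F.toDec.NU b (phi_mem F hr1.symm))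
    have h2 := mem_centralizer_iff.1 h _ h1
    have h3 : phi b {p, r} * x = x * phi b {p, r} := by
      have h4 : g * (phi b {p, r} * x) * g⁻¹ = g * (x * phi b {p, r}) * g⁻¹ := by
        calc g * (phi b {p, r} * x) * g⁻¹ = g * phi b {p, r} * g⁻¹ * (g * x * g⁻¹) := by group
          _ = g * x * g⁻¹ * (g * phi b {p, r} * g⁻¹) := h2
          _ = _ := by group
      exact mul_left_cancel (mul_right_cancel h4)
    rw [← h3]
    group
  obtain ⟨i, h1, a, a', haa, h2, -⟩ := F.tvs _ hyM _ hcV hT hne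
  refine ⟨i, x, hx, hr, h1, ?_⟩
  rw [h2]
  exact phi_mem F haa

/-- pairs with a common letter go to the same block -/
theorem pair_step {g : G} (hM : g ∈ normalizer (M : Set G)) (hV : g ∈ normalizer (V : Set G)) {b i : I} {p q r : Om b}
    (hpq : p ≠ q) (hpr : p ≠ r) (hi : g * phi b {p, q} * g⁻¹ ∈ N i) : g * phi b {p, r} * g⁻¹ ∈ N i := by
  by_cases hqr : q = r
  · rwa [← hqr]
  obtain ⟨i₁, x, hx, hrx, hy, hc⟩ := pair_map F hM hV hpq
  obtain ⟨i₂, -, -, -, -, hc'⟩ := pair_map F hM hV hpr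
  have hne : g * phi b {p, q} * g⁻¹ ≠ 1 := fun h => phi_ne F hpq (by
    have h1 : g * phi b {p, q} * g⁻¹ = g * 1 * g⁻¹ := by rw [h]; group
    exact mul_left_cancel (mul_right_cancel h1))
  have e1 : i₁ = i := eq_of_mem F hc hi hne
  have e2 : i₁ = i₂ := by
    by_contra h12
    refine swap_moves (F.lett b) hpq hpr hqr hrx ?_
    have h2 := mem_centralizer_iff.1 (F.toDec.EC i₁ i₂ h12 hy) _ hc'
    have h3 : phi b {p, r} * x = x * phi b {p, r} := by
      have h4 : g * (phi b {p, r} * x) * g⁻¹ = g * (x * phi b {p, r}) * g⁻¹ := by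
        calc g * (phi b {p, r} * x) * g⁻¹ = g * phi b {p, r} * g⁻¹ * (g * x * g⁻¹) := by group
          _ = g * x * g⁻¹ * (g * phi b {p, r} * g⁻¹) := h2
          _ = _ := by group
      exact mul_left_cancel (mul_right_cancel h4)
    rw [← h3]
    group
  rw [← e1, e2]
  exact hc'

theorem le_of {g : G} (hM : g ∈ normalizer (M : Set G)) (hV : g ∈ normalizer (V : Set G)) (b : I) :
    ∃ i, ∀ v ∈ N b, g * v * g⁻¹ ∈ N i := by
  have h3 := F.three b
  obtain ⟨p₀⟩ : Nonempty (Om b) := Fintype.card_pos_iff.1 (by omega)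
  obtain ⟨q₀, hq₀, -⟩ := exists_third (F.lett b) h3 p₀ p₀
  obtain ⟨i, -, -, -, -, h0⟩ := pair_map F hM hV hq₀.symm
  have h1 : ∀ r, p₀ ≠ r → g * phi b {p₀, r} * g⁻¹ ∈ N i := fun r hr => pair_step F hM hV hq₀.symm hr h0
  have h2 : ∀ p q, p ≠ q → phi b {p, q} ∈ (N i).comap (MulAut.conj g).toMonoidHom := by
    intro p q hpq
    show g * phi b {p, q} * g⁻¹ ∈ N i
    by_cases e : p₀ = p
    · rw [← e]
      exact h1 q (by rw [e]; exact hpq)
    · have h4 := h1 p e
      rw [Finset.pair_comm] at h4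
      exact pair_step F hM hV (fun h => e h.symm) hpq h4
  refine ⟨i, fun v hv => ?_⟩
  exact pair_le (F.lett b) h2 hv

/-- **`N(M) ∩ N(V)` permutes the blocks.** -/
theorem perm_of {g : G} (hM : g ∈ normalizer (M : Set G)) (hV : g ∈ normalizer (V : Set G)) (b : I) :
    ∃ i, MulAut.conj g • N b = N i := by
  obtain ⟨i, h1⟩ := le_of F hM hV b
  obtain ⟨j, h2⟩ := le_of F (inv_mem hM) (inv_mem hV) i
  have hj : b = j := by
    obtain ⟨⟨v, hv⟩, hv1⟩ := (Subgroup.ne_bot_iff_exists_ne_one).1 (F.toDec.ne b)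
    refine eq_of_mem F hv ?_ (v := v) (fun h => hv1 (Subtype.ext h))
    have h3 := h2 _ (h1 v hv)
    have e : g⁻¹ * (g * v * g⁻¹) * g⁻¹⁻¹ = v := by group
    rwa [e] at h3
  subst hj
  refine ⟨i, le_antisymm ?_ ?_⟩
  · rintro _ ⟨v, hv, rfl⟩
    exact h1 v hv
  · intro w hw
    refine ⟨g⁻¹ * w * g, ?_, ?_⟩
    · have h3 := h2 w hw
      rwa [inv_inv] at h3
    · show g * (g⁻¹ * w * g) * g⁻¹ = w
      group

end full

section inst

variable [Finite G] {S : Sylow 2 G} {I : Type u} {N E : I → Subgroup G} {R₀ : Subgroup G} {Om : I → Type u}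
    [∀ i, Fintype (Om i)] [∀ i, DecidableEq (Om i)] {phi : ∀ i, Finset (Om i) → G}

/-- **`N_G(S)` permutes the blocks of `V*`.** -/
theorem permN (F : Full (S : Subgroup G) (MZ (S : Subgroup G)) (Wd (S : Subgroup G)) N E R₀ Om phi) :
    ∀ g ∈ normalizer ((S : Subgroup G) : Set G), ∀ b, ∃ c, MulAut.conj g • N b = N c := fun g hg b =>
  perm_of F (show g ∈ normalizer (Star.YS (S : Subgroup G) : Set G) from RZ.Frm.nS_ys hg)
    (show g ∈ normalizer (Cfsg.Agent.ZN.zl (S : Subgroup G) (Star.YS (S : Subgroup G)) : Set G) from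
      RZ.Frm.nS_Vs hg) b

end inst

end Cfsg.Agent.Omega.NOThreeL.RRed.FourPermN

end

section


/-!
# NO-3L, box R: the orbits `O i = {phi i (Om i ∖ {p})}` of the blocks of letters

`Full S M V N E R₀ Om phi` (block theorem for transvections): `orbs : DecE.Orbs M N E (O phi)`.
-/

set_option autoImplicit false
set_option linter.unusedSectionVars false

namespace Cfsg.Agent.Omega.NOThreeL.RRed.TvOrb

open Subgroup Cfsg.Agent.Omega.NOThreeL.RRed.Blk
open Cfsg.Agent.Omega.KL.TwoS (Rel Lett)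
open Cfsg.Agent.Omega.NOThreeL.RZ.TwoC.DecE (Orbs)
open scoped Pointwise

universe u

variable {G : Type u} [Group G] {I : Type u} {Om : I → Type u} [∀ i, Fintype (Om i)] [∀ i, DecidableEq (Om i)]

/-- The elements `phi i (Om i ∖ {p})` of `N i`. -/
def O (phi : ∀ i, Finset (Om i) → G) (i : I) : Set G := {x | ∃ p : Om i, x = phi i (Finset.univ.erase p)}

variable {S M V : Subgroup G} {N E : I → Subgroup G} {R₀ : Subgroup G} {phi : ∀ i, Finset (Om i) → G}

theorem even_erase {i : I} (h : Lett (N i) (E i) (phi i)) (p : Om i) :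
    Even ((Finset.univ : Finset (Om i)).erase p).card := by
  rw [Finset.card_erase_of_mem (Finset.mem_univ p), Finset.card_univ]
  obtain ⟨k, hk⟩ := h.odd
  rw [hk]
  exact ⟨k, by omega⟩

theorem map_erase {i j : I} (σ : Om i ≃ Om j) (p : Om i) :
    (Finset.univ.erase p).map σ.toEmbedding = (Finset.univ : Finset (Om j)).erase (σ p) := by
  rw [Finset.map_erase, Finset.map_univ_equiv]
  rfl

theorem lett_inj {i : I} (h : Lett (N i) (E i) (phi i)) {s t : Finset (Om i)} (hs : Even s.card) (ht : Even t.card)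
    (e : phi i s = phi i t) : s = t := by
  have h1 : phi i (symmDiff s t) = 1 := by
    rw [h.mul, e, ← h.mul, symmDiff_self]
    have h2 := h.mul ∅ ∅
    rw [symmDiff_self] at h2
    exact left_eq_mul.1 h2
  exact symmDiff_eq_bot.1 (h.inj _ (Cfsg.Agent.Omega.KL.TwoS.even_symmDiff hs ht) h1)

/-- **The orbits.** -/
theorem orbs (F : TvFin.Full S M V N E R₀ Om phi) : Orbs M N E (O phi) where
  sub i := by
    rintro x ⟨p, rfl⟩
    exact ((F.lett i).mem _).2 ⟨_, even_erase (F.lett i) p, rfl⟩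
  one i := by
    rintro ⟨p, hp⟩
    have h1 := (F.lett i).inj _ (even_erase (F.lett i) p) hp.symm
    have h2 := congrArg Finset.card h1
    rw [Finset.card_erase_of_mem (Finset.mem_univ p), Finset.card_univ, Finset.card_empty] at h2
    have := F.three i
    omega
  odd i := by
    have e : Nat.card (O phi i) = Fintype.card (Om i) := by
      rw [← Nat.card_eq_fintype_card]
      refine (Nat.card_congr (Equiv.ofBijective
        (fun p : Om i => (⟨phi i (Finset.univ.erase p), p, rfl⟩ : O phi i)) ⟨?_, ?_⟩)).symm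
      · intro p q hpq
        have h1 := lett_inj (F.lett i) (even_erase (F.lett i) p) (even_erase (F.lett i) q) (congrArg Subtype.val hpq)
        by_contra hne
        have h2 : q ∈ (Finset.univ : Finset (Om i)).erase p := Finset.mem_erase.2 ⟨Ne.symm hne, Finset.mem_univ _⟩
        rw [h1] at h2
        exact Finset.notMem_erase q _ h2
      · rintro ⟨x, p, rfl⟩
        exact ⟨p, rfl⟩
    rw [e]
    exact (F.lett i).odd
  tr i := by
    rintro x ⟨p, rfl⟩ y ⟨q, rfl⟩
    obtain ⟨g, hg, h⟩ := (F.lett i).all (Equiv.swap p q)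
    refine ⟨g, hg, ?_⟩
    rw [h _ (even_erase (F.lett i) p), map_erase, Equiv.swap_apply_left]
  inv g hg b c hbc x := by
    rintro ⟨p, rfl⟩
    obtain ⟨τ, σ, h1, -, h3⟩ := F.letters g hg
    have hτ : τ b = c := F.toDec.Ninj (by rw [← h1 b, hbc])
    subst hτ
    exact ⟨σ b p, by rw [h3, map_erase]⟩

end Cfsg.Agent.Omega.NOThreeL.RRed.TvOrb

end
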