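import Cfsg.Agent.Mrg.Omega.TV.Full
import Cfsg.Agent.Mrg.Omega.IId.OneJ
import Cfsg.Agent.Mrg.Omega.FrameI

section


/-!
# NO-3L, box R, smallest shape: L3 of #21468 (helper858)

`M` acts on `W`, `Ω₁Z(S) = ⟨v₁, v₂⟩`, `t ∈ S` is a transvection of `W` with centre `v₁` and the only one in `M` (T1),
`a ∈ v₁^{C_M(v₂)}` is moved by `t`, `⟨v₁, a⟩` is normalised by `S`.

* `quad v a` : the four-group `{1, v, a, v a}`;
* `gsys` : `GSys (M ⊓ C(v₂)) N v₁` for `N = ⟨v₁^{C_M(v₂)}⟩`;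
* `pts` : `v₁^{C_M(v₂)} = {v₁, a, v₁ a}`;
* `norm` : `C_M(v₂)` normalises `⟨v₁, a⟩`.
-/

set_option autoImplicit false
set_option linter.unusedSectionVars false

namespace Cfsg.Agent.Omega.NOThreeL.RRed.LThree

open Subgroup Cfsg Cfsg.Agent.Omega.TV

variable {G : Type*} [Group G]

/-- `{1, v, a, v a}` -/
def quad (v a : G) (hv : v * v = 1) (ha : a * a = 1) (hc : v * a = a * v) : Subgroup G where
  carrier := {x | x = 1 ∨ x = v ∨ x = a ∨ x = v * a}
  one_mem' := Or.inl rfl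
  mul_mem' := by
    have e1 : v * (v * a) = a := by rw [← mul_assoc, hv, one_mul]
    have e2 : a * v = v * a := hc.symm
    have e3 : a * (v * a) = v := by rw [hc, ← mul_assoc, ha, one_mul]
    have e4 : v * a * v = a := by rw [mul_assoc, ← hc, e1]
    have e5 : v * a * a = v := by rw [mul_assoc, ha, mul_one]
    have e6 : v * a * (v * a) = 1 := by rw [mul_assoc, e3, hv]
    rintro x y (rfl | rfl | rfl | rfl) (rfl | rfl | rfl | rfl) <;>
      simp only [Set.mem_ofPred_eq, one_mul, mul_one, hv, ha, e1, e2, e3, e4, e5, e6, true_or, or_true]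
  inv_mem' := by
    have i1 : v⁻¹ = v := inv_eq_of_mul_eq_one_left hv
    have i2 : a⁻¹ = a := inv_eq_of_mul_eq_one_left ha
    rintro x (rfl | rfl | rfl | rfl)
    · left; exact inv_one
    · right; left; exact i1
    · right; right; left; exact i2
    · right; right; right; rw [mul_inv_rev, i1, i2, hc]

theorem mem_quad {v a : G} {hv : v * v = 1} {ha : a * a = 1} {hc : v * a = a * v} {x : G} :
    x ∈ quad v a hv ha hc ↔ x = 1 ∨ x = v ∨ x = a ∨ x = v * a := Iff.rfl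

/-- the hypotheses of L3 -/
structure In (S M W : Subgroup G) (t v₁ a v₂ : G) : Prop where
  SM : S ≤ M
  S2 : IsPGroup 2 S
  Si : ¬ 2 ∣ S.relIndex M
  Wab : ∀ x ∈ W, ∀ y ∈ W, x * y = y * x
  Wsq : ∀ x ∈ W, x * x = 1
  MW : ∀ g ∈ M, ∀ w ∈ W, g * w * g⁻¹ ∈ W
  v1W : v₁ ∈ W
  fix : ∀ x ∈ W, (∀ s ∈ S, s * x = x * s) → x = 1 ∨ x = v₁ ∨ x = v₂ ∨ x = v₁ * v₂
  v1 : v₁ ≠ 1
  s1 : ∀ s ∈ S, s * v₁ = v₁ * s
  s2 : ∀ s ∈ S, s * v₂ = v₂ * s
  tS : t ∈ S
  tW : ∀ w ∈ W, t * w * t⁻¹ = w ∨ t * w * t⁻¹ = w * v₁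
  ta : t * a * t⁻¹ ≠ a
  a_mem : ∃ c ∈ M, c * v₂ = v₂ * c ∧ a = c * v₁ * c⁻¹
  sa : ∀ s ∈ S, s * a * s⁻¹ = a ∨ s * a * s⁻¹ = v₁ * a
  T1 : ∀ x ∈ M, (∀ w ∈ W, x * w * x⁻¹ = w ∨ x * w * x⁻¹ = w * v₁) →
    (∀ w ∈ W, x * w * x⁻¹ = w) ∨ ∀ w ∈ W, x * w * x⁻¹ = t * w * t⁻¹

namespace In

variable {S M W : Subgroup G} {t v₁ a v₂ : G} (h : In S M W t v₁ a v₂)

/-- `C_M(v₂)` -/
def CC (M : Subgroup G) (v₂ : G) : Subgroup G := M ⊓ centralizer ({v₂} : Set G)

theorem mem_CC {c : G} : c ∈ CC M v₂ ↔ c ∈ M ∧ c * v₂ = v₂ * c := by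
  unfold CC
  rw [mem_inf, mem_centralizer_singleton_iff]

/-- `⟨v₁^{C_M(v₂)}⟩` -/
def NN (M : Subgroup G) (v₁ v₂ : G) : Subgroup G := closure {x | ∃ c ∈ CC M v₂, x = c * v₁ * c⁻¹}

include h

theorem aW : a ∈ W := by
  obtain ⟨c, hc, -, rfl⟩ := h.a_mem
  exact h.MW c hc _ h.v1W

theorem NN_le : NN M v₁ v₂ ≤ W := by
  unfold NN
  rw [closure_le]
  rintro _ ⟨c, hc, rfl⟩
  exact h.MW c (mem_CC.1 hc).1 _ h.v1W

theorem S_le : S ≤ CC M v₂ := fun s hs => mem_CC.2 ⟨h.SM hs, h.s2 s hs⟩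

theorem gsys [Finite G] : GSys (CC M v₂) (NN M v₁ v₂) v₁ := by
  refine IId.One.gsys_of (T := S) (fun x hx => h.Wsq x (h.NN_le hx)) ?_ ?_ h.v1 le_rfl h.S_le h.S2 ?_ h.s1
  · intro c hc n hn
    have key : NN M v₁ v₂ ≤ (NN M v₁ v₂).comap (MulAut.conj c).toMonoidHom := by
      conv_lhs => unfold NN
      rw [closure_le]
      rintro _ ⟨d, hd, rfl⟩
      change c * (d * v₁ * d⁻¹) * c⁻¹ ∈ NN M v₁ v₂
      refine subset_closure ⟨c * d, mul_mem hc hd, by group⟩
    exact key hn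
  · exact subset_closure ⟨1, one_mem _, by group⟩
  · intro h2
    apply h.Si
    have e := relIndex_mul_relIndex S (CC M v₂) M h.S_le inf_le_left
    rw [← e]
    exact Dvd.dvd.mul_right h2 _

/-- **L3** -/
theorem four [Finite G] : ∀ w ∈ NN M v₁ v₂, w = 1 ∨ w = v₁ ∨ w = a ∨ w = v₁ * a := by
  have hG := h.gsys
  have haN : a ∈ NN M v₁ v₂ := by
    obtain ⟨c, hc, hc2, rfl⟩ := h.a_mem
    exact subset_closure ⟨c, mem_CC.2 ⟨hc, hc2⟩, rfl⟩
  have htC : t ∈ CC M v₂ := h.S_le h.tS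
  have hta1 : t * a * t⁻¹ = a * v₁ := (h.tW a h.aW).resolve_left h.ta
  have hv11 : v₁ * v₁ = 1 := h.Wsq _ h.v1W
  have haa : a * a = 1 := h.Wsq _ h.aW
  have hva : v₁ * a = a * v₁ := h.Wab _ h.v1W _ h.aW
  rcases hG.dich htC (fun n hn => h.tW n (h.NN_le hn)) (u := a) (by
      obtain ⟨c, hc, hc2, e⟩ := h.a_mem
      exact ⟨c, mem_CC.2 ⟨hc, hc2⟩, e⟩) h.ta h.S2 (fun x hx => by rw [h.s1 x hx]; group) h.sa h.S_le
      (fun n hn hfix => by
        have h1 := h.fix n (h.NN_le hn) fun s hs => mul_inv_eq_iff_eq_mul.1 (hfix s hs)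
        rcases h1 with e | e | e | e
        · exact ⟨1, one_mem _, fun c _ => by group, Or.inl e⟩
        · exact ⟨1, one_mem _, fun c _ => by group, Or.inr (by rw [e, mul_one])⟩
        · refine ⟨n, hn, fun c hc => ?_, Or.inl rfl⟩
          rw [e, (mem_CC.1 hc).2, mul_inv_cancel_right]
        · have hN : v₂ ∈ NN M v₁ v₂ := by
            have h3 : v₁ * n ∈ NN M v₁ v₂ := mul_mem hG.mem hn
            have h4 : v₁ * n = v₂ := by rw [e, ← mul_assoc, hv11, one_mul]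
            rwa [h4] at h3
          refine ⟨v₂, hN, fun c hc => ?_, Or.inr e⟩
          rw [(mem_CC.1 hc).2, mul_inv_cancel_right]) with h1 | h1
  · exact h1
  -- every transvection of `N` is induced
  intro w hw
  by_contra hcon
  obtain ⟨x, hx, hxt, hxq⟩ : ∃ x ∈ NN M v₁ v₂, t * x * t⁻¹ = x ∧ x ∉ quad v₁ a hv11 haa hva := by
    rcases h.tW w (h.NN_le hw) with h2 | h2
    · exact ⟨w, hw, h2, hcon⟩
    · refine ⟨w * a, mul_mem hw haN, ?_, fun hq => hcon ?_⟩
      · have hwv := h.Wab w (h.NN_le hw) v₁ h.v1W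
        calc t * (w * a) * t⁻¹ = (t * w * t⁻¹) * (t * a * t⁻¹) := by group
          _ = w * (v₁ * (a * v₁)) := by rw [h2, hta1]; group
          _ = w * a := by rw [← hva, ← mul_assoc v₁ v₁ a, hv11, one_mul]
      · have h3 : w * a * a ∈ quad v₁ a hv11 haa hva := mul_mem hq (Or.inr (Or.inr (Or.inl rfl)))
        rwa [mul_assoc, haa, mul_one] at h3
  have hqN : quad v₁ a hv11 haa hva ≤ NN M v₁ v₂ := by
    rintro y (rfl | rfl | rfl | rfl)
    · exact one_mem _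
    · exact hG.mem
    · exact haN
    · exact mul_mem hG.mem haN
  obtain ⟨g, hg, hgU, hgx, -⟩ := h1 (quad v₁ a hv11 haa hva) hqN a (Or.inr (Or.inr (Or.inl rfl))) x hx hxq
  have hgM := (mem_CC.1 hg).1
  have hgv : g * v₁ * g⁻¹ = v₁ := hgU v₁ (Or.inr (Or.inl rfl))
  have hgW : ∀ w ∈ W, g⁻¹ * w * g ∈ W := fun w hw => by
    have := h.MW g⁻¹ (inv_mem hgM) w hw
    rwa [inv_inv] at this
  have htM : t ∈ M := h.SM h.tS
  rcases h.T1 (g * t * g⁻¹) (mul_mem (mul_mem hgM htM) (inv_mem hgM)) (fun w hw => by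
      have e : g * t * g⁻¹ * w * (g * t * g⁻¹)⁻¹ = g * (t * (g⁻¹ * w * g) * t⁻¹) * g⁻¹ := by group
      rw [e]
      rcases h.tW _ (hgW w hw) with h2 | h2
      · left; rw [h2]; group
      · right
        rw [h2]
        calc g * (g⁻¹ * w * g * v₁) * g⁻¹ = w * (g * v₁ * g⁻¹) := by group
          _ = w * v₁ := by rw [hgv]) with h2 | h2
  · apply h.ta
    have h3 := h2 _ (h.MW g hgM a h.aW)
    calc t * a * t⁻¹ = g⁻¹ * (g * t * g⁻¹ * (g * a * g⁻¹) * (g * t * g⁻¹)⁻¹) * g := by group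
      _ = a := by rw [h3]; group
  · apply h.ta
    have hxaW : x * a ∈ W := mul_mem (h.NN_le hx) h.aW
    have h3 := h2 _ hxaW
    have e1 : g⁻¹ * (x * a) * g = x := by rw [← hgx]; group
    have e2 : g * t * g⁻¹ * (x * a) * (g * t * g⁻¹)⁻¹ = x * a := by
      calc g * t * g⁻¹ * (x * a) * (g * t * g⁻¹)⁻¹ = g * (t * (g⁻¹ * (x * a) * g) * t⁻¹) * g⁻¹ := by group
        _ = g * x * g⁻¹ := by rw [e1, hxt]
        _ = x * a := hgx
    have e3 : t * (x * a) * t⁻¹ = x * (t * a * t⁻¹) := by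
      calc t * (x * a) * t⁻¹ = (t * x * t⁻¹) * (t * a * t⁻¹) := by group
        _ = x * (t * a * t⁻¹) := by rw [hxt]
    rw [e2, e3] at h3
    exact (mul_left_cancel h3).symm

/-- `v₁^{C_M(v₂)} = {v₁, a, v₁ a}` -/
theorem pts [Finite G] {c : G} (hc : c ∈ M) (hc2 : c * v₂ = v₂ * c) :
    c * v₁ * c⁻¹ = v₁ ∨ c * v₁ * c⁻¹ = a ∨ c * v₁ * c⁻¹ = v₁ * a := by
  rcases h.four (c * v₁ * c⁻¹) (subset_closure ⟨c, mem_CC.2 ⟨hc, hc2⟩, rfl⟩) with h1 | h1
  · exact absurd (conj_eq_one_iff.1 h1) h.v1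
  · exact h1

/-- `C_M(v₂)` normalises `⟨v₁, a⟩` -/
theorem conj_mem [Finite G] {c : G} (hc : c ∈ M) (hc2 : c * v₂ = v₂ * c) {x : G}
    (hx : x = 1 ∨ x = v₁ ∨ x = a ∨ x = v₁ * a) :
    c * x * c⁻¹ = 1 ∨ c * x * c⁻¹ = v₁ ∨ c * x * c⁻¹ = a ∨ c * x * c⁻¹ = v₁ * a := by
  have haN : a ∈ NN M v₁ v₂ := by
    obtain ⟨c, hc, hc2, rfl⟩ := h.a_mem
    exact subset_closure ⟨c, mem_CC.2 ⟨hc, hc2⟩, rfl⟩
  refine h.four _ (h.gsys.nor c (mem_CC.2 ⟨hc, hc2⟩) x ?_)
  rcases hx with rfl | rfl | rfl | rfl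
  · exact one_mem _
  · exact h.gsys.mem
  · exact haN
  · exact mul_mem h.gsys.mem haN

/-- the same for a subgroup with the elements `1, v₁, a, v₁ a` -/
theorem le_norm [Finite G] {V : Subgroup G} (hV : ∀ x, x ∈ V ↔ x = 1 ∨ x = v₁ ∨ x = a ∨ x = v₁ * a) :
    M ⊓ centralizer ({v₂} : Set G) ≤ normalizer (V : Set G) := by
  intro c hc
  have hc' := mem_CC.1 hc
  rw [mem_normalizer_iff]
  intro x
  constructor
  · intro hx
    exact (hV _).2 (h.conj_mem hc'.1 hc'.2 ((hV x).1 hx))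
  · intro hx
    have hi := mem_CC.1 (inv_mem hc : c⁻¹ ∈ CC M v₂)
    have h1 := h.conj_mem hi.1 hi.2 ((hV _).1 hx)
    have e : c⁻¹ * (c * x * c⁻¹) * c⁻¹⁻¹ = x := by group
    rw [e] at h1
    exact (hV x).2 h1

end In

end Cfsg.Agent.Omega.NOThreeL.RRed.LThree

end

section


/-!
# NO-3L, box R: (T1) of #21468, abstract

`C` acts on the elementary abelian group `W` without over-offenders; `t ∈ C` is a transvection on `W` with centre `r`
which moves `u = p r p⁻¹`, `p ∈ C`, `p⁻¹ r p ∈ {u, r u}`.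

* `eq_of_fix` : `d ∈ C`, `[W, d] ≤ ⟨r⟩`, `[u, d] = 1` implies `[W, d] = 1`;
* `tone` : `x ∈ C`, `[W, x] ≤ ⟨r⟩` implies that `x` acts as `1` or as `t` on `W`.
-/

set_option autoImplicit false

namespace Cfsg.Agent.Omega.NOThreeL.RRed.TOne

open Subgroup Cfsg Cfsg.Agent.ZN
open Cfsg.Agent.Omega.FFThm (ElemM OffM NoOverM)

universe u

variable {G : Type u} [Group G]

/-- `x` acts on `W` with `[W, x] ≤ ⟨r⟩`. -/
def Tv (W : Subgroup G) (r x : G) : Prop := ∀ w ∈ W, x * w * x⁻¹ = w ∨ x * w * x⁻¹ = w * r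

/-- The data of (T1). -/
structure Dat (C W : Subgroup G) (r u t p : G) : Prop where
  comm : ∀ v ∈ W, ∀ w ∈ W, v * w = w * v
  sq : ∀ w ∈ W, w * w = 1
  nor : ∀ c ∈ C, ∀ w ∈ W, c * w * c⁻¹ ∈ W
  no : NoOverM W C
  mr : r ∈ W
  mu : u ∈ W
  ht : t ∈ C
  tv : Tv W r t
  tu : t * u * t⁻¹ = u * r
  hp : p ∈ C
  pr : p * r * p⁻¹ = u
  pr' : p⁻¹ * r * p = u ∨ p⁻¹ * r * p = r * u
  ru : r ≠ u
  u1 : u ≠ 1

namespace Dat

variable {C W : Subgroup G} {r u t p : G} (h : Dat C W r u t p)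
include h

theorem r1 : r ≠ 1 := by
  rintro e
  apply h.u1
  rw [← h.pr, e]; group

theorem tr : t * r * t⁻¹ = r := by
  rcases h.tv r h.mr with e | e
  · exact e
  · exfalso
    rw [h.sq r h.mr] at e
    exact h.r1 (conj_eq_one_iff.1 e)

/-- `t' = p t p⁻¹` is a transvection with centre `u`. -/
theorem tv' {w : G} (hw : w ∈ W) : p * t * p⁻¹ * w * (p * t * p⁻¹)⁻¹ = w ∨
    p * t * p⁻¹ * w * (p * t * p⁻¹)⁻¹ = w * u := by
  have hw' : p⁻¹ * w * p ∈ W := by
    have := h.nor p⁻¹ (C.inv_mem h.hp) w hw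
    rwa [inv_inv] at this
  have e : p * t * p⁻¹ * w * (p * t * p⁻¹)⁻¹ = p * (t * (p⁻¹ * w * p) * t⁻¹) * p⁻¹ := by group
  rcases h.tv _ hw' with e1 | e1
  · left; rw [e, e1]; group
  · right; rw [e, e1, ← h.pr]; group

theorem tr' : p * t * p⁻¹ * r * (p * t * p⁻¹)⁻¹ = r * u := by
  have e : p * t * p⁻¹ * r * (p * t * p⁻¹)⁻¹ = p * (t * (p⁻¹ * r * p) * t⁻¹) * p⁻¹ := by group
  rcases h.pr' with e1 | e1
  · rw [e, e1, h.tu]
    calc p * (u * r) * p⁻¹ = p * ((p⁻¹ * r * p) * r) * p⁻¹ := by rw [e1]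
      _ = r * (p * r * p⁻¹) := by group
      _ = r * u := by rw [h.pr]
  · have e2 : t * (r * u) * t⁻¹ = r * u * r := by
      calc t * (r * u) * t⁻¹ = (t * r * t⁻¹) * (t * u * t⁻¹) := by group
        _ = r * u * r := by rw [h.tr, h.tu, mul_assoc]
    rw [e, e1, e2]
    calc p * (r * u * r) * p⁻¹ = p * ((p⁻¹ * r * p) * r) * p⁻¹ := by rw [e1]
      _ = r * (p * r * p⁻¹) := by group
      _ = r * u := by rw [h.pr]

/-- an element of `C` which acts trivially on `r`, `u` and on `W` with `[W, d] ≤ ⟨r⟩` is trivial on `W`. -/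
theorem eq_of_fix [Finite G] {d : G} (hd : d ∈ C) (hdt : Tv W r d) (hdu : d * u * d⁻¹ = u) :
    ∀ w ∈ W, d * w * d⁻¹ = w := by
  by_contra hcon
  push Not at hcon
  obtain ⟨w0, hw0, hne⟩ := hcon
  have hdw0 : d * w0 * d⁻¹ = w0 * r := (hdt w0 hw0).resolve_left hne
  have hdr : d * r * d⁻¹ = r := by
    rcases hdt r h.mr with e | e
    · exact e
    · exfalso
      rw [h.sq r h.mr] at e
      exact h.r1 (conj_eq_one_iff.1 e)
  set s := p * t * p⁻¹ with hs
  have hsC : s ∈ C := C.mul_mem (C.mul_mem h.hp h.ht) (C.inv_mem h.hp)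
  have hsu : s * u * s⁻¹ = u := by
    rcases h.tv' h.mu with e | e
    · exact e
    · exfalso
      rw [← hs, h.sq u h.mu] at e
      exact h.u1 (conj_eq_one_iff.1 e)
  -- `s⁻¹` on `W`
  have hsinv : ∀ w ∈ W, s⁻¹ * w * s = w ∨ s⁻¹ * w * s = w * u := by
    intro w hw
    rcases h.tv' hw with e | e
    · left
      rw [← hs] at e
      nth_rewrite 1 [← e]; group
    · right
      rw [← hs] at e
      have e2 : s * (w * u) * s⁻¹ = w := by
        calc s * (w * u) * s⁻¹ = (s * w * s⁻¹) * (s * u * s⁻¹) := by group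
          _ = w * (u * u) := by rw [e, hsu, mul_assoc]
          _ = w := by rw [h.sq u h.mu, mul_one]
      nth_rewrite 1 [← e2]; group
  -- the group
  let B : Subgroup G :=
    { carrier := {b | b ∈ C ∧ (∀ w ∈ W, d * w * d⁻¹ = w → b * w * b⁻¹ = w) ∧
        (∀ w ∈ W, ∃ c, d * c * d⁻¹ = c ∧ c ∈ W ∧ b * w * b⁻¹ = w * c)}
      one_mem' := ⟨C.one_mem, fun w _ _ => by simp, fun w _ => ⟨1, by simp, W.one_mem, by simp⟩⟩
      mul_mem' := by
        rintro a b ⟨ha, ha1, ha2⟩ ⟨hb, hb1, hb2⟩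
        refine ⟨C.mul_mem ha hb, fun w hw hdw => ?_, fun w hw => ?_⟩
        · calc a * b * w * (a * b)⁻¹ = a * (b * w * b⁻¹) * a⁻¹ := by group
            _ = w := by rw [hb1 w hw hdw, ha1 w hw hdw]
        · obtain ⟨c, hc, hcW, e⟩ := hb2 w hw
          obtain ⟨c', hc', hcW', e'⟩ := ha2 w hw
          refine ⟨c' * c, ?_, W.mul_mem hcW' hcW, ?_⟩
          · calc d * (c' * c) * d⁻¹ = (d * c' * d⁻¹) * (d * c * d⁻¹) := by group
              _ = c' * c := by rw [hc, hc']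
          · calc a * b * w * (a * b)⁻¹ = a * (b * w * b⁻¹) * a⁻¹ := by group
              _ = (a * w * a⁻¹) * (a * c * a⁻¹) := by rw [e]; group
              _ = w * (c' * c) := by rw [e', ha1 c hcW hc, mul_assoc]
      inv_mem' := by
        rintro b ⟨hb, hb1, hb2⟩
        refine ⟨C.inv_mem hb, fun w hw hdw => ?_, fun w hw => ?_⟩
        · have e := hb1 w hw hdw
          rw [inv_inv]
          nth_rewrite 1 [← e]; group
        · obtain ⟨c, hc, hcW, e⟩ := hb2 w hw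
          refine ⟨c, hc, hcW, ?_⟩
          have e2 : b * (w * c) * b⁻¹ = w := by
            calc b * (w * c) * b⁻¹ = (b * w * b⁻¹) * (b * c * b⁻¹) := by group
              _ = w * (c * c) := by rw [e, hb1 c hcW hc, mul_assoc]
              _ = w := by rw [h.sq c hcW, mul_one]
          rw [inv_inv]
          nth_rewrite 1 [← e2]; group }
  have hBm : ∀ b, b ∈ B ↔ b ∈ C ∧ (∀ w ∈ W, d * w * d⁻¹ = w → b * w * b⁻¹ = w) ∧
        (∀ w ∈ W, ∃ c, d * c * d⁻¹ = c ∧ c ∈ W ∧ b * w * b⁻¹ = w * c) := fun b => Iff.rfl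
  have hBC : B ≤ C := fun b hb => hb.1
  have hdB : d ∈ B := by
    refine ⟨hd, fun w _ e => e, fun w hw => ?_⟩
    rcases hdt w hw with e | e
    · exact ⟨1, by simp, W.one_mem, by rw [e, mul_one]⟩
    · exact ⟨r, hdr, h.mr, e⟩
  have hdru : d * (r * u) * d⁻¹ = r * u := by
    calc d * (r * u) * d⁻¹ = (d * r * d⁻¹) * (d * u * d⁻¹) := by group
      _ = r * u := by rw [hdr, hdu]
  -- `d' = s d s⁻¹`
  have hd'1 : ∀ w ∈ W, d * w * d⁻¹ = w → s * d * s⁻¹ * w * (s * d * s⁻¹)⁻¹ = w := by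
    intro w hw e
    have e0 : s * d * s⁻¹ * w * (s * d * s⁻¹)⁻¹ = s * (d * (s⁻¹ * w * s) * d⁻¹) * s⁻¹ := by group
    rcases hsinv w hw with e1 | e1
    · rw [e0, e1, e]
      calc s * w * s⁻¹ = s * (s⁻¹ * w * s) * s⁻¹ := by rw [e1]
        _ = w := by group
    · have e2 : d * (w * u) * d⁻¹ = w * u := by
        calc d * (w * u) * d⁻¹ = (d * w * d⁻¹) * (d * u * d⁻¹) := by group
          _ = w * u := by rw [e, hdu]
      rw [e0, e1, e2]
      calc s * (w * u) * s⁻¹ = s * (s⁻¹ * w * s) * s⁻¹ := by rw [e1]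
        _ = w := by group
  have hd'2 : ∀ w ∈ W, d * w * d⁻¹ = w * r → s * d * s⁻¹ * w * (s * d * s⁻¹)⁻¹ = w * (r * u) := by
    intro w hw e
    have e0 : s * d * s⁻¹ * w * (s * d * s⁻¹)⁻¹ = s * (d * (s⁻¹ * w * s) * d⁻¹) * s⁻¹ := by group
    have e3 : d * (s⁻¹ * w * s) * d⁻¹ = (s⁻¹ * w * s) * r := by
      rcases hsinv w hw with e1 | e1
      · rw [e1, e]
      · have : d * (w * u) * d⁻¹ = w * u * r := by
          calc d * (w * u) * d⁻¹ = (d * w * d⁻¹) * (d * u * d⁻¹) := by group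
            _ = w * (r * u) := by rw [e, hdu, mul_assoc]
            _ = w * u * r := by rw [h.comm r h.mr u h.mu, mul_assoc]
        rw [e1, this]
    rw [e0, e3]
    calc s * (s⁻¹ * w * s * r) * s⁻¹ = w * (s * r * s⁻¹) := by group
      _ = w * (r * u) := by rw [hs, h.tr']
  have hd'B : s * d * s⁻¹ ∈ B := by
    refine ⟨C.mul_mem (C.mul_mem hsC hd) (C.inv_mem hsC), hd'1, fun w hw => ?_⟩
    rcases hdt w hw with e | e
    · exact ⟨1, by simp, W.one_mem, by rw [hd'1 w hw e, mul_one]⟩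
    · exact ⟨r * u, hdru, W.mul_mem h.mr h.mu, hd'2 w hw e⟩
  -- `B` acts as an elementary abelian group
  have helem : ElemM W B := by
    refine ⟨fun b hb => ?_, fun a ha b hb => ?_⟩
    · rw [mem_centralizer_iff]
      intro w hw
      obtain ⟨c, hc, hcW, e⟩ := hb.2.2 w hw
      have e2 : b ^ 2 * w * (b ^ 2)⁻¹ = w := by
        calc b ^ 2 * w * (b ^ 2)⁻¹ = b * (b * w * b⁻¹) * b⁻¹ := by rw [pow_two]; group
          _ = b * (w * c) * b⁻¹ := by rw [e]
          _ = (b * w * b⁻¹) * (b * c * b⁻¹) := by group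
          _ = w * (c * c) := by rw [e, hb.2.1 c hcW hc, mul_assoc]
          _ = w := by rw [h.sq c hcW, mul_one]
      calc w * b ^ 2 = (b ^ 2 * w * (b ^ 2)⁻¹) * b ^ 2 := by rw [e2]
        _ = b ^ 2 * w := by group
    · rw [mem_centralizer_iff]
      intro w hw
      obtain ⟨c, hc, hcW, e⟩ := hb.2.2 w hw
      obtain ⟨c', hc', hcW', e'⟩ := ha.2.2 w hw
      have e1 : a * b * w * (a * b)⁻¹ = w * c' * c := by
        calc a * b * w * (a * b)⁻¹ = a * (b * w * b⁻¹) * a⁻¹ := by group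
          _ = (a * w * a⁻¹) * (a * c * a⁻¹) := by rw [e]; group
          _ = w * c' * c := by rw [e', ha.2.1 c hcW hc]
      have e2 : b * a * w * (b * a)⁻¹ = w * c' * c := by
        calc b * a * w * (b * a)⁻¹ = b * (a * w * a⁻¹) * b⁻¹ := by group
          _ = (b * w * b⁻¹) * (b * c' * b⁻¹) := by rw [e']; group
          _ = w * (c * c') := by rw [e, hb.2.1 c' hcW' hc', mul_assoc]
          _ = w * c' * c := by rw [h.comm c hcW c' hcW', mul_assoc]
      have e3 : a * b * a⁻¹ * b⁻¹ * (b * a * w * (b * a)⁻¹) * (a * b * a⁻¹ * b⁻¹)⁻¹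
          = a * b * w * (a * b)⁻¹ := by group
      rw [e2, e1] at e3
      -- the element fixes every `w' = w c' c`; apply it to `w c' c`
      have key : ∀ w ∈ W, ∀ c c', c ∈ W → c' ∈ W → d * c * d⁻¹ = c → d * c' * d⁻¹ = c' →
          a * b * a⁻¹ * b⁻¹ * (w * c' * c) * (a * b * a⁻¹ * b⁻¹)⁻¹ = w * c' * c →
          a * b * a⁻¹ * b⁻¹ * w * (a * b * a⁻¹ * b⁻¹)⁻¹ = w := by
        intro w hw c c' hcW hcW' hc hc' hh
        have hab : a * b * a⁻¹ * b⁻¹ ∈ B :=
          B.mul_mem (B.mul_mem (B.mul_mem ha hb) (B.inv_mem ha)) (B.inv_mem hb)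
        have f1 := hab.2.1 c hcW hc
        have f2 := hab.2.1 c' hcW' hc'
        set k := a * b * a⁻¹ * b⁻¹
        have f3 : k * (w * c' * c) * k⁻¹ = (k * w * k⁻¹) * c' * c := by
          calc k * (w * c' * c) * k⁻¹ = (k * w * k⁻¹) * (k * c' * k⁻¹) * (k * c * k⁻¹) := by group
            _ = _ := by rw [f1, f2]
        rw [f3] at hh
        exact mul_right_cancel (mul_right_cancel hh)
      have e4 := key w hw c c' hcW hcW' hc hc' e3
      calc w * (a * b * a⁻¹ * b⁻¹) = (a * b * a⁻¹ * b⁻¹ * w * (a * b * a⁻¹ * b⁻¹)⁻¹) * (a * b * a⁻¹ * b⁻¹) := by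
            rw [e4]
        _ = a * b * a⁻¹ * b⁻¹ * w := by group
  have hno := h.no B hBC helem
  -- `|W| ≤ 2 |W ∩ C(B)|`
  have hW2 : Nat.card W ≤ 2 * Nat.card ↥(W ⊓ centralizer (B : Set G)) := by
    let g : W →* G :=
      { toFun := fun w => d * (w : G) * d⁻¹ * (w : G)⁻¹
        map_one' := by simp
        map_mul' := by
          intro a b
          have ha : d * (a : G) * d⁻¹ ∈ W := h.nor d hd a a.2
          have hb : d * (b : G) * d⁻¹ ∈ W := h.nor d hd b b.2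
          have c1 : (a : G)⁻¹ * (d * (b : G) * d⁻¹ * (b : G)⁻¹) = (d * (b : G) * d⁻¹ * (b : G)⁻¹) * (a : G)⁻¹ :=
            h.comm _ (W.inv_mem a.2) _ (W.mul_mem hb (W.inv_mem b.2))
          calc d * ((a * b : W) : G) * d⁻¹ * ((a * b : W) : G)⁻¹
              = (d * (a : G) * d⁻¹) * ((d * (b : G) * d⁻¹ * (b : G)⁻¹) * (a : G)⁻¹) := by
                rw [Subgroup.coe_mul]; group
            _ = d * (a : G) * d⁻¹ * (a : G)⁻¹ * (d * (b : G) * d⁻¹ * (b : G)⁻¹) := by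
                rw [← c1]; group }
    have h1 : Nat.card W = Nat.card g.ker * Nat.card g.range := by
      rw [← Subgroup.index_ker, Subgroup.card_mul_index]
    have h2 : Nat.card g.range ≤ 2 := by
      have h3 : (g.range : Set G) ⊆ {1, r} := by
        rintro _ ⟨w, rfl⟩
        change d * (w : G) * d⁻¹ * (w : G)⁻¹ ∈ ({1, r} : Set G)
        rcases hdt w w.2 with e | e
        · left; rw [e]; group
        · right
          rw [Set.mem_singleton_iff, e, h.comm _ w.2 _ h.mr]; group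
      have h4 := Set.ncard_le_ncard h3 (Set.toFinite _)
      have h5 : ({1, r} : Set G).ncard ≤ 2 := Set.ncard_insert_le _ _ |>.trans (by simp)
      exact h4.trans h5
    have h3 : Nat.card g.ker ≤ Nat.card ↥(W ⊓ centralizer (B : Set G)) := by
      refine Nat.card_le_card_of_injective
        (fun x : g.ker => (⟨(x : W), (x : W).2, ?_⟩ : ↥(W ⊓ centralizer (B : Set G)))) ?_
      · refine mem_centralizer_iff.2 fun b hb => ?_
        have hx : d * ((x : W) : G) * d⁻¹ * ((x : W) : G)⁻¹ = 1 := x.2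
        have hx' : d * ((x : W) : G) * d⁻¹ = ((x : W) : G) := mul_inv_eq_one.1 hx
        have := hb.2.1 _ (x : W).2 hx'
        calc b * ((x : W) : G) = (b * ((x : W) : G) * b⁻¹) * b := by group
          _ = ((x : W) : G) * b := by rw [this]
      · intro x y hxy
        have := congrArg (fun z : ↥(W ⊓ centralizer (B : Set G)) => (z : G)) hxy
        exact Subtype.ext (Subtype.ext this)
    calc Nat.card W = Nat.card g.ker * Nat.card g.range := h1
      _ ≤ Nat.card ↥(W ⊓ centralizer (B : Set G)) * 2 := Nat.mul_le_mul h3 h2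
      _ = _ := mul_comm _ _
  -- `4 |B ∩ C(W)| ≤ |B|`
  have hB4 : 4 * Nat.card ↥(B ⊓ centralizer (W : Set G)) ≤ Nat.card B := by
    let f : B →* G :=
      { toFun := fun b => (b : G) * w0 * (b : G)⁻¹ * w0⁻¹
        map_one' := by simp
        map_mul' := by
          intro a b
          obtain ⟨c, hc, hcW, e⟩ := b.2.2.2 w0 hw0
          obtain ⟨c', hc', hcW', e'⟩ := a.2.2.2 w0 hw0
          have e1 : ((a * b : B) : G) * w0 * ((a * b : B) : G)⁻¹ = w0 * c' * c := by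
            calc ((a * b : B) : G) * w0 * ((a * b : B) : G)⁻¹ = (a : G) * ((b : G) * w0 * (b : G)⁻¹) * (a : G)⁻¹ := by
                  rw [Subgroup.coe_mul]; group
              _ = ((a : G) * w0 * (a : G)⁻¹) * ((a : G) * c * (a : G)⁻¹) := by rw [e]; group
              _ = w0 * c' * c := by rw [e', a.2.2.1 c hcW hc]
          change ((a * b : B) : G) * w0 * ((a * b : B) : G)⁻¹ * w0⁻¹ = _
          rw [e1, e, e', h.comm w0 hw0 c' hcW', h.comm w0 hw0 c hcW]
          calc c' * w0 * c * w0⁻¹ = c' * (w0 * c) * w0⁻¹ := by group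
            _ = c' * (c * w0) * w0⁻¹ := by rw [h.comm w0 hw0 c hcW]
            _ = c' * w0 * w0⁻¹ * (c * w0 * w0⁻¹) := by group }
    have h1 : Nat.card B = Nat.card f.ker * Nat.card f.range := by
      rw [← Subgroup.index_ker, Subgroup.card_mul_index]
    have hr : r ∈ f.range := ⟨⟨d, hdB⟩, by
      change d * w0 * d⁻¹ * w0⁻¹ = r
      rw [hdw0, h.comm _ hw0 _ h.mr]; group⟩
    have hru : r * u ∈ f.range := ⟨⟨s * d * s⁻¹, hd'B⟩, by
      change s * d * s⁻¹ * w0 * (s * d * s⁻¹)⁻¹ * w0⁻¹ = r * u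
      rw [hd'2 w0 hw0 hdw0, h.comm _ hw0 _ (W.mul_mem h.mr h.mu)]; group⟩
    have hu : u ∈ f.range := by
      have := f.range.mul_mem hr hru
      rwa [← mul_assoc, h.sq r h.mr, one_mul] at this
    have h2 : 4 ≤ Nat.card f.range := by
      have h3 : ({1, r, u, r * u} : Set G) ⊆ (f.range : Set G) := by
        rintro x (rfl | rfl | rfl | rfl)
        · exact one_mem _
        · exact hr
        · exact hu
        · exact hru
      have h4 := Set.ncard_le_ncard h3 (Set.toFinite _)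
      have h5 : ({1, r, u, r * u} : Set G).ncard = 4 := by
        have n1 : r * u ≠ 1 := fun e => h.ru (by
          have := mul_eq_one_iff_eq_inv.1 e
          rw [this]; exact (inv_eq_of_mul_eq_one_left (h.sq u h.mu)))
        have n2 : r ≠ r * u := fun e => h.u1 (by simpa using e.symm)
        have n3 : u ≠ r * u := fun e => h.r1 (by simpa using e.symm)
        rw [Set.ncard_insert_of_notMem, Set.ncard_insert_of_notMem, Set.ncard_pair n3]
        · rintro (e | e)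
          · exact h.ru e
          · exact n2 e
        · rintro (e | e | e)
          · exact h.r1 e.symm
          · exact h.u1 e.symm
          · exact n1 e.symm
      rw [h5] at h4
      exact h4
    have h3 : Nat.card ↥(B ⊓ centralizer (W : Set G)) ≤ Nat.card f.ker := by
      refine Nat.card_le_card_of_injective
        (fun x : ↥(B ⊓ centralizer (W : Set G)) => (⟨⟨x, x.2.1⟩, ?_⟩ : f.ker)) ?_
      · rw [MonoidHom.mem_ker]
        change (x : G) * w0 * (x : G)⁻¹ * w0⁻¹ = 1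
        have := mem_centralizer_iff.1 x.2.2 w0 hw0
        rw [← this]; group
      · intro x y hxy
        have := congrArg (fun z : f.ker => ((z : B) : G)) hxy
        exact Subtype.ext this
    calc 4 * Nat.card ↥(B ⊓ centralizer (W : Set G)) ≤ Nat.card f.range * Nat.card f.ker := Nat.mul_le_mul h2 h3
      _ = Nat.card B := by rw [h1, mul_comm]
  have p1 : 0 < Nat.card ↥(B ⊓ centralizer (W : Set G)) := Nat.card_pos
  have p2 : 0 < Nat.card ↥(W ⊓ centralizer (B : Set G)) := Nat.card_pos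
  nlinarith [Nat.mul_le_mul hB4 (le_refl (Nat.card ↥(W ⊓ centralizer (B : Set G)))),
    Nat.mul_le_mul hW2 (le_refl (Nat.card ↥(B ⊓ centralizer (W : Set G)))), Nat.mul_pos p1 p2]

/-- **(T1)** -/
theorem tone [Finite G] {x : G} (hx : x ∈ C) (hxt : Tv W r x) :
    (∀ w ∈ W, x * w * x⁻¹ = w) ∨ ∀ w ∈ W, x * w * x⁻¹ = t * w * t⁻¹ := by
  rcases hxt u h.mu with e | e
  · exact Or.inl (h.eq_of_fix hx hxt e)
  · right
    have htinv : ∀ w ∈ W, t⁻¹ * w * t = w ∨ t⁻¹ * w * t = w * r := by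
      intro w hw
      rcases h.tv w hw with e | e
      · left; nth_rewrite 1 [← e]; group
      · right
        have e2 : t * (w * r) * t⁻¹ = w := by
          calc t * (w * r) * t⁻¹ = (t * w * t⁻¹) * (t * r * t⁻¹) := by group
            _ = w * (r * r) := by rw [e, h.tr, mul_assoc]
            _ = w := by rw [h.sq r h.mr, mul_one]
        nth_rewrite 1 [← e2]; group
    have hxr : x * r * x⁻¹ = r := by
      rcases hxt r h.mr with e | e
      · exact e
      · exfalso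
        rw [h.sq r h.mr] at e
        exact h.r1 (conj_eq_one_iff.1 e)
    have htinvr : t⁻¹ * r * t = r := by
      have := h.tr
      nth_rewrite 1 [← this]; group
    have hd : t⁻¹ * x ∈ C := C.mul_mem (C.inv_mem h.ht) hx
    have hdt : Tv W r (t⁻¹ * x) := by
      intro w hw
      have e0 : t⁻¹ * x * w * (t⁻¹ * x)⁻¹ = t⁻¹ * (x * w * x⁻¹) * t := by group
      rcases hxt w hw with e1 | e1 <;> rcases htinv w hw with e2 | e2
      · left; rw [e0, e1, e2]
      · right; rw [e0, e1, e2]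
      · right
        rw [e0, e1]
        calc t⁻¹ * (w * r) * t = (t⁻¹ * w * t) * (t⁻¹ * r * t) := by group
          _ = w * r := by rw [e2, htinvr]
      · left
        rw [e0, e1]
        calc t⁻¹ * (w * r) * t = (t⁻¹ * w * t) * (t⁻¹ * r * t) := by group
          _ = w * (r * r) := by rw [e2, htinvr, mul_assoc]
          _ = w := by rw [h.sq r h.mr, mul_one]
    have hdu : t⁻¹ * x * u * (t⁻¹ * x)⁻¹ = u := by
      calc t⁻¹ * x * u * (t⁻¹ * x)⁻¹ = t⁻¹ * (x * u * x⁻¹) * t := by group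
        _ = t⁻¹ * (t * u * t⁻¹) * t := by rw [e, h.tu]
        _ = u := by group
    have h1 := h.eq_of_fix hd hdt hdu
    intro w hw
    have h2 := h1 w hw
    calc x * w * x⁻¹ = t * (t⁻¹ * x * w * (t⁻¹ * x)⁻¹) * t⁻¹ := by group
      _ = t * w * t⁻¹ := by rw [h2]

end Dat

end Cfsg.Agent.Omega.NOThreeL.RRed.TOne

end
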