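import Cfsg.Agent.Mrg.Omega.NOThreeL.RRed.Two
import Cfsg.Agent.Mrg.Omega.NOThreeL.RRed.LThree
import Cfsg.Agent.Mrg.Omega.NOThreeL.VF.One
import Cfsg.Agent.Mrg.Omega.FFBr.Final


/-!
# NO-3L, box R, smallest shape: L1 of #21468, side 1

`W = zl S (MZ S)`.

* `Sm.le_norm_cs` : `P ∈ F_z` normalises `C_S(W)`;
* `Sm.ffMod` : some `A ≤ S` is an offender on `W` (else `W ∈ NN(S)` is `⟨P*(S)⟩`-invariant, `W ≤ RR S = 1`);
* `tv_of` : `V_P` a line, `A ≤ S` an offender on `W` with `C_A(V_P) ≤ C_A(W)`: some `t ∈ A` is a transvection on `W`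
  with centre `z`;
* `Sm.side_of` : `Sd S P₀ v₁ v₂ a t`, from the lines (L0).
-/

set_option autoImplicit false
set_option linter.unusedSectionVars false

namespace Cfsg.Agent.Omega.NOThreeL.RRed

open Subgroup Cfsg Cfsg.Agent.ZN Cfsg.Agent.Omega.MinPar Cfsg.Agent.Omega.Frame Cfsg.Agent.Omega.FrameNOFF
open Cfsg.Agent.Omega.Node.NO3L Cfsg.Agent.Omega.NOThreeL.Basic Cfsg.Agent.Omega.NOThreeL.RTree
open Cfsg.Agent.Omega.NOThreeL.Merge (MZ le_MZ S_le_MZ isLoc_MZ zl_MZ_comm zl_MZ_isPGroup)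
open Cfsg.Agent.Omega.NOThreeL.ZCut (FZ YZ XZ VZ)
open Cfsg.Agent.Omega.NO3b.Bang (bang NN)
open Cfsg.Agent.Omega.NO3S (FFMod)
open Cfsg.Agent.Omega.FFThm (ElemM OffM NoOverM)

universe u

variable {G : Type u} [Group G]

theorem zl_MZ_sq [Finite G] {S : Sylow 2 G} (hc : IsCharacteristicTwoType G) (hm : ¬ FF (S : Subgroup G)) :
    ∀ v ∈ zl (S : Subgroup G) (MZ (S : Subgroup G)), v ^ 2 = 1 := Star.zl_sq hc hm

/-- `P ∈ F_z` normalises `C_S(W)`. -/
theorem le_norm_cs [Finite G] {S : Sylow 2 G} {z : G} (hz : z ∈ zc (S : Subgroup G)) {P : Subgroup G}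
    (hP : P ∈ FZ (S : Subgroup G) z) :
    P ≤ normalizer (((S : Subgroup G) ⊓
      centralizer (zl (S : Subgroup G) (MZ (S : Subgroup G)) : Set G) : Subgroup G) : Set G) := by
  have hPM : P ≤ MZ (S : Subgroup G) := le_MZ hP.1
  have hMW := MinSimple.VModule.le_normalizer_zl (S : Subgroup G) (MZ (S : Subgroup G))
  have hXW : XZ z P ≤ zl (S : Subgroup G) (MZ (S : Subgroup G)) := by
    refine ZCut.XZ_le fun p hp => ?_
    exact (mem_normalizer_iff.1 (hMW (hPM hp)) z).1 (MinSimple.VModule.zc_le_zl _ _ hz)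
  have key : ∀ p ∈ P, ∀ x ∈ (S : Subgroup G) ⊓ centralizer (zl (S : Subgroup G) (MZ (S : Subgroup G)) : Set G),
      p * x * p⁻¹ ∈ (S : Subgroup G) ⊓ centralizer (zl (S : Subgroup G) (MZ (S : Subgroup G)) : Set G) := by
    intro p hp x hx
    refine ⟨?_, ?_⟩
    · have h1 : x ∈ o2 P := ZCut.cent_le_o2 hz hP ⟨hx.1, centralizer_le hXW hx.2⟩
      exact hP.1.isLoc.o2_le S ((mem_normalizer_iff.1 (MinSimple.VModule.le_normalizer_o2 P hp) x).1 h1)
    · refine mem_centralizer_iff.2 fun v hv => ?_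
      have h2 := (mem_normalizer_iff''.1 (hMW (hPM hp)) v).1 hv
      have h3 := mem_centralizer_iff.1 hx.2 _ h2
      have e1 : v * (p * x * p⁻¹) = p * ((p⁻¹ * v * p) * x) * p⁻¹ := by group
      have e2 : p * x * p⁻¹ * v = p * (x * (p⁻¹ * v * p)) * p⁻¹ := by group
      rw [e1, e2, h3]
  intro p hp
  rw [mem_normalizer_iff]
  intro x
  refine ⟨key p hp x, fun hx => ?_⟩
  have h1 := key p⁻¹ (P.inv_mem hp) _ hx
  have e : p⁻¹ * (p * x * p⁻¹) * p⁻¹⁻¹ = x := by group
  rwa [e] at h1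

/-- **Some `A ≤ S` is an offender on `W`.** -/
theorem Sm.ffMod [Finite G] {S : Sylow 2 G} (h : Sm S) : FFMod (S : Subgroup G) (MZ (S : Subgroup G)) := by
  by_contra hn
  have hG := h.ctx
  have hm := h.data.noff
  have hne : zc (S : Subgroup G) ≠ ⊥ := MinSimple.Basic.zc_ne_bot S.isPGroup' (hG.sylow_ne_bot S)
  have hMW := MinSimple.VModule.le_normalizer_zl (S : Subgroup G) (MZ (S : Subgroup G))
  have hSW : (S : Subgroup G) ≤ normalizer (zl (S : Subgroup G) (MZ (S : Subgroup G)) : Set G) :=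
    (S_le_MZ hG h.full).trans hMW
  have hN : NN (S : Subgroup G) (zl (S : Subgroup G) (MZ (S : Subgroup G))) :=
    { le := le_of_le_normalizer S (zl_MZ_isPGroup hG hm) hSW
      norm := hSW
      comm := zl_MZ_comm hG hm
      sq := zl_MZ_sq hG.char2 hm
      nff := fun A hA ho => hn ⟨A, hA, ho⟩ }
  have hI : RZ.Inv (S : Subgroup G) (zl (S : Subgroup G) (MZ (S : Subgroup G))) :=
    { nn := hN
      ys := hMW
      gen := MinSimple.VModule.zl_le ((le_inf (MinSimple.VModule.zc_le_zl _ _) le_rfl).trans (RZ.Z_le _ _))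
        (RZ.le_norm_V _ _) }
  have h1 := hI.le_RR
  rw [h.rr] at h1
  exact hne (eq_bot_iff.2 ((MinSimple.VModule.zc_le_zl _ _).trans h1))

/-- **The transvection.** -/
theorem tv_of [Finite G] {S P W : Subgroup G} {z u c : G} (hL : Ln S P z u c) (hPW : zl S P ≤ W)
    (hW : W ≤ centralizer (W : Set G)) {A : Subgroup G} (hA : A ≤ S) (hoff : OffM W A)
    (hne : ¬ A ≤ centralizer (zl S P : Set G))
    (hAc : A ⊓ centralizer (zl S P : Set G) ≤ centralizer (W : Set G)) :
    ∃ t ∈ S, Tv W z t ∧ t * u * t⁻¹ = u * z := by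
  -- `C_A(u) = C_A(V_P)`
  have hcu : ∀ b ∈ A, b * u * b⁻¹ = u → b ∈ centralizer (zl S P : Set G) := by
    intro b hb hbu
    have hbz := hL.zs (hA hb)
    have hbc := hL.cs (hA hb)
    have hbu' : b * u = u * b := by
      calc b * u = (b * u * b⁻¹) * b := by group
        _ = u * b := by rw [hbu]
    rw [mem_centralizer_iff]
    intro x hx
    obtain ⟨y, hy, hxy⟩ := hL.all x hx
    have hby : b * y = y * b := by
      rcases hy with rfl | rfl | rfl | rfl
      · simp
      · exact hbz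
      · exact hbu'
      · calc b * (u * z) = (b * u) * z := by group
          _ = u * (b * z) := by rw [hbu']; group
          _ = u * z * b := by rw [hbz]; group
    rcases hxy with rfl | rfl
    · exact hby.symm
    · calc y * c * b = y * (c * b) := by group
        _ = (y * b) * c := by rw [← hbc]; group
        _ = b * (y * c) := by rw [← hby]; group
  obtain ⟨t, htA, ht⟩ := SetLike.not_le_iff_exists.1 hne
  have htu : t * u * t⁻¹ = u * z := (hL.us t (hA htA)).resolve_left fun h1 => ht (hcu t htA h1)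
  have htz := hL.zs (hA htA)
  -- `|A| ≤ 2 |C_A(W)|`
  have hA2 : Nat.card A ≤ 2 * Nat.card ↥(A ⊓ centralizer (W : Set G)) := by
    have h1 : (A : Set G) ⊆ ((A ⊓ centralizer (W : Set G) : Subgroup G) : Set G) ∪
        (fun x => t * x) '' ((A ⊓ centralizer (W : Set G) : Subgroup G) : Set G) := by
      intro b hb
      rcases hL.us b (hA hb) with e | e
      · exact Or.inl ⟨hb, hAc ⟨hb, hcu b hb e⟩⟩
      · right
        have hm : t⁻¹ * b ∈ A := mul_mem (inv_mem htA) hb
        refine ⟨t⁻¹ * b, ⟨hm, hAc ⟨hm, hcu _ hm ?_⟩⟩, by simp⟩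
        have e2 : t⁻¹ * (u * z) * t = u := by rw [← htu]; group
        calc t⁻¹ * b * u * (t⁻¹ * b)⁻¹ = t⁻¹ * (b * u * b⁻¹) * t := by group
          _ = u := by rw [e, e2]
    have h2 := Set.ncard_le_ncard h1 (Set.toFinite _)
    have h3 := Set.ncard_union_le ((A ⊓ centralizer (W : Set G) : Subgroup G) : Set G)
      ((fun x => t * x) '' ((A ⊓ centralizer (W : Set G) : Subgroup G) : Set G))
    have h4 := Set.ncard_image_le (f := fun x => t * x)
      (Set.toFinite ((A ⊓ centralizer (W : Set G) : Subgroup G) : Set G))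
    have e1 : Nat.card A = (A : Set G).ncard := rfl
    have e2 : Nat.card ↥(A ⊓ centralizer (W : Set G)) =
      ((A ⊓ centralizer (W : Set G) : Subgroup G) : Set G).ncard := rfl
    omega
  -- `|W| ≤ 2 |C_W(A)|`
  have hW2 : Nat.card W ≤ 2 * Nat.card ↥(W ⊓ centralizer (A : Set G)) := by
    have h1 := hoff.le
    have p1 : 0 < Nat.card ↥(A ⊓ centralizer (W : Set G)) := Nat.card_pos
    have h2 : Nat.card W * Nat.card ↥(A ⊓ centralizer (W : Set G)) ≤
        (2 * Nat.card ↥(W ⊓ centralizer (A : Set G))) * Nat.card ↥(A ⊓ centralizer (W : Set G)) := by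
      calc _ ≤ Nat.card A * Nat.card ↥(W ⊓ centralizer (A : Set G)) := h1
        _ ≤ (2 * Nat.card ↥(A ⊓ centralizer (W : Set G))) * Nat.card ↥(W ⊓ centralizer (A : Set G)) :=
          Nat.mul_le_mul_right _ hA2
        _ = _ := by ring
    exact Nat.le_of_mul_le_mul_right h2 p1
  have huW : u ∈ W := hPW hL.uV
  have hindex : ∀ w ∈ W, w ∈ centralizer (A : Set G) ∨ u⁻¹ * w ∈ centralizer (A : Set G) := by
    intro w hw
    by_contra hcon
    push Not at hcon
    -- three cosets `D, uD, wD` of `D = C_W(A)` in `W`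
    set D : Subgroup G := W ⊓ centralizer (A : Set G) with hD
    have huD : u ∉ D := fun h1 => by
      have h2 := mem_centralizer_iff.1 (mem_inf.1 h1).2 t htA
      have h3 : t * u * t⁻¹ = u := by rw [h2]; group
      rw [h3] at htu
      exact hL.z1 (by simpa using htu.symm)
    have hwD : w ∉ D := fun h1 => hcon.1 (mem_inf.1 h1).2
    have huw : u⁻¹ * w ∉ D := fun h1 => hcon.2 (mem_inf.1 h1).2
    have hDW : D ≤ W := inf_le_left
    have d1 : Disjoint (D : Set G) ((fun x => u * x) '' (D : Set G)) := by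
      rw [Set.disjoint_left]
      rintro _ h1 ⟨y, hy, rfl⟩
      exact huD ((Subgroup.mul_mem_cancel_right D hy).1 h1)
    have d2 : Disjoint ((D : Set G) ∪ ((fun x => u * x) '' (D : Set G))) ((fun x => w * x) '' (D : Set G)) := by
      rw [Set.disjoint_left]
      rintro _ h1 ⟨y, hy, rfl⟩
      rcases h1 with h1 | ⟨y', hy', e⟩
      · exact hwD ((Subgroup.mul_mem_cancel_right D hy).1 h1)
      · apply huw
        have e' : u * y' = w * y := e
        have : u⁻¹ * w = y' * y⁻¹ := by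
          calc u⁻¹ * w = u⁻¹ * (w * y) * y⁻¹ := by group
            _ = y' * y⁻¹ := by rw [← e']; group
        rw [this]
        exact mul_mem hy' (inv_mem hy)
    have hsub : ((D : Set G) ∪ ((fun x => u * x) '' (D : Set G))) ∪ ((fun x => w * x) '' (D : Set G)) ⊆
        (W : Set G) := by
      rintro _ ((h1 | ⟨y, hy, rfl⟩) | ⟨y, hy, rfl⟩)
      · exact hDW h1
      · exact mul_mem huW (hDW hy)
      · exact mul_mem hw (hDW hy)
    have h2 := Set.ncard_le_ncard hsub (Set.toFinite _)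
    rw [Set.ncard_union_eq d2 (Set.toFinite _) (Set.toFinite _),
      Set.ncard_union_eq d1 (Set.toFinite _) (Set.toFinite _),
      Set.ncard_image_of_injective _ (mul_right_injective u),
      Set.ncard_image_of_injective _ (mul_right_injective w)] at h2
    have e1 : Nat.card W = (W : Set G).ncard := rfl
    have e2 : Nat.card ↥D = (D : Set G).ncard := rfl
    have p1 : 0 < Nat.card ↥D := Nat.card_pos
    omega
  refine ⟨t, hA htA, fun w hw => ?_, htu⟩
  rcases hindex w hw with e | e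
  · left
    have h1 := mem_centralizer_iff.1 e t htA
    rw [h1]; group
  · right
    have h1 := mem_centralizer_iff.1 e t htA
    have hzW : z ∈ W := by
      have h2 : u * z ∈ W := by
        rw [← htu]
        have h3 : t * u * t⁻¹ ∈ zl S P := by
          rw [htu]
          exact mul_mem hL.uV (MinSimple.VModule.zc_le_zl _ _ hL.zS)
        exact hPW h3
      have h4 := mul_mem (inv_mem huW) h2
      rwa [inv_mul_cancel_left] at h4
    have hwz := mem_centralizer_iff.1 (hW hw) z hzW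
    have huz := hL.uz
    calc t * w * t⁻¹ = (t * u * t⁻¹) * (t * (u⁻¹ * w) * t⁻¹) := by group
      _ = (u * z) * ((u⁻¹ * w) * t * t⁻¹) := by rw [htu, h1]
      _ = (z * u) * (u⁻¹ * w) := by rw [huz]; group
      _ = z * w := by group
      _ = w * z := hwz

/-- **Side 1**, from the lines. -/
theorem Sm.side_of [Finite G] {S : Sylow 2 G} (h : Sm S)
    (hl : ∀ P, IsParS (S : Subgroup G) P → ∃ z u c, Ln (S : Subgroup G) P z u c) :
    ∃ P₀ v₁ v₂ a t, Sd S P₀ v₁ v₂ a t := by
  have hG := h.ctx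
  have hm := h.data.noff
  have hMW := MinSimple.VModule.le_normalizer_zl (S : Subgroup G) (MZ (S : Subgroup G))
  obtain ⟨A₀, hA₀, hoff₀⟩ := h.ffMod
  have hSM := S_le_MZ hG h.full
  obtain ⟨hno, P, hP, hPM, A, hA, hoffW, hoffP, hAc, -⟩ :=
    VF.one FFBr.ffthmM hG.char2 S (isLoc_MZ hG h.full hm) (sSup_le fun _ hP => le_sSup ⟨hP, le_MZ hP⟩)
      ⟨A₀, hA₀.trans hSM, hoff₀⟩
  obtain ⟨v₁, a, v₂, hL⟩ := hl P hP
  have hPW : zl (S : Subgroup G) P ≤ zl (S : Subgroup G) (MZ (S : Subgroup G)) :=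
    MinSimple.VModule.zl_le (MinSimple.VModule.zc_le_zl _ _) (hPM.trans hMW)
  have hWc := zl_MZ_comm hG hm
  obtain ⟨t, ht, htv, hta⟩ := tv_of hL hPW hWc hA hoffW hoffP.ne hAc
  obtain ⟨p, hp, hpa⟩ := hL.tr
  have hsq : ∀ w ∈ zl (S : Subgroup G) (MZ (S : Subgroup G)), w * w = 1 := fun w hw => by
    rw [← pow_two]; exact zl_MZ_sq hG.char2 hm w hw
  have hD : TOne.Dat (MZ (S : Subgroup G)) (zl (S : Subgroup G) (MZ (S : Subgroup G))) v₁ a t p :=
    { comm := fun v hv w hw => (mem_centralizer_iff.1 (hWc hw) v hv)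
      sq := hsq
      nor := fun c hc w hw => (mem_normalizer_iff.1 (hMW hc) w).1 hw
      no := hno
      mr := MinSimple.VModule.zc_le_zl _ _ hL.zS
      mu := hPW hL.uV
      ht := hSM ht
      tv := htv
      tu := hta
      hp := hPM hp
      pr := hpa
      pr' := by
        rcases hL.orb p⁻¹ (inv_mem hp) with e | e | e
        · exfalso
          rw [inv_inv] at e
          apply hL.uz_ne
          rw [← hpa]
          nth_rewrite 1 [← e]; group
        · left; rwa [inv_inv] at e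
        · right; rw [inv_inv] at e; rw [e, hL.uz]
      ru := hL.uz_ne.symm
      u1 := hL.u1 }
  refine ⟨P, v₁, v₂, a, t, ⟨h, hP, hL, ht, htv, hta, hno, fun x hx hxt => ?_⟩⟩
  rcases hD.tone hx hxt with e | e
  · left
    rw [mem_centralizer_iff]
    intro w hw
    have := e w hw
    calc w * x = (x * w * x⁻¹) * x := by rw [this]
      _ = x * w := by group
  · right
    rw [mem_centralizer_iff]
    intro w hw
    have h1 := e w hw
    have h2 : t * w = (x * w * x⁻¹) * t := by rw [h1]; group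
    calc w * (x⁻¹ * t) = x⁻¹ * ((x * w * x⁻¹) * t) := by group
      _ = x⁻¹ * t * w := by rw [← h2]; group

end Cfsg.Agent.Omega.NOThreeL.RRed
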