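import Cfsg.Agent.Mrg.Omega.TV.Basic

section


/-!
# NO-3L, box R, the smallest shape: the linear part ([R-red], #21468, L4, L5, L6)

`H` acts on `V` (over `𝔽₂`), `S ≤ H`, `Om` an orbit; every `c ∈ Om` is the centre of exactly one transvection induced
by `H`, with functional `f c`.

* `USys.symm`, `USys.add`, `USys.eqv` : `f c d = f d c`, `f (c + d) = f c + f d` if `f c d = 1`, equivariance;
* `LnV ρ S R z u c` : the line `{z, u, u + z} = z^R` of `R`, `R` fixes `c`;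
* `LFr` : side 1.
-/

set_option autoImplicit false

namespace Cfsg.Agent.Omega.NOThreeL.RRed

open Module Cfsg.Agent.Omega.TV

variable {H : Type*} [Group H] {V : Type*} [AddCommGroup V] [Module (ZMod 2) V]

/-- Every `c ∈ Om` is the centre of exactly one transvection induced by `H`. -/
structure USys (ρ : H →* (V ≃ₗ[ZMod 2] V)) (Om : Set V) (f : V → Dual (ZMod 2) V) : Prop where
  zero : (0 : V) ∉ Om
  inv : ∀ g : H, ∀ c ∈ Om, ρ g c ∈ Om
  fn : ∀ c ∈ Om, Fn ρ c (f c)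
  ne : ∀ c ∈ Om, f c ≠ 0
  uni : ∀ c ∈ Om, ∀ φ, Fn ρ c φ → φ = 0 ∨ φ = f c

/-- The line of `R`. -/
structure LnV (ρ : H →* (V ≃ₗ[ZMod 2] V)) (S R : Subgroup H) (z u c : V) : Prop where
  le : S ≤ R
  z0 : z ≠ 0
  c0 : c ≠ 0
  ne : z ≠ c
  zS : ∀ s ∈ S, ρ s z = z
  cR : ∀ r ∈ R, ρ r c = c
  us : ∀ s ∈ S, ρ s u = u ∨ ρ s u = u + z
  mv : ∃ s ∈ S, ρ s u ≠ u
  orb : ∀ r ∈ R, ρ r z = z ∨ ρ r z = u ∨ ρ r z = u + z
  tr : ∃ r ∈ R, ρ r z = u
  o2 : ∀ s ∈ S, ρ s u = u → ∀ r ∈ R, r * s * r⁻¹ ∈ S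

/-- **Side 1**, linear. -/
structure LFr (ρ : H →* (V ≃ₗ[ZMod 2] V)) (S : Subgroup H) (Om : Set V) (f : V → Dual (ZMod 2) V)
    (PP : Set (Subgroup H)) (v₁ v₂ a : V) (P₀ : Subgroup H) : Prop extends USys ρ Om f where
  m1 : v₁ ∈ Om
  fix : ∀ x, (∀ s ∈ S, ρ s x = x) → x = 0 ∨ x = v₁ ∨ x = v₂ ∨ x = v₁ + v₂
  s2 : ∀ s ∈ S, ρ s v₂ = v₂
  mem0 : P₀ ∈ PP
  ln0 : LnV ρ S P₀ v₁ a v₂
  par : ∀ R ∈ PP, ∃ z u c, LnV ρ S R z u c
  t : ∃ t ∈ S, ∀ x, ρ t x = x + f v₁ x • v₁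
  ta : f v₁ a = 1
  l2 : ∀ c ∈ Om, (∀ s ∈ S, ρ s c = c) → c = v₁
  l3 : ∀ g : H, ρ g v₂ = v₂ → ρ g v₁ = v₁ ∨ ρ g v₁ = a ∨ ρ g v₁ = a + v₁
  gen : ∀ X : Subgroup H, S ≤ X → (∀ g ∈ X, ρ g v₁ = v₁) → (∃ g ∈ X, ρ g v₂ ≠ v₂) →
    ∃ R ∈ PP, R ≤ X ∧ ∃ g ∈ R, ρ g v₂ ≠ v₂

namespace USys

variable {ρ : H →* (V ≃ₗ[ZMod 2] V)} {Om : Set V} {f : V → Dual (ZMod 2) V} (h : USys ρ Om f)
include h

theorem self {c : V} (hc : c ∈ Om) : f c c = 0 := (h.fn c hc).1

theorem c_ne {c : V} (hc : c ∈ Om) : c ≠ 0 := fun e => h.zero (e ▸ hc)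

/-- The transvection is an involution. -/
theorem invol {c : V} (hc : c ∈ Om) {g : H} (hg : ∀ x, ρ g x = x + f c x • c) (x : V) : ρ g (ρ g x) = x := by
  rw [hg, hg x, map_add, map_smul, h.self hc, smul_eq_mul, mul_zero, add_zero, add_assoc, v_add_self, add_zero]

/-- An element inducing the transvection. -/
theorem ex {c : V} (hc : c ∈ Om) : ∃ g : H, ∀ x, ρ g x = x + f c x • c := (h.fn c hc).2

theorem eqv (g : H) {c : V} (hc : c ∈ Om) (x : V) : f (ρ g c) (ρ g x) = f c x := by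
  have h1 := (h.fn c hc).conj g
  have h2 : f c ∘ₗ (ρ g⁻¹ : V ≃ₗ[ZMod 2] V).toLinearMap ≠ 0 := by
    intro h3
    apply h.ne c hc
    ext y
    have h4 := LinearMap.congr_fun h3 (ρ g y)
    simpa using h4
  have h3 := (h.uni _ (h.inv g c hc) _ h1).resolve_left h2
  rw [← h3]
  simp

theorem eqv' (g : H) {c x : V} (hc : c ∈ Om) (hx : ρ g x = x) : f (ρ g c) x = f c x := by
  conv_lhs => rw [← hx]
  exact h.eqv g hc x

theorem mem_add {c d : V} (hc : c ∈ Om) (hd : d ∈ Om) (h1 : f c d = 1) : c + d ∈ Om := by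
  obtain ⟨g, hg⟩ := h.ex hc
  have h2 := h.inv g d hd
  rw [hg, h1, one_smul] at h2
  rwa [add_comm]

theorem symm1 {c d : V} (hc : c ∈ Om) (hd : d ∈ Om) (h1 : f c d = 1) : f d c = 1 := by
  by_contra hcon
  have h0 := z2_ne_one hcon
  obtain ⟨g, hg⟩ := h.ex hc
  -- `f (c + d) = f d`
  have h2 : f (c + d) = f d := by
    ext x
    have h3 := h.eqv g hd (ρ g x)
    have h4 := h.invol hc hg x
    rw [h4, hg d, h1, one_smul, add_comm d c] at h3
    rw [h3, hg x, map_add, map_smul, h0]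
    simp
  have h5 := h.fn _ (h.mem_add hc hd h1)
  rw [h2] at h5
  have h6 := h5.addc (h.fn d hd)
  rw [add_assoc, v_add_self, add_zero] at h6
  rcases h.uni c hc _ h6 with h7 | h7
  · exact h.ne d hd h7
  · rw [← h7, h.self hd] at h1
    exact zero_ne_one h1

theorem symm {c d : V} (hc : c ∈ Om) (hd : d ∈ Om) : f c d = f d c := by
  rcases z2 (f c d) with h1 | h1
  · rcases z2 (f d c) with h2 | h2
    · rw [h1, h2]
    · rw [h.symm1 hd hc h2, h2]
  · rw [h1, h.symm1 hc hd h1]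

/-- `f (c + d) = f c + f d` for `f c d = 1`. -/
theorem add {c d : V} (hc : c ∈ Om) (hd : d ∈ Om) (h1 : f c d = 1) (x : V) : f (c + d) x = f c x + f d x := by
  obtain ⟨g, hg⟩ := h.ex hc
  have h4 := h.invol hc hg x
  have h3 := h.eqv g hd (ρ g x)
  rw [h4, hg d, h1, one_smul, add_comm d c] at h3
  rw [h3, hg x, map_add, map_smul, h.symm1 hc hd h1]
  simp [add_comm]

end USys

end Cfsg.Agent.Omega.NOThreeL.RRed

end

section


/-!
# NO-3L, box R, the smallest shape: L4, L5 of #21468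

* `LFr.l4` : `t` moves the line of `R`: the line of `R` is `⟨v₁, a⟩` and `c_R = v₂`;
* `LFr.l5` : `t` centralises `V_R`: `R` fixes `v₁`.
-/

set_option autoImplicit false

namespace Cfsg.Agent.Omega.NOThreeL.RRed

open Module Cfsg.Agent.Omega.TV

variable {H : Type*} [Group H] {V : Type*} [AddCommGroup V] [Module (ZMod 2) V]
  {ρ : H →* (V ≃ₗ[ZMod 2] V)} {S : Subgroup H} {Om : Set V} {f : V → Dual (ZMod 2) V}
  {PP : Set (Subgroup H)} {v₁ v₂ a : V} {P₀ : Subgroup H}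

/-- The sum of a finite set of vectors invariant under `S` is fixed by `S`. -/
theorem sum_fixed {S : Subgroup H} (A : Finset V) (hA : ∀ s ∈ S, ∀ z ∈ A, ρ s z ∈ A) :
    ∀ s ∈ S, ρ s (∑ z ∈ A, z) = ∑ z ∈ A, z := by
  classical
  intro s hs
  have h1 : ρ s (∑ z ∈ A, z) = ∑ z ∈ A, ρ s z := map_sum _ _ _
  have h2 : A.image (fun z => ρ s z) = A := by
    refine Finset.eq_of_subset_of_card_le ?_ ?_
    · intro z hz
      obtain ⟨x, hx, rfl⟩ := Finset.mem_image.1 hz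
      exact hA s hs x hx
    · rw [Finset.card_image_of_injective _ (ρ s).injective]
  rw [h1, ← Finset.sum_image (f := fun z => z) (g := fun z => ρ s z)
    (fun a _ b _ hab => (ρ s).injective hab), h2]

theorem eq_of_add_eq {x y z : V} (h : x + y = z) : y = z + x := by
  rw [← h, add_comm x y, add_assoc, v_add_self, add_zero]

namespace LnV

variable {R : Subgroup H} {z u c : V} (hl : LnV ρ S R z u c)
include hl

theorem exists_mv : ∃ s ∈ S, ρ s u = u + z := by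
  obtain ⟨s, hs, h1⟩ := hl.mv
  exact ⟨s, hs, (hl.us s hs).resolve_left h1⟩

theorem u_ne : u ≠ z := by
  intro e
  obtain ⟨s, hs, h1⟩ := hl.mv
  exact h1 (by rw [e]; exact hl.zS s hs)

theorem pre (r : H) (hr : r ∈ R) : ρ r u = z ∨ ρ r u = u ∨ ρ r u = u + z := by
  obtain ⟨q, hq, h1⟩ := hl.tr
  rw [← h1, ← rmul, h1]
  exact hl.orb _ (mul_mem hr hq)

end LnV

namespace LFr

variable (h : LFr ρ S Om f PP v₁ v₂ a P₀)
include h

theorem s1 {s : H} (hs : s ∈ S) : ρ s v₁ = v₁ := h.ln0.zS s hs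

theorem v1_ne : v₁ ≠ 0 := h.c_ne h.m1

theorem a_mem : a ∈ Om := by
  obtain ⟨q, _, h1⟩ := h.ln0.tr
  rw [← h1]
  exact h.inv q _ h.m1

theorem f_fix {x : V} (hx : ∀ s ∈ S, ρ s x = x) : f v₁ x = 0 := by
  obtain ⟨t, ht, h1⟩ := h.t
  have h2 := h1 x
  rw [hx t ht] at h2
  by_contra hcon
  rw [z2_ne_zero hcon, one_smul] at h2
  exact h.v1_ne (by simpa using h2)

theorem f12 : f v₁ v₂ = 0 := h.f_fix h.s2

theorem fa1 : f a v₁ = 1 := by
  rw [← h.symm h.m1 h.a_mem]; exact h.ta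

theorem fa2 : f a v₂ = 0 := by
  obtain ⟨q, hq, h1⟩ := h.ln0.tr
  rw [← h1, h.eqv' q h.m1 (h.ln0.cR q hq)]
  exact h.f12

theorem v12 : v₁ ≠ v₂ := h.ln0.ne

/-- `a = b` -/
theorem l4aux {b : V} (hb : b ∈ Om) (h1 : f v₁ b = 1) (h0 : f a b = 0)
    (hs : ∀ s ∈ S, ρ s b = b ∨ ρ s b = b + v₁) : b = a := by
  have hva : v₁ + a ∈ Om := h.mem_add h.m1 h.a_mem h.ta
  have h2 : f (v₁ + a) b = 1 := by rw [h.add h.m1 h.a_mem h.ta, h1, h0, add_zero]
  have hc := h.mem_add hva hb h2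
  have hfix : ∀ s ∈ S, ρ s (v₁ + a + b) = v₁ + a + b := by
    intro s hs'
    have h3 := h.eqv s h.a_mem b
    rw [h0] at h3
    have hb1 : f b v₁ = 1 := by rw [← h.symm h.m1 hb]; exact h1
    rw [map_add, map_add, h.s1 hs']
    rcases h.ln0.us s hs' with e1 | e1 <;> rcases hs s hs' with e2 | e2
    · rw [e1, e2]
    · exfalso
      rw [e1, e2, map_add, h0, h.fa1, zero_add] at h3
      exact one_ne_zero h3
    · exfalso
      rw [e1, e2, h.add h.a_mem h.m1 h.fa1, h0, h1, zero_add] at h3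
      exact one_ne_zero h3
    · rw [e1, e2]
      have e : v₁ + (a + v₁) + (b + v₁) = v₁ + a + b + (v₁ + v₁) := by abel
      rw [e, v_add_self, add_zero]
  have h4 := h.l2 _ hc hfix
  have h5 : a + b = 0 := by
    have e : v₁ + a + b = v₁ + (a + b) := by abel
    rw [e] at h4
    simpa using h4
  exact (v_eq_of_add h5).symm

/-- **L4** -/
theorem l4 {R : Subgroup H} {z u c : V} (hl : LnV ρ S R z u c) (hm : f v₁ u = 1) :
    z = v₁ ∧ c = v₂ ∧ (u = a ∨ u = a + v₁) := by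
  obtain ⟨t, ht, h1⟩ := h.t
  have hz : z = v₁ := by
    have h2 := h1 u
    rw [hm, one_smul] at h2
    rcases hl.us t ht with e | e
    · rw [e] at h2
      exact absurd (by simpa using h2) h.v1_ne
    · rw [e] at h2
      exact add_left_cancel h2
  subst hz
  have hu : u ∈ Om := by
    obtain ⟨r, _, h2⟩ := hl.tr
    rw [← h2]
    exact h.inv r _ h.m1
  have hua : u = a ∨ u = a + z := by
    rcases z2 (f a u) with h0 | h0
    · exact Or.inl (h.l4aux hu hm h0 hl.us)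
    · right
      have hu' : u + z ∈ Om := by
        have := h.mem_add h.m1 hu hm
        rwa [add_comm] at this
      have h3 := h.l4aux hu' (by rw [map_add, hm, h.self h.m1, add_zero])
        (by rw [map_add, h0, h.fa1]; exact z2_add_self 1) (fun s hs => by
          rw [map_add, h.s1 hs]
          rcases hl.us s hs with e | e
          · left; rw [e]
          · right; rw [e])
      rw [← h3, add_add_self]
  refine ⟨rfl, ?_, hua⟩
  have hcS : ∀ s ∈ S, ρ s c = c := fun s hs => hl.cR s (hl.le hs)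
  have hfc : f u c = 0 := by
    obtain ⟨r, hr, h2⟩ := hl.tr
    rw [← h2, h.eqv' r h.m1 (hl.cR r hr)]
    exact h.f_fix hcS
  have hac : f a c = 0 := by
    rcases hua with rfl | rfl
    · exact hfc
    · rw [h.add h.a_mem h.m1 h.fa1, h.f_fix hcS, add_zero] at hfc
      exact hfc
  rcases h.fix c hcS with e | e | e | e
  · exact absurd e hl.c0
  · exact absurd e.symm hl.ne
  · exact e
  · exfalso
    rw [e, map_add, h.fa1, h.fa2, add_zero] at hac
    exact one_ne_zero hac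

/-- `D_S` -/
def DS (ρ : H →* (V ≃ₗ[ZMod 2] V)) (S : Subgroup H) (Om : Set V) (f : V → Dual (ZMod 2) V) : Set V :=
  {c | c ∈ Om ∧ ∃ s ∈ S, ∀ x, ρ s x = x + f c x • c}

theorem v1_DS : v₁ ∈ DS ρ S Om f := ⟨h.m1, h.t⟩

theorem conj_DS {R : Subgroup H} {z u c : V} (hl : LnV ρ S R z u c) {d : V} (hd : d ∈ DS ρ S Om f)
    (h0 : f d u = 0) {r : H} (hr : r ∈ R) : ρ r d ∈ DS ρ S Om f := by
  obtain ⟨hd1, s, hs, h1⟩ := hd
  refine ⟨h.inv r d hd1, r * s * r⁻¹, hl.o2 s hs ?_ r hr, fun x => ?_⟩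
  · rw [h1, h0, zero_smul, add_zero]
  · rw [rmul, rmul, h1, map_add, rinv', map_smul]
    have h2 := h.eqv r hd1 (ρ r⁻¹ x)
    rw [rinv'] at h2
    rw [h2]

theorem fd_eq_zero {R : Subgroup H} {z u c : V} (hl : LnV ρ S R z u c) (h0 : f v₁ u = 0) {d : V}
    (hd : d ∈ DS ρ S Om f) : f d u = 0 := by
  by_contra hcon
  have hcon := z2_ne_zero hcon
  obtain ⟨hd1, s, hs, h1⟩ := hd
  have h2 := h1 u
  rw [hcon, one_smul] at h2
  rcases hl.us s hs with e | e
  · rw [e] at h2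
    exact h.c_ne hd1 (by simpa using h2)
  · rw [e] at h2
    have h3 : z = d := add_left_cancel h2
    have h4 : d = v₁ := h.l2 d hd1 (fun s hs => h3 ▸ hl.zS s hs)
    rw [h4, h0] at hcon
    exact zero_ne_one hcon

theorem inv_DS {R : Subgroup H} {z u c : V} (hl : LnV ρ S R z u c) (h0 : f v₁ u = 0) {d : V}
    (hd : d ∈ DS ρ S Om f) {r : H} (hr : r ∈ R) : ρ r d ∈ DS ρ S Om f :=
  h.conj_DS hl hd (h.fd_eq_zero hl h0 hd) hr

theorem inv_DS0 {d : V} (hd : d ∈ DS ρ S Om f) (hne : d ≠ v₁) {p : H} (hp : p ∈ P₀) :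
    ρ p d ∈ DS ρ S Om f ∧ ρ p d ≠ v₁ := by
  have hd' := hd
  obtain ⟨hd1, s, hs, h1⟩ := hd
  have h2 : f d v₁ = 0 := by
    have h3 := h1 v₁
    rw [h.s1 hs] at h3
    by_contra hcon
    rw [z2_ne_zero hcon, one_smul] at h3
    exact h.c_ne hd1 (by simpa using h3)
  have h0 : f d a = 0 := by
    by_contra hcon
    have h3 := h1 a
    rw [z2_ne_zero hcon, one_smul] at h3
    rcases h.ln0.us s hs with e | e
    · rw [e] at h3
      exact h.c_ne hd1 (by simpa using h3)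
    · rw [e] at h3
      exact hne (add_left_cancel h3).symm
  refine ⟨h.conj_DS h.ln0 hd' h0 hp, fun e => ?_⟩
  have h3 := h.eqv p hd1 (ρ p⁻¹ a)
  rw [rinv', e, h.ta] at h3
  rcases h.ln0.pre p⁻¹ (inv_mem hp) with e1 | e1 | e1
  · rw [e1, h2] at h3; exact one_ne_zero h3
  · rw [e1, h0] at h3; exact one_ne_zero h3
  · rw [e1, map_add, h0, h2, add_zero] at h3; exact one_ne_zero h3

/-- **L5** -/
theorem l5 [Finite V] {R : Subgroup H} {z u c : V} (hl : LnV ρ S R z u c) (h0 : f v₁ u = 0) :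
    ∀ r ∈ R, ρ r v₁ = v₁ := by
  classical
  have : Fintype V := Fintype.ofFinite V
  let D : Finset V := Finset.univ.filter fun d => d ∈ DS ρ S Om f
  have hD : ∀ d, d ∈ D ↔ d ∈ DS ρ S Om f := fun d => by simp [D]
  set δ := ∑ d ∈ D.erase v₁, d with hδ
  have hsum : ∑ d ∈ D, d = v₁ + δ := (Finset.add_sum_erase D (fun d => d) ((hD _).2 h.v1_DS)).symm
  have hP : ∀ p ∈ P₀, ρ p δ = δ := sum_fixed (ρ := ρ) _ fun p hp d hd => by
    rw [Finset.mem_erase, hD] at hd ⊢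
    exact (h.inv_DS0 hd.2 hd.1 hp).symm
  have hR : ∀ r ∈ R, ρ r (v₁ + δ) = v₁ + δ := by
    rw [← hsum]
    exact sum_fixed (ρ := ρ) _ fun r hr d hd => (hD _).2 (h.inv_DS hl h0 ((hD d).1 hd) hr)
  by_contra hcon
  push Not at hcon
  obtain ⟨r, hr, hne⟩ := hcon
  have hP1 : ∃ p ∈ P₀, ρ p v₁ ≠ v₁ := by
    obtain ⟨q, hq, h1⟩ := h.ln0.tr
    exact ⟨q, hq, by rw [h1]; exact h.ln0.u_ne⟩
  obtain ⟨p, hp, hp1⟩ := hP1
  have hδ2 : δ = v₂ := by
    rcases h.fix δ (fun s hs => hP s (h.ln0.le hs)) with e | e | e | e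
    · exfalso
      apply hne
      have := hR r hr
      rwa [e, add_zero] at this
    · exfalso
      have := hP p hp
      rw [e] at this
      exact hp1 this
    · exact e
    · exfalso
      have := hP p hp
      rw [e, map_add, h.ln0.cR p hp] at this
      exact hp1 (add_right_cancel this)
  rw [hδ2] at hR
  set x := ρ r v₁ with hx
  set y := ρ r a with hy
  have hyO : y ∈ Om := h.inv r _ h.a_mem
  have hf : f y (v₁ + v₂) = 1 := by
    rw [hy, h.eqv' r h.a_mem (hR r hr), map_add, h.fa1, h.fa2, add_zero]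
  rw [map_add] at hf
  obtain ⟨g, hg⟩ := h.ex hyO
  rcases z2 (f y v₂) with h2 | h2
  · rw [h2, add_zero] at hf
    have h3 := h.l3 g (by rw [hg, h2, zero_smul, add_zero])
    rw [hg, hf, one_smul] at h3
    have hya : y = a ∨ y = a + v₁ := by
      rcases h3 with e | e | e
      · exact absurd (by simpa using e) (h.c_ne hyO)
      · right; exact eq_of_add_eq e
      · left
        have := eq_of_add_eq e
        rwa [add_add_self] at this
    obtain ⟨hxD, s, hs, h4⟩ : x ∈ DS ρ S Om f := h.inv_DS hl h0 h.v1_DS hr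
    have h5 : f x y = 1 := by rw [hx, hy, h.eqv r h.m1]; exact h.ta
    have h6 := h4 y
    rw [h5, one_smul] at h6
    have h7 : ρ s y = y ∨ ρ s y = y + v₁ := by
      rcases hya with e | e
      · rw [e]; exact h.ln0.us s hs
      · rw [e, map_add, h.s1 hs]
        rcases h.ln0.us s hs with e1 | e1
        · left; rw [e1]
        · right; rw [e1]
    rcases h7 with e | e
    · rw [e] at h6
      exact h.c_ne hxD (by simpa using h6)
    · rw [e] at h6
      exact hne (add_left_cancel h6).symm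
  · have hf0 : f y v₁ = 0 := by
      rcases z2 (f y v₁) with e | e
      · exact e
      · rw [e, h2] at hf
        exact absurd hf (by decide)
    let X : Subgroup H := S ⊔ Subgroup.zpowers g
    have hgX : g ∈ X := Subgroup.mem_sup_right (Subgroup.mem_zpowers g)
    have hX1 : ∀ k ∈ X, ρ k v₁ = v₁ := by
      let St : Subgroup H :=
        { carrier := {k | ρ k v₁ = v₁}
          one_mem' := rone ρ v₁
          mul_mem' := by
            intro k l hk hl
            change ρ (k * l) v₁ = v₁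
            rw [rmul, show ρ l v₁ = v₁ from hl]; exact hk
          inv_mem' := by
            intro k hk
            change ρ k⁻¹ v₁ = v₁
            nth_rewrite 1 [← show ρ k v₁ = v₁ from hk]
            exact rinv ρ k v₁ }
      have : X ≤ St := sup_le (fun s hs => h.s1 hs) (by
        rw [Subgroup.zpowers_le]
        change ρ g v₁ = v₁
        rw [hg, hf0, zero_smul, add_zero])
      exact fun k hk => this hk
    obtain ⟨R', hR', hR'X, k, hk, hk2⟩ := h.gen X le_sup_left hX1 ⟨g, hgX, by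
      rw [hg, h2, one_smul]
      intro e
      exact h.c_ne hyO (by simpa using e)⟩
    obtain ⟨z', u', c', hl'⟩ := h.par R' hR'
    have h0' : f v₁ u' = 0 := by
      by_contra hcon'
      obtain ⟨e, _, _⟩ := h.l4 hl' (z2_ne_zero hcon')
      obtain ⟨q, hq, h5⟩ := hl'.tr
      rw [e, hX1 q (hR'X hq)] at h5
      exact hl'.u_ne (by rw [← h5, e])
    have h6 : ρ k δ = δ := sum_fixed (ρ := ρ) (S := R') _ (fun l hl'' d hd => by
      rw [Finset.mem_erase, hD] at hd ⊢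
      refine ⟨fun e => hd.1 ?_, h.inv_DS hl' h0' hd.2 hl''⟩
      have h7 : ρ l⁻¹ (ρ l d) = ρ l⁻¹ v₁ := by rw [e]
      rw [rinv, hX1 _ (hR'X (inv_mem hl''))] at h7
      exact h7) k hk
    rw [hδ2] at h6
    exact hk2 h6

end LFr

end Cfsg.Agent.Omega.NOThreeL.RRed

end
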