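import Cfsg.Agent.Mrg.Omega.NOThreeL.RRed.TvBlk


/-!
# The block theorem for transvections over `𝔽₂` (#18552 (c)): the direct sum

* `Blk.U i` : the span of block `i`; `ker R` : the common kernel of the axes;
* `Blk.mem_U_iff`, `Blk.top`, `Blk.ind` : `V = (⨁ U i) ⊕ ker R`;
* `Blk.tr_U`, `Blk.tr_ker` : `tr x y` is trivial on `U j`, `j ≠ blk x`, and on `ker R`;
* `Blk.map_U` : an automorphism which preserves `R` permutes the `U i`.
-/

set_option autoImplicit false

namespace Cfsg.Agent.Omega.NOThreeL.RRed.TvBlk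

open Cfsg.Agent.Omega.Transv

universe u

variable {V : Type u} [AddCommGroup V] [Module (ZMod 2) V]

/-- the common kernel of the axes -/
def ker (R : Set (W V)) : Submodule (ZMod 2) V where
  carrier := {v | ∀ p ∈ R, p.2 v = 0}
  add_mem' {v v'} hv hv' p hp := by rw [map_add, hv p hp, hv' p hp, add_zero]
  zero_mem' p _ := map_zero _
  smul_mem' c v hv p hp := by rw [map_smul, hv p hp, smul_zero]

theorem mem_ker {R : Set (W V)} {v : V} : v ∈ ker R ↔ ∀ p ∈ R, p.2 v = 0 := Iff.rfl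

/-- the span of a block -/
def U {Pt I : Type u} (blk : Pt → I) (w : Pt → V) (i : I) : Submodule (ZMod 2) V :=
  Submodule.span (ZMod 2) (w '' {x | blk x = i})

namespace Blk

variable {R : Set (W V)} {Pt I : Type u} [Fintype Pt] [DecidableEq Pt] [DecidableEq I] {blk : Pt → I} {w : Pt → V}
  {tr : Pt → Pt → W V} (b : Blk R blk w tr)

omit [Fintype Pt] [DecidableEq Pt] [DecidableEq I] in
theorem w_mem_U (x : Pt) : w x ∈ U blk w (blk x) := Submodule.subset_span ⟨x, rfl, rfl⟩

omit [DecidableEq Pt] [DecidableEq I] in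
/-- the elements of `U i` are the combinations supported on block `i` -/
theorem mem_U {i : I} {v : V} (hv : v ∈ U blk w i) :
    ∃ a : Pt → ZMod 2, (∀ x, blk x ≠ i → a x = 0) ∧ v = ∑ x, a x • w x := by
  classical
  refine Submodule.span_induction ?_ ?_ ?_ ?_ hv
  · rintro _ ⟨x, hx, rfl⟩
    refine ⟨fun z => if z = x then 1 else 0, ?_, ?_⟩
    · intro z hz
      show (if z = x then (1 : ZMod 2) else 0) = 0
      rw [if_neg]
      rintro rfl
      exact hz hx
    · have : ∀ z ∈ (Finset.univ : Finset Pt), (if z = x then (1 : ZMod 2) else 0) • w z = if z = x then w z else 0 := by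
        intro z _
        rw [ite_smul, one_smul, zero_smul]
      rw [Finset.sum_congr rfl this, Finset.sum_ite_eq', if_pos (Finset.mem_univ _)]
  · exact ⟨0, fun _ _ => rfl, by simp⟩
  · rintro _ _ _ _ ⟨a, ha, rfl⟩ ⟨a', ha', rfl⟩
    refine ⟨a + a', fun x hx => by rw [Pi.add_apply, ha x hx, ha' x hx, add_zero], ?_⟩
    rw [← Finset.sum_add_distrib]
    exact Finset.sum_congr rfl fun x _ => by rw [Pi.add_apply, add_smul]
  · rintro c _ _ ⟨a, ha, rfl⟩
    refine ⟨c • a, fun x hx => by rw [Pi.smul_apply, ha x hx, smul_zero], ?_⟩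
    rw [Finset.smul_sum]
    exact Finset.sum_congr rfl fun x _ => by rw [Pi.smul_apply, smul_assoc]

include b

/-- an axis of another block vanishes on `U i` -/
theorem tr_U (x y : Pt) (hxy : blk x = blk y) {i : I} (hi : blk x ≠ i) {v : V} (hv : v ∈ U blk w i) :
    (tr x y).2 v = 0 := by
  obtain ⟨a, ha, rfl⟩ := mem_U hv
  rw [b.snd_sum x y hxy, ha x hi, ha y (by rw [← hxy]; exact hi), add_zero]

theorem tr_ker (x y : Pt) (hxy : blk x = blk y) {v : V} (hv : v ∈ ker R) : (tr x y).2 v = 0 := by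
  by_cases hne : x = y
  · subst hne
    have h2 := b.tr_add x x x rfl rfl
    have h3 : tr x x = 0 := by simpa using h2
    rw [h3]
    rfl
  · exact hv _ (b.tr_mem x y hne hxy)

theorem fst_mem_U (x y : Pt) (hxy : blk x = blk y) : (tr x y).1 ∈ U blk w (blk x) := by
  rw [b.tr_fst x y hxy]
  refine Submodule.add_mem _ (w_mem_U x) ?_
  rw [hxy]
  exact w_mem_U y

theorem U_ne (i : I) : U blk w i ≠ ⊥ := by
  intro h0
  obtain ⟨x, rfl⟩ := b.surj i
  obtain ⟨y, hne, hb⟩ := b.exists_other x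
  have h1 : w x ∈ U blk w (blk x) := w_mem_U x
  have h2 : w y ∈ U blk w (blk x) := by rw [← hb]; exact w_mem_U y
  rw [h0, Submodule.mem_bot] at h1 h2
  exact hne (b.w_inj (h2.trans h1.symm))

theorem top : (⨆ i, U blk w i) ⊔ ker R = ⊤ := by
  rw [eq_top_iff]
  intro v _
  obtain ⟨a, ha⟩ := b.decomp v
  have h1 : ∑ x, a x • w x ∈ ⨆ i, U blk w i :=
    Submodule.sum_mem _ fun x _ => Submodule.smul_mem _ _ (Submodule.mem_iSup_of_mem (blk x) (w_mem_U x))
  have h2 : v = ∑ x, a x • w x + (v + ∑ x, a x • w x) := by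
    rw [add_comm v, ← add_assoc, add_self, zero_add]
  rw [h2]
  exact Submodule.add_mem _ (Submodule.mem_sup_left h1) (Submodule.mem_sup_right ha)

theorem ind [Fintype I] (i : I) : U blk w i ⊓ ((⨆ j : {j // j ≠ i}, U blk w j) ⊔ ker R) = ⊥ := by
  rw [eq_bot_iff]
  rintro v ⟨hv, hv'⟩
  rw [Submodule.mem_bot]
  refine b.eq_zero ?_ ?_
  · have h1 : U blk w i ≤ Submodule.span (ZMod 2) (Set.range w) :=
      Submodule.span_mono (Set.image_subset_range _ _)
    exact h1 hv
  · intro p hp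
    obtain ⟨x, y, -, hxy, rfl⟩ := b.all p hp
    by_cases hi : blk x = i
    · have h2 : (⨆ j : {j // j ≠ i}, U blk w j) ⊔ ker R ≤ LinearMap.ker (tr x y).2 := by
        refine sup_le (iSup_le fun j => ?_) ?_
        · intro u hu
          exact b.tr_U x y hxy (fun hc => j.2 (hc.symm.trans hi)) hu
        · intro u hu
          exact b.tr_ker x y hxy hu
      exact h2 hv'
    · exact b.tr_U x y hxy hi hv

theorem map_U [Finite V] [Fintype I] (φ : V ≃ₗ[ZMod 2] V) (hφ : ∀ p ∈ R, conjW φ p ∈ R) :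
    ∃ τ : Equiv.Perm I, ∀ i, (U blk w i).map (φ : V →ₗ[ZMod 2] V) = U blk w (τ i) := by
  obtain ⟨σ, hσ, hσ', -⟩ := b.perm φ hφ
  -- the permutation of the blocks
  have h1 : ∀ i, ∃ j, ∀ x, blk x = i → blk (σ x) = j := by
    intro i
    obtain ⟨x, rfl⟩ := b.surj i
    exact ⟨blk (σ x), fun y hy => (hσ' y x).1 hy⟩
  choose f hf using h1
  have hfx : ∀ x, blk (σ x) = f (blk x) := fun x => hf _ x rfl
  have hinj : Function.Injective f := by
    intro i j hij
    obtain ⟨x, rfl⟩ := b.surj i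
    obtain ⟨y, rfl⟩ := b.surj j
    rw [hσ' x y, hfx, hfx, hij]
  refine ⟨Equiv.ofBijective f (Finite.injective_iff_bijective.1 hinj), fun i => ?_⟩
  show _ = U blk w (f i)
  rw [U, Submodule.map_span]
  congr 1
  ext v
  constructor
  · rintro ⟨_, ⟨x, hx, rfl⟩, rfl⟩
    refine ⟨σ x, ?_, (hσ x).symm⟩
    show blk (σ x) = f i
    rw [hfx, hx]
  · rintro ⟨y, hy, rfl⟩
    refine ⟨w (σ.symm y), ⟨σ.symm y, ?_, rfl⟩, ?_⟩
    · apply hinj
      show f (blk (σ.symm y)) = f i
      rw [← hfx, Equiv.apply_symm_apply]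
      exact hy
    · show φ (w (σ.symm y)) = w y
      rw [hσ, Equiv.apply_symm_apply]

omit b in
theorem map_ker [Finite V] (φ : V ≃ₗ[ZMod 2] V) (hφ : ∀ p ∈ R, conjW φ p ∈ R) :
    (ker R).map (φ : V →ₗ[ZMod 2] V) = ker R := by
  ext v
  constructor
  · rintro ⟨u, hu, rfl⟩ p hp
    obtain ⟨q, hq, rfl⟩ := conjW_surj φ hφ hp
    show (conjW φ q).2 (φ u) = 0
    rw [conjW_B]
    exact hu q hq
  · intro hv
    refine ⟨φ.symm v, fun p hp => ?_, by simp⟩
    have h1 := hv _ (hφ p hp)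
    have h2 := conjW_B φ p (φ.symm v)
    rw [LinearEquiv.apply_symm_apply] at h2
    rw [← h2]
    exact h1

end Blk

end Cfsg.Agent.Omega.NOThreeL.RRed.TvBlk
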