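import Cfsg.Agent.Mrg.Omega.NOThreeL.RRed.TvG
import Cfsg.Agent.Mrg.Omega.NOThreeL.RRed.TvSum
import Cfsg.Agent.Mrg.Omega.NOThreeL.RRed.Blk.Def
import Cfsg.Agent.Mrg.Omega.KL.TwoS.Inp
import Cfsg.Agent.Mrg.Omega.NOThreeL.RRed.Lin

section


/-!
# The block theorem for transvections over `𝔽₂`: the decomposition in the group (#23943, #24544)

`H : GHyp S V M`, `Blk R blk w tr` for the set `R` of all transvections of `M / C_M(V)` on `V` (`RR`):

* `dec` : `Blk.Dec S M V N E R₀` with `N i` = span of block `i`, `R₀` = common kernel of the axes, `E i` = `M ⊓ C(all other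
  blocks and R₀)`;
* `lett` : `KL.TwoS.Lett (N i) (E i) φ` : the letters of block `i`;
* `exists_dec` : both, from `Sys (RR ..)`.
-/

set_option autoImplicit false
set_option linter.unusedSectionVars false

namespace Cfsg.Agent.Omega.NOThreeL.RRed.TvDec

open Subgroup Cfsg.Agent.Omega.TV Cfsg.Agent.Omega.FFBr
open Cfsg.Agent.Omega.Transv (Du Faith fixS mem_fixS smul_zmod zmod_cases dua dua_apply eq_one_of_ne eq_zero_of_ne
  one_ne add_self eq_of_add)
open Cfsg.Agent.Omega.FFThm (ElemM OffM NoOverM)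
open Cfsg.Agent.Omega.NOThreeL.RRed.TvG
open Cfsg.Agent.Omega.NOThreeL.RRed.TvBlk
open Cfsg.Agent.Omega.NOThreeL.RRed.Blk (Dec Co)
open Cfsg.Agent.Omega.KL.TwoS (Rel Lett)
open scoped Pointwise

universe u

variable {G : Type u} [Group G] {V M : Subgroup G}

section toSub

variable {sq : ∀ x ∈ V, x * x = 1}

theorem gc : GaloisConnection (EA.toSub : Submodule (ZMod 2) (EA V sq) → Subgroup G) EA.ofSub := fun A K =>
  ⟨fun h a ha => h ⟨a, ha, rfl⟩, fun h => by rintro _ ⟨a, ha, rfl⟩; exact h ha⟩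

theorem toSub_top : EA.toSub (⊤ : Submodule (ZMod 2) (EA V sq)) = V := by
  ext x
  constructor
  · rintro ⟨a, -, rfl⟩
    exact a.val_mem
  · intro hx
    exact ⟨EA.mk sq x hx, Submodule.mem_top, rfl⟩

theorem toSub_inf (A B : Submodule (ZMod 2) (EA V sq)) : EA.toSub (A ⊓ B) = EA.toSub A ⊓ EA.toSub B := by
  ext x
  constructor
  · rintro ⟨a, ha, rfl⟩
    exact ⟨⟨a, ha.1, rfl⟩, ⟨a, ha.2, rfl⟩⟩
  · rintro ⟨⟨a, ha, rfl⟩, hx⟩
    exact ⟨a, ⟨ha, EA.val_mem_toSub.1 hx⟩, rfl⟩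

theorem toSub_bot : EA.toSub (⊥ : Submodule (ZMod 2) (EA V sq)) = ⊥ := gc.l_bot

theorem toSub_le (A : Submodule (ZMod 2) (EA V sq)) : EA.toSub A ≤ V := by
  rintro _ ⟨a, -, rfl⟩
  exact a.val_mem

theorem toSub_ne {A : Submodule (ZMod 2) (EA V sq)} (hA : A ≠ ⊥) : EA.toSub A ≠ ⊥ := by
  intro h
  apply hA
  rw [eq_bot_iff]
  intro a ha
  have h1 : a.val ∈ EA.toSub A := ⟨a, ha, rfl⟩
  rw [h, Subgroup.mem_bot, EA.val_eq_one] at h1
  rw [h1]
  exact Submodule.zero_mem _

theorem toSub_co {ι : Type*} (A : ι → Submodule (ZMod 2) (EA V sq)) (K : Submodule (ZMod 2) (EA V sq)) (i : ι) :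
    EA.toSub ((⨆ j : {j // j ≠ i}, A j) ⊔ K) = Co (fun i => EA.toSub (A i)) (EA.toSub K) i := by
  rw [gc.l_sup, gc.l_iSup]
  rfl

end toSub

section aut

variable (sq : ∀ x ∈ V, x * x = 1) (h : M ≤ normalizer (V : Set G))

/-- the automorphism of an element of `M` -/
noncomputable def aut (m : M) : EA V sq ≃ₗ[ZMod 2] EA V sq := EA.crep sq M (fun _ hc _ hn => conj_mem h hc hn) m

theorem val_aut (m : M) (a : EA V sq) : (aut sq h m a).val = (m : G) * a.val * (m : G)⁻¹ := rfl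

theorem aut_eq (m : M) (a : EA V sq) : aut sq h m a = pr h m • a := rfl

theorem symm_eq (m : M) (a : EA V sq) : (aut sq h m).symm a = (pr h m)⁻¹ • a := by
  rw [LinearEquiv.symm_apply_eq, aut_eq, smul_inv_smul]

/-- all transvections -/
def RR : Set (TvBlk.W (EA V sq)) := {p | ∃ d : XX h, Transv.Tv d p.1 p.2}

theorem conj_RR (m : M) : ∀ p ∈ RR sq h, conjW (aut sq h m) p ∈ RR sq h := by
  rintro p ⟨d, hd⟩
  refine ⟨pr h m * d * (pr h m)⁻¹, ?_⟩
  have h1 := hd.conj (pr h m)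
  have h2 : (conjW (aut sq h m) p).2 = dua (pr h m) p.2 := by
    ext v
    show p.2 ((aut sq h m).symm v) = p.2 ((pr h m)⁻¹ • v)
    rw [symm_eq]
  rw [h2]
  exact h1

theorem conj_toSub (m : M) (A : Submodule (ZMod 2) (EA V sq)) :
    MulAut.conj (m : G) • EA.toSub A = EA.toSub (A.map (aut sq h m : EA V sq →ₗ[ZMod 2] EA V sq)) := by
  ext x
  constructor
  · rintro ⟨_, ⟨a, ha, rfl⟩, rfl⟩
    exact ⟨aut sq h m a, ⟨a, ha, rfl⟩, rfl⟩
  · rintro ⟨_, ⟨a, ha, rfl⟩, rfl⟩
    exact ⟨a.val, ⟨a, ha, rfl⟩, rfl⟩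

end aut

theorem mem_normalizer_of {K : Subgroup G} {g : G} (h : MulAut.conj g • K = K) : g ∈ normalizer (K : Set G) := by
  rw [mem_normalizer_iff]
  intro x
  exact RRed.Blk.conj_smul h

section main

variable (sq : ∀ x ∈ V, x * x = 1) (h : M ≤ normalizer (V : Set G))
variable {Pt I : Type u} [Fintype Pt] [Fintype I] [DecidableEq Pt] [DecidableEq I] {blk : Pt → I} {w : Pt → EA V sq}
  {tr : Pt → Pt → TvBlk.W (EA V sq)}

/-- the blocks -/
def N (blk : Pt → I) (w : Pt → EA V sq) (i : I) : Subgroup G := EA.toSub (TvBlk.U blk w i)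

/-- the common kernel of the axes -/
def R₀ : Subgroup G := EA.toSub (TvBlk.ker (RR sq h))

/-- the group of block `i` -/
def E (blk : Pt → I) (w : Pt → EA V sq) (i : I) : Subgroup G :=
  M ⊓ centralizer (Co (N sq blk w) (R₀ sq h) i : Set G)

variable (b : Blk (RR sq h) blk w tr)
include b

theorem sup_eq : (⨆ i, N sq blk w i) ⊔ R₀ sq h = V := by
  have h1 := b.top
  have h2 := congrArg EA.toSub h1
  rw [gc.l_sup, gc.l_iSup, toSub_top] at h2
  exact h2

theorem ind_eq (i : I) : N sq blk w i ⊓ Co (N sq blk w) (R₀ sq h) i = ⊥ := by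
  have h1 := congrArg EA.toSub (b.ind i)
  rw [toSub_inf, toSub_co, toSub_bot] at h1
  exact h1

theorem N_ne (i : I) : N sq blk w i ≠ ⊥ := toSub_ne (b.U_ne i)

theorem Co_le (i : I) : Co (N sq blk w) (R₀ sq h) i ≤ V := by
  refine le_trans ?_ (sup_eq sq h b).le
  exact sup_le ((iSup_le fun c : {c // c ≠ i} => le_iSup (N sq blk w) c.1).trans le_sup_left) le_sup_right

theorem N_inj {i j : I} (e : N sq blk w i = N sq blk w j) : i = j := by
  by_contra hne
  apply N_ne sq h b i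
  rw [eq_bot_iff, ← ind_eq sq h b i]
  refine le_inf le_rfl ?_
  rw [e]
  exact (le_iSup (fun c : {c // c ≠ i} => N sq blk w c) ⟨j, fun hc => hne hc.symm⟩).trans le_sup_left

variable [Finite G]

theorem conj_N (m : M) : ∃ τ : Equiv.Perm I, ∀ i, MulAut.conj (m : G) • N sq blk w i = N sq blk w (τ i) := by
  obtain ⟨τ, hτ⟩ := b.map_U (aut sq h m) (conj_RR sq h m)
  refine ⟨τ, fun i => ?_⟩
  rw [N, conj_toSub sq h, hτ]
  rfl

omit [Fintype I] [Fintype Pt] [DecidableEq Pt] [DecidableEq I] b in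
theorem conj_R₀ (m : M) : MulAut.conj (m : G) • R₀ sq h = R₀ sq h := by
  rw [R₀, conj_toSub sq h, Blk.map_ker (aut sq h m) (conj_RR sq h m)]

omit [Fintype I] [Fintype Pt] [DecidableEq Pt] [DecidableEq I] b [Finite G] in
theorem mem_E {i : I} {x : G} : x ∈ E sq h blk w i ↔ x ∈ M ∧ (∀ j, j ≠ i → ∀ n ∈ N sq blk w j, x * n * x⁻¹ = n) ∧
    ∀ r ∈ R₀ sq h, x * r * x⁻¹ = r := by
  have key : ∀ K : Subgroup G, K ≤ centralizer ({x} : Set G) ↔ ∀ n ∈ K, x * n * x⁻¹ = n := by
    intro K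
    constructor
    · intro hK n hn
      have := mem_centralizer_singleton_iff.1 (hK hn)
      rw [← this]; group
    · intro hK n hn
      rw [mem_centralizer_singleton_iff]
      have := hK n hn
      calc n * x = (x * n * x⁻¹) * x := by rw [this]
        _ = x * n := by group
  have h1 : x ∈ centralizer (Co (N sq blk w) (R₀ sq h) i : Set G) ↔
      Co (N sq blk w) (R₀ sq h) i ≤ centralizer ({x} : Set G) := by
    rw [mem_centralizer_iff]
    constructor
    · intro hx n hn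
      rw [mem_centralizer_singleton_iff]
      exact hx n hn
    · intro hx n hn
      exact mem_centralizer_singleton_iff.1 (hx hn)
  rw [E, mem_inf, h1, Co, sup_le_iff, iSup_le_iff, key]
  refine and_congr_right fun _ => and_congr_left fun _ => ?_
  constructor
  · intro hj j hji
    exact (key _).1 (hj ⟨j, hji⟩)
  · rintro hj ⟨j, hji⟩
    exact (key _).2 (hj j hji)

theorem conj_E {m : M} {τ : Equiv.Perm I} (hτ : ∀ i, MulAut.conj (m : G) • N sq blk w i = N sq blk w (τ i)) (i : I) :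
    MulAut.conj (m : G) • E sq h blk w i = E sq h blk w (τ i) := by
  have h0 := conj_R₀ sq h m
  ext x
  rw [mem_pointwise_smul_iff_inv_smul_mem, ← map_inv, MulAut.smul_def, MulAut.conj_apply, inv_inv, mem_E, mem_E]
  have hM : (m : G)⁻¹ * x * m ∈ M ↔ x ∈ M := by
    constructor
    · intro hx
      have := mul_mem (mul_mem m.2 hx) (inv_mem m.2)
      have e : (m : G) * ((m : G)⁻¹ * x * m) * (m : G)⁻¹ = x := by group
      rwa [e] at this
    · intro hx
      exact mul_mem (mul_mem (inv_mem m.2) hx) m.2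
  have hc : ∀ n : G, (m : G)⁻¹ * x * m * n * ((m : G)⁻¹ * x * m)⁻¹ = n ↔
      x * ((m : G) * n * (m : G)⁻¹) * x⁻¹ = (m : G) * n * (m : G)⁻¹ := by
    intro n
    constructor
    · intro e
      calc x * ((m : G) * n * (m : G)⁻¹) * x⁻¹ =
          (m : G) * ((m : G)⁻¹ * x * m * n * ((m : G)⁻¹ * x * m)⁻¹) * (m : G)⁻¹ := by group
        _ = _ := by rw [e]
    · intro e
      calc (m : G)⁻¹ * x * m * n * ((m : G)⁻¹ * x * m)⁻¹ =
          (m : G)⁻¹ * (x * ((m : G) * n * (m : G)⁻¹) * x⁻¹) * m := by group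
        _ = _ := by rw [e]; group
  refine and_congr hM (and_congr ?_ ?_)
  · constructor
    · intro hj j hji n hn
      have e1 : τ (τ.symm j) = j := τ.apply_symm_apply j
      have h2 : (m : G)⁻¹ * n * m ∈ N sq blk w (τ.symm j) := by
        rw [RRed.Blk.conj_smul (hτ (τ.symm j)), e1]
        have e : (m : G) * ((m : G)⁻¹ * n * m) * (m : G)⁻¹ = n := by group
        rwa [e]
      have h3 := (hc _).1 (hj (τ.symm j) (fun hc => hji (by rw [← hc, e1])) _ h2)
      have e : (m : G) * ((m : G)⁻¹ * n * m) * (m : G)⁻¹ = n := by group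
      rwa [e] at h3
    · intro hj j hji n hn
      refine (hc n).2 (hj (τ j) (fun hc => hji (τ.injective hc)) _ ?_)
      exact (RRed.Blk.conj_smul (hτ j)).1 hn
  · constructor
    · intro hr r hr'
      have h2 : (m : G)⁻¹ * r * m ∈ R₀ sq h := by
        rw [RRed.Blk.conj_smul h0]
        have e : (m : G) * ((m : G)⁻¹ * r * m) * (m : G)⁻¹ = r := by group
        rwa [e]
      have h3 := (hc _).1 (hr _ h2)
      have e : (m : G) * ((m : G)⁻¹ * r * m) * (m : G)⁻¹ = r := by group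
      rwa [e] at h3
    · intro hr r hr'
      exact (hc r).2 (hr _ ((RRed.Blk.conj_smul h0).1 hr'))

/-- **the decomposition** -/
theorem dec {S : Subgroup G} (hS : S ≤ M) :
    Dec S M V (N sq blk w) (E sq h blk w) (R₀ sq h) where
  SL := hS
  LU := h
  ab := by
    intro x hx
    rw [mem_centralizer_iff]
    intro y hy
    exact EA.comm_of sq hy hx
  sup := sup_eq sq h b
  ind := ind_eq sq h b
  ne := N_ne sq h b
  Rnor g hg := mem_normalizer_of (conj_R₀ sq h ⟨g, hg⟩)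
  EL i := inf_le_left
  CE i := inf_le_inf_left _ (centralizer_le (Co_le sq h b i))
  perm g hg i := by
    obtain ⟨τ, hτ⟩ := conj_N sq h b ⟨g, hg⟩
    exact ⟨τ i, hτ i, conj_E sq h b hτ i⟩
  EN i g hg := by
    have hg' := (mem_E sq h).1 hg
    obtain ⟨τ, hτ⟩ := conj_N sq h b ⟨g, hg'.1⟩
    have h1 : τ i = i := by
      by_contra hne
      have h2 : MulAut.conj g • N sq blk w (τ i) = N sq blk w (τ i) := by
        ext x
        rw [mem_pointwise_smul_iff_inv_smul_mem, ← map_inv, MulAut.smul_def, MulAut.conj_apply, inv_inv]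
        constructor
        · intro hx
          have h3 := hg'.2.1 _ hne _ hx
          have e : g * (g⁻¹ * x * g) * g⁻¹ = x := by group
          rw [e] at h3
          rw [h3]; exact hx
        · intro hx
          have h3 := hg'.2.1 _ hne _ hx
          have e : g⁻¹ * x * g = x := by
            calc g⁻¹ * x * g = g⁻¹ * (g * x * g⁻¹) * g := by rw [h3]
              _ = x := by group
          rw [e]; exact hx
      have h3 := hτ i
      rw [← h2] at h3
      exact hne (N_inj sq h b (smul_left_cancel _ h3)).symm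
    exact mem_normalizer_of (by have := hτ i; rw [h1] at this; exact this)
  EC i j hij x hx := by
    have hx' := (mem_E sq h).1 hx
    rw [mem_centralizer_iff]
    intro n hn
    have := hx'.2.1 j (Ne.symm hij) n hn
    calc n * x = (x * n * x⁻¹) * x := by rw [this]
      _ = x * n := by group
  ER i x hx := by
    have hx' := (mem_E sq h).1 hx
    rw [mem_centralizer_iff]
    intro n hn
    have := hx'.2.2 n hn
    calc n * x = (x * n * x⁻¹) * x := by rw [this]
      _ = x * n := by group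

/-! ### The letters -/

/-- the letters of block `i` -/
abbrev Om (blk : Pt → I) (i : I) : Type u := {x : Pt // blk x = i}

/-- the element of a set of letters -/
def phi (blk : Pt → I) (w : Pt → EA V sq) (i : I) (s : Finset (Om blk i)) : G := (∑ x ∈ s, w x.1).val

omit [Fintype Pt] [Fintype I] [DecidableEq Pt] [Finite G] b in
theorem sum_symmDiff {α : Type*} [DecidableEq α] (f : α → EA V sq) (s t : Finset α) :
    ∑ x ∈ symmDiff s t, f x = ∑ x ∈ s, f x + ∑ x ∈ t, f x := by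
  have e : symmDiff s t = (s \ t) ∪ (t \ s) := rfl
  have hd : Disjoint (s \ t) (t \ s) := by
    rw [Finset.disjoint_left]
    intro x hx hx'
    exact (Finset.mem_sdiff.1 hx).2 (Finset.mem_sdiff.1 hx').1
  rw [e, Finset.sum_union hd, ← Finset.sum_inter_add_sum_sdiff s t f, ← Finset.sum_inter_add_sum_sdiff t s f,
    Finset.inter_comm t s]
  have h1 := add_self (∑ x ∈ s ∩ t, f x)
  calc ∑ x ∈ s \ t, f x + ∑ x ∈ t \ s, f x
      = (∑ x ∈ s ∩ t, f x + ∑ x ∈ s ∩ t, f x) + (∑ x ∈ s \ t, f x + ∑ x ∈ t \ s, f x) := by rw [h1, zero_add]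
    _ = _ := by abel

omit [Fintype I] [Finite G] b in
/-- a sum over letters as a combination of all points -/
theorem sum_eq_comb (i : I) (s : Finset (Om blk i)) :
    ∑ x ∈ s, w x.1 = ∑ z : Pt, (if z ∈ s.map (Function.Embedding.subtype _) then (1 : ZMod 2) else 0) • w z := by
  have h1 : ∀ z ∈ (Finset.univ : Finset Pt),
      (if z ∈ s.map (Function.Embedding.subtype _) then (1 : ZMod 2) else 0) • w z =
        if z ∈ s.map (Function.Embedding.subtype _) then w z else 0 := by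
    intro z _
    rw [ite_smul, one_smul, zero_smul]
  rw [Finset.sum_congr rfl h1, ← Finset.sum_filter, Finset.filter_mem_eq_inter, Finset.univ_inter, Finset.sum_map]
  rfl

omit [Finite G] [Fintype I] in
theorem card_odd (i : I) : Odd (Fintype.card (Om blk i)) := by
  obtain ⟨x, rfl⟩ := b.surj i
  rw [Fintype.card_subtype]
  exact b.odd x

omit [Finite G] [Fintype I] in
theorem card_three (i : I) : 3 ≤ Fintype.card (Om blk i) := by
  obtain ⟨x, rfl⟩ := b.surj i
  rw [Fintype.card_subtype]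
  exact b.three x

omit [Finite G] [Fintype I] in
theorem sum_univ (i : I) : ∑ x : Om blk i, w x.1 = 0 := by
  obtain ⟨x, rfl⟩ := b.surj i
  rw [← b.sum_zero x]
  exact (Finset.sum_subtype (Finset.univ.filter fun y => blk y = blk x) (fun y => by simp) w).symm

omit [Finite G] in
theorem phi_inj (i : I) (s : Finset (Om blk i)) (hs : Even s.card) (h1 : phi sq blk w i s = 1) : s = ∅ := by
  have h2 : ∑ x ∈ s, w x.1 = 0 := EA.val_eq_one.1 h1
  rw [sum_eq_comb sq i s] at h2
  have h3 := b.indep _ h2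
  by_contra hne
  obtain ⟨x, hx⟩ := Finset.nonempty_iff_ne_empty.2 hne
  have h4 : s = Finset.univ := by
    rw [Finset.eq_univ_iff_forall]
    intro y
    have h5 := h3 x.1 y.1 (x.2.trans y.2.symm)
    have h6 : x.1 ∈ s.map (Function.Embedding.subtype _) := Finset.mem_map_of_mem (Function.Embedding.subtype _) hx
    rw [if_pos h6] at h5
    by_contra hy
    rw [if_neg] at h5
    · exact one_ne h5
    · intro hc
      obtain ⟨z, hz, e⟩ := Finset.mem_map.1 hc
      have : z = y := Subtype.ext e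
      rw [this] at hz
      exact hy hz
  rw [h4, Finset.card_univ] at hs
  exact (Nat.not_even_iff_odd.2 (card_odd sq h b i)) hs

omit [Finite G] [Fintype I] in
theorem phi_compl (i : I) (s : Finset (Om blk i)) : phi sq blk w i sᶜ = phi sq blk w i s := by
  have h1 := Finset.sum_add_sum_compl s (fun x : Om blk i => w x.1)
  rw [sum_univ sq h b i] at h1
  exact congrArg EA.val (eq_of_add h1).symm

omit [Finite G] [Fintype I] in
theorem mem_N (i : I) (x : G) : x ∈ N sq blk w i ↔ ∃ s : Finset (Om blk i), Even s.card ∧ phi sq blk w i s = x := by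
  constructor
  · rintro ⟨a, ha, rfl⟩
    obtain ⟨c, hc, rfl⟩ := TvBlk.Blk.mem_U ha
    let s : Finset (Om blk i) := Finset.univ.filter fun z => c z.1 = 1
    have key : phi sq blk w i s = (∑ z : Pt, c z • w z).val := by
      rw [phi, sum_eq_comb]
      congr 1
      refine Finset.sum_congr rfl fun z _ => ?_
      congr 1
      rcases zmod_cases (c z) with e | e
      · rw [e, if_neg]
        intro hz
        obtain ⟨y, hy, rfl⟩ := Finset.mem_map.1 hz
        have h2 := (Finset.mem_filter.1 hy).2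
        rw [show c y.1 = 0 from e] at h2
        exact one_ne h2.symm
      · rw [e, if_pos]
        have hz : blk z = i := by
          by_contra hne
          rw [hc z hne] at e
          exact one_ne e.symm
        exact Finset.mem_map.2 ⟨⟨z, hz⟩, Finset.mem_filter.2 ⟨Finset.mem_univ _, e⟩, rfl⟩
    by_cases hs : Even s.card
    · exact ⟨s, hs, key⟩
    · refine ⟨sᶜ, ?_, (phi_compl sq h b i s).trans key⟩
      have h2 := Finset.card_add_card_compl s
      have h3 := card_odd sq h b i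
      rw [← h2, Nat.odd_add] at h3
      exact h3.1 (Nat.not_even_iff_odd.1 hs)
  · rintro ⟨s, -, rfl⟩
    refine ⟨_, ?_, rfl⟩
    exact Submodule.sum_mem _ fun x _ => Submodule.subset_span ⟨x.1, x.2, rfl⟩

omit [Finite G] [Fintype I] [Fintype Pt] [DecidableEq Pt] b in
/-- an element which permutes the letters -/
theorem rel_of {i : I} (m : M) (σ : Equiv.Perm (Om blk i)) (hσ : ∀ x : Om blk i, aut sq h m (w x.1) = w (σ x).1) :
    Rel (phi sq blk w i) (m : G) σ := by
  intro s _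
  have h1 : (m : G) * phi sq blk w i s * (m : G)⁻¹ = (aut sq h m (∑ x ∈ s, w x.1)).val := rfl
  rw [h1, map_sum, phi, Finset.sum_map]
  exact congrArg EA.val (Finset.sum_congr rfl fun x _ => hσ x)

theorem act_E (i : I) (g : G) (hg : g ∈ E sq h blk w i) : ∃ σ : Equiv.Perm (Om blk i), Rel (phi sq blk w i) g σ := by
  have hg' := (mem_E sq h).1 hg
  set m : M := ⟨g, hg'.1⟩ with hm
  have : Finite (EA V sq) := inferInstance
  obtain ⟨σ, h1, h2, -⟩ := b.perm (aut sq h m) (conj_RR sq h m)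
  have hN : ∀ x, blk x ≠ i → σ x = x := by
    intro x hx
    have h3 := hg'.2.1 (blk x) hx (w x).val ⟨w x, TvBlk.Blk.w_mem_U x, rfl⟩
    have h4 : aut sq h m (w x) = w x := EA.ext h3
    rw [h1] at h4
    exact b.w_inj h4
  have hi : ∀ x, blk x = i ↔ blk (σ x) = i := by
    intro x
    constructor
    · intro hx
      by_contra hne
      have h3 := hN _ hne
      have h4 : σ x = x := σ.injective h3
      rw [h4] at hne
      exact hne hx
    · intro hx
      by_contra hne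
      rw [hN x hne] at hx
      exact hne hx
  exact ⟨σ.subtypePerm fun x => (hi x).symm, rel_of sq h m _ fun x => by rw [h1]; rfl⟩

theorem all_swap (i : I) (x y : Om blk i) (hxy : x ≠ y) :
    ∃ g ∈ E sq h blk w i, Rel (phi sq blk w i) g (Equiv.swap x y) := by
  have hb : blk x.1 = blk y.1 := x.2.trans y.2.symm
  obtain ⟨d, hd⟩ := b.tr_mem x.1 y.1 (fun e => hxy (Subtype.ext e)) hb
  obtain ⟨m, rfl⟩ := pr_surjective h d
  have hfix : ∀ a : EA V sq, (tr x.1 y.1).2 a = 0 → (m : G) * a.val * (m : G)⁻¹ = a.val := by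
    intro a ha
    have h1 := congrArg EA.val (hd.act a)
    rw [ha, zero_smul, add_zero] at h1
    exact h1
  refine ⟨m, (mem_E sq h).2 ⟨m.2, ?_, ?_⟩, rel_of sq h m _ fun z => ?_⟩
  · rintro j hj _ ⟨a, ha, rfl⟩
    exact hfix a (b.tr_U x.1 y.1 hb (by rw [x.2]; exact hj.symm) ha)
  · rintro _ ⟨a, ha, rfl⟩
    exact hfix a (b.tr_ker x.1 y.1 hb ha)
  · have h1 : aut sq h m (w z.1) = w z.1 + (tr x.1 y.1).2 (w z.1) • (tr x.1 y.1).1 := hd.act (w z.1)
    rw [h1, b.act_tr x.1 y.1 hb]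
    congr 1
    by_cases hx : z = x
    · rw [hx, Equiv.swap_apply_left, Equiv.swap_apply_left]
    · by_cases hy : z = y
      · rw [hy, Equiv.swap_apply_right, Equiv.swap_apply_right]
      · rw [Equiv.swap_apply_of_ne_of_ne hx hy,
          Equiv.swap_apply_of_ne_of_ne (fun e => hx (Subtype.ext e)) (fun e => hy (Subtype.ext e))]

theorem all_E (i : I) (σ : Equiv.Perm (Om blk i)) : ∃ g ∈ E sq h blk w i, Rel (phi sq blk w i) g σ := by
  induction σ using Equiv.Perm.swap_induction_on with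
  | one => exact ⟨1, one_mem _, Rel.one⟩
  | swap_mul σ x y hxy hσ =>
    obtain ⟨g, hg, h1⟩ := hσ
    obtain ⟨t, ht, h2⟩ := all_swap sq h b i x y hxy
    exact ⟨t * g, mul_mem ht hg, h2.mul h1⟩

/-- **the letters of block `i`** -/
theorem lett (i : I) : Lett (N sq blk w i) (E sq h blk w i) (phi sq blk w i) where
  odd := card_odd sq h b i
  mul s t := congrArg EA.val (sum_symmDiff sq (fun x : Om blk i => w x.1) s t)
  inj := phi_inj sq h b i
  mem := mem_N sq h b i
  act g hg := act_E sq h b i g hg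
  all := all_E sq h b i

end main

/-- **The block theorem in the group.** -/
theorem exists_dec [Finite G] {S : Sylow 2 G} (H : GHyp (S : Subgroup G) V M) (hsys : Sys (RR H.sq H.norm)) :
    ∃ (I : Type u) (_ : Fintype I) (_ : DecidableEq I) (N E : I → Subgroup G) (R₀ : Subgroup G),
      Dec (S : Subgroup G) M V N E R₀ ∧
      (∀ i, ∃ (Om : Type u) (_ : Fintype Om) (_ : DecidableEq Om) (phi : Finset Om → G),
        3 ≤ Fintype.card Om ∧ Lett (N i) (E i) phi) := by
  obtain ⟨Pt, I, i1, i2, i3, i4, blk, w, tr, b⟩ := exists_blk hsys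
  exact ⟨I, i2, i4, N H.sq blk w, E H.sq H.norm blk w, R₀ H.sq H.norm, dec H.sq H.norm b H.le, fun i =>
    ⟨Om blk i, inferInstance, inferInstance, phi H.sq blk w i, card_three H.sq H.norm b i, lett H.sq H.norm b i⟩⟩

end Cfsg.Agent.Omega.NOThreeL.RRed.TvDec

end

section


/-!
# NO-3L, box R, the smallest shape: L6 ([R-red], #21468)

`LFr.l6` : no `b ∈ Om` has `f b v₁ = f b v₂ = 1`.
-/

set_option autoImplicit false

namespace Cfsg.Agent.Omega.NOThreeL.RRed

open Module Cfsg.Agent.Omega.TV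

variable {H : Type*} [Group H] {V : Type*} [AddCommGroup V] [Module (ZMod 2) V]

namespace LFr

variable {ρ : H →* (V ≃ₗ[ZMod 2] V)} {S : Subgroup H} {Om : Set V} {f : V → Dual (ZMod 2) V}
  {PP : Set (Subgroup H)} {v₁ v₂ a : V} {P₀ : Subgroup H} (h : LFr ρ S Om f PP v₁ v₂ a P₀)
include h

/-- `f v₁ v₂ = 0`. -/
theorem x12 : f v₁ v₂ = 0 := by
  obtain ⟨t, ht, h1⟩ := h.t
  have h2 := h.s2 t ht
  rw [h1] at h2
  have h3 : f v₁ v₂ • v₁ = 0 := by simpa using h2
  rcases z2 (f v₁ v₂) with e | e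
  · exact e
  · rw [e, one_smul] at h3
    exact absurd h3 h.ln0.z0

theorem xOm : a ∈ Om := by
  obtain ⟨r, -, hr⟩ := h.ln0.tr
  rw [← hr]
  exact h.inv r _ h.m1

/-- `f a v₂ = 0`. -/
theorem xa2 : f a v₂ = 0 := by
  obtain ⟨r, hr, e⟩ := h.ln0.tr
  have h1 := h.toUSys.eqv' r (x := v₂) h.m1 (h.ln0.cR r hr)
  rw [e] at h1
  rw [h1, h.x12]

theorem xa1 : f a v₁ = 1 := by rw [h.toUSys.symm h.xOm h.m1, h.ta]

/-- The point `e = v₁ + a + b`. -/
theorem x_exists_e {b : V} (hb : b ∈ Om) (h1 : f b v₁ = 1) (h2 : f b v₂ = 1) :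
    ∃ e ∈ Om, f e v₁ = 0 ∧ f e v₂ = 1 ∧ f e a = 1 := by
  have U := h.toUSys
  -- without loss `f a b = 0`
  obtain ⟨b, hb, h1, h2, h3⟩ : ∃ b ∈ Om, f b v₁ = 1 ∧ f b v₂ = 1 ∧ f a b = 0 := by
    rcases z2 (f a b) with e | e
    · exact ⟨b, hb, h1, h2, e⟩
    · refine ⟨b + v₁, U.mem_add hb h.m1 h1, ?_, ?_, ?_⟩
      · rw [U.add hb h.m1 h1, h1, U.self h.m1, add_zero]
      · rw [U.add hb h.m1 h1, h2, h.x12, add_zero]
      · rw [map_add, e, h.xa1]; exact z2_add_self 1
  have h4 : v₁ + a ∈ Om := U.mem_add h.m1 h.xOm h.ta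
  have h5 : f (v₁ + a) b = 1 := by
    rw [U.add h.m1 h.xOm h.ta, U.symm h.m1 hb, h1, h3, add_zero]
  refine ⟨v₁ + a + b, U.mem_add h4 hb h5, ?_, ?_, ?_⟩
  · rw [U.add h4 hb h5, U.add h.m1 h.xOm h.ta, U.self h.m1, h.xa1, h1, zero_add]
    exact z2_add_self 1
  · rw [U.add h4 hb h5, U.add h.m1 h.xOm h.ta, h.x12, h.xa2, h2, zero_add, zero_add]
  · rw [U.add h4 hb h5, U.add h.m1 h.xOm h.ta, h.ta, U.self h.xOm, U.symm hb h.xOm, h3, add_zero, add_zero]

/-- The `S`-conjugates of `e`. -/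
theorem x_conj_e {e : V} (he : e ∈ Om) (h1 : f e v₁ = 0) (h2 : f e v₂ = 1) (h3 : f e a = 1) {s : H} (hs : s ∈ S) :
    ρ s e ∈ Om ∧ f (ρ s e) v₁ = 0 ∧ f (ρ s e) v₂ = 1 ∧ f (ρ s e) a = 1 := by
  have U := h.toUSys
  refine ⟨U.inv s e he, ?_, ?_, ?_⟩
  · rw [U.eqv' s he (h.ln0.zS s hs), h1]
  · rw [U.eqv' s he (h.s2 s hs), h2]
  · have h4 : a = ρ s (ρ s⁻¹ a) := (rinv' ρ s a).symm
    rw [h4, U.eqv s he]
    rcases h.ln0.us s⁻¹ (S.inv_mem hs) with e1 | e1
    · rw [e1, h3]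
    · rw [e1, map_add, h3, h1, add_zero]

/-- Two points perpendicular to `v₁`, with `f · v₂ = f · a = 1`, are not perpendicular. -/
theorem x_perp {c d : V} (hc : c ∈ Om) (hd : d ∈ Om) (c1 : f c v₁ = 0) (c2 : f c v₂ = 1) (c3 : f c a = 1)
    (d1 : f d v₁ = 0) (d2 : f d v₂ = 1) (d3 : f d a = 1) (hne : c ≠ d) : f c d = 1 := by
  have U := h.toUSys
  by_contra hcon
  have h0 : f c d = 0 := z2_ne_one hcon
  -- `v₁ + a`
  have k1 : v₁ + a ∈ Om := U.mem_add h.m1 h.xOm h.ta
  have g1 : ∀ x, f (v₁ + a) x = f v₁ x + f a x := U.add h.m1 h.xOm h.ta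
  -- `v₁ + a + c`
  have e1 : f (v₁ + a) c = 1 := by
    rw [g1, U.symm h.m1 hc, c1, U.symm h.xOm hc, c3, zero_add]
  have k2 : v₁ + a + c ∈ Om := U.mem_add k1 hc e1
  have g2 : ∀ x, f (v₁ + a + c) x = f v₁ x + f a x + f c x := fun x => by rw [U.add k1 hc e1, g1]
  -- `v₁ + a + c + d`
  have e2 : f (v₁ + a + c) d = 1 := by
    rw [g2, U.symm h.m1 hd, d1, U.symm h.xOm hd, d3, h0, zero_add, add_zero]
  have k3 : v₁ + a + c + d ∈ Om := U.mem_add k2 hd e2
  have g3 : ∀ x, f (v₁ + a + c + d) x = f v₁ x + f a x + f c x + f d x := fun x => by rw [U.add k2 hd e2, g2]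
  -- `v₁ + c + d`
  have e3 : f (v₁ + a + c + d) a = 1 := by
    rw [g3, h.ta, U.self h.xOm, c3, d3]; decide
  have k4' : v₁ + a + c + d + a ∈ Om := U.mem_add k3 h.xOm e3
  have ee : v₁ + a + c + d + a = v₁ + c + d := by
    calc v₁ + a + c + d + a = v₁ + c + d + (a + a) := by abel
      _ = v₁ + c + d := by rw [v_add_self, add_zero]
  have k4 : v₁ + c + d ∈ Om := ee ▸ k4'
  have g4 : ∀ x, f (v₁ + c + d) x = f v₁ x + f c x + f d x := fun x => by
    rw [← ee, U.add k3 h.xOm e3, g3]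
    calc f v₁ x + f a x + f c x + f d x + f a x = f v₁ x + f c x + f d x + (f a x + f a x) := by ring
      _ = _ := by rw [z2_add_self, add_zero]
  have e4 : f (v₁ + c + d) v₂ = 0 := by rw [g4, h.x12, c2, d2]; decide
  have e5 : f (v₁ + c + d) a = 1 := by rw [g4, h.ta, c3, d3]; decide
  have e6 : f (v₁ + c + d) v₁ = 0 := by rw [g4, U.self h.m1, c1, d1]; decide
  -- the transvection
  obtain ⟨g, hg⟩ := U.ex k4
  obtain ⟨r, hr, hra⟩ := h.ln0.tr
  have h5 : ρ (g * r) v₂ = v₂ := by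
    rw [rmul, h.ln0.cR r hr, hg, e4, zero_smul, add_zero]
  have h6 := h.l3 (g * r) h5
  rw [rmul, hra, hg, e5, one_smul] at h6
  rcases h6 with h6 | h6 | h6
  · -- `v₁ + c + d = a + v₁`
    have h7 : v₁ + c + d = v₁ + a := by
      calc v₁ + c + d = a + (a + (v₁ + c + d)) := (self_add_add _ _).symm
        _ = v₁ + a := by rw [h6, add_comm]
    rw [h7, g1, U.self h.m1, h.xa1, zero_add] at e6
    exact one_ne_zero e6
  · have h7 : v₁ + c + d = 0 := by
      calc v₁ + c + d = a + (a + (v₁ + c + d)) := (self_add_add _ _).symm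
        _ = 0 := by rw [h6, v_add_self]
    exact h.zero (h7 ▸ k4)
  · have h7 : v₁ + c + d = v₁ := by
      calc v₁ + c + d = a + (a + (v₁ + c + d)) := (self_add_add _ _).symm
        _ = v₁ := by rw [h6, self_add_add]
    have h8 : c + d = 0 := by
      have h9 : v₁ + (v₁ + c + d) = v₁ + v₁ := by rw [h7]
      rw [v_add_self] at h9
      calc c + d = v₁ + (v₁ + (c + d)) := (self_add_add _ _).symm
        _ = v₁ + (v₁ + c + d) := by rw [add_assoc v₁ c d]
        _ = 0 := h9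
    exact hne (v_eq_of_add h8)

/-- **L6.** -/
theorem l6 {b : V} (hb : b ∈ Om) (h1 : f b v₁ = 1) (h2 : f b v₂ = 1) : False := by
  have U := h.toUSys
  obtain ⟨e, he, e1, e2, e3⟩ := h.x_exists_e hb h1 h2
  have hce : ∀ s ∈ S, ρ s e ∈ Om ∧ f (ρ s e) v₁ = 0 ∧ f (ρ s e) v₂ = 1 ∧ f (ρ s e) a = 1 := fun s hs =>
    h.x_conj_e he e1 e2 e3 hs
  have hee : ∀ s ∈ S, ρ s e ≠ e → f e (ρ s e) = 1 := fun s hs hne =>
    h.x_perp he (hce s hs).1 e1 e2 e3 (hce s hs).2.1 (hce s hs).2.2.1 (hce s hs).2.2.2 (Ne.symm hne)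
  -- the orbit of `v₂`
  let Ω : Set V := {x | x = v₂ ∨ ∃ s ∈ S, x = v₂ + ρ s e}
  obtain ⟨t, ht⟩ := U.ex he
  have hS : ∀ s ∈ S, ∀ x ∈ Ω, ρ s x ∈ Ω := by
    rintro s hs x (rfl | ⟨s', hs', rfl⟩)
    · exact Or.inl (h.s2 s hs)
    · exact Or.inr ⟨s * s', S.mul_mem hs hs', by rw [map_add, h.s2 s hs, rmul]⟩
  have hT : ∀ x ∈ Ω, ρ t x ∈ Ω := by
    rintro x (rfl | ⟨s, hs, rfl⟩)
    · right
      exact ⟨1, S.one_mem, by rw [ht, e2, one_smul, rone]⟩
    · by_cases hne : ρ s e = e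
      · left
        rw [hne, ht, map_add, e2, U.self he, add_zero, one_smul, add_add_self]
      · right
        refine ⟨s, hs, ?_⟩
        rw [ht, map_add, e2, hee s hs hne, z2_add_self, zero_smul, add_zero]
  have hti : ∀ x, ρ t⁻¹ x = ρ t x := by
    intro x
    have h3 := U.invol he ht x
    calc ρ t⁻¹ x = ρ t⁻¹ (ρ t (ρ t x)) := by rw [h3]
      _ = ρ t x := rinv ρ t _
  let K : Subgroup H :=
    { carrier := {g | (∀ x ∈ Ω, ρ g x ∈ Ω) ∧ (∀ x ∈ Ω, ρ g⁻¹ x ∈ Ω) ∧ ρ g v₁ = v₁}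
      one_mem' := ⟨fun x hx => by rwa [rone], fun x hx => by rwa [inv_one, rone], rone ρ _⟩
      mul_mem' := by
        rintro g g' ⟨a1, a2, a3⟩ ⟨b1, b2, b3⟩
        refine ⟨fun x hx => ?_, fun x hx => ?_, ?_⟩
        · rw [rmul]; exact a1 _ (b1 x hx)
        · rw [mul_inv_rev, rmul]; exact b2 _ (a2 x hx)
        · rw [rmul, b3, a3]
      inv_mem' := by
        rintro g ⟨a1, a2, a3⟩
        refine ⟨a2, fun x hx => ?_, ?_⟩
        · rw [inv_inv]; exact a1 x hx
        · conv_lhs => rw [← a3]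
          exact rinv ρ g v₁ }
  have hSK : S ≤ K := fun s hs =>
    ⟨hS s hs, hS s⁻¹ (S.inv_mem hs), h.ln0.zS s hs⟩
  have htK : t ∈ K :=
    ⟨hT, fun x hx => by rw [hti]; exact hT x hx, by rw [ht, e1, zero_smul, add_zero]⟩
  have he0 : e ≠ 0 := U.c_ne he
  obtain ⟨R, hR, hRK, g, hgR, hg⟩ := h.gen K hSK (fun g hg => hg.2.2)
    ⟨t, htK, by
      rw [ht, e2, one_smul]
      intro h3
      exact he0 (by simpa using h3)⟩
  obtain ⟨z, u, c, L⟩ := h.par R hR
  have hgv : ∃ s ∈ S, ρ g v₂ = v₂ + ρ s e := (hRK hgR).1 v₂ (Or.inl rfl) |>.resolve_left hg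
  obtain ⟨s₀, hs₀, hg0⟩ := hgv
  -- all `v₂ + ρ s e` are in the `R`-orbit of `v₂`
  have horb : ∀ s ∈ S, ∃ r ∈ R, ρ r v₂ = v₂ + ρ s e := by
    intro s hs
    refine ⟨s * s₀⁻¹ * g, R.mul_mem (R.mul_mem (L.le hs) (L.le (S.inv_mem hs₀))) hgR, ?_⟩
    rw [rmul, hg0, map_add, h.s2 _ (S.mul_mem hs (S.inv_mem hs₀)), ← rmul]
    congr 2
    group
  -- the `R`-orbit of `v₂`
  have hR1 : ∀ r ∈ R, ρ r v₁ = v₁ := fun r hr => (hRK hr).2.2
  have hzu : z ≠ u := by
    rintro rfl
    obtain ⟨s, hs, h3⟩ := L.mv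
    exact h3 (L.zS s hs)
  obtain ⟨p, q, hpq⟩ : ∃ p q : V, ∀ r ∈ R, ρ r v₂ = v₂ ∨ ρ r v₂ = p ∨ ρ r v₂ = q := by
    rcases h.fix z L.zS with h3 | h3 | h3 | h3
    · exact absurd h3 L.z0
    · exfalso
      obtain ⟨r, hr, h4⟩ := L.tr
      rw [h3, hR1 r hr] at h4
      exact hzu (h3.trans h4)
    · exact ⟨u, u + z, fun r hr => by
        have := L.orb r hr
        rwa [h3] at this ⊢⟩
    · refine ⟨u + v₁, u + z + v₁, fun r hr => ?_⟩
      have h4 : ρ r v₂ = ρ r z + v₁ := by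
        calc ρ r v₂ = ρ r (v₁ + (v₁ + v₂)) := by rw [self_add_add]
          _ = v₁ + ρ r z := by rw [map_add, hR1 r hr, h3]
          _ = ρ r z + v₁ := add_comm _ _
      rw [h4]
      rcases L.orb r hr with h5 | h5 | h5
      · left
        rw [h5, h3, add_comm, self_add_add]
      · right; left; rw [h5]
      · right; right; rw [h5]
  have hpq' : ∀ s ∈ S, v₂ + ρ s e = p ∨ v₂ + ρ s e = q := by
    intro s hs
    obtain ⟨r, hr, h3⟩ := horb s hs
    rcases hpq r hr with h4 | h4 | h4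
    · exfalso
      rw [h3] at h4
      have h5 : ρ s e = 0 := by simpa using h4
      exact U.c_ne (hce s hs).1 h5
    · left; rw [← h3, h4]
    · right; rw [← h3, h4]
  -- `e` is not fixed by `S`
  have hnf : ∃ s ∈ S, ρ s e ≠ e := by
    by_contra hcon
    push Not at hcon
    have h3 := h.l2 e he hcon
    rw [h3, h.x12] at e2
    exact zero_ne_one e2
  obtain ⟨s₁, hs₁, hne⟩ := hnf
  have he1 := hpq' 1 S.one_mem
  rw [rone] at he1
  have he2 := hpq' s₁ hs₁
  have hcan : ∀ {x y : V}, v₂ + x = v₂ + y → x = y := fun {x y} hxy => add_left_cancel hxy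
  -- the orbit is `{e, ρ s₁ e}`
  have hor : ∀ s ∈ S, ρ s e = e ∨ ρ s e = ρ s₁ e := by
    intro s hs
    have h3 := hpq' s hs
    rcases he1 with h4 | h4 <;> rcases he2 with h5 | h5 <;> rcases h3 with h6 | h6
    all_goals first
      | exact Or.inl (hcan (h6.trans h4.symm))
      | exact Or.inr (hcan (h6.trans h5.symm))
      | exact absurd (hcan (h5.trans h4.symm)) hne
  have hsum : ∀ s ∈ S, ρ s (e + ρ s₁ e) = e + ρ s₁ e := by
    intro s hs
    rw [map_add, ← rmul]
    have hd : ρ s e ≠ ρ (s * s₁) e := by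
      rw [rmul]
      intro h3
      exact hne ((ρ s).injective h3).symm
    rcases hor s hs with h3 | h3 <;> rcases hor (s * s₁) (S.mul_mem hs hs₁) with h4 | h4
    · exact absurd (h3.trans h4.symm) hd
    · rw [h3, h4]
    · rw [h3, h4, add_comm]
    · exact absurd (h3.trans h4.symm) hd
  have hf := hee s₁ hs₁ hne
  have hm : e + ρ s₁ e ∈ Om := U.mem_add he (hce s₁ hs₁).1 hf
  have h7 := h.l2 _ hm hsum
  rw [← h7, map_add, U.self he, hf, zero_add] at e1
  exact one_ne_zero e1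

end LFr

end Cfsg.Agent.Omega.NOThreeL.RRed

end
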