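import Cfsg.Agent.Mrg.Omega.NOThreeL.Sigma.Rank
import Cfsg.Agent.Mrg.Omega.NOThreeL.RRed.BlkG1
import Cfsg.Agent.Mrg.Omega.NOThreeL.RRed.Side
import Cfsg.Agent.Mrg.Omega.NOThreeL.RRed.TvFin
import Cfsg.Agent.Mrg.Omega.NO3S.OneLine.Abs
import Cfsg.Agent.Mrg.Omega.NOThreeL.RRed.TvDec
import Cfsg.Agent.Mrg.Omega.NOThreeL.RRed.TvSys

section


/-!
# NO-3L, box R: the tree of `GlueSig.FourOf` (RR S = 1, |Z| = 4, all |Z : C_Z(P)| = 2, some |V_P| ≠ 8, (L2))

`V* = Wd S = ⟨Z^M₀⟩`, `M₀ = MZ S = ⟨P*(S)⟩`.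

* `Four S` : the hypotheses of `FourOf`;
* `ffMod_rr` : `RR S = 1` implies that `V*` is FF; `exists_gOne_rr` : some `P ∈ P*(S)` has an offender of `V*`;
* `TvS S` : some `t ∈ S` is a transvection of `V*`; `Fld S` : some such `P` has natural `SL₂(q)`-blocks, `q ≥ 4`;
  `tvS_or` : one of them holds;
* `Bks S N E R₀ Om phi` : the `𝔽₂`-blocks (`TvFin.Full`): `V* = ∏ N b × R₀`, `N b` = even sets of letters of `Sym(n b)`,
  `n b` odd, `≥ 3`; `exists_bks` : the block theorem;
* `HypJ S N` : at some level (or `J(S)`) the best offenders move all blocks;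
* sockets: `FourFld` (`Fld S`), `FourJ` (`R₀ = 1`, `HypJ`), `FourTwo` (`R₀ = 1`, not `HypJ`), `FourRest` (`R₀ ≠ 1`);
* **`fourOf_of`** : they imply `FourOf`.
-/

set_option autoImplicit false
set_option linter.unusedSectionVars false

namespace Cfsg.Agent.Omega.NOThreeL.RRed.FourTree

open Subgroup Cfsg Cfsg.Agent.ZN Cfsg.Agent.Omega.MinPar Cfsg.Agent.Omega.Frame Cfsg.Agent.Omega.FrameNOFF
open Cfsg.Agent.Omega.Node.NO3L Cfsg.Agent.Omega.NOThreeL.Basic Cfsg.Agent.Omega.NOThreeL.RTree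
open Cfsg.Agent.Omega.NOThreeL.RTreeF
open Cfsg.Agent.Omega.NOThreeL.Merge (MZ le_MZ S_le_MZ isLoc_MZ zl_MZ_comm zl_MZ_isPGroup)
open Cfsg.Agent.Omega.NOThreeL.ZCut (FZ)
open Cfsg.Agent.Omega.NO3b.Bang (bang NN)
open Cfsg.Agent.Omega.NO3S (FFMod)
open Cfsg.Agent.Omega.NO3S.Level (Lev)
open Cfsg.Agent.Omega.NO1.BestOff (Best)
open Cfsg.Agent.Omega.FFThm (ElemM OffM NoOverM)
open Cfsg.Agent.Omega.NOThreeL.RZ (RR)
open Cfsg.Agent.Omega.NOThreeL.RRed.GlueSig

universe u

section defs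

variable {G : Type u} [Group G]

/-- The hypotheses of `FourOf`. -/
structure Four [Finite G] (S : Sylow 2 G) : Prop extends RB S where
  rr : RR (S : Subgroup G) = ⊥
  thin : Thin (S : Subgroup G)
  z4 : Nat.card (zc (S : Subgroup G)) = 4
  n8 : ∃ P, IsParS (S : Subgroup G) P ∧ Nat.card (zl (S : Subgroup G) P) ≠ 8
  l2 : L2 (S : Subgroup G)

/-- some `t ∈ S` is a transvection of `V*` -/
def TvS (S : Subgroup G) : Prop :=
  ∃ t ∈ S, ∃ c ∈ Wd S, c ≠ 1 ∧ Tv (Wd S) c t ∧ t ∉ centralizer (Wd S : Set G)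

/-- some `P ∈ P*(S)` with an offender of `V*` has natural `SL₂(q)`-blocks, `q ≥ 4` -/
def Fld [Finite G] (S : Sylow 2 G) : Prop :=
  ∃ P A, GOne S (MZ (S : Subgroup G)) P A ∧ Big4 S P

/-- **The `𝔽₂`-blocks of `V*`.** -/
structure Bks [Finite G] (S : Sylow 2 G) {I : Type u} (N E : I → Subgroup G) (R₀ : Subgroup G) (Om : I → Type u)
    [∀ i, Fintype (Om i)] [∀ i, DecidableEq (Om i)] (phi : ∀ i, Finset (Om i) → G) : Prop
    extends TvFin.Full (S : Subgroup G) (MZ (S : Subgroup G)) (Wd (S : Subgroup G)) N E R₀ Om phi where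
  nonempty : Nonempty I

/-- `⟨best offenders of S on X⟩ C_S(X)` -/
def nxtX (S X : Subgroup G) : Subgroup G := (S ⊓ centralizer (X : Set G)) ⊔ sSup {A | A ≤ S ∧ Best X A}

/-- A level `(K, X)` over `V*`. -/
structure LevX (S K X : Subgroup G) : Prop extends Lev S K where
  Xle : X ≤ zc K
  Xn : normalizer (K : Set G) ≤ normalizer (X : Set G)
  VX : Wd S ≤ X
  MX : MZ S ≤ normalizer (X : Set G)

/-- (J): `J(S)`, or the best offenders at some level, move all blocks. -/
def HypJ {ι : Type u} (S : Subgroup G) (N : ι → Subgroup G) : Prop :=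
  (∀ b, ¬ jj S ≤ centralizer (N b : Set G)) ∨
    ∃ K X, LevX S K X ∧ ∀ b, ¬ nxtX S X ≤ centralizer (N b : Set G)

end defs

section sockets

variable (K : Cls.{u}) (B : Fr.{u})

/-- fields -/
def FourFld : Prop :=
  ∀ (G : Type u) [Group G] [Finite G], K G → ∀ (S : Sylow 2 G), B G S → Four S → Fld S → IsKnownSimple' G

/-- `R₀ = 1`, one level -/
def FourJ : Prop :=
  ∀ (G : Type u) [Group G] [Finite G], K G → ∀ (S : Sylow 2 G), B G S → Four S → ¬ Fld S →
    ∀ (I : Type u) [Fintype I] [DecidableEq I] (N E : I → Subgroup G) (Om : I → Type u)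
      [∀ i, Fintype (Om i)] [∀ i, DecidableEq (Om i)] (phi : ∀ i, Finset (Om i) → G), Bks S N E ⊥ Om phi →
      HypJ (S : Subgroup G) N → IsKnownSimple' G

/-- `R₀ = 1`, two levels -/
def FourTwo : Prop :=
  ∀ (G : Type u) [Group G] [Finite G], K G → ∀ (S : Sylow 2 G), B G S → Four S → ¬ Fld S →
    ∀ (I : Type u) [Fintype I] [DecidableEq I] (N E : I → Subgroup G) (Om : I → Type u)
      [∀ i, Fintype (Om i)] [∀ i, DecidableEq (Om i)] (phi : ∀ i, Finset (Om i) → G), Bks S N E ⊥ Om phi →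
      ¬ HypJ (S : Subgroup G) N → IsKnownSimple' G

/-- `R₀ ≠ 1` -/
def FourRest : Prop :=
  ∀ (G : Type u) [Group G] [Finite G], K G → ∀ (S : Sylow 2 G), B G S → Four S → ¬ Fld S →
    ∀ (I : Type u) [Fintype I] [DecidableEq I] (N E : I → Subgroup G) (R₀ : Subgroup G) (Om : I → Type u)
      [∀ i, Fintype (Om i)] [∀ i, DecidableEq (Om i)] (phi : ∀ i, Finset (Om i) → G), Bks S N E R₀ Om phi →
      R₀ ≠ ⊥ → IsKnownSimple' G

end sockets

section tree

variable {G : Type u} [Group G]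

/-- `RR S = 1` implies that `V*` is FF. -/
theorem ffMod_rr [Finite G] {S : Sylow 2 G} (B : RB S) (hr : RR (S : Subgroup G) = ⊥) :
    FFMod (S : Subgroup G) (MZ (S : Subgroup G)) := by
  by_contra hn
  have hG := B.ctx
  have hm := B.data.noff
  have hne : zc (S : Subgroup G) ≠ ⊥ := MinSimple.Basic.zc_ne_bot S.isPGroup' (hG.sylow_ne_bot S)
  have hMW := MinSimple.VModule.le_normalizer_zl (S : Subgroup G) (MZ (S : Subgroup G))
  have hSW : (S : Subgroup G) ≤ normalizer (zl (S : Subgroup G) (MZ (S : Subgroup G)) : Set G) :=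
    (S_le_MZ hG B.full).trans hMW
  have hN : NN (S : Subgroup G) (zl (S : Subgroup G) (MZ (S : Subgroup G))) :=
    { le := le_of_le_normalizer S (zl_MZ_isPGroup hG hm) hSW
      norm := hSW
      comm := zl_MZ_comm hG hm
      sq := zl_MZ_sq hG.char2 hm
      nff := fun A hA ho => hn ⟨A, hA, ho⟩ }
  have hI : RZ.Inv (S : Subgroup G) (zl (S : Subgroup G) (MZ (S : Subgroup G))) :=
    { nn := hN
      ys := hMW
      gen := MinSimple.VModule.zl_le ((le_inf (MinSimple.VModule.zc_le_zl _ _) le_rfl).trans (RZ.Z_le _ _))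
        (RZ.le_norm_V _ _) }
  have h1 := hI.le_RR
  rw [hr] at h1
  exact hne (eq_bot_iff.2 ((MinSimple.VModule.zc_le_zl _ _).trans h1))

theorem off_rr [Finite G] {S : Sylow 2 G} (B : RB S) (hr : RR (S : Subgroup G) = ⊥) :
    ∃ A ≤ MZ (S : Subgroup G), OffM (zl (S : Subgroup G) (MZ (S : Subgroup G))) A := by
  obtain ⟨A, hA, h⟩ := ffMod_rr B hr
  exact ⟨A, hA.trans (S_le_MZ B.ctx B.full), h⟩

theorem gen_MZ [Finite G] (S : Sylow 2 G) :
    MZ (S : Subgroup G) ≤ sSup {P | IsParS (S : Subgroup G) P ∧ P ≤ MZ (S : Subgroup G)} :=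
  sSup_le fun _ hP => le_sSup ⟨hP, le_MZ hP⟩

/-- some `P ∈ P*(S)` has an offender of `V*` -/
theorem exists_gOne_rr [Finite G] {S : Sylow 2 G} (B : RB S) (hr : RR (S : Subgroup G) = ⊥) :
    ∃ P A, GOne S (MZ (S : Subgroup G)) P A :=
  exists_gOne B.ctx.char2 (isLoc_MZ B.ctx B.full B.data.noff) (gen_MZ S) (off_rr B hr)

/-- transvections or fields -/
theorem tvS_or [Finite G] {S : Sylow 2 G} (B : RB S) (hr : RR (S : Subgroup G) = ⊥) :
    TvS (S : Subgroup G) ∨ Fld S :=
  tv_or B.ctx.char2 (isLoc_MZ B.ctx B.full B.data.noff) (gen_MZ S) (off_rr B hr)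

/-- **The block theorem** in box R with `RR S = 1` and a transvection. -/
theorem exists_bks [Finite G] {S : Sylow 2 G} (B : RB S) (hr : RR (S : Subgroup G) = ⊥) (ht : TvS (S : Subgroup G)) :
    ∃ (I : Type u) (_ : Fintype I) (_ : DecidableEq I) (N E : I → Subgroup G) (R₀ : Subgroup G) (Om : I → Type u)
      (_ : ∀ i, Fintype (Om i)) (_ : ∀ i, DecidableEq (Om i)) (phi : ∀ i, Finset (Om i) → G),
      Bks S N E R₀ Om phi := by
  obtain ⟨P, A, hg⟩ := exists_gOne_rr B hr
  have hSM := S_le_MZ B.ctx B.full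
  obtain ⟨I, i1, i2, N, E, R₀, Om, i3, i4, phi, h⟩ :=
    TvFin.blocks_zl (S := S) hSM (zl_MZ_sq B.ctx.char2 B.data.noff) hg.no
  obtain ⟨t, htS, c, hc, -, htv, hne⟩ := ht
  obtain ⟨i, -⟩ := h.tvs t (hSM htS) c hc htv hne
  exact ⟨I, i1, i2, N, E, R₀, Om, i3, i4, phi, { toFull := h, nonempty := ⟨i⟩ }⟩

/-- **`FourOf` from its leaves** -/
theorem fourOf_of {K : Cls.{u}} {B : Fr.{u}}
    (hb : ∀ (G : Type u) [Group G] [Finite G] (S : Sylow 2 G), B G S → RB S)
    (hf : FourFld K B) (hJ : FourJ K B) (h2 : FourTwo K B) (h0 : FourRest K B) : FourOf K B := by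
  intro G _ _ hK S hB hr ht hz hn hl
  have h4 : Four S := { toRB := hb G S hB, rr := hr, thin := ht, z4 := hz, n8 := hn, l2 := hl }
  by_cases hF : Fld S
  · exact hf G hK S hB h4 hF
  · obtain ⟨I, i1, i2, N, E, R₀, Om, i3, i4, phi, hBk⟩ :=
      exists_bks (hb G S hB) hr ((tvS_or (hb G S hB) hr).resolve_right hF)
    by_cases hR : R₀ = ⊥
    · subst hR
      by_cases hj : HypJ (S : Subgroup G) N
      · exact hJ G hK S hB h4 hF I N E Om phi hBk hj
      · exact h2 G hK S hB h4 hF I N E Om phi hBk hj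
    · exact h0 G hK S hB h4 hF I N E R₀ Om phi hBk hR

end tree

end Cfsg.Agent.Omega.NOThreeL.RRed.FourTree

end

section


/-!
# The block theorem for transvections over `𝔽₂`: the letters of all blocks, in the group (#24382, #24494)

* `Pts M V R₀ blk w pr` : the points `w x ∈ V`, `pr F` = product of the points of `F`; the product over a block is `1` and
  these are the only relations; `V = ⟨points⟩ × R₀`; `M` permutes the points and the blocks; every transposition of two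
  points of one block is induced by an element of `M` which centralises `R₀`;
* `Pts.inj`, `Pts.conj`, `Pts.pr_eq_iff`, `Pts.disjoint`;
* **`exists_pts`** : `GHyp S V M` gives `Pts`.
-/

set_option autoImplicit false
set_option linter.unusedSectionVars false

namespace Cfsg.Agent.Omega.NOThreeL.RRed.TvG2

open Subgroup Cfsg.Agent.Omega.TV Cfsg.Agent.Omega.FFBr
open Cfsg.Agent.Omega.Transv (zmod_cases eq_of_add one_ne)
open Cfsg.Agent.Omega.NOThreeL.RRed.TvG
open Cfsg.Agent.Omega.NOThreeL.RRed.TvBlk (Sys Blk exists_blk)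
open Cfsg.Agent.Omega.NOThreeL.RRed.TvDec (RR aut)

universe u

variable {G : Type u} [Group G]

/-- The points, read in `G`. -/
structure Pts (M V R₀ : Subgroup G) {Pt I : Type u} [Fintype Pt] [DecidableEq Pt] [DecidableEq I] (blk : Pt → I)
    (w : Pt → G) (pr : Finset Pt → G) : Prop where
  wV : ∀ x, w x ∈ V
  sq : ∀ v ∈ V, v * v = 1
  MV : M ≤ normalizer (V : Set G)
  pr_empty : pr ∅ = 1
  pr_single : ∀ x, pr {x} = w x
  pr_insert : ∀ x F, x ∉ F → pr (insert x F) = w x * pr F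
  pr_symm : ∀ F F', pr (symmDiff F F') = pr F * pr F'
  R₀V : R₀ ≤ V
  R₀M : M ≤ normalizer (R₀ : Set G)
  mem : ∀ v ∈ V, ∃ F, ∃ r ∈ R₀, v = pr F * r
  disj : ∀ F, pr F ∈ R₀ → pr F = 1
  rel : ∀ F, pr F = 1 → ∀ x y, blk x = blk y → (x ∈ F ↔ y ∈ F)
  sum : ∀ x, pr (Finset.univ.filter fun y => blk y = blk x) = 1
  surj : Function.Surjective blk
  odd : ∀ x, Odd (Finset.univ.filter fun y => blk y = blk x).card
  three : ∀ x, 3 ≤ (Finset.univ.filter fun y => blk y = blk x).card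
  perm : ∀ g ∈ M, ∃ σ : Equiv.Perm Pt, (∀ x, g * w x * g⁻¹ = w (σ x)) ∧
    ∀ x y, blk x = blk y ↔ blk (σ x) = blk (σ y)
  full : ∀ x y, x ≠ y → blk x = blk y → ∃ t ∈ M, (∀ z, t * w z * t⁻¹ = w (Equiv.swap x y z)) ∧
    (∀ r ∈ R₀, t * r * t⁻¹ = r) ∧ ∀ v ∈ V, t * v * t⁻¹ = v ∨ t * v * t⁻¹ = v * (w x * w y)

namespace Pts

variable {M V R₀ : Subgroup G} {Pt I : Type u} [Fintype Pt] [DecidableEq Pt] [DecidableEq I] {blk : Pt → I}
  {w : Pt → G} {pr : Finset Pt → G} (h : Pts M V R₀ blk w pr)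

include h

theorem pr_mem (F : Finset Pt) : pr F ∈ V := by
  induction F using Finset.induction_on with
  | empty => rw [h.pr_empty]; exact one_mem _
  | insert x F hx ih => rw [h.pr_insert x F hx]; exact mul_mem (h.wV x) ih

theorem comm {a b : G} (ha : a ∈ V) (hb : b ∈ V) : a * b = b * a := EA.comm_of h.sq ha hb

theorem pr_sq (F : Finset Pt) : pr F * pr F = 1 := h.sq _ (h.pr_mem F)

/-- `g ∈ M` acts on products -/
theorem conj {g : G} {σ : Equiv.Perm Pt} (hσ : ∀ x, g * w x * g⁻¹ = w (σ x)) (F : Finset Pt) :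
    g * pr F * g⁻¹ = pr (F.map σ.toEmbedding) := by
  induction F using Finset.induction_on with
  | empty => rw [Finset.map_empty, h.pr_empty]; group
  | insert x F hx ih =>
    rw [Finset.map_insert, h.pr_insert x F hx, h.pr_insert]
    · have e : g * (w x * pr F) * g⁻¹ = (g * w x * g⁻¹) * (g * pr F * g⁻¹) := by group
      rw [e, ih, hσ]
      rfl
    · intro hc
      obtain ⟨y, hy, e⟩ := Finset.mem_map.1 hc
      exact hx (by rw [← σ.injective e]; exact hy)

theorem pr_eq_iff {F F' : Finset Pt} (e : pr F = pr F') (x y : Pt) (hxy : blk x = blk y) :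
    (x ∈ symmDiff F F' ↔ y ∈ symmDiff F F') :=
  h.rel _ (by rw [h.pr_symm, e, h.pr_sq]) x y hxy

theorem exists_other (x : Pt) : ∃ y, y ≠ x ∧ blk y = blk x := by
  have h1 : 1 < (Finset.univ.filter fun y => blk y = blk x).card := lt_of_lt_of_le (by norm_num) (h.three x)
  obtain ⟨y, hy, hne⟩ := Finset.exists_mem_ne h1 x
  exact ⟨y, hne, (Finset.mem_filter.1 hy).2⟩

theorem exists_third (x y : Pt) : ∃ z, z ≠ x ∧ z ≠ y ∧ blk z = blk x := by
  by_contra hcon
  push Not at hcon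
  have h1 : (Finset.univ.filter fun z => blk z = blk x) ⊆ {x, y} := by
    intro z hz
    rw [Finset.mem_insert, Finset.mem_singleton]
    by_contra hc
    rw [not_or] at hc
    exact hcon z hc.1 hc.2 (Finset.mem_filter.1 hz).2
  have h2 := Finset.card_le_card h1
  have h3 : ({x, y} : Finset Pt).card ≤ 2 := Finset.card_le_two
  have := h.three x
  omega

theorem inj : Function.Injective w := by
  intro x y e
  by_contra hne
  obtain ⟨z, hzx, hzy, hb⟩ := h.exists_third x y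
  have h1 : pr {x} = pr {y} := by rw [h.pr_single, h.pr_single, e]
  have h2 := (h.pr_eq_iff h1 x z hb.symm).1 (by
    rw [Finset.mem_symmDiff]
    exact Or.inl ⟨Finset.mem_singleton_self x, fun hc => hne (Finset.mem_singleton.1 hc)⟩)
  rw [Finset.mem_symmDiff, Finset.mem_singleton, Finset.mem_singleton] at h2
  exact h2.elim (fun h => hzx h.1) fun h => hzy h.1

theorem ne_one (x : Pt) : w x ≠ 1 := by
  intro e
  obtain ⟨y, hy, hb⟩ := h.exists_other x
  have h1 := (h.rel {x} (by rw [h.pr_single, e]) x y hb.symm).1 (Finset.mem_singleton_self x)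
  exact hy (Finset.mem_singleton.1 h1)

theorem gen (h0 : R₀ = ⊥) : V ≤ closure (Set.range w) := by
  intro v hv
  obtain ⟨F, r, hr, rfl⟩ := h.mem v hv
  rw [h0, Subgroup.mem_bot] at hr
  rw [hr, mul_one]
  clear hv hr
  induction F using Finset.induction_on with
  | empty => rw [h.pr_empty]; exact one_mem _
  | insert x F hx ih =>
    rw [h.pr_insert x F hx]
    exact mul_mem (subset_closure ⟨x, rfl⟩) ih

end Pts

variable {V M : Subgroup G}

section build

variable (sq : ∀ x ∈ V, x * x = 1) (h : M ≤ normalizer (V : Set G))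
variable {Pt I : Type u} [Fintype Pt] [Fintype I] [DecidableEq Pt] [DecidableEq I] {blk : Pt → I} {w : Pt → EA V sq}
  {tr : Pt → Pt → TvBlk.W (EA V sq)}

theorem sum_ind (F : Finset Pt) : ∑ x ∈ F, w x = ∑ z : Pt, (if z ∈ F then (1 : ZMod 2) else 0) • w z := by
  have h1 : ∀ z ∈ (Finset.univ : Finset Pt), (if z ∈ F then (1 : ZMod 2) else 0) • w z = if z ∈ F then w z else 0 := by
    intro z _
    rw [ite_smul, one_smul, zero_smul]
  rw [Finset.sum_congr rfl h1, ← Finset.sum_filter, Finset.filter_mem_eq_inter, Finset.univ_inter]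

theorem exists_set (a : Pt → ZMod 2) : ∃ F : Finset Pt, ∑ z : Pt, a z • w z = ∑ x ∈ F, w x := by
  refine ⟨Finset.univ.filter fun z => a z = 1, ?_⟩
  rw [Finset.sum_filter]
  refine Finset.sum_congr rfl fun z _ => ?_
  rcases zmod_cases (a z) with e | e
  · rw [e, zero_smul, if_neg]
    exact fun hc => one_ne hc.symm
  · rw [e, one_smul, if_pos rfl]

/-- **the points in the group** -/
theorem pts [Finite G] (b : Blk (RR sq h) blk w tr) :
    Pts M V (TvDec.R₀ sq h) blk (fun x => (w x).val) (fun F => (∑ x ∈ F, w x).val) where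
  wV x := (w x).val_mem
  sq := sq
  MV := h
  pr_empty := by rw [Finset.sum_empty]; rfl
  pr_single x := by rw [Finset.sum_singleton]
  pr_insert x F hx := by rw [Finset.sum_insert hx]; rfl
  pr_symm F F' := congrArg EA.val (TvDec.sum_symmDiff sq w F F')
  R₀V := TvDec.toSub_le _
  R₀M g hg := TvDec.mem_normalizer_of (TvDec.conj_R₀ sq h ⟨g, hg⟩)
  mem v hv := by
    obtain ⟨a, ha⟩ := b.decomp (EA.mk sq v hv)
    obtain ⟨F, hF⟩ := exists_set sq (w := w) a
    refine ⟨F, (EA.mk sq v hv + ∑ z, a z • w z).val, ⟨_, ha, rfl⟩, ?_⟩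
    have e : EA.mk sq v hv = ∑ x ∈ F, w x + (EA.mk sq v hv + ∑ z, a z • w z) := by
      rw [hF, add_comm (EA.mk sq v hv), ← add_assoc, Transv.add_self, zero_add]
    exact congrArg EA.val e
  disj F hF := by
    obtain ⟨a, ha, e⟩ := hF
    have e' : a = ∑ x ∈ F, w x := EA.ext e
    rw [e'] at ha
    have h1 : ∑ x ∈ F, w x = 0 := by
      refine b.eq_zero (Submodule.sum_mem _ fun x _ => Submodule.subset_span ⟨x, rfl⟩) ha
    exact EA.val_eq_one.2 h1
  rel F hF x y hxy := by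
    have h1 : ∑ x ∈ F, w x = 0 := EA.val_eq_one.1 hF
    rw [sum_ind sq] at h1
    have h2 := b.indep _ h1 x y hxy
    by_cases hx : x ∈ F <;> by_cases hy : y ∈ F
    · exact ⟨fun _ => hy, fun _ => hx⟩
    · rw [if_pos hx, if_neg hy] at h2; exact absurd h2 one_ne
    · rw [if_neg hx, if_pos hy] at h2; exact absurd h2.symm one_ne
    · exact ⟨fun hc => absurd hc hx, fun hc => absurd hc hy⟩
  sum x := EA.val_eq_one.2 (b.sum_zero x)
  surj := b.surj
  odd := b.odd
  three := b.three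
  perm g hg := by
    obtain ⟨σ, h1, h2, -⟩ := b.perm (aut sq h ⟨g, hg⟩) (TvDec.conj_RR sq h ⟨g, hg⟩)
    exact ⟨σ, fun x => congrArg EA.val (h1 x), h2⟩
  full x y hne hb := by
    obtain ⟨d, hd⟩ := b.tr_mem x y hne hb
    obtain ⟨m, rfl⟩ := pr_surjective h d
    refine ⟨m, m.2, fun z => ?_, ?_, fun v hv => ?_⟩
    · have h1 : aut sq h m (w z) = w z + (tr x y).2 (w z) • (tr x y).1 := hd.act (w z)
      have h2 := b.act_tr x y hb z
      rw [h2] at h1
      exact congrArg EA.val h1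
    · rintro _ ⟨a, ha, rfl⟩
      have h1 := congrArg EA.val (hd.act a)
      rw [b.tr_ker x y hb ha, zero_smul, add_zero] at h1
      exact h1
    · have h1 := congrArg EA.val (hd.act (EA.mk sq v hv))
      rw [b.tr_fst x y hb] at h1
      rcases zmod_cases ((tr x y).2 (EA.mk sq v hv)) with e | e
      · rw [e, zero_smul, add_zero] at h1
        exact Or.inl h1
      · rw [e, one_smul] at h1
        exact Or.inr h1

end build

/-- **The block theorem in the group, in terms of points.** -/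
theorem exists_pts [Finite G] {S : Sylow 2 G} (H : GHyp (S : Subgroup G) V M) :
    ∃ (Pt I : Type u) (_ : Fintype Pt) (_ : Fintype I) (_ : DecidableEq Pt) (_ : DecidableEq I) (blk : Pt → I)
      (w : Pt → G) (pr : Finset Pt → G), Pts M V (TvDec.R₀ H.sq H.norm) blk w pr := by
  have hsys : Sys (RR H.sq H.norm) := TvBlk.sys_of H.faith H.hno H.core H.T H.hgen
  obtain ⟨Pt, I, i1, i2, i3, i4, blk, w, tr, b⟩ := exists_blk hsys
  exact ⟨Pt, I, i1, i2, i3, i4, blk, _, _, pts H.sq H.norm b⟩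

end Cfsg.Agent.Omega.NOThreeL.RRed.TvG2

end
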