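import Cfsg.Agent.Mrg.Omega.NOThreeL.RRed.WLF.NatFOf
import Cfsg.Agent.Mrg.Omega.KL.TwoZ.LFrEnd
import Cfsg.Agent.Mrg.Omega.KL.TwoZ.LineBf
import Cfsg.Agent.Mrg.Omega.KL.GLine.ToM
import Cfsg.Agent.Mrg.Omega.NOThreeL.RRed.WideTree

section


/-!
# NO-3L, box R: the socket `WideTree.WLeftFld` (two natural blocks, field automorphisms; #24444 (C), #24700; plug
helper19)

* `src_of` : 916's `WLF.Src` from `WideTree.Src`; `kgroup` : `C_G(Z_i)` is a `K`-group;
* **`dead`** : 916's frame `LFr` + 410's (G1) `LFr.thmC2F`, (G3) `LFr.g3F` + 916's `LFr.bf` + 401's `LFrW.false_of_g3`;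
* **`wLeftFld`** : `WLeftFld K B`.
-/

set_option autoImplicit false
set_option linter.unusedSectionVars false

namespace Cfsg.Agent.Omega.NOThreeL.RRed.WLF

open Subgroup Cfsg Cfsg.Agent.ZN Cfsg.Agent.Omega.MinPar Cfsg.Agent.Omega.Frame Cfsg.Agent.Omega.FrameNOFF
open Cfsg.Agent.Omega.FrameFF
open Cfsg.Agent.Omega.NOThreeL.Merge (MZ)
open Cfsg.Agent.Omega.NOThreeL.RTree (RB)
open Cfsg.Agent.Omega.NOThreeL.RRed.GlueSig
open Cfsg.Agent.Omega.NOThreeL.RRed.InstZ (ZZ Spl)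
open Cfsg.Agent.Omega.NOThreeL.RRed.WideTree
open Cfsg.Agent.Omega.NOThreeL.RRed.WLeft
open scoped Pointwise

universe u

variable {G : Type u} [Group G]

/-- 916's `Src` -/
theorem src_of {S : Subgroup G} {W l : Fin 2 → Subgroup G} {q : Fin 2 → ℕ}
    (s : WideTree.Src S (fun i : ULift.{u} (Fin 2) => W i.down) (fun i => l i.down) (fun i => q i.down)) :
    Src S W l where
  act P hP := by
    obtain ⟨F, iF, iF', iF2, k, hk, M, h, hD, hb⟩ := s.act P hP
    refine ⟨F, iF, iF', iF2, k, hk, M, h, hD, fun j => ?_⟩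
    obtain ⟨b, h1, h2, -⟩ := hb j
    exact ⟨b.down, h1, h2⟩

variable [Finite G] {S : Sylow 2 G} {W l : Fin 2 → Subgroup G}

/-- `C_G(Z_i)` is a `K`-group -/
theorem kgroup (h : RB S) (s : Spl S W) (i : Fin 2) :
    IsKGroup (centralizer (ZZ (S : Subgroup G) W i : Set G)) := by
  have := h.ctx.simple
  exact h.ctx.kproper _ ((s.isLong h i).loc.ne_top S h.ctx.not_isPGroup)

/-- **two natural blocks with fields: contradiction** -/
theorem dead (hML : ML.Final.MLK.{u, u}) (hE : ML.Ex.Two.Ext.{u, u}) (hN : KL.StarM.NoInpM.{u, u}) (hW : Wide S)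
    (hm : MvAct (S : Subgroup G)) (C : CM (S : Subgroup G) (fun i : ULift.{u} (Fin 2) => W i.down))
    (s : Src (S : Subgroup G) W l)
    (hcl : ∀ c ∈ centralizer (zc (S : Subgroup G) : Set G), ∀ i, c ∈ normalizer (l i : Set G)) : False := by
  have D := lfr_of hW C s hm hcl
  have hK : ∀ i, IsKGroup (KL.TwoZ.CC (ZZ (S : Subgroup G) W) i) := fun i => kgroup hW.toRB (spl_of hW C s hm) i
  have hn : ∀ i, ∃ (F : Type) (_ : Field F) (_ : Finite F) (_ : CharP F 2) (P : Subgroup G)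
      (_ : NatS F (S : Subgroup G) P (W i) (W (i + 1)) (l i)), MinSimple.MinParabolic.IsMinPar (S : Subgroup G) P := by
    intro i
    obtain ⟨F, iF, iF', iF2, P, -, n, hP, -, -⟩ := exists_nat hW C s hm i
    exact ⟨F, iF, iF', iF2, P, n, hP.1.toIsMinPar⟩
  have hn' : ∀ i, ∃ (F : Type) (_ : Field F) (_ : Finite F) (_ : CharP F 2) (P : Subgroup G),
      Nonempty (NatS F (S : Subgroup G) P (W i) (W (i + 1)) (l i)) := by
    intro i
    obtain ⟨F, iF, iF', iF2, P, n, -⟩ := hn i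
    exact ⟨F, iF, iF', iF2, P, ⟨n⟩⟩
  have g1 : KL.TwoZ.Line.LFr S W (ZZ (S : Subgroup G) W) l → OM.PT.ThmC2 l (OM.PT.XW l W) := fun D =>
    D.thmC2F hML hE hN hK
      (fun i x hx hx1 y hy hy1 => by
        obtain ⟨F, _, _, _, P, ⟨N⟩⟩ := hn' i
        obtain ⟨h, a1, a2, -, a4⟩ :=
          InstL.torZ_of_natS N ((D.VQ i).trans (D.Q_le_S i)) (D.sqV i) x hx hx1 y hy hy1
        exact ⟨h, a1, a2, a4⟩)
      (fun i => by
        obtain ⟨F, _, _, _, P, ⟨N⟩⟩ := hn' i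
        exact InstL.torU_of_natS N ((D.VQ i).trans (D.Q_le_S i)) (D.sqV i))
  have g3 := fun i => D.g3F hML hK (g1 D) i
  exact (InstL.lfrw_of D hn' (D.bf hn g3)).false_of_g3 hML hK hn' (g1 D) g3

/-- **two natural blocks, fields** -/
theorem wLeftFld (hML : ML.Final.MLK.{u, u}) (hE : ML.Ex.Two.Ext.{u, u}) (hN : KL.StarM.NoInpM.{u, u})
    (K : Cls.{u}) (B : Fr.{u}) : WLeftFld K B := by
  intro G _ _ _ S _ hW hm W C _ E D l q _ s _ hcl _
  exact (dead hML hE hN hW hm C (src_of s) hcl).elim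

end Cfsg.Agent.Omega.NOThreeL.RRed.WLF

end

section


/-!
# Box R, classes: the vectors of true full support satisfy `WideTree.FS` (#26368)

* `HBad S N O` : `BadG` for the vectors `z ∈ zc S` of full support in an invariant set of blocks (#26668, helper63; #27325);
* `fs_of` : `FS` for one invariant set `J` of blocks (`nS` as hypothesis);
* **`exists_fs`** : class modules `W k = ⨆_{cls b = k} N b`, `Dec`, `Orbs`, `HBad` give, for every class `i` of at least two,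
  `z`, `e` of true full support in the class `i` resp. in all other classes with `FS S (W i) (Co W i) z`,
  `FS S (Co W i) (W i) e`;
* `exists_fs_left` : with `Left S W` : some `A ∈ 𝒜(O₂(C(z) ∩ C(e)))` moves `W i`, for vectors of true full support.
-/

set_option autoImplicit false
set_option linter.unusedSectionVars false

namespace Cfsg.Agent.Omega.NOThreeL.RRed.FullSup

open Subgroup Cfsg Cfsg.Agent.ZN
open Cfsg.Agent.Omega.NOThreeL.Merge (MZ)
open Cfsg.Agent.Omega.NOThreeL.RTree (RB)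
open Cfsg.Agent.Omega.NOThreeL.RRed.Blk
open Cfsg.Agent.Omega.NOThreeL.RRed.WideTree (NatBlk NBs CM FS BadG QQ Left Fits)
open Cfsg.Agent.Omega.NOThreeL.RZ.TwoC.DecE (Orbs PP)

open scoped Pointwise

universe u v w

section

variable {G : Type u} [Group G] [Finite G] {S : Sylow 2 G} {ι κ : Type u} [Finite ι] {N E : ι → Subgroup G}
  {O : ι → Set G} {W : κ → Subgroup G} {cls : ι → κ}

/-- `bad` for the vectors of full support in an invariant set of blocks -/
def HBad (S : Subgroup G) (N : ι → Subgroup G) (O : ι → Set G) : Prop :=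
  ∀ J : Set ι, InvJ (MZ S) N J → ∀ z ∈ FSup N ⊥ O J, z ∈ zc S → ∀ R B : Subgroup G, R = (⨆ b : J, N b) →
    B = (⨆ b : {b // b ∉ J}, N b) →
    BadG (centralizer ({z} : Set G) ⊓ QQ S R B (S ⊓ centralizer (B : Set G))) (S ⊓ centralizer (B : Set G)) R

theorem compl_eq {J : Set ι} : (⨆ b : {b // b ∉ Jᶜ}, N b) = ⨆ b : J, N b := by
  apply le_antisymm
  · exact iSup_le fun b => le_iSup (fun b : J => N b) ⟨b.1, not_not.1 b.2⟩
  · exact iSup_le fun b => le_iSup (fun b : {b // b ∉ Jᶜ} => N b) ⟨b.1, fun h => h b.2⟩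

/-- a class has a block -/
theorem exists_blk (hne : ∀ i, W i ≠ ⊥) (hW : ∀ k, W k = ⨆ b : {b // cls b = k}, N b) (k : κ) : ∃ b, cls b = k := by
  by_contra hcon
  push Not at hcon
  apply hne k
  rw [hW, eq_bot_iff]
  exact iSup_le fun b => absurd b.2 (hcon b.1)

/-- **`FS` for an invariant set of blocks** -/
theorem fs_of (h : Dec (S : Subgroup G) (MZ (S : Subgroup G)) (Wd (S : Subgroup G)) N E ⊥)
    (o : Orbs (MZ (S : Subgroup G)) N E O) (hb : HBad (S : Subgroup G) N O) {J : Set ι}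
    (hJ : InvJ (MZ (S : Subgroup G)) N J) {R B : Subgroup G} (hR : R = ⨆ b : J, N b)
    (hB : B = ⨆ b : {b // b ∉ J}, N b) {z : G} (hz : z ∈ FSup N ⊥ O J) (hzm : z ∈ R ⊓ zc (S : Subgroup G))
    (hz1 : z ≠ 1) (hn : centralizer ({z} : Set G) ⊓ normalizer ((S : Subgroup G) : Set G) ≤
      normalizer (R : Set G) ⊓ normalizer (B : Set G)) : FS (S : Subgroup G) R B z where
  mem := hzm
  ne := hz1
  fact := by
    have h1 := fact_of h o hJ hz
    rwa [← hB] at h1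
  nS := hn
  bad := hb J hJ z hz hzm.2 R B hR hB

/-- **`FS` for the vectors of true full support** -/
theorem exists_fs (hB : RB S) (hCM : CM (S : Subgroup G) W)
    (h : Dec (S : Subgroup G) (MZ (S : Subgroup G)) (Wd (S : Subgroup G)) N E ⊥)
    (o : Orbs (MZ (S : Subgroup G)) N E O) (hW : ∀ k, W k = ⨆ b : {b // cls b = k}, N b)
    (hb : HBad (S : Subgroup G) N O) (i : κ) (hi : ∃ j, j ≠ i) :
    ∃ z ∈ FSup N ⊥ O {b | cls b = i}, ∃ e ∈ FSup N ⊥ O {b | cls b = i}ᶜ,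
      FS (S : Subgroup G) (W i) (WideTree.Co W i) z ∧ FS (S : Subgroup G) (WideTree.Co W i) (W i) e := by
  have hJ := inv_cls h hW hCM.inv i
  obtain ⟨b₀, hb₀⟩ := exists_blk hCM.ne hW i
  obtain ⟨j, hj⟩ := hi
  obtain ⟨b₁, hb₁⟩ := exists_blk hCM.ne hW j
  have hWi : W i = ⨆ b : ({b | cls b = i} : Set ι), N b := W_eq hW i
  have hOt : WideTree.Co W i = ⨆ b : {b // b ∉ ({b | cls b = i} : Set ι)}, N b := coW_eq hW i
  have hOt' : WideTree.Co W i = ⨆ b : ({b | cls b = i}ᶜ : Set ι), N b := hOt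
  have hWi' : W i = ⨆ b : {b // b ∉ ({b | cls b = i}ᶜ : Set ι)}, N b := by rw [compl_eq, hWi]
  obtain ⟨z, hz, hzm, hz1⟩ := exists_full hB h o hJ ⟨b₀, hb₀⟩
  obtain ⟨e, he, hem, he1⟩ := exists_full hB h o hJ.compl ⟨b₁, fun h1 => hj (by rw [← hb₁]; exact h1)⟩
  rw [← hOt'] at hem
  have hzm' : z ∈ W i ⊓ zc (S : Subgroup G) := by rw [hWi]; exact hzm
  have hf : ∀ k, k ≠ i → e ∉ ⨆ m : {m // m ≠ k}, W m := by
    intro k hk
    obtain ⟨b, hb⟩ := exists_blk hCM.ne hW k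
    subst hb
    exact not_mem_of_fsup h o hW he (b := b) hk
  exact ⟨z, hz, e, he, fs_of h o hb hJ hWi hOt hz hzm' hz1 (nS_one hCM.ne hCM.ind hCM.nS hzm'.1 hz1),
    fs_of h o hb hJ.compl hOt' hWi' he hem he1 (nS_co hCM.ne hCM.ind hCM.nS hem.1 hf)⟩

/-- **with `Left`** -/
theorem exists_fs_left (hB : RB S) (hCM : CM (S : Subgroup G) W) (hL : Left (S : Subgroup G) W)
    (h : Dec (S : Subgroup G) (MZ (S : Subgroup G)) (Wd (S : Subgroup G)) N E ⊥)
    (o : Orbs (MZ (S : Subgroup G)) N E O) (hW : ∀ k, W k = ⨆ b : {b // cls b = k}, N b)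
    (hb : HBad (S : Subgroup G) N O) (i : κ) (hi : ∃ j, j ≠ i) :
    ∃ z ∈ FSup N ⊥ O {b | cls b = i}, ∃ e ∈ FSup N ⊥ O {b | cls b = i}ᶜ,
      FS (S : Subgroup G) (W i) (WideTree.Co W i) z ∧ FS (S : Subgroup G) (WideTree.Co W i) (W i) e ∧
      ∃ A : Subgroup G, KL.TwoS.Mx (o2 (centralizer ({z} : Set G) ⊓ centralizer ({e} : Set G))) A ∧
        ¬ A ≤ centralizer (W i : Set G) := by
  obtain ⟨z, hz, e, he, h1, h2⟩ := exists_fs hB hCM h o hW hb i hi
  exact ⟨z, hz, e, he, h1, h2, hL i z e h1 h2⟩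

end

end Cfsg.Agent.Omega.NOThreeL.RRed.FullSup

end
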