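import Cfsg.Agent.Mrg.Omega.NOThreeL.RRed.LeftPair
import Cfsg.Agent.Mrg.Omega.NOThreeL.RRed.WLeftFldEnd
import Mathlib

section


/-!
# WideTree v5, socket `LeftAll` (#25809 (2), #26343, #26368), helper863

`Left` ⟹ `𝒜(O₂(C_G(Z)))` moves every block: `z, e` vectors of full support of the class `i` and of the other classes,
`D' = C_G(z) ∩ C_G(e)`; some `A ∈ 𝒜(O₂(D'))` moves `W i`; `M₀ ∩ D'` is transitive on the blocks of class `i`;
`𝒜(O₂(D')) ⊆ 𝒜(O₂(C_G(Z)))` (`D'` is long).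
-/

set_option autoImplicit false
set_option linter.unusedSectionVars false

namespace Cfsg.Agent.Omega.NOThreeL.RRed.LeftAllOf

open Subgroup Cfsg Cfsg.Agent.Omega.MinPar Cfsg.Agent.Omega.Frame Cfsg.Agent.Omega.FrameNOFF
open Cfsg.Agent.ZN (zc zl o2 le_normalizer_o2)
open Cfsg.Agent.Omega.ML.Final (MLK)
open Cfsg.Agent.Omega.NoFF.Basic (comm_symm)
open Cfsg.Agent.Omega.NOThreeL.Merge (MZ)
open Cfsg.Agent.Omega.Node.NO3L Cfsg.Agent.Omega.NOThreeL.RTree Cfsg.Agent.Omega.NOThreeL.RTreeF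
open Cfsg.Agent.Omega.NOThreeL.RRed.GlueSig
open Cfsg.Agent.Omega.NOThreeL.RRed.Blk
open Cfsg.Agent.Omega.NOThreeL.RRed.WideTree
open Cfsg.Agent.Omega.NOThreeL.RRed.FullSup
open Cfsg.Agent.Omega.NOThreeL.RRed.LeftPair
open Cfsg.Agent.Omega.NOThreeL.RZ.TwoC.DecE (Orbs)
open scoped Pointwise

universe u v w

variable {G : Type u} [Group G] [Finite G] {S : Sylow 2 G}

/-- **Every block of the class `i` is moved by a member of `𝒜(O₂(C_G(Z)))`.** -/
theorem move_of (ml : MLK.{u, u}) (hR : RB S) {κ : Type u} {W : κ → Subgroup G} (hCM : CM (S : Subgroup G) W)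
    {ι : Type v} [Finite ι] {N E : ι → Subgroup G} {O : ι → Set G} {cls : ι → κ}
    (h : Dec (S : Subgroup G) (MZ (S : Subgroup G)) (Wd (S : Subgroup G)) N E ⊥)
    (o : Orbs (MZ (S : Subgroup G)) N E O) (hW : ∀ k, W k = ⨆ b : {b // cls b = k}, N b) {i : κ} {z e : G}
    (hz : z ∈ FSup N ⊥ O {b | cls b = i}) (he : e ∈ FSup N ⊥ O {b | cls b = i}ᶜ)
    (zz : z ∈ zc (S : Subgroup G)) (ez : e ∈ zc (S : Subgroup G)) (z1 : z ≠ 1) {A : Subgroup G}
    (hA : KL.TwoS.Mx (o2 (centralizer ({z} : Set G) ⊓ centralizer ({e} : Set G))) A)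
    (mv : ¬ A ≤ centralizer (W i : Set G)) {b : ι} (hb : cls b = i) :
    ∃ A : Subgroup G, KL.TwoS.Mx (o2 (centralizer (zc (S : Subgroup G) : Set G))) A ∧ ¬ A ≤ centralizer (N b : Set G) := by
  have hJ := inv_cls h hW hCM.inv i
  obtain ⟨c, hc⟩ : ∃ c : {c // cls c = i}, ¬ A ≤ centralizer (N c : Set G) := by
    by_contra hcon
    push Not at hcon
    refine mv ?_
    rw [hW]
    exact comm_symm (iSup_le fun c => comm_symm (hcon c))
  have horb : ∃ y ∈ MZ (S : Subgroup G), MulAut.conj y • N c = N b := by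
    refine orb_of_irr h {b | cls b = i} (fun X hX hn hne => ?_)
      (fun g hg b c hbc hb => hJ g hg b hb c hbc) c.2 hb
    have h1 := hCM.irr i X (by rw [hW]; exact hX) hn hne
    rw [hW] at h1
    exact h1
  obtain ⟨k, hk, hkb⟩ := tr_of h o hJ hz he horb
  have hkD : k ∈ centralizer ({z} : Set G) ⊓ centralizer ({e} : Set G) := mem_inf.2 ⟨hk.1.2, hk.2⟩
  refine ⟨MulAut.conj k • A, mx_long ml hR.ctx (isLong_pair zz ez z1) (hA.conj ?_), fun h1 => hc ?_⟩
  · rintro _ ⟨a, ha, rfl⟩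
    exact conj_of (le_normalizer_o2 _ hkD) (hA.le ha)
  · intro a ha
    rw [mem_centralizer_iff]
    intro n hn
    have h2 : k * a * k⁻¹ ∈ MulAut.conj k • A := (conj_smul rfl).1 ha
    have h3 : k * n * k⁻¹ ∈ N b := by
      rw [← hkb]
      exact (conj_smul rfl).1 hn
    have h4 := mem_centralizer_iff.1 (h1 h2) _ h3
    have e1 : k * n * k⁻¹ * (k * a * k⁻¹) = k * (n * a) * k⁻¹ := by group
    have e2 : k * a * k⁻¹ * (k * n * k⁻¹) = k * (a * n) * k⁻¹ := by group
    rw [e1, e2] at h4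
    exact mul_left_cancel (mul_right_cancel h4)

/-- `𝒜(O)` moves every block, over any block data with `HBad` -/
theorem allB_of (ml : MLK.{u, u}) (hR : RB S) {κ : Type u} {W : κ → Subgroup G} (hCM : CM (S : Subgroup G) W)
    (hij : ∃ i j : κ, i ≠ j) (hL : Left (S : Subgroup G) W) {ι : Type u} [Finite ι] {N E : ι → Subgroup G}
    {O : ι → Set G} {cls : ι → κ}
    (h : Dec (S : Subgroup G) (MZ (S : Subgroup G)) (Wd (S : Subgroup G)) N E ⊥)
    (o : Orbs (MZ (S : Subgroup G)) N E O) (hW : ∀ k, W k = ⨆ b : {b // cls b = k}, N b)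
    (hb : HBad (S : Subgroup G) N O) : AllB (S : Subgroup G) N := by
  intro b
  have hi : ∃ j, j ≠ cls b := by
    obtain ⟨i, j, hij⟩ := hij
    by_cases hi : i = cls b
    · exact ⟨j, fun e => hij (by rw [hi, e])⟩
    · exact ⟨i, hi⟩
  obtain ⟨z, hz, e, he, h1, h2, A, hA, mv⟩ := exists_fs_left hR hCM hL h o hW hb (cls b) hi
  exact move_of ml hR hCM h o hW hz he h1.mem.2 h2.mem.2 h1.ne hA mv rfl

/-- **socket `LeftAll` of WideTree v5**, from `bad` for natural blocks -/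
theorem leftAll_of (ml : MLK.{u, u}) (B : Fr.{u})
    (hb : ∀ (G : Type u) [Group G] [Finite G] (S : Sylow 2 G), B G S → Wide S →
      ∀ (κ : Type u) [Finite κ] (N E D l : κ → Subgroup G) (q : κ → ℕ), NBs (S : Subgroup G) N E D l q →
        Src (S : Subgroup G) N l q → HBad (S : Subgroup G) N (fun b => {x | x ∈ N b ∧ x ≠ 1})) :
    LeftAll B := by
  intro G _ _ S hB hW _ ι _ W hCM hij hL κ _ N E D l q side hN hsrc hfit
  exact allB_of ml hW.toRB hCM hij hL hN.dec (nbs_orbs hN) (fun k => hfit k) (hb G S hB hW κ N E D l q hN hsrc)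

end Cfsg.Agent.Omega.NOThreeL.RRed.LeftAllOf

end

section


/-!
# LEMMA E in coordinates (#24934, #27311 (3)), helper863

`N ≅ F²` (`e`), `A` acts on `N` as the full root group `up β`; `d` of odd order normalises `N`, `A^d` acts by root
elements, `d` fixes some `z ≠ 1` in `N` which `A` centralises, and `[a, d]` commutes with `[d, w]` for `a ∈ A`, `w ∈ N`:
then `d` centralises `N`.
-/

set_option autoImplicit false

namespace Cfsg.Agent.Omega.NOThreeL.RRed.LemmaE

open Subgroup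

universe u

variable {G : Type u} [Group G] {F : Type} [Field F]

/-- `a` acts on `N` as `up β` -/
def Up (N : Subgroup G) (e : G → Fin 2 → F) (a : G) (β : F) : Prop :=
  ∀ v ∈ N, e (a * v * a⁻¹) = ![e v 0 + β * e v 1, e v 1]

variable {N : Subgroup G} {e : G → Fin 2 → F} (mul : ∀ v ∈ N, ∀ w ∈ N, e (v * w) = e v + e w)
  (inj : ∀ v ∈ N, e v = 0 → v = 1)

include mul in
theorem e_one : e 1 = 0 := by
  have h := mul 1 (one_mem _) 1 (one_mem _)
  rw [mul_one] at h
  exact left_eq_add.1 h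

include mul in
theorem e_inv {v : G} (hv : v ∈ N) : e v⁻¹ = - e v := by
  have h := mul v hv v⁻¹ (inv_mem hv)
  rw [mul_inv_cancel, e_one mul] at h
  exact (neg_eq_of_add_eq_zero_right h.symm).symm

include mul inj in
theorem e_inj {v w : G} (hv : v ∈ N) (hw : w ∈ N) (h : e v = e w) : v = w := by
  have h1 := inj (v * w⁻¹) (mul_mem hv (inv_mem hw)) (by rw [mul v hv _ (inv_mem hw), e_inv mul hw, h, add_neg_cancel])
  exact mul_inv_eq_one.1 h1

include mul in
theorem e_pow {v : G} (hv : v ∈ N) (n : ℕ) : e (v ^ n) = n • e v := by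
  induction n with
  | zero => rw [pow_zero, zero_smul, e_one mul]
  | succ n ih => rw [pow_succ, mul _ (pow_mem hv n) _ hv, ih, succ_nsmul]

/-- **LEMMA E.** -/
theorem mem_cent [CharP F 2] [Finite G] (mul : ∀ v ∈ N, ∀ w ∈ N, e (v * w) = e v + e w)
    (inj : ∀ v ∈ N, e v = 0 → v = 1) (sur : ∀ x, ∃ v ∈ N, e v = x) {A : Subgroup G}
    (AN : A ≤ normalizer (N : Set G)) (all : ∀ β, ∃ a ∈ A, Up N e a β) {d : G} (dN : d ∈ normalizer (N : Set G))
    (act' : ∀ a ∈ A, ∃ β, Up N e (d * a * d⁻¹) β) (hodd : Odd (orderOf d)) {z : G} (hz : z ∈ N) (hz1 : z ≠ 1)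
    (dz : d * z * d⁻¹ = z) (zA : ∀ a ∈ A, a * z * a⁻¹ = z)
    (comm : ∀ a ∈ A, ∀ w ∈ N, (a * d * a⁻¹ * d⁻¹) * (d * w * d⁻¹ * w⁻¹) =
      (d * w * d⁻¹ * w⁻¹) * (a * d * a⁻¹ * d⁻¹)) : d ∈ centralizer (N : Set G) := by
  classical
  have dn : ∀ v ∈ N, d * v * d⁻¹ ∈ N := fun v hv => (mem_normalizer_iff.1 dN v).1 hv
  have an : ∀ a ∈ A, ∀ v ∈ N, a * v * a⁻¹ ∈ N := fun a ha v hv => (mem_normalizer_iff.1 (AN ha) v).1 hv
  -- (ii) the line is `d`-invariant
  have hl : ∀ v ∈ N, e v 1 = 0 → e (d * v * d⁻¹) 1 = 0 := by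
    intro v hv h0
    obtain ⟨a, ha, hup⟩ := all 1
    obtain ⟨β, hβ⟩ := act' a ha
    have hβ0 : β ≠ 0 := by
      rintro rfl
      obtain ⟨w, hw, hw'⟩ := sur ![0, 1]
      have h1 := hβ _ (dn w hw)
      rw [zero_mul, add_zero] at h1
      have h2 : e (d * a * d⁻¹ * (d * w * d⁻¹) * (d * a * d⁻¹)⁻¹) = e (d * w * d⁻¹) := by
        rw [h1]; funext i; fin_cases i <;> rfl
      have e1 : d * a * d⁻¹ * (d * w * d⁻¹) * (d * a * d⁻¹)⁻¹ = d * (a * w * a⁻¹) * d⁻¹ := by group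
      rw [e1] at h2
      have h3 := e_inj mul inj (dn _ (an a ha w hw)) (dn w hw) h2
      have h4 : a * w * a⁻¹ = w := mul_left_cancel (mul_right_cancel h3)
      have h5 := congrFun (hup w hw) 0
      rw [h4, hw'] at h5
      simp at h5
    have h1 : a * v * a⁻¹ = v := by
      refine e_inj mul inj (an a ha v hv) hv ?_
      rw [hup v hv, h0]
      funext i
      fin_cases i
      · simp
      · simpa using h0.symm
    have h2 := congrFun (hβ _ (dn v hv)) 0
    have e1 : d * a * d⁻¹ * (d * v * d⁻¹) * (d * a * d⁻¹)⁻¹ = d * (a * v * a⁻¹) * d⁻¹ := by group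
    rw [e1, h1] at h2
    have h3 : β * e (d * v * d⁻¹) 1 = 0 := by
      have h4 : e (d * v * d⁻¹) 0 = e (d * v * d⁻¹) 0 + β * e (d * v * d⁻¹) 1 := h2
      exact (left_eq_add.1 h4)
    exact (mul_eq_zero.1 h3).resolve_left hβ0
  choose s hsN hs using sur
  set mu : F → F := fun x => e (d * s ![0, x] * d⁻¹) 1 with hmu
  set la : F → F := fun x => e (d * s ![x, 0] * d⁻¹) 0 with hla
  have hla' : ∀ v ∈ N, e v 1 = 0 → e (d * v * d⁻¹) 0 = la (e v 0) := by
    intro v hv h0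
    have h1 : v = s ![e v 0, 0] := by
      refine e_inj mul inj hv (hsN _) ?_
      rw [hs]
      funext i
      fin_cases i
      · rfl
      · exact h0
    rw [hla]
    show e (d * v * d⁻¹) 0 = e (d * s ![e v 0, 0] * d⁻¹) 0
    rw [← h1]
  have hmu' : ∀ v ∈ N, e (d * v * d⁻¹) 1 = mu (e v 1) := by
    intro v hv
    have h1 : v = s ![e v 0, 0] * s ![0, e v 1] := by
      refine e_inj mul inj hv (mul_mem (hsN _) (hsN _)) ?_
      rw [mul _ (hsN _) _ (hsN _), hs, hs]
      funext i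
      fin_cases i <;> simp
    have h2 : d * v * d⁻¹ = (d * s ![e v 0, 0] * d⁻¹) * (d * s ![0, e v 1] * d⁻¹) := by
      conv_lhs => rw [h1]
      group
    rw [h2, mul _ (dn _ (hsN _)) _ (dn _ (hsN _)), Pi.add_apply, hl _ (hsN _) (by rw [hs]; rfl), zero_add]
  -- (iv)
  have rel : ∀ β, ∃ β', (∀ x, la (β * x) = β' * mu x) ∧ ∀ x, (β - β') * (mu x - x) = 0 := by
    intro β
    obtain ⟨a, ha, hup⟩ := all β
    obtain ⟨β', hβ'⟩ := act' a ha
    refine ⟨β', fun x => ?_, fun x => ?_⟩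
    · set v := s ![0, x] with hv
      have hvN : v ∈ N := hsN _
      have hv0 : e v 0 = 0 := by rw [hv, hs]; rfl
      have hv1 : e v 1 = x := by rw [hv, hs]; rfl
      set n := a * v * a⁻¹ * v⁻¹ with hn
      have hnN : n ∈ N := mul_mem (an a ha v hvN) (inv_mem hvN)
      have hen : e n = ![β * x, 0] := by
        rw [hn, mul _ (an a ha v hvN) _ (inv_mem hvN), e_inv mul hvN, hup v hvN]
        funext i
        fin_cases i
        · simp [hv1]
        · simp
      have h1 := hβ' _ (dn v hvN)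
      have e1 : d * a * d⁻¹ * (d * v * d⁻¹) * (d * a * d⁻¹)⁻¹ = (d * n * d⁻¹) * (d * v * d⁻¹) := by
        rw [hn]; group
      rw [e1, mul _ (dn _ hnN) _ (dn _ hvN)] at h1
      have h2 := congrFun h1 0
      have h3 : e (d * n * d⁻¹) 0 + e (d * v * d⁻¹) 0 = e (d * v * d⁻¹) 0 + β' * e (d * v * d⁻¹) 1 := h2
      rw [hla' n hnN (by rw [hen]; rfl), hmu' v hvN, hen, hv1, add_comm] at h3
      exact add_left_cancel h3
    · set w := s ![0, x] with hw
      have hwN : w ∈ N := hsN _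
      have hw1 : e w 1 = x := by rw [hw, hs]; rfl
      set y := d * w * d⁻¹ * w⁻¹ with hy
      have hyN : y ∈ N := mul_mem (dn w hwN) (inv_mem hwN)
      have hy1 : e y 1 = mu x - x := by
        rw [hy, mul _ (dn w hwN) _ (inv_mem hwN), e_inv mul hwN, Pi.add_apply, hmu' w hwN, Pi.neg_apply, hw1]
        ring
      have hc := comm a ha w hwN
      rw [← hy] at hc
      set y' := a⁻¹ * y * a with hy'
      have hy'N : y' ∈ N := by
        have := an a⁻¹ (inv_mem ha) y hyN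
        rwa [inv_inv] at this
      have h1 : a * y' * a⁻¹ = y := by rw [hy']; group
      have h2 : d * a * d⁻¹ * y' * (d * a * d⁻¹)⁻¹ = y := by
        have h3 : (a * d * a⁻¹ * d⁻¹) * y * (a * d * a⁻¹ * d⁻¹)⁻¹ = y := by rw [hc]; group
        have h4 : d * a⁻¹ * d⁻¹ * y * (d * a * d⁻¹) = y' := by
          have e2 : (a * d * a⁻¹ * d⁻¹) * y * (a * d * a⁻¹ * d⁻¹)⁻¹ = a * (d * a⁻¹ * d⁻¹ * y * (d * a * d⁻¹)) * a⁻¹ := by
            group
          rw [e2] at h3
          calc d * a⁻¹ * d⁻¹ * y * (d * a * d⁻¹) = a⁻¹ * (a * (d * a⁻¹ * d⁻¹ * y * (d * a * d⁻¹)) * a⁻¹) * a := by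
                group
            _ = a⁻¹ * y * a := by rw [h3]
        rw [← h4]
        group
      have h5 := hup y' hy'N
      have h6 := hβ' y' hy'N
      rw [h1] at h5
      rw [h2, h5] at h6
      have h7 := congrFun h6 0
      have h8 : e y' 0 + β * e y' 1 = e y' 0 + β' * e y' 1 := h7
      have h9 : e y' 1 = mu x - x := by
        have h10 := congrFun h5 1
        rw [← hy1]
        exact h10.symm
      rw [h9] at h8
      have h11 := add_left_cancel h8
      rw [sub_mul, h11, sub_self]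
  -- `z`
  have hz1' : e z 1 = 0 := by
    obtain ⟨a, ha, hup⟩ := all 1
    have h1 := congrFun (hup z hz) 0
    rw [zA a ha] at h1
    have h2 : e z 0 = e z 0 + 1 * e z 1 := h1
    rw [one_mul] at h2
    exact left_eq_add.1 h2
  have hz0 : e z 0 ≠ 0 := fun h0 => hz1 (inj z hz (by funext i; fin_cases i; exacts [h0, hz1']))
  have hlz : la (e z 0) = e z 0 := by rw [← hla' z hz hz1', dz]
  set ζ := e z 0 with hζ
  -- (vi)
  have hmuid : ∀ x, mu x = x := by
    by_contra hcon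
    push Not at hcon
    obtain ⟨x, hx⟩ := hcon
    have hb : ∀ β y, la (β * y) = β * mu y := fun β y => by
      obtain ⟨β', h1, h2⟩ := rel β
      have h3 := (mul_eq_zero.1 (h2 x)).resolve_right (sub_ne_zero.2 hx)
      rw [h1, sub_eq_zero.1 h3]
    have h1 : mu 1 = 1 := by
      have h2 := hb ζ 1
      rw [mul_one, hlz] at h2
      exact mul_left_cancel₀ hz0 (by rw [← h2, mul_one])
    have h2 : ∀ β, la β = β := fun β => by
      have := hb β 1
      rwa [mul_one, h1, mul_one] at this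
    have h3 := hb 1 x
    rw [one_mul, one_mul, h2] at h3
    exact hx h3.symm
  have hlaid : ∀ x, la x = x := by
    intro x
    obtain ⟨β', h1, -⟩ := rel ζ
    have h2 := h1 1
    rw [mul_one, hlz, hmuid, mul_one] at h2
    have h3 := h1 (ζ⁻¹ * x)
    rw [mul_inv_cancel_left₀ hz0, hmuid, ← h2, mul_inv_cancel_left₀ hz0] at h3
    exact h3
  -- (vii)
  rw [mem_centralizer_iff]
  intro w hw
  set n := d * w * d⁻¹ * w⁻¹ with hn
  have hnN : n ∈ N := mul_mem (dn w hw) (inv_mem hw)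
  have hn1 : e n 1 = 0 := by
    rw [hn, mul _ (dn w hw) _ (inv_mem hw), e_inv mul hw, Pi.add_apply, hmu' w hw, hmuid, Pi.neg_apply, add_neg_cancel]
  have hdn : d * n * d⁻¹ = n := by
    refine e_inj mul inj (dn n hnN) hnN ?_
    funext i
    fin_cases i
    · show e (d * n * d⁻¹) 0 = e n 0
      rw [hla' n hnN hn1, hlaid]
    · show e (d * n * d⁻¹) 1 = e n 1
      rw [hmu' n hnN, hmuid]
  have hpow : ∀ k : ℕ, d ^ k * w * (d ^ k)⁻¹ = n ^ k * w := by
    intro k
    induction k with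
    | zero => simp
    | succ k ih =>
      have h1 : d ^ (k + 1) * w * (d ^ (k + 1))⁻¹ = d * (d ^ k * w * (d ^ k)⁻¹) * d⁻¹ := by
        rw [pow_succ']; group
      have h2 : d * (n ^ k) * d⁻¹ = n ^ k := by
        rw [← conj_pow, hdn]
      have h3 : d * w * d⁻¹ = n * w := by rw [hn]; group
      calc d ^ (k + 1) * w * (d ^ (k + 1))⁻¹ = d * (n ^ k * w) * d⁻¹ := by rw [h1, ih]
        _ = (d * n ^ k * d⁻¹) * (d * w * d⁻¹) := by group
        _ = n ^ (k + 1) * w := by rw [h2, h3, pow_succ]; exact (mul_assoc _ _ _).symm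
  have h1 := hpow (orderOf d)
  rw [pow_orderOf_eq_one, one_mul, inv_one, mul_one] at h1
  have h2 : n ^ orderOf d = 1 := (right_eq_mul.1 h1)
  have h3 : e n = 0 := by
    have h4 := e_pow mul hnN (orderOf d)
    rw [h2, e_one mul] at h4
    obtain ⟨m, hm⟩ := hodd
    rw [hm] at h4
    funext i
    have h5 := congrFun h4 i
    rw [Pi.zero_apply, Pi.smul_apply, nsmul_eq_mul, Nat.cast_add, Nat.cast_mul, Nat.cast_ofNat,
      CharTwo.two_eq_zero, zero_mul, zero_add, Nat.cast_one, one_mul] at h5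
    rw [← h5, Pi.zero_apply]
  have h6 := inj n hnN h3
  rw [hn, mul_inv_eq_one, mul_inv_eq_iff_eq_mul] at h6
  exact h6.symm

end Cfsg.Agent.Omega.NOThreeL.RRed.LemmaE

end
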