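import Cfsg.Agent.Mrg.Omega.NOThreeL.RRed.Two
import Cfsg.Agent.Mrg.Omega.NOThreeL.RRed.LThree
import Cfsg.Agent.Mrg.Omega.NOThreeL.VF.One
import Cfsg.Agent.Mrg.Omega.FFBr.Final
import Cfsg.Agent.Mrg.Omega.NOThreeL.RZ.Frame

section


/-!
# NO-3L, box R, smallest shape: L7 of #21468 (the second line)

* `noOverM_of_opt` : an exact optimal offender on `V` excludes over-offenders;
* `EE S t` : the elements of `V*` centralised by all `t^m`, `m ∈ MZ S`; `EE ∩ Z = ⟨v₂⟩`;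
* `Sd.l7_of` : `⟨v₂^(Y_2)⟩` is a four-group normalised by all of `P*(S)`.
-/

set_option autoImplicit false
set_option linter.unusedSectionVars false

namespace Cfsg.Agent.Omega.NOThreeL.RRed

open Subgroup Cfsg Cfsg.Agent.ZN Cfsg.Agent.Omega.MinPar Cfsg.Agent.Omega.Frame Cfsg.Agent.Omega.FrameNOFF
open Cfsg.Agent.Omega.Node.NO3L Cfsg.Agent.Omega.NOThreeL.Basic Cfsg.Agent.Omega.NOThreeL.RTree
open Cfsg.Agent.Omega.NOThreeL.Merge (MZ)
open Cfsg.Agent.Omega.NOThreeL.ZCut (FZ YZ XZ VZ)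
open Cfsg.Agent.Omega.NOThreeL.Star (Opt Ok ff)
open Cfsg.Agent.Omega.NO3b.Bang (bang)
open Cfsg.Agent.Omega.FFThm (ElemM OffM NoOverM)

universe u

variable {G : Type u} [Group G]

/-- An exact optimal offender on `V` excludes over-offenders. -/
theorem noOverM_of_opt [Finite G] {V A C : Subgroup G} (hC : C ≤ normalizer (V : Set G)) (h : Opt V A)
    (he : (centralizer (A : Set G)).relIndex V = (centralizer (V : Set G)).relIndex A) : NoOverM V C := by
  intro B hB hE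
  obtain ⟨B', hB', h2, hc⟩ := VF.exists_two (hB.trans hC) hE
  have h1 : VF.fM V B' = VF.fM V B := VF.fM_congr hB' hc
  rw [← VF.fM_le_iff, ← h1]
  have h3 : ff V B' ≤ ff V A := h.max B' ⟨VF.elemM_mono hE hB', h2, hB'.trans (hB.trans hC)⟩
  have h4 : ff V A = Nat.card V := by
    unfold ff
    rw [← he]
    exact Star.rel_mul_card V (centralizer (A : Set G))
  exact h3.trans h4.le

/-- The elements of `V*` centralised by all `t^m`. -/
def EE (S : Subgroup G) (t : G) : Subgroup G :=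
  zl S (MZ S) ⊓ centralizer {x | ∃ m ∈ MZ S, x = m * t * m⁻¹}

theorem mem_EE {S : Subgroup G} {t w : G} :
    w ∈ EE S t ↔ w ∈ zl S (MZ S) ∧ ∀ m ∈ MZ S, m * t * m⁻¹ * w = w * (m * t * m⁻¹) := by
  unfold EE
  rw [mem_inf, mem_centralizer_iff]
  constructor
  · rintro ⟨h1, h2⟩
    exact ⟨h1, fun m hm => h2 _ ⟨m, hm, rfl⟩⟩
  · rintro ⟨h1, h2⟩
    refine ⟨h1, ?_⟩
    rintro _ ⟨m, hm, rfl⟩
    exact h2 m hm

theorem conj_mem_EE {S : Subgroup G} {t w g : G} (hg : g ∈ MZ S) (hw : w ∈ EE S t) :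
    g * w * g⁻¹ ∈ EE S t := by
  rw [mem_EE] at hw ⊢
  refine ⟨(mem_normalizer_iff.1 (MinSimple.VModule.le_normalizer_zl S (MZ S) hg) w).1 hw.1, fun m hm => ?_⟩
  have h1 := hw.2 (g⁻¹ * m) (mul_mem (inv_mem hg) hm)
  calc m * t * m⁻¹ * (g * w * g⁻¹) = g * (g⁻¹ * m * t * (g⁻¹ * m)⁻¹ * w) * g⁻¹ := by group
    _ = g * w * g⁻¹ * (m * t * m⁻¹) := by rw [h1]; group

namespace Sd

variable [Finite G] {S : Sylow 2 G} {P₀ : Subgroup G} {v₁ v₂ a t : G} (h : Sd S P₀ v₁ v₂ a t)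

theorem par_le_MZ {S P : Subgroup G} (hP : IsParS S P) : P ≤ MZ S := by
  unfold MZ
  exact le_sSup hP

theorem YZ_le_MZ (S : Subgroup G) (z : G) : YZ S z ≤ MZ S := by
  unfold YZ
  exact sSup_le fun P hP => par_le_MZ hP.1

include h

theorem l7_zc {x : G} (hx : x ∈ zc (S : Subgroup G)) : x = 1 ∨ x = v₁ ∨ x = v₂ ∨ x = v₁ * v₂ := by
  have n1 : v₁ * v₂ ≠ 1 := fun e => h.ln.ne (by
    rw [mul_eq_one_iff_eq_inv.1 e]; exact inv_eq_of_mul_eq_one_left h.ln.cc)
  have hsub : ({1, v₁, v₂, v₁ * v₂} : Set G) ⊆ (zc (S : Subgroup G) : Set G) := by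
    rintro y (rfl | rfl | rfl | rfl)
    · exact one_mem _
    · exact h.ln.zS
    · exact h.ln.cS
    · exact mul_mem h.ln.zS h.ln.cS
  have hcard : ({1, v₁, v₂, v₁ * v₂} : Set G).ncard = 4 := by
    have n2 : v₁ ≠ v₁ * v₂ := fun e => h.ln.c1 (by simpa using e.symm)
    have n3 : v₂ ≠ v₁ * v₂ := fun e => h.ln.z1 (by simpa using e.symm)
    rw [Set.ncard_insert_of_notMem, Set.ncard_insert_of_notMem, Set.ncard_pair n3]
    · rintro (e | e)
      · exact h.ln.ne e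
      · exact n2 e
    · rintro (e | e | e)
      · exact h.ln.z1 e.symm
      · exact h.ln.c1 e.symm
      · exact n1 e.symm
  have h4 : (zc (S : Subgroup G) : Set G).ncard = 4 := h.sm.z4
  have e := Set.eq_of_subset_of_ncard_le hsub (by rw [hcard, h4])
  have hx' : x ∈ (zc (S : Subgroup G) : Set G) := hx
  rw [← e] at hx'
  exact hx'

theorem l7_le_norm (hnrm : ∀ R, IsParS (S : Subgroup G) R → R ≤ normalizer (li v₁ a : Set G)) :
    MZ (S : Subgroup G) ≤ normalizer (li v₁ a : Set G) := by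
  unfold MZ
  exact sSup_le fun R hR => hnrm R hR

/-- `v₂ ∈ EE` -/
theorem v₂_mem_EE (hnrm : ∀ R, IsParS (S : Subgroup G) R → R ≤ normalizer (li v₁ a : Set G)) :
    v₂ ∈ EE (S : Subgroup G) t := by
  rw [mem_EE]
  have hvW : v₂ ∈ zl (S : Subgroup G) (MZ (S : Subgroup G)) := MinSimple.VModule.zc_le_zl _ _ h.ln.cS
  refine ⟨hvW, fun m hm => ?_⟩
  have h1 : m * v₁ * m⁻¹ ∈ li v₁ a := (mem_normalizer_iff.1 (h.l7_le_norm hnrm hm) v₁).1 h.ln.z_mem
  have h2 : m * v₁ * m⁻¹ ≠ 1 := fun e => h.ln.z1 (conj_eq_one_iff.1 e)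
  obtain ⟨p, hp, hpe⟩ := h.ln.tr_all h.par.le ((h.ln.mem_li.1 h1).resolve_left h2)
  have hpM : p ∈ MZ (S : Subgroup G) := par_le_MZ h.par hp
  have htM : t ∈ MZ (S : Subgroup G) := par_le_MZ h.par (h.par.le h.tS)
  set x := (p⁻¹ * m) * t * (p⁻¹ * m)⁻¹ with hx
  have hqM : p⁻¹ * m ∈ MZ (S : Subgroup G) := mul_mem (inv_mem hpM) hm
  have hxM : x ∈ MZ (S : Subgroup G) := mul_mem (mul_mem hqM htM) (inv_mem hqM)
  have hxt : Tv (zl (S : Subgroup G) (MZ (S : Subgroup G))) v₁ x := by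
    intro w hw
    have hw' : (p⁻¹ * m)⁻¹ * w * (p⁻¹ * m) ∈ zl (S : Subgroup G) (MZ (S : Subgroup G)) := by
      exact (mem_normalizer_iff''.1 (MinSimple.VModule.le_normalizer_zl (S : Subgroup G) (MZ (S : Subgroup G)) hqM) w).1 hw
    have e0 : x * w * x⁻¹ = (p⁻¹ * m) * (t * ((p⁻¹ * m)⁻¹ * w * (p⁻¹ * m)) * t⁻¹) * (p⁻¹ * m)⁻¹ := by
      rw [hx]; group
    rcases h.tv _ hw' with e | e
    · left; rw [e0, e]; group
    · right
      rw [e0, e]
      calc p⁻¹ * m * ((p⁻¹ * m)⁻¹ * w * (p⁻¹ * m) * v₁) * (p⁻¹ * m)⁻¹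
          = w * (p⁻¹ * (m * v₁ * m⁻¹) * p) := by group
        _ = w * (p⁻¹ * (p * v₁ * p⁻¹) * p) := by rw [hpe]
        _ = w * v₁ := by group
  have hts : t * v₂ = v₂ * t := h.ln.cs h.tS
  have hxv : x * v₂ = v₂ * x := by
    rcases h.uni x hxM hxt with e | e
    · exact (mem_centralizer_iff.1 e v₂ hvW).symm
    · have e1 := mem_centralizer_iff.1 e v₂ hvW
      -- `v₂ x⁻¹ t = x⁻¹ t v₂ = x⁻¹ v₂ t`
      have e2 : v₂ * x⁻¹ * t = x⁻¹ * v₂ * t := by
        calc v₂ * x⁻¹ * t = v₂ * (x⁻¹ * t) := by group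
          _ = x⁻¹ * (t * v₂) := by rw [e1]; group
          _ = x⁻¹ * v₂ * t := by rw [hts]; group
      have e3 := mul_right_cancel e2
      calc x * v₂ = x * (v₂ * x⁻¹) * x := by group
        _ = v₂ * x := by rw [e3]; group
  have hpv : p * v₂ * p⁻¹ = v₂ := h.ln.cP p hp
  have hpv' : p * v₂ = v₂ * p := by
    calc p * v₂ = (p * v₂ * p⁻¹) * p := by group
      _ = v₂ * p := by rw [hpv]
  have e5 : m * t * m⁻¹ = p * x * p⁻¹ := by rw [hx]; group
  rw [e5]
  calc p * x * p⁻¹ * v₂ = p * x * p⁻¹ * (p * v₂ * p⁻¹) := by rw [hpv]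
    _ = p * (x * v₂) * p⁻¹ := by group
    _ = (p * v₂) * x * p⁻¹ := by rw [hxv]; group
    _ = v₂ * (p * x * p⁻¹) := by rw [hpv']; group

/-- `t` moves `a` and `a v₁`. -/
theorem t_mv {x : G} (hx : x ∈ li v₁ a) (hx1 : x ≠ 1) (hxv : x ≠ v₁) : t * x * t⁻¹ ≠ x := by
  have htv : t * v₁ * t⁻¹ = v₁ := by rw [h.ln.zs h.tS]; group
  rcases h.ln.mem_li.1 hx with e | e | e | e
  · exact absurd e hx1
  · exact absurd e hxv
  · rw [e, h.ta]
    intro e1
    exact h.ln.z1 (mul_eq_left.1 e1)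
  · rw [e]
    intro e1
    have e2 : t * (a * v₁) * t⁻¹ = (t * a * t⁻¹) * (t * v₁ * t⁻¹) := by group
    rw [e2, h.ta, htv, mul_assoc, mul_right_inj] at e1
    exact h.ln.z1 (mul_eq_left.1 e1)

theorem v₁_notMem_EE : v₁ ∉ EE (S : Subgroup G) t := by
  intro hv
  obtain ⟨p, hp, hpe⟩ := h.ln.tr
  have h1 := (mem_EE.1 hv).2 p (par_le_MZ h.par hp)
  have h2 : p⁻¹ * v₁ * p ∈ li v₁ a := by
    have := (mem_normalizer_iff''.1 (h.ln.le_normalizer_li h.par.le hp) v₁).1 h.ln.z_mem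
    exact this
  have h3 : p⁻¹ * v₁ * p ≠ 1 := fun e => h.ln.z1 (by
    calc v₁ = p * (p⁻¹ * v₁ * p) * p⁻¹ := by group
      _ = 1 := by rw [e]; group)
  have h4 : p⁻¹ * v₁ * p ≠ v₁ := fun e => h.ln.uz_ne (by
    rw [← hpe]
    calc p * v₁ * p⁻¹ = p * (p⁻¹ * v₁ * p) * p⁻¹ := by rw [e]
      _ = v₁ := by group)
  apply h.t_mv h2 h3 h4
  calc t * (p⁻¹ * v₁ * p) * t⁻¹ = p⁻¹ * (p * t * p⁻¹ * v₁) * (p * t⁻¹) := by group
    _ = p⁻¹ * v₁ * p := by rw [h1]; group

theorem EE_zc (hnrm : ∀ R, IsParS (S : Subgroup G) R → R ≤ normalizer (li v₁ a : Set G)) {x : G}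
    (hx : x ∈ EE (S : Subgroup G) t) (hxz : x ∈ zc (S : Subgroup G)) : x = 1 ∨ x = v₂ := by
  have hv₂ := h.v₂_mem_EE hnrm
  rcases h.l7_zc hxz with e | e | e | e
  · exact Or.inl e
  · exact absurd (e ▸ hx) h.v₁_notMem_EE
  · exact Or.inr e
  · exfalso
    apply h.v₁_notMem_EE
    have h1 := mul_mem hx hv₂
    rwa [e, mul_assoc, h.ln.cc, mul_one] at h1

theorem VZ_le_EE (hnrm : ∀ R, IsParS (S : Subgroup G) R → R ≤ normalizer (li v₁ a : Set G)) :
    VZ (S : Subgroup G) v₂ ≤ EE (S : Subgroup G) t := by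
  unfold VZ
  exact ZCut.XZ_le fun p hp => conj_mem_EE (YZ_le_MZ _ _ hp) (h.v₂_mem_EE hnrm)

/-- a member of `P*(S)` which moves `v₂`: its line contains `v₂`, it centralises `v₁`. -/
theorem l7_line (hcen : ∀ R, IsParS (S : Subgroup G) R →
      R ≤ centralizer ({v₁} : Set G) ∨ R ≤ centralizer ({v₂} : Set G))
    (hnrm : ∀ R, IsParS (S : Subgroup G) R → R ≤ normalizer (li v₁ a : Set G))
    (line : ∀ R, IsParS (S : Subgroup G) R → ∃ z u c, Ln (S : Subgroup G) R z u c)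
    {P : Subgroup G} (hP : P ∈ FZ (S : Subgroup G) v₂) : ∃ b, Ln (S : Subgroup G) P v₂ b v₁ := by
  have hP1 : P ≤ centralizer ({v₁} : Set G) := (hcen P hP.1).resolve_right hP.2
  obtain ⟨z, u, c, L⟩ := line P hP.1
  have hPc : P ≤ centralizer ({c} : Set G) := L.PC
  have hc : c = v₁ := by
    rcases h.l7_zc L.cS with e | e | e | e
    · exact absurd e L.c1
    · exact e
    · exact absurd (e ▸ hPc) hP.2
    · exfalso
      apply hP.2
      intro p hp
      have e1 := mem_centralizer_singleton_iff.1 (hPc hp)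
      have e2 := mem_centralizer_singleton_iff.1 (hP1 hp)
      rw [mem_centralizer_singleton_iff]
      rw [e] at e1
      have e3 : v₁ * (p * v₂) = v₁ * (v₂ * p) := by
        calc v₁ * (p * v₂) = (v₁ * p) * v₂ := by group
          _ = p * (v₁ * v₂) := by rw [← e2]; group
          _ = v₁ * (v₂ * p) := by rw [e1]; group
      exact mul_left_cancel e3
  have hz : z = v₂ := by
    rcases h.l7_zc L.zS with e | e | e | e
    · exact absurd e L.z1
    · exact absurd (e.trans hc.symm) L.ne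
    · exact e
    · exfalso
      -- `z = v₁ v₂` would be in `EE`
      have key : ∀ x, (x = u ∨ x = u * z) → x * v₁ ∈ EE (S : Subgroup G) t := by
        intro x hx
        obtain ⟨p, hp, hpx⟩ := L.tr_all hP.1.le (x := x) (Or.inr hx)
        have e1 : p * v₂ * p⁻¹ = x * v₁ := by
          have e2 : p * v₁ * p⁻¹ = v₁ := by
            rw [mem_centralizer_singleton_iff.1 (hP1 hp)]; group
          have e3 : v₂ = z * v₁ := by
            rw [e, h.ln.zs h.ln.c_S |>.symm, mul_assoc, h.ln.zz, mul_one]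
          calc p * v₂ * p⁻¹ = (p * z * p⁻¹) * (p * v₁ * p⁻¹) := by rw [e3]; group
            _ = x * v₁ := by rw [hpx, e2]
        rw [← e1]
        exact conj_mem_EE (par_le_MZ hP.1 hp) (h.v₂_mem_EE hnrm)
      have h1 := key u (Or.inl rfl)
      have h2 := key (u * z) (Or.inr rfl)
      have hzE : z ∈ EE (S : Subgroup G) t := by
        have h3 := mul_mem h1 h2
        have ev : v₁ * u = u * v₁ := by
          have hu : u ∈ (S : Subgroup G) :=
            hP.1.isLoc.o2_le S (MinSimple.VModule.zc_le _ (hP.1.isLoc.zl_le S h.sm.ctx.char2 L.uV))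
          exact ((MinSimple.VModule.mem_zc.1 h.ln.zS).2.1 u hu).symm
        have e4 : u * v₁ * (u * z * v₁) = z := by
          calc u * v₁ * (u * z * v₁) = u * (v₁ * u) * z * v₁ := by group
            _ = (u * u) * v₁ * z * v₁ := by rw [ev]; group
            _ = v₁ * (z * v₁) := by rw [L.uu]; group
            _ = v₁ * (v₁ * z) := by rw [(MinSimple.VModule.mem_zc.1 L.zS).2.1 v₁ h.ln.z_S]
            _ = z := by rw [← mul_assoc, h.ln.zz, one_mul]
        rwa [e4] at h3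
      rcases h.EE_zc hnrm hzE L.zS with e1 | e1
      · exact L.z1 e1
      · rw [e] at e1
        exact h.ln.z1 (mul_eq_right.1 e1)
  subst hc; subst hz
  exact ⟨u, L⟩

/-- **L7 of #21468** (with L0 as a hypothesis): the second line. -/
theorem l7_of (hcen : ∀ R, IsParS (S : Subgroup G) R →
      R ≤ centralizer ({v₁} : Set G) ∨ R ≤ centralizer ({v₂} : Set G))
    (hnrm : ∀ R, IsParS (S : Subgroup G) R → R ≤ normalizer (li v₁ a : Set G))
    (line : ∀ R, IsParS (S : Subgroup G) R → ∃ z u c, Ln (S : Subgroup G) R z u c)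
    (hSY : (S : Subgroup G) ≤ YZ (S : Subgroup G) v₂)
    (hnn : ¬ NO3b.Bang.NN (S : Subgroup G) (VZ (S : Subgroup G) v₂)) :
    ∃ P₂ b, IsParS (S : Subgroup G) P₂ ∧ Ln (S : Subgroup G) P₂ v₂ b v₁ ∧
      ∀ R, IsParS (S : Subgroup G) R → R ≤ normalizer (li v₂ b : Set G) := by
  have hc := h.sm.ctx.char2
  have hm := h.sm.data.noff
  have hz := h.ln.cS
  obtain ⟨P₂, hP₂, A, hAS, hopt, -, hoff, -, -, hAc, hV, hrel⟩ :=
    ZCut.exists_exact hc hm hz FFBr.aStmt hSY hnn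
  obtain ⟨b, L⟩ := h.l7_line hcen hnrm line hP₂
  have hXZ : XZ v₂ P₂ = li v₂ b := by
    apply le_antisymm
    · exact ZCut.XZ_le fun p hp => L.mem_li.2 (Or.inr (L.orb p hp))
    · unfold li
      rw [closure_le]
      rintro x (rfl | hx)
      · exact ZCut.mem_XZ
      · rw [Set.mem_singleton_iff] at hx
        obtain ⟨p, hp, e⟩ := L.tr
        rw [hx, ← e]
        exact ZCut.conj_mem_XZ hp
  have hcomm := ZCut.VZ_comm (S := S) hc hm hz
  have hsq := ZCut.VZ_sq (S := S) hc hm hz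
  have hYV : YZ (S : Subgroup G) v₂ ≤ normalizer (VZ (S : Subgroup G) v₂ : Set G) := ZCut.le_normalizer_XZ _ _
  have hXV : XZ v₂ P₂ ≤ VZ (S : Subgroup G) v₂ := ZCut.XZ_mono (ZCut.le_YZ hP₂)
  have hbV : b ∈ VZ (S : Subgroup G) v₂ := hXV (hXZ ▸ L.u_mem)
  have hvV : v₂ ∈ VZ (S : Subgroup G) v₂ := ZCut.mem_XZ
  have habel : ∀ x ∈ VZ (S : Subgroup G) v₂, ∀ y ∈ VZ (S : Subgroup G) v₂, x * y = y * x :=
    fun x hx y hy => mem_centralizer_iff.1 (hcomm hy) x hx
  -- the transvection `t₂`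
  obtain ⟨t₂, ht₂, hmv⟩ : ∃ t₂ ∈ A, t₂ * b * t₂⁻¹ ≠ b := by
    by_contra hcon
    push Not at hcon
    apply hoff.ne
    rw [hXZ]
    intro x hx
    rw [mem_centralizer_iff]
    intro y hy
    have e1 : x * v₂ = v₂ * x := L.zs (hAS hx)
    have e2 : x * b = b * x := by
      calc x * b = (x * b * x⁻¹) * x := by group
        _ = b * x := by rw [hcon x hx]
    rcases L.mem_li.1 hy with e | e | e | e
    · rw [e, one_mul, mul_one]
    · rw [e, e1]
    · rw [e, e2]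
    · rw [e, mul_assoc, ← e1, ← mul_assoc, ← e2, mul_assoc]
  have ht₂S : t₂ ∈ (S : Subgroup G) := hAS ht₂
  have ht₂b : t₂ * b * t₂⁻¹ = b * v₂ := (L.us t₂ ht₂S).resolve_left hmv
  have htv₂ : t₂ * v₂ * t₂⁻¹ = v₂ := by rw [L.zs ht₂S]; group
  have htv : ∀ w ∈ VZ (S : Subgroup G) v₂, t₂ * w * t₂⁻¹ = w ∨ t₂ * w * t₂⁻¹ = w * v₂ := by
    let K : Subgroup G :=
      { carrier := {w | w ∈ VZ (S : Subgroup G) v₂ ∧ (t₂ * w * t₂⁻¹ = w ∨ t₂ * w * t₂⁻¹ = w * v₂)}
        one_mem' := ⟨one_mem _, Or.inl (by group)⟩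
        mul_mem' := by
          rintro x y ⟨hx, hx'⟩ ⟨hy, hy'⟩
          refine ⟨mul_mem hx hy, ?_⟩
          have e0 : t₂ * (x * y) * t₂⁻¹ = (t₂ * x * t₂⁻¹) * (t₂ * y * t₂⁻¹) := by group
          have e1 : v₂ * y = y * v₂ := habel _ hvV _ hy
          rcases hx' with e | e <;> rcases hy' with e' | e'
          · left; rw [e0, e, e']
          · right; rw [e0, e, e', mul_assoc]
          · right; rw [e0, e, e', mul_assoc, e1, mul_assoc]
          · left
            rw [e0, e, e']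
            calc x * v₂ * (y * v₂) = x * (v₂ * y) * v₂ := by group
              _ = x * y * (v₂ * v₂) := by rw [e1]; group
              _ = x * y := by rw [L.zz, mul_one]
        inv_mem' := by
          rintro x ⟨hx, hx'⟩
          have e1 : x⁻¹ = x := inv_eq_of_mul_eq_one_left (by rw [← pow_two]; exact hsq x hx)
          change x⁻¹ ∈ _ ∧ _
          rw [e1]
          exact ⟨hx, hx'⟩ }
    have hK : VZ (S : Subgroup G) v₂ ≤ K := by
      rw [hV]
      refine sup_le ?_ ?_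
      · intro x hx
        refine ⟨hXV hx, ?_⟩
        rw [hXZ] at hx
        rcases L.mem_li.1 hx with e | e | e | e
        · left; rw [e]; group
        · left; rw [e, htv₂]
        · right; rw [e, ht₂b]
        · right
          rw [e]
          calc t₂ * (b * v₂) * t₂⁻¹ = (t₂ * b * t₂⁻¹) * (t₂ * v₂ * t₂⁻¹) := by group
            _ = b * v₂ * v₂ := by rw [ht₂b, htv₂]
      · intro x hx
        refine ⟨hx.1, Or.inl ?_⟩
        have := mem_centralizer_iff.1 hx.2 t₂ ht₂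
        rw [this]; group
    exact fun w hw => (hK hw).2
  obtain ⟨p, hp, hpb⟩ := L.tr
  have hpY : p ∈ YZ (S : Subgroup G) v₂ := ZCut.le_YZ hP₂ hp
  have D : TOne.Dat (YZ (S : Subgroup G) v₂) (VZ (S : Subgroup G) v₂) v₂ b t₂ p :=
    { comm := habel
      sq := fun w hw => by rw [← pow_two]; exact hsq w hw
      nor := fun c hc' w hw => (mem_normalizer_iff.1 (hYV hc') w).1 hw
      no := noOverM_of_opt hYV hopt hrel
      mr := hvV
      mu := hbV
      ht := hSY ht₂S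
      tv := htv
      tu := ht₂b
      hp := hpY
      pr := hpb
      pr' := by
        have h1 := L.orb p⁻¹ (inv_mem hp)
        rw [inv_inv] at h1
        rcases h1 with e | e | e
        · exfalso
          apply L.uz_ne
          rw [← hpb]
          calc p * v₂ * p⁻¹ = p * (p⁻¹ * v₂ * p) * p⁻¹ := by rw [e]
            _ = v₂ := by group
        · exact Or.inl e
        · exact Or.inr (by rw [e, L.uz])
      ru := fun e => L.uz_ne e.symm
      u1 := L.u1 }
  have I : LThree.In (S : Subgroup G) (YZ (S : Subgroup G) v₂) (VZ (S : Subgroup G) v₂) t₂ v₂ b 1 :=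
    { SM := hSY
      S2 := S.isPGroup'
      Si := MinSimple.Basic.not_dvd_relIndex S hSY
      Wab := habel
      Wsq := D.sq
      MW := D.nor
      v1W := hvV
      fix := by
        intro x hx hs
        have hxz : x ∈ zc (S : Subgroup G) :=
          MinSimple.VModule.mem_zc.2 ⟨ZCut.VZ_le hc hm hz hSY hx, hs, hsq x hx⟩
        rcases h.EE_zc hnrm (h.VZ_le_EE hnrm hx) hxz with e | e
        · exact Or.inl e
        · exact Or.inr (Or.inl e)
      v1 := h.ln.c1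
      s1 := fun s hs => L.zs hs
      s2 := fun s _ => by group
      tS := ht₂S
      tW := htv
      ta := hmv
      a_mem := ⟨p, hpY, by group, hpb.symm⟩
      sa := fun s hs => by
        rcases L.us s hs with e | e
        · exact Or.inl e
        · exact Or.inr (by rw [e, L.uz])
      T1 := fun x hx hxt => D.tone hx hxt }
  have hVle : VZ (S : Subgroup G) v₂ ≤ li v₂ b := by
    have h1 : VZ (S : Subgroup G) v₂ ≤ LThree.In.NN (YZ (S : Subgroup G) v₂) v₂ 1 := by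
      refine ZCut.XZ_le fun q hq => ?_
      exact subset_closure ⟨q, LThree.In.mem_CC.2 ⟨hq, by group⟩, rfl⟩
    intro w hw
    rw [L.mem_li]
    rcases I.four w (h1 hw) with e | e | e | e
    · exact Or.inl e
    · exact Or.inr (Or.inl e)
    · exact Or.inr (Or.inr (Or.inl e))
    · exact Or.inr (Or.inr (Or.inr (by rw [e, L.uz])))
  have hVeq : VZ (S : Subgroup G) v₂ = li v₂ b := le_antisymm hVle (hXZ ▸ hXV)
  rw [hVeq] at hYV
  refine ⟨P₂, b, hP₂.1, L, fun R hR => ?_⟩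
  by_cases hRz : R ≤ centralizer ({v₂} : Set G)
  swap
  · exact (ZCut.le_YZ ⟨hR, hRz⟩).trans hYV
  -- `R` moves `v₁`
  have hRv : ∃ r ∈ R, r * v₁ * r⁻¹ ≠ v₁ := by
    by_contra hcon
    push Not at hcon
    apply hR.not_zc
    refine le_trans ?_ (centralizer_le_normalizer _)
    intro r hr
    have e1 : r * v₁ = v₁ * r := by
      calc r * v₁ = (r * v₁ * r⁻¹) * r := by group
        _ = v₁ * r := by rw [hcon r hr]
    have e2 : r * v₂ = v₂ * r := mem_centralizer_singleton_iff.1 (hRz hr)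
    rw [mem_centralizer_iff]
    intro x hx
    rcases h.l7_zc hx with e | e | e | e
    · rw [e, one_mul, mul_one]
    · rw [e, e1]
    · rw [e, e2]
    · rw [e, mul_assoc, ← e2, ← mul_assoc, ← e1, mul_assoc]
  obtain ⟨r, hr, hrv⟩ := hRv
  have hxl : r * v₁ * r⁻¹ ∈ li v₁ a := (mem_normalizer_iff.1 (hnrm R hR hr) v₁).1 h.ln.z_mem
  have htR : t ∉ o2 R := by
    intro ht
    have h1 : r⁻¹ * t * r ∈ (S : Subgroup G) :=
      hR.isLoc.o2_le S ((mem_normalizer_iff''.1 (MinSimple.VModule.le_normalizer_o2 R hr) t).1 ht)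
    have h2 := h.ln.zs h1
    refine h.t_mv hxl (fun e => h.ln.z1 (conj_eq_one_iff.1 e)) hrv ?_
    calc t * (r * v₁ * r⁻¹) * t⁻¹ = r * (r⁻¹ * t * r * v₁) * (r⁻¹ * t⁻¹) := by group
      _ = r * v₁ * r⁻¹ := by rw [h2]; group
  have hSR : (S : Subgroup G) ≤ R := hR.le
  set N : Subgroup G := closure {y | ∃ r ∈ R, y = r * t * r⁻¹} with hN
  have hNR : N ≤ R := by
    rw [hN, closure_le]
    rintro _ ⟨q, hq, rfl⟩
    exact mul_mem (mul_mem hq (hSR h.tS)) (inv_mem hq)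
  have key : ∀ g ∈ R, ∀ x ∈ N, g * x * g⁻¹ ∈ N := by
    intro g hg
    have h1 : N ≤ N.comap (MulAut.conj g).toMonoidHom := by
      conv_lhs => rw [hN]
      rw [closure_le]
      rintro _ ⟨q, hq, rfl⟩
      change g * (q * t * q⁻¹) * g⁻¹ ∈ N
      exact subset_closure ⟨g * q, mul_mem hg hq, by group⟩
    exact fun x hx => h1 hx
  have hNn : R ≤ normalizer (N : Set G) := by
    intro g hg
    rw [mem_normalizer_iff]
    intro x
    refine ⟨key g hg x, fun hx => ?_⟩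
    have h1 := key g⁻¹ (inv_mem hg) _ hx
    have e : g⁻¹ * (g * x * g⁻¹) * g⁻¹⁻¹ = x := by group
    rwa [e] at h1
  have htN : t ∈ N := subset_closure ⟨1, one_mem _, by group⟩
  rcases hR.toIsPar.sup_eq_or_inf_le S hNR hNn with h1 | h1
  · rw [← h1]
    refine sup_le ?_ (hSY.trans hYV)
    refine le_trans ?_ (centralizer_le_normalizer _)
    rw [hN, closure_le]
    rintro _ ⟨q, hq, rfl⟩
    rw [SetLike.mem_coe, mem_centralizer_iff]
    intro w hw
    have hwE : w ∈ EE (S : Subgroup G) t := h.VZ_le_EE hnrm (by rw [hVeq]; exact hw)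
    exact ((mem_EE.1 hwE).2 q (par_le_MZ hR hq)).symm
  · exact absurd (h1 ⟨h.tS, htN⟩) htR

end Sd

end Cfsg.Agent.Omega.NOThreeL.RRed

end

section


/-!
# NO-3L, box R, smallest shape: `RR S = 1` in place of (RC')

* `Sd.par_eq` : a member `R` of `P*(S)` which centralises `v₂` is `C_R(EE S t) S`;
* `Sd.not_nn` : `RR S = 1` implies that `V^(v₂) = VZ S v₂` is not in `NN(S)`;
* `Sd.S_le_YZ` : `S ≤ YZ S v₂`;
* `Sd.l7_rr` : `Sd.l7_of` with these two.
-/

set_option autoImplicit false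
set_option linter.unusedSectionVars false

namespace Cfsg.Agent.Omega.NOThreeL.RRed

open Subgroup Cfsg Cfsg.Agent.ZN Cfsg.Agent.Omega.MinPar Cfsg.Agent.Omega.Frame Cfsg.Agent.Omega.FrameNOFF
open Cfsg.Agent.Omega.Node.NO3L Cfsg.Agent.Omega.NOThreeL.Basic Cfsg.Agent.Omega.NOThreeL.RTree
open Cfsg.Agent.Omega.NOThreeL.Merge (MZ)
open Cfsg.Agent.Omega.NOThreeL.ZCut (FZ YZ XZ VZ)
open Cfsg.Agent.Omega.NO3b.Bang (bang NN)
open Cfsg.Agent.ZN.ChoiceBase (cj cj_inf cj_centralizer cj_eq_of_mem_normalizer mem_normalizer_iff_cj mem_cj cj_mono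
  cj_cj_inv)
open scoped Pointwise

universe u

variable {G : Type u} [Group G] [Finite G] {S : Sylow 2 G} {P₀ : Subgroup G} {v₁ v₂ a t : G}

namespace Sd

variable (h : Sd S P₀ v₁ v₂ a t)
include h

theorem par_eq (hnrm : ∀ R, IsParS (S : Subgroup G) R → R ≤ normalizer (li v₁ a : Set G)) {R : Subgroup G}
    (hR : IsParS (S : Subgroup G) R) (h2 : R ≤ centralizer ({v₂} : Set G)) :
    R ⊓ centralizer (EE (S : Subgroup G) t : Set G) ⊔ (S : Subgroup G) = R := by
  have hE : R ≤ normalizer (EE (S : Subgroup G) t : Set G) := by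
    intro g hg
    rw [mem_normalizer_iff]
    intro w
    refine ⟨fun hw => conj_mem_EE (par_le_MZ hR hg) hw, fun hw => ?_⟩
    have h3 := conj_mem_EE (inv_mem (par_le_MZ hR hg)) hw
    have e : g⁻¹ * (g * w * g⁻¹) * g⁻¹⁻¹ = w := by group
    rwa [e] at h3
  have hn : R ≤ normalizer ((R ⊓ centralizer (EE (S : Subgroup G) t : Set G) : Subgroup G) : Set G) := by
    intro p hp
    rw [mem_normalizer_iff_cj, cj_inf, cj_centralizer, cj_eq_of_mem_normalizer (le_normalizer hp),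
      cj_eq_of_mem_normalizer (hE hp)]
  rcases hR.toIsPar.sup_eq_or_inf_le S inf_le_left hn with h1 | h1
  · exact h1
  exfalso
  -- `R` moves `v₁`
  have h3 : ¬ R ≤ centralizer ({v₁} : Set G) := by
    intro h3
    apply hR.not_zc
    refine le_trans ?_ (centralizer_le_normalizer _)
    intro r hr
    rw [mem_centralizer_iff]
    intro x hx
    have e1 := mem_centralizer_singleton_iff.1 (h3 hr)
    have e2 := mem_centralizer_singleton_iff.1 (h2 hr)
    rcases h.l7_zc hx with e | e | e | e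
    · rw [e, one_mul, mul_one]
    · rw [e, e1]
    · rw [e, e2]
    · rw [e, mul_assoc, ← e2, ← mul_assoc, ← e1, mul_assoc]
  obtain ⟨r, hr, hrv⟩ : ∃ r ∈ R, r * v₁ * r⁻¹ ≠ v₁ := by
    by_contra hcon
    push Not at hcon
    apply h3
    intro r hr
    rw [mem_centralizer_singleton_iff]
    calc r * v₁ = (r * v₁ * r⁻¹) * r := by group
      _ = v₁ * r := by rw [hcon r hr]
  have h4 : r * v₁ * r⁻¹ ∈ li v₁ a := (mem_normalizer_iff.1 (hnrm R hR hr) v₁).1 h.ln.z_mem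
  have h5 : r * v₁ * r⁻¹ ≠ 1 := fun e => h.ln.z1 (conj_eq_one_iff.1 e)
  apply h.t_mv h4 h5 hrv
  have htR : t ∈ R := hR.le h.tS
  have htE : t ∈ centralizer (EE (S : Subgroup G) t : Set G) := by
    rw [mem_centralizer_iff]
    intro w hw
    have h6 := (mem_EE.1 hw).2 1 (one_mem _)
    simpa using h6.symm
  have hto : t ∈ o2 R := h1 ⟨h.tS, htR, htE⟩
  have h7 : r⁻¹ * t * r ∈ (S : Subgroup G) :=
    hR.isLoc.o2_le S ((mem_normalizer_iff''.1 (MinSimple.VModule.le_normalizer_o2 R hr) t).1 hto)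
  have h8 := h.ln.zs h7
  calc t * (r * v₁ * r⁻¹) * t⁻¹ = r * ((r⁻¹ * t * r) * v₁) * (r⁻¹ * t⁻¹) := by group
    _ = r * (v₁ * (r⁻¹ * t * r)) * (r⁻¹ * t⁻¹) := by rw [h8]
    _ = r * v₁ * r⁻¹ := by group

omit h in
theorem cent_le_norm {v : G} : centralizer ({v} : Set G) ≤ normalizer ((zpowers v : Subgroup G) : Set G) := by
  refine le_trans ?_ (centralizer_le_normalizer _)
  intro g hg
  rw [mem_centralizer_iff] at hg ⊢
  intro x hx
  obtain ⟨k, rfl⟩ := mem_zpowers_iff.1 hx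
  have e : Commute v g := hg v rfl
  exact (e.zpow_left k).eq

/-- Some `R ∈ P*(S)` moves `v₂`. -/
theorem S_le_YZ : (S : Subgroup G) ≤ YZ (S : Subgroup G) v₂ := by
  by_contra hcon
  have hz := h.ln.cS
  have h1 : zpowers v₂ = ⊥ := by
    refine FrameNOFF.eq_bot_of_norm h.sm.ctx S h.sm.full (S.isPGroup'.to_le ?_) (fun P hP => ?_) ?_
    · rw [zpowers_le]; exact MinSimple.VModule.zc_le _ hz
    · refine le_trans ?_ cent_le_norm
      by_contra h2
      exact hcon (hP.le.trans (ZCut.le_YZ ⟨hP, h2⟩))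
    · exact (centralizer_le (Set.singleton_subset_iff.2 hz)).trans cent_le_norm
  exact h.ln.c1 (zpowers_eq_bot.1 h1)

/-- **`RR S = 1` in place of (RC').** -/
theorem not_nn (hr : RZ.RR (S : Subgroup G) = ⊥)
    (hnrm : ∀ R, IsParS (S : Subgroup G) R → R ≤ normalizer (li v₁ a : Set G)) :
    ¬ NN (S : Subgroup G) (VZ (S : Subgroup G) v₂) := by
  intro hN
  have hVE := h.VZ_le_EE hnrm
  have hys : Star.YS (S : Subgroup G) ≤ normalizer (VZ (S : Subgroup G) v₂ : Set G) := by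
    refine sSup_le fun R hR => ?_
    by_cases h2 : R ≤ centralizer ({v₂} : Set G)
    · rw [← h.par_eq hnrm hR h2]
      refine sup_le (inf_le_right.trans ?_) hN.norm
      exact (centralizer_le hVE).trans (centralizer_le_normalizer _)
    · exact (ZCut.le_YZ (show R ∈ FZ (S : Subgroup G) v₂ from ⟨hR, h2⟩)).trans (ZCut.le_normalizer_XZ _ _)
  have hI : RZ.Inv (S : Subgroup G) (VZ (S : Subgroup G) v₂) := by
    refine ⟨hN, hys, ZCut.XZ_le fun p hp => ?_⟩
    have hp' : p ∈ Star.YS (S : Subgroup G) :=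
      (sSup_le fun P hP => Star.le_YS hP.1 : YZ (S : Subgroup G) v₂ ≤ Star.YS (S : Subgroup G)) hp
    refine NoFF.Basic.Z_le_V hp' ?_
    rw [NoFF.Basic.mem_conj]
    have e : p⁻¹ * (p * v₂ * p⁻¹) * p = v₂ := by group
    rw [e]
    exact ⟨ZCut.mem_XZ, h.ln.cS⟩
  have h1 := hI.le_RR
  rw [hr] at h1
  exact h.ln.c1 (mem_bot.1 (h1 ZCut.mem_XZ))

/-- **L7** with `RR S = 1`. -/
theorem l7_rr (hcen : ∀ R, IsParS (S : Subgroup G) R →
      R ≤ centralizer ({v₁} : Set G) ∨ R ≤ centralizer ({v₂} : Set G))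
    (hnrm : ∀ R, IsParS (S : Subgroup G) R → R ≤ normalizer (li v₁ a : Set G))
    (line : ∀ R, IsParS (S : Subgroup G) R → ∃ z u c, Ln (S : Subgroup G) R z u c) :
    ∃ P₂ b, IsParS (S : Subgroup G) P₂ ∧ Ln (S : Subgroup G) P₂ v₂ b v₁ ∧
      ∀ R, IsParS (S : Subgroup G) R → R ≤ normalizer (li v₂ b : Set G) :=
  h.l7_of hcen hnrm line h.S_le_YZ (h.not_nn h.sm.rr hnrm)

end Sd

end Cfsg.Agent.Omega.NOThreeL.RRed

end
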