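import Cfsg.Agent.Mrg.Omega.NOThreeL.RRed.Bridge
import Cfsg.Agent.Mrg.Omega.NOThreeL.RRed.L3
import Cfsg.Agent.Mrg.Omega.NOThreeL.RRed.L7
import Cfsg.Agent.Mrg.Omega.NOThreeL.RZ.Frame
import Cfsg.Agent.Mrg.Omega.NOThreeL.RTreeA
import Cfsg.Agent.Mrg.Omega.NOThreeL.RTreeF

section


/-!
# NO-3L, box R: the smallest shape gives `Two S V P v` (#21468)

* `LineS` (L0), `SideS` (L1) : the K-free sockets (L2 - L7 are theorems);
* `exists_two_of` : they give `Two S V P v` for the smallest shape;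
* `TCR K` : the frame of CARD #18791 with the hypotheses of box R (the card, `[A]`, `[B]`);
* the other shapes of (RC'): `RRank K` (`|Z| ≥ 8`, all `|Z : C_Z(P)| = 2`), `RFour K` (`|Z| = 4`, all
  `|Z : C_Z(P)| = 2`, some `|V_P| ≠ 8`), `RWide K` (some `|Z : C_Z(P)| ≥ 4`);
* `rbc_of` : `LineS`, `SideS`, `TCR K`, `RRank K`, `RFour K`, `RWide K` imply `RTree.RBc K`.
-/

set_option autoImplicit false
set_option linter.unusedSectionVars false

namespace Cfsg.Agent.Omega.NOThreeL.RRed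

open Subgroup Cfsg Cfsg.Agent.ZN Cfsg.Agent.Omega.MinPar Cfsg.Agent.Omega.Frame Cfsg.Agent.Omega.FrameNOFF
open Cfsg.Agent.Omega.Node.NO3L Cfsg.Agent.Omega.NOThreeL.Basic Cfsg.Agent.Omega.NOThreeL.RTree
open Cfsg.Agent.Omega.NOThreeL.Merge (MZ)
open Cfsg.Agent.Omega.NOThreeL.ZCut (FZ)
open Cfsg.Agent.Omega.NO3b.Bang (bang)

universe u

variable {G : Type u} [Group G]

section sockets

/-- L0 -/
def LineS : Prop :=
  ∀ (G : Type u) [Group G] [Finite G] (S : Sylow 2 G), Sm S → ∀ P : Subgroup G, IsParS (S : Subgroup G) P →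
    ∃ z u c, Ln (S : Subgroup G) P z u c

/-- L1 -/
def SideS : Prop :=
  ∀ (G : Type u) [Group G] [Finite G] (S : Sylow 2 G), Sm S → ∃ P₀ v₁ v₂ a t, Sd S P₀ v₁ v₂ a t

variable (K : Cls.{u})

/-- The frame of CARD #18791 in box R. -/
def TCR : Prop :=
  ∀ (G : Type u) [Group G] [Finite G], K G → ∀ (S : Sylow 2 G), RB S → ∀ (V P : Fin 2 → Subgroup G)
    (v : Fin 2 → G), Two (S : Subgroup G) V P v → TC.Fr (S : Subgroup G) V P v → IsKnownSimple' G

/-- (RC') -/
def RC {G : Type u} [Group G] [Finite G] (S : Sylow 2 G) : Prop :=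
  ∀ z ∈ zc (S : Subgroup G), z ≠ 1 →
    ∃ P ∈ FZ (S : Subgroup G) z, ¬ P ≤ normalizer (bang (S : Subgroup G) : Set G)

/-- `|Z| = 2 |C_Z(P)|` for all `P ∈ P*(S)`. -/
def Thin (S : Subgroup G) : Prop :=
  ∀ P, IsParS S P → Nat.card (zc S) = 2 * Nat.card ↥(zc S ⊓ centralizer (P : Set G))

/-- (RC'), `|Z| ≥ 8`, all `|Z : C_Z(P)| = 2`. -/
def RRank : Prop :=
  ∀ (G : Type u) [Group G] [Finite G], K G → ∀ (S : Sylow 2 G), RB S → RC S → Thin (S : Subgroup G) →
    8 ≤ Nat.card (zc (S : Subgroup G)) → IsKnownSimple' G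

/-- (RC'), `|Z| = 4`, all `|Z : C_Z(P)| = 2`, some `|V_P| ≠ 8`. -/
def RFour : Prop :=
  ∀ (G : Type u) [Group G] [Finite G], K G → ∀ (S : Sylow 2 G), RB S → RC S → Thin (S : Subgroup G) →
    Nat.card (zc (S : Subgroup G)) = 4 →
      (∃ P, IsParS (S : Subgroup G) P ∧ Nat.card (zl (S : Subgroup G) P) ≠ 8) → IsKnownSimple' G

/-- (RC'), some `|Z : C_Z(P)| ≥ 4`. -/
def RWide : Prop :=
  ∀ (G : Type u) [Group G] [Finite G], K G → ∀ (S : Sylow 2 G), RB S → RC S →
    (∃ P, IsParS (S : Subgroup G) P ∧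
      4 * Nat.card ↥(zc (S : Subgroup G) ⊓ centralizer (P : Set G)) ≤ Nat.card (zc (S : Subgroup G))) →
      IsKnownSimple' G

end sockets

theorem exists_two_of (hL : LineS.{u}) (hS : SideS.{u}) {G : Type u} [Group G] [Finite G]
    {S : Sylow 2 G} (h : Sm S) : ∃ (V P : Fin 2 → Subgroup G) (v : Fin 2 → G), Two (S : Subgroup G) V P v := by
  obtain ⟨P₀, v₁, v₂, a, t, hd⟩ := hS G S h
  have hm := fun R (hR : IsParS (S : Subgroup G) R) => hd.main (hL G S h) hd.l3 hR
  obtain ⟨P₂, b, hP2, hl2, h8⟩ := hd.l7_rr (fun R hR => (hm R hR).1) (fun R hR => (hm R hR).2) (hL G S h)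
  have h2 : ∀ i : Fin 2, i = 0 ∨ i = 1 := by decide
  refine ⟨![li v₁ a, li v₂ b], ![P₀, P₂], ![v₁, v₂], ?_⟩
  exact
    { four := fun i => by
        rcases h2 i with rfl | rfl
        · exact hd.ln.card_li
        · exact hl2.card_li
      mem := fun i => by
        rcases h2 i with rfl | rfl
        · exact hd.ln.z_mem
        · exact hl2.z_mem
      ne := fun i => by
        rcases h2 i with rfl | rfl
        · exact hd.ln.z1
        · exact hl2.z1
      zS := h.zc_iff hd.ln.zS hd.ln.cS hd.ln.z1 hd.ln.c1 hd.ln.ne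
      par := fun i => by
        rcases h2 i with rfl | rfl
        · exact hd.par
        · exact hP2
      VP := fun i => by
        rcases h2 i with rfl | rfl
        · exact hd.ln.li_le (Cfsg.Agent.MinSimple.VModule.zc_le_zl _ _)
        · exact hl2.li_le (Cfsg.Agent.MinSimple.VModule.zc_le_zl _ _)
      PC := fun i j hij => by
        rcases h2 i with rfl | rfl <;> rcases h2 j with rfl | rfl
        · exact absurd rfl hij
        · exact hd.ln.PC
        · exact hl2.PC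
        · exact absurd rfl hij
      mv := fun i => by
        rcases h2 i with rfl | rfl
        · exact hd.ln.mvz
        · exact hl2.mvz
      tr := fun i x hx hx1 => by
        rcases h2 i with rfl | rfl
        · exact hd.ln.tr_all hd.par.le ((hd.ln.mem_li.1 hx).resolve_left hx1)
        · exact hl2.tr_all hP2.le ((hl2.mem_li.1 hx).resolve_left hx1)
      cen := fun R hR => (hm R hR).1
      nrm := fun R hR i => by
        rcases h2 i with rfl | rfl
        · exact (hm R hR).2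
        · exact h8 R hR }

/-- The three cases for the other shapes. -/
theorem thin_or [Finite G] {S : Sylow 2 G} : Thin (S : Subgroup G) ∨
    ∃ P, IsParS (S : Subgroup G) P ∧
      4 * Nat.card ↥(zc (S : Subgroup G) ⊓ centralizer (P : Set G)) ≤ Nat.card (zc (S : Subgroup G)) := by
  by_contra hcon
  push Not at hcon
  obtain ⟨h1, h2⟩ := hcon
  apply h1
  intro P hP
  set C := zc (S : Subgroup G) ⊓ centralizer (P : Set G) with hC
  have hf : Fact (Nat.Prime 2) := ⟨Nat.prime_two⟩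
  obtain ⟨n, hn⟩ := (IsPGroup.iff_card (p := 2)).1 (S.isPGroup'.to_le (zc_le (S : Subgroup G)))
  obtain ⟨m, hm⟩ := (IsPGroup.iff_card (p := 2)).1 (S.isPGroup'.to_le ((inf_le_left : C ≤ _).trans (zc_le (S : Subgroup G))))
  have hne : C ≠ zc (S : Subgroup G) := by
    intro e
    apply hP.not_zc
    have h3 : zc (S : Subgroup G) ≤ centralizer (P : Set G) := by rw [← e]; exact inf_le_right
    refine le_trans ?_ (centralizer_le_normalizer _)
    intro p hp
    rw [mem_centralizer_iff]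
    intro z hz
    exact (mem_centralizer_iff.1 (h3 hz) p hp).symm
  have hlt : Nat.card C < Nat.card (zc (S : Subgroup G)) := by
    refine lt_of_le_of_ne (Subgroup.card_le_of_le inf_le_left) fun e => hne ?_
    exact Subgroup.eq_of_le_of_card_ge inf_le_left e.ge
  have h3 := h2 P hP
  rw [hn, hm] at h3 hlt
  rw [hn, hm]
  have h4 : m < n := (Nat.pow_lt_pow_iff_right (by norm_num)).1 hlt
  have h5 : n < m + 2 := by
    have : 2 ^ n < 2 ^ (m + 2) := by rw [pow_add]; omega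
    exact (Nat.pow_lt_pow_iff_right (by norm_num)).1 this
  have h6 : n = m + 1 := by omega
  rw [h6, pow_succ]; ring

theorem four_le [Finite G] {S : Sylow 2 G} (B : RB S) : 4 ≤ Nat.card (zc (S : Subgroup G)) := by
  obtain ⟨P, hP, h1⟩ := B.ex
  have hf : Fact (Nat.Prime 2) := ⟨Nat.prime_two⟩
  set C := zc (S : Subgroup G) ⊓ centralizer (P : Set G) with hC
  obtain ⟨n, hn⟩ := (IsPGroup.iff_card (p := 2)).1 (S.isPGroup'.to_le (zc_le (S : Subgroup G)))
  obtain ⟨m, hm⟩ := (IsPGroup.iff_card (p := 2)).1 (S.isPGroup'.to_le ((inf_le_left : C ≤ _).trans (zc_le (S : Subgroup G))))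
  have hne : C ≠ zc (S : Subgroup G) := by
    intro e
    apply hP.not_zc
    have h3 : zc (S : Subgroup G) ≤ centralizer (P : Set G) := by rw [← e]; exact inf_le_right
    refine le_trans ?_ (centralizer_le_normalizer _)
    intro p hp
    rw [mem_centralizer_iff]
    intro z hz
    exact (mem_centralizer_iff.1 (h3 hz) p hp).symm
  have hlt : Nat.card C < Nat.card (zc (S : Subgroup G)) := by
    refine lt_of_le_of_ne (Subgroup.card_le_of_le inf_le_left) fun e => hne ?_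
    exact Subgroup.eq_of_le_of_card_ge inf_le_left e.ge
  have h1' : Nat.card C ≠ 1 := fun e => h1 (Subgroup.card_eq_one.1 e)
  rw [hn, hm] at hlt
  rw [hm] at h1'
  rw [hn]
  have h4 : m < n := (Nat.pow_lt_pow_iff_right (by norm_num)).1 hlt
  have h5 : m ≠ 0 := by rintro rfl; exact h1' rfl
  calc 4 = 2 ^ 2 := by norm_num
    _ ≤ 2 ^ n := Nat.pow_le_pow_right (by norm_num) (by omega)

/-- **(RC') from its leaves.** -/
theorem rbc_of {K : Cls.{u}} (hL : LineS.{u}) (hS : SideS.{u}) (hT : TCR K) (h8 : RRank K) (h4 : RFour K)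
    (hW : RWide K) : RBc K := by
  intro G _ _ hK S B hrc
  rcases thin_or (S := S) with ht | hw
  · by_cases hz : Nat.card (zc (S : Subgroup G)) = 4
    · by_cases h : ∀ P, IsParS (S : Subgroup G) P → Nat.card (zl (S : Subgroup G) P) = 8
      · have hs : Sm S := { toRB := B, rr := RZ.eq_bot_of_rc hrc, z4 := hz, v8 := h }
        obtain ⟨V, P, v, T⟩ := exists_two_of hL hS hs
        exact hT G hK S B V P v T (T.fr B)
      · push Not at h
        exact h4 G hK S B hrc ht hz h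
    · refine h8 G hK S B hrc ht ?_
      have h1 := four_le B
      have hf : Fact (Nat.Prime 2) := ⟨Nat.prime_two⟩
      obtain ⟨n, hn⟩ := (IsPGroup.iff_card (p := 2)).1 (S.isPGroup'.to_le (zc_le (S : Subgroup G)))
      rw [hn] at h1 hz ⊢
      have h2 : 2 ≤ n := by
        by_contra hcon
        have : 2 ^ n ≤ 2 ^ 1 := Nat.pow_le_pow_right (by norm_num) (by omega)
        omega
      have h3 : n ≠ 2 := by rintro rfl; exact hz (by norm_num)
      calc 8 = 2 ^ 3 := by norm_num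
        _ ≤ 2 ^ n := Nat.pow_le_pow_right (by norm_num) (by omega)
  · exact hW G hK S B hrc hw

end Cfsg.Agent.Omega.NOThreeL.RRed

end

section


/-!
# NO-3L, box R: the tree with THEOREM SIGMA on top (#22781, #23593)

`Z = Ω₁(Z(S))`, `C_Z(P) = Z ∩ C(P)` for `P ∈ P*(S)`.

* `L1 S` : `C_Z(P) = 1` for some `P ∈ P*(S)`;
* `L2 S` : `⟨C_G(C_Z(P)), C_G(C_Z(P'))⟩` is nonlocal for some `P, P' ∈ P*(S)`;
* `not_l1`, `not_l2` : `Thin S` implies `¬ L1 S` if `|Z| ≥ 4` and `¬ L2 S` if `|Z| ≥ 8`;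
* sockets over a frame `B S` (`B = RB` or `RBF`):
  - `SigOf` : THEOREM SIGMA: `¬ L1 S`, `¬ L2 S`;
  - `SmOf` : the smallest shape `|Z| = 4`, all `|V_P| = 8` (so `L2 S`);
  - `FourOf` : `|Z| = 4`, all `|Z : C_Z(P)| = 2`, some `|V_P| ≠ 8`, `L2 S`;
  - `WideOf` : some `|Z : C_Z(P)| ≥ 4`, and `L1 S` or `L2 S`;
  - `BrOf` : `RR S ≠ 1`, and `L1 S` or `L2 S`;
* `bn_of`, `br_of` : they imply the sockets `RR S = 1`, `RR S ≠ 1`;
* `rbn_sig`, `rbr_sig`, `rbc_sig`, `rbz_sig`, `rg_sig` : the tree of `RTree` (`B = RB`);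
* `rbzF_sig`, `rbcF_sig`, `rgF_sig` : the tree of `RTreeF` (`B = RBF`);
* `smOf_of` : `SmOf` from `LineS`, `SideS`, `TCR`;
* `rbc_of_sm`, `rsm_of` : `RTree.RBc` from the smallest shape.
-/

set_option autoImplicit false
set_option linter.unusedSectionVars false

namespace Cfsg.Agent.Omega.NOThreeL.RRed.GlueSig

open Subgroup Cfsg Cfsg.Agent.ZN Cfsg.Agent.Omega.MinPar Cfsg.Agent.Omega.Frame Cfsg.Agent.Omega.FrameNOFF
open Cfsg.Agent.Omega.Node.NO3L Cfsg.Agent.Omega.NOThreeL.Basic Cfsg.Agent.Omega.NOThreeL.RTree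
open Cfsg.Agent.Omega.NOThreeL.RTreeF
open Cfsg.Agent.Omega.NOThreeL.Merge (MZ)
open Cfsg.Agent.Omega.NOThreeL.ZCut (FZ)
open Cfsg.Agent.Omega.NO3b.Bang (bang)
open Cfsg.Agent.Omega.NOThreeL.RZ (RR)

universe u

section defs

variable {G : Type u} [Group G]

/-- (L1): `C_Z(P) = 1` for some `P ∈ P*(S)`. -/
def L1 (S : Subgroup G) : Prop :=
  ∃ P, IsParS S P ∧ zc S ⊓ centralizer (P : Set G) = ⊥

/-- (L2): some `⟨C_G(C_Z(P)), C_G(C_Z(P'))⟩` is nonlocal. -/
def L2 (S : Subgroup G) : Prop :=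
  ∃ P P', IsParS S P ∧ IsParS S P' ∧
    NonLoc (centralizer ((zc S ⊓ centralizer (P : Set G) : Subgroup G) : Set G))
      (centralizer ((zc S ⊓ centralizer (P' : Set G) : Subgroup G) : Set G))

/-- If `Thin S` and `|Z| ≥ 4`, then all `C_Z(P) ≠ 1`. -/
theorem not_l1 [Finite G] {S : Subgroup G} (ht : Thin S) (h4 : 4 ≤ Nat.card (zc S)) : ¬ L1 S := by
  rintro ⟨P, hP, h0⟩
  have h1 := ht P hP
  rw [h0, Subgroup.card_bot] at h1
  omega

/-- If `Thin S` and `|Z| ≥ 8`, then all `⟨C_G(C_Z(P)), C_G(C_Z(P'))⟩` are local. -/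
theorem not_l2 [Finite G] {S : Subgroup G} (hS : IsPGroup 2 S) (ht : Thin S) (h8 : 8 ≤ Nat.card (zc S)) :
    ¬ L2 S := by
  rintro ⟨P, P', hP, hP', hn⟩
  set Y := zc S ⊓ centralizer (P : Set G) with hY
  set Y' := zc S ⊓ centralizer (P' : Set G) with hY'
  have hc := ht P hP
  have hc' := ht P' hP'
  have hYZ : Y ≤ zc S := inf_le_left
  have hY'Z : Y' ≤ zc S := inf_le_left
  have hne : Y ⊓ Y' ≠ ⊥ := by
    intro h0
    have hcm : Y ≤ centralizer (Y' : Set G) := by
      intro y hy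
      rw [mem_centralizer_iff]
      intro y' hy'
      exact (MinSimple.VModule.mem_zc.1 (hYZ hy)).2.1 y' (MinSimple.VModule.zc_le _ (hY'Z hy'))
    have h1 := Cfsg.Agent.PLocal.ElemAbSup.card_sup_mul_card_inf hcm
    rw [inf_comm, h0, Subgroup.card_bot, mul_one, mul_comm (Nat.card Y')] at h1
    have h2 := Subgroup.card_le_of_le (sup_le hY'Z hYZ)
    rw [h1] at h2
    have h3 : Nat.card (zc S) * Nat.card (zc S) ≤ 4 * Nat.card (zc S) := by
      calc Nat.card (zc S) * Nat.card (zc S) = (2 * Nat.card Y) * (2 * Nat.card Y') := by rw [← hc, ← hc']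
        _ = 4 * (Nat.card Y * Nat.card Y') := by ring
        _ ≤ 4 * Nat.card (zc S) := Nat.mul_le_mul_left _ h2
    have h4 := Nat.le_of_mul_le_mul_right h3 (by omega)
    omega
  apply hne
  refine hn (Y ⊓ Y') (hS.to_le (inf_le_left.trans (hYZ.trans (MinSimple.VModule.zc_le _)))) ?_ ?_
  · refine le_trans ?_ (centralizer_le_normalizer _)
    exact centralizer_le inf_le_left
  · refine le_trans ?_ (centralizer_le_normalizer _)
    exact centralizer_le inf_le_right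

end defs

/-- a frame -/
abbrev Fr : Type (u + 1) := ∀ (G : Type u) [Group G] [Finite G], Sylow 2 G → Prop

section sockets

variable (K : Cls.{u}) (B : Fr.{u})

/-- **THEOREM SIGMA.** -/
def SigOf : Prop :=
  ∀ (G : Type u) [Group G] [Finite G], K G → ∀ (S : Sylow 2 G), B G S → ¬ L1 (S : Subgroup G) →
    ¬ L2 (S : Subgroup G) → IsKnownSimple' G

/-- The smallest shape: `|Z| = 4`, all `|V_P| = 8`. -/
def SmOf : Prop :=
  ∀ (G : Type u) [Group G] [Finite G], K G → ∀ (S : Sylow 2 G), B G S → RR (S : Subgroup G) = ⊥ →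
    Nat.card (zc (S : Subgroup G)) = 4 →
      (∀ P, IsParS (S : Subgroup G) P → Nat.card (zl (S : Subgroup G) P) = 8) → L2 (S : Subgroup G) →
        IsKnownSimple' G

/-- `|Z| = 4`, all `|Z : C_Z(P)| = 2`, some `|V_P| ≠ 8`, (L2). -/
def FourOf : Prop :=
  ∀ (G : Type u) [Group G] [Finite G], K G → ∀ (S : Sylow 2 G), B G S → RR (S : Subgroup G) = ⊥ →
    Thin (S : Subgroup G) → Nat.card (zc (S : Subgroup G)) = 4 →
      (∃ P, IsParS (S : Subgroup G) P ∧ Nat.card (zl (S : Subgroup G) P) ≠ 8) → L2 (S : Subgroup G) →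
        IsKnownSimple' G

/-- some `|Z : C_Z(P)| ≥ 4`, (L1) or (L2). -/
def WideOf : Prop :=
  ∀ (G : Type u) [Group G] [Finite G], K G → ∀ (S : Sylow 2 G), B G S → RR (S : Subgroup G) = ⊥ →
    (∃ P, IsParS (S : Subgroup G) P ∧
      4 * Nat.card ↥(zc (S : Subgroup G) ⊓ centralizer (P : Set G)) ≤ Nat.card (zc (S : Subgroup G))) →
      (L1 (S : Subgroup G) ∨ L2 (S : Subgroup G)) → IsKnownSimple' G

/-- [R-z], (L1) or (L2). -/
def BrOf : Prop :=
  ∀ (G : Type u) [Group G] [Finite G], K G → ∀ (S : Sylow 2 G), B G S → RR (S : Subgroup G) ≠ ⊥ →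
    (L1 (S : Subgroup G) ∨ L2 (S : Subgroup G)) → IsKnownSimple' G

/-- `RR S = 1`. -/
def BnOf : Prop :=
  ∀ (G : Type u) [Group G] [Finite G], K G → ∀ (S : Sylow 2 G), B G S → RR (S : Subgroup G) = ⊥ →
    IsKnownSimple' G

/-- `RR S ≠ 1`. -/
def BrrOf : Prop :=
  ∀ (G : Type u) [Group G] [Finite G], K G → ∀ (S : Sylow 2 G), B G S → RR (S : Subgroup G) ≠ ⊥ →
    IsKnownSimple' G

end sockets

/-- the frame `RB` -/
abbrev FB : Fr.{u} := fun _ _ _ S => RB S

/-- the frame `RBF` -/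
abbrev FBF : Fr.{u} := fun _ _ _ S => RBF S

section mono

variable {K : Cls.{u}} {B B' : Fr.{u}} (hB : ∀ (G : Type u) [Group G] [Finite G] (S : Sylow 2 G), B' G S → B G S)

include hB

theorem SigOf.mono (h : SigOf K B) : SigOf K B' := fun G _ _ hK S hb => h G hK S (hB G S hb)

theorem SmOf.mono (h : SmOf K B) : SmOf K B' := fun G _ _ hK S hb => h G hK S (hB G S hb)

theorem FourOf.mono (h : FourOf K B) : FourOf K B' := fun G _ _ hK S hb => h G hK S (hB G S hb)

theorem WideOf.mono (h : WideOf K B) : WideOf K B' := fun G _ _ hK S hb => h G hK S (hB G S hb)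

theorem BrOf.mono (h : BrOf K B) : BrOf K B' := fun G _ _ hK S hb => h G hK S (hB G S hb)

end mono

theorem toRB (G : Type u) [Group G] [Finite G] (S : Sylow 2 G) (h : FBF G S) : FB G S := h.toRB

section glue

variable {K : Cls.{u}} {B : Fr.{u}}

theorem known_or (hσ : SigOf K B) {G : Type u} [Group G] [Finite G] (hK : K G) {S : Sylow 2 G} (hb : B G S) :
    IsKnownSimple' G ∨ L1 (S : Subgroup G) ∨ L2 (S : Subgroup G) := by
  by_cases h1 : L1 (S : Subgroup G)
  · exact Or.inr (Or.inl h1)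
  · by_cases h2 : L2 (S : Subgroup G)
    · exact Or.inr (Or.inr h2)
    · exact Or.inl (hσ G hK S hb h1 h2)

/-- The shapes of box R. -/
theorem shapes (hσ : SigOf K B) {G : Type u} [Group G] [Finite G] (hK : K G) {S : Sylow 2 G} (hS : RB S)
    (hB : B G S) : IsKnownSimple' G ∨
      (Nat.card (zc (S : Subgroup G)) = 4 ∧
        (∀ P, IsParS (S : Subgroup G) P → Nat.card (zl (S : Subgroup G) P) = 8) ∧ L2 (S : Subgroup G)) ∨
      (Thin (S : Subgroup G) ∧ Nat.card (zc (S : Subgroup G)) = 4 ∧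
        (∃ P, IsParS (S : Subgroup G) P ∧ Nat.card (zl (S : Subgroup G) P) ≠ 8) ∧ L2 (S : Subgroup G)) ∨
      ((∃ P, IsParS (S : Subgroup G) P ∧
        4 * Nat.card ↥(zc (S : Subgroup G) ⊓ centralizer (P : Set G)) ≤ Nat.card (zc (S : Subgroup G))) ∧
        (L1 (S : Subgroup G) ∨ L2 (S : Subgroup G))) := by
  have h4' := four_le hS
  rcases known_or hσ hK hB with h | h12
  · exact Or.inl h
  rcases thin_or (S := S) with ht | hwd
  · rcases h12 with h1 | h2
    · exact absurd h1 (not_l1 ht h4')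
    · have hz : Nat.card (zc (S : Subgroup G)) = 4 := by
        by_contra hz
        refine not_l2 S.isPGroup' ht ?_ h2
        have hf : Fact (Nat.Prime 2) := ⟨Nat.prime_two⟩
        obtain ⟨n, hn⟩ := (IsPGroup.iff_card (p := 2)).1 (S.isPGroup'.to_le (MinSimple.VModule.zc_le (S : Subgroup G)))
        rw [hn] at h4' hz ⊢
        have k2 : 2 ≤ n := by
          by_contra hcon
          have : 2 ^ n ≤ 2 ^ 1 := Nat.pow_le_pow_right (by norm_num) (by omega)
          omega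
        have k3 : n ≠ 2 := by rintro rfl; exact hz (by norm_num)
        calc 8 = 2 ^ 3 := by norm_num
          _ ≤ 2 ^ n := Nat.pow_le_pow_right (by norm_num) (by omega)
      by_cases h : ∀ P, IsParS (S : Subgroup G) P → Nat.card (zl (S : Subgroup G) P) = 8
      · exact Or.inr (Or.inl ⟨hz, h, h2⟩)
      · push Not at h
        exact Or.inr (Or.inr (Or.inl ⟨ht, hz, h, h2⟩))
  · exact Or.inr (Or.inr (Or.inr ⟨hwd, h12⟩))

/-- **`RR S = 1` from its leaves.** -/
theorem bn_of (hb : ∀ (G : Type u) [Group G] [Finite G] (S : Sylow 2 G), B G S → RB S) (hσ : SigOf K B)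
    (hs : SmOf K B) (h4 : FourOf K B) (hw : WideOf K B) : BnOf K B := by
  intro G _ _ hK S hB hr
  rcases shapes hσ hK (hb G S hB) hB with h | ⟨hz, h8, h2⟩ | ⟨ht, hz, h8, h2⟩ | ⟨hwd, h12⟩
  · exact h
  · exact hs G hK S hB hr hz h8 h2
  · exact h4 G hK S hB hr ht hz h8 h2
  · exact hw G hK S hB hr hwd h12

/-- **`RR S ≠ 1` from its leaf.** -/
theorem br_of (hσ : SigOf K B) (hr : BrOf K B) : BrrOf K B := by
  intro G _ _ hK S hB hne
  rcases known_or hσ hK hB with h | h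
  · exact h
  · exact hr G hK S hB hne h

end glue

/-! ### The tree of `RTree` -/

section tree

variable {K : Cls.{u}}

theorem rbn_sig (hσ : SigOf K FB.{u}) (hs : SmOf K FB.{u}) (h4 : FourOf K FB.{u}) (hw : WideOf K FB.{u}) :
    RZ.RBn K := bn_of (fun _ _ _ _ h => h) hσ hs h4 hw

theorem rbr_sig (hσ : SigOf K FB.{u}) (hr : BrOf K FB.{u}) : RZ.RBr K := br_of hσ hr

theorem rbc_sig (hσ : SigOf K FB.{u}) (hs : SmOf K FB.{u}) (h4 : FourOf K FB.{u}) (hw : WideOf K FB.{u}) : RBc K :=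
  RZ.rbc_of (rbn_sig hσ hs h4 hw)

theorem rbz_sig (hσ : SigOf K FB.{u}) (hs : SmOf K FB.{u}) (h4 : FourOf K FB.{u}) (hw : WideOf K FB.{u})
    (hr : BrOf K FB.{u}) : RBz K :=
  RZ.rbz_of (rbr_sig hσ hr) (rbn_sig hσ hs h4 hw)

/-- The smallest shape. -/
def RSm (K : Cls.{u}) : Prop :=
  ∀ (G : Type u) [Group G] [Finite G], K G → ∀ (S : Sylow 2 G), Sm S → IsKnownSimple' G

theorem rsm_of (hL : LineS.{u}) (hS : SideS.{u}) (hT : TCR K) : RSm K := by
  intro G _ _ hK S hs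
  obtain ⟨V, P, v, T⟩ := exists_two_of hL hS hs
  exact hT G hK S hs.toRB V P v T (T.fr hs.toRB)

/-- **The smallest shape, from the card.** -/
theorem smOf_of (hL : LineS.{u}) (hS : SideS.{u}) (hT : TCR K) : SmOf K FB.{u} := by
  intro G _ _ hK S hB hr hz h8 _
  exact rsm_of hL hS hT G hK S { toRB := hB, rr := hr, z4 := hz, v8 := h8 }

theorem rbc_of_sm (hσ : SigOf K FB.{u}) (hs : RSm K) (h4 : FourOf K FB.{u}) (hw : WideOf K FB.{u}) : RBc K := by
  intro G _ _ hK S hB hc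
  have hr := RZ.eq_bot_of_rc hc
  rcases shapes hσ hK hB hB with h | ⟨hz, h8, h2⟩ | ⟨ht, hz, h8, h2⟩ | ⟨hwd, h12⟩
  · exact h
  · exact hs G hK S { toRB := hB, rr := hr, z4 := hz, v8 := h8 }
  · exact h4 G hK S hB hr ht hz h8 h2
  · exact hw G hK S hB hr hwd h12

/-- **Box R.** -/
theorem rg_sig (hN : RTreeA.NatBig.{u}) (hσ : SigOf K FB.{u}) (hs : SmOf K FB.{u}) (h4 : FourOf K FB.{u})
    (hw : WideOf K FB.{u}) (hr : BrOf K FB.{u}) : Merge.RG K :=
  RTreeA.rg_of' hN (rbz_sig hσ hs h4 hw hr) (rbc_sig hσ hs h4 hw)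

end tree

/-! ### The tree of `RTreeF` -/

section treeF

variable {K : Cls.{u}}

theorem rbf_sig (hσ : SigOf K FBF.{u}) (hs : SmOf K FBF.{u}) (h4 : FourOf K FBF.{u}) (hw : WideOf K FBF.{u})
    (hr : BrOf K FBF.{u}) {G : Type u} [Group G] [Finite G] (hK : K G) {S : Sylow 2 G} (hB : RBF S) :
    IsKnownSimple' G := by
  by_cases h : RR (S : Subgroup G) = ⊥
  · exact bn_of toRB hσ hs h4 hw G hK S hB h
  · exact br_of hσ hr G hK S hB h

theorem rbzF_sig (hσ : SigOf K FBF.{u}) (hs : SmOf K FBF.{u}) (h4 : FourOf K FBF.{u}) (hw : WideOf K FBF.{u})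
    (hr : BrOf K FBF.{u}) : RBzF K :=
  fun _ _ _ hK _ hB _ _ _ _ => rbf_sig hσ hs h4 hw hr hK hB

theorem rbcF_sig (hσ : SigOf K FBF.{u}) (hs : SmOf K FBF.{u}) (h4 : FourOf K FBF.{u}) (hw : WideOf K FBF.{u}) :
    RBcF K :=
  fun G _ _ hK S hB hc => bn_of toRB hσ hs h4 hw G hK S hB (RZ.eq_bot_of_rc hc)

theorem raBig_of (hN : RTreeA.NatBig.{u}) : RAbig K := by
  intro G _ _ hG _ S _ D P H hE F _ _ _ k _ _ _
  exact (RTreeA.pair_false hN hG D hE).elim

/-- **Box R.** -/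
theorem rgF_sig (T : RLow.Parts.{u}) (hN : RTreeA.NatBig.{u}) (hσ : SigOf K FBF.{u}) (hs : SmOf K FBF.{u})
    (h4 : FourOf K FBF.{u}) (hw : WideOf K FBF.{u}) (hr : BrOf K FBF.{u}) : Merge.RG K :=
  RTreeF.rg_of T (raBig_of hN) (rbzF_sig hσ hs h4 hw hr) (rbcF_sig hσ hs h4 hw)

end treeF

end Cfsg.Agent.Omega.NOThreeL.RRed.GlueSig

end
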