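import Cfsg.Agent.Mrg.Omega.NOThreeL.RRed.WideTree
import Cfsg.Agent.Mrg.Omega.NOThreeL.RRed.InstZ
import Cfsg.Agent.Mrg.Omega.NOThreeL.RRed.ClassMx
import Cfsg.Agent.Mrg.Omega.NOThreeL.Sigma.Rank

section


/-!
# NO-3L, box R, two class modules: `Spl S W` and nonlocality (WideTree rows 7 / 8, helper958)

`C : CM S W`, `W : Fin 2 → Subgroup G` (class modules), `Z_i = ZZ S W i = W i ∩ Z`.

* `cm_sup`, `cm_dis`, `cm_nS` : `V* = W i × W j`; `N_G(S)` permutes `W 0`, `W 1`;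
* `ZZ_ne`; `cm_wp` : `W i ≤ V_P` for some `P ∈ P*(S)` gives `W i ≤ WP S`;
* `gen_of_nat` : the field `gen` of `Spl` from a natural block;
* **`spl`** : `Spl S W`;
* `exists_mv` : some active `P` moves `Z_i` and centralises `Z_j`; **`nonLoc`** : `⟨C_G(Z_0), C_G(Z_1)⟩` is nonlocal if
  every `R ∈ P*(S)` centralises `Z_0` or `Z_1`.
-/

set_option autoImplicit false
set_option linter.unusedSectionVars false

namespace Cfsg.Agent.Omega.NOThreeL.RRed.WLeft

open Subgroup Cfsg Cfsg.Agent.ZN Cfsg.Agent.Omega.MinPar Cfsg.Agent.Omega.Frame Cfsg.Agent.Omega.FrameNOFF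
open Cfsg.Agent.Omega.Node.NO3L Cfsg.Agent.Omega.NOThreeL.Basic
open Cfsg.Agent.Omega.NOThreeL.Merge (MZ)
open Cfsg.Agent.Omega.NOThreeL.RTree (RB)
open Cfsg.Agent.Omega.NoFF.Basic (conj_le_iff Z_le_V V_le)
open Cfsg.Agent.Omega.NOThreeL.RRed.InstZ (ZZ Spl)
open Cfsg.Agent.Omega.NOThreeL.RRed.WideTree
open Cfsg.Agent.MinSimple.VModule (zc_le_zl oddGen)
open scoped Pointwise

universe u

variable {G : Type u} [Group G]

theorem fin2_ne {i j : Fin 2} (h : i ≠ j) (k : Fin 2) : k = i ∨ k = j := by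
  revert i j k; decide

theorem mem_nor {A : Subgroup G} {g : G} (h : MulAut.conj g • A = A) : g ∈ normalizer (A : Set G) := by
  rw [mem_normalizer_iff]
  intro x
  nth_rw 2 [← h]
  rw [← MulAut.conj_apply]
  exact (smul_mem_pointwise_smul_iff (a := MulAut.conj g) (S := A) (x := x)).symm

section cm

variable {S : Subgroup G} {W : Fin 2 → Subgroup G} (C : CM S (fun i : ULift.{u} (Fin 2) => W i.down))
include C

theorem cm_le (i : Fin 2) : W i ≤ Wd S := by
  rw [← C.sup]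
  exact le_iSup (fun k : ULift.{u} (Fin 2) => W k.down) ⟨i⟩

theorem cm_sup {i j : Fin 2} (hij : i ≠ j) : W i ⊔ W j = Wd S := by
  refine le_antisymm (sup_le (cm_le C i) (cm_le C j)) ?_
  rw [← C.sup]
  refine iSup_le fun k => ?_
  rcases fin2_ne hij k.down with h | h
  · rw [h]; exact le_sup_left
  · rw [h]; exact le_sup_right

theorem cm_dis {i j : Fin 2} (hij : i ≠ j) : W i ⊓ W j = ⊥ := by
  rw [eq_bot_iff, ← C.ind ⟨i⟩]
  refine inf_le_inf_left _ ?_
  exact le_iSup (fun k : {k : ULift.{u} (Fin 2) // k ≠ ⟨i⟩} => W k.1.down)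
    ⟨⟨j⟩, fun h => hij (congrArg ULift.down h).symm⟩

theorem cm_inv (i : Fin 2) : MZ S ≤ normalizer (W i : Set G) := C.inv ⟨i⟩

theorem cm_ne (i : Fin 2) : W i ≠ ⊥ := C.ne ⟨i⟩

theorem cm_inj {i j : Fin 2} (h : W i = W j) : i = j := by
  by_contra hij
  have h1 := cm_dis C hij
  rw [h, inf_idem] at h1
  exact cm_ne C j h1

/-- `N_G(S)` permutes the two classes -/
theorem cm_nS {n : G} (hn : n ∈ normalizer (S : Set G)) : (∀ i, MulAut.conj n • W i = W i) ∨
    ∀ i, MulAut.conj n • W i = W (i + 1) := by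
  have h := fun i => C.nS n hn ⟨i⟩
  obtain ⟨a, ha⟩ := h 0
  obtain ⟨b, hb⟩ := h 1
  have ha' : MulAut.conj n • W 0 = W a.down := ha
  have hb' : MulAut.conj n • W 1 = W b.down := hb
  have hab : a.down ≠ b.down := by
    intro e
    rw [← e, ← ha'] at hb'
    exact absurd (cm_inj C (smul_left_cancel _ hb')) (by decide)
  have h2 : ∀ x y : Fin 2, x ≠ y → (x = 0 ∧ y = 1) ∨ (x = 1 ∧ y = 0) := by decide
  rcases h2 _ _ hab with ⟨e1, e2⟩ | ⟨e1, e2⟩
  · left
    rw [e1] at ha'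
    rw [e2] at hb'
    intro i
    rcases Fin.exists_fin_two.1 ⟨i, rfl⟩ with h | h
    · rw [h]; exact ha'
    · rw [h]; exact hb'
  · right
    rw [e1] at ha'
    rw [e2] at hb'
    intro i
    rcases Fin.exists_fin_two.1 ⟨i, rfl⟩ with h | h
    · rw [h]; exact ha'
    · rw [h]; exact hb'

end cm

section fin

variable [Finite G] {S : Sylow 2 G} {W : Fin 2 → Subgroup G}
  (h : RB S) (C : CM (S : Subgroup G) (fun i : ULift.{u} (Fin 2) => W i.down))

theorem S_ne (h : RB S) : (S : Subgroup G) ≠ ⊥ := h.ctx.sylow_ne_bot S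

theorem S_le_MZ (h : RB S) : (S : Subgroup G) ≤ MZ (S : Subgroup G) := Merge.S_le_MZ h.ctx h.full

theorem isLoc_MZ (h : RB S) : IsLoc (S : Subgroup G) (MZ (S : Subgroup G)) :=
  Merge.isLoc_MZ h.ctx h.full h.data.noff

theorem Wd_le_S (h : RB S) : Wd (S : Subgroup G) ≤ (S : Subgroup G) :=
  ((isLoc_MZ h).zl_le S h.ctx.char2).trans ((zc_le _).trans ((isLoc_MZ h).o2_le S))

theorem Wd_sq (h : RB S) : ∀ x ∈ Wd (S : Subgroup G), x ^ 2 = 1 := fun x hx =>
  Star.zl_sq h.ctx.char2 h.data.noff x hx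

include h C

theorem S_nor (i : Fin 2) : (S : Subgroup G) ≤ normalizer (W i : Set G) := (S_le_MZ h).trans (cm_inv C i)

theorem W_le_S (i : Fin 2) : W i ≤ (S : Subgroup G) := (cm_le C i).trans (Wd_le_S h)

theorem ZZ_ne (i : Fin 2) : ZZ (S : Subgroup G) W i ≠ ⊥ := by
  have h1 := PLocal.OffenderStep.inf_centralizer_ne_bot (W i) (S : Subgroup G)
    (S.isPGroup'.to_le (W_le_S h C i)) S.isPGroup' (S_nor h C i) (cm_ne C i)
  intro h2
  apply h1
  rw [eq_bot_iff, ← h2]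
  rintro x ⟨hx, hxS⟩
  refine mem_inf.2 ⟨hx, MinSimple.VModule.mem_zc.2 ⟨W_le_S h C i hx, fun t ht => ?_, Wd_sq h x (cm_le C i hx)⟩⟩
  exact mem_centralizer_iff.1 hxS t ht

theorem exists_z (i : Fin 2) : ∃ z ∈ ZZ (S : Subgroup G) W i, z ≠ 1 := by
  obtain ⟨⟨z, hz⟩, hz1⟩ := (Subgroup.ne_bot_iff_exists_ne_one).1 (ZZ_ne h C i)
  exact ⟨z, hz, fun h1 => hz1 (Subtype.ext h1)⟩

/-- `g ∈ N_G(S)` which centralises some `Z_i` normalises `W 0` and `W 1` -/
theorem nN (i : Fin 2) {g : G} (hg : g ∈ normalizer ((S : Subgroup G) : Set G))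
    (hc : g ∈ centralizer (ZZ (S : Subgroup G) W i : Set G)) (k : Fin 2) : g ∈ normalizer (W k : Set G) := by
  rcases cm_nS C hg with h1 | h1
  · exact mem_nor (h1 k)
  · exfalso
    obtain ⟨z, hz, hz1⟩ := exists_z h C i
    have h2 : z ∈ MulAut.conj g • W i := by
      refine ⟨z, hz.1, ?_⟩
      change g * z * g⁻¹ = z
      rw [← mem_centralizer_iff.1 hc z hz]; group
    rw [h1] at h2
    have h3 : z ∈ W i ⊓ W (i + 1) := ⟨hz.1, h2⟩
    rw [cm_dis C (OM.KTwo.ne_add_one i)] at h3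
    exact hz1 (mem_bot.1 h3)

/-- `W i ≤ WP S` from one `P ∈ P*(S)` with `W i ≤ V_P` -/
theorem wp_of {i : Fin 2} (hz : ∃ P, IsParS (S : Subgroup G) P ∧ W i ≤ zl (S : Subgroup G) P) :
    W i ≤ WP (S : Subgroup G) := by
  obtain ⟨P, hP, h1⟩ := hz
  exact h1.trans (zl_le_WP hP)

/-- **`Spl S W`** -/
theorem spl (hz : ∀ i, ∃ P, IsParS (S : Subgroup G) P ∧ W i ≤ zl (S : Subgroup G) P)
    (hgen : ∀ i j, i ≠ j → W i ≤ NoFF.Basic.V (ZZ (S : Subgroup G) W i)
      (centralizer (ZZ (S : Subgroup G) W j : Set G))) : Spl S W where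
  sup := cm_sup C (by decide)
  dis := cm_dis C (by decide)
  ne := cm_ne C
  nS := S_nor h C
  wp i := wp_of h C (hz i)
  par _ _ _ R hR _ _ k := (Merge.le_MZ hR).trans (cm_inv C k)
  nN i _ hg hc k := nN h C i hg hc k
  gen := hgen

/-- an active `P` which moves `Z_i` : `O²(P)` centralises `W j`, `P` centralises `Z_j` -/
theorem act_odd {P : Subgroup G} (hP : Act (S : Subgroup G) P) {i j : Fin 2} (hij : i ≠ j)
    (hmv : ¬ P ≤ centralizer (ZZ (S : Subgroup G) W i : Set G)) :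
    (∀ g ∈ P, Odd (orderOf g) → g ∈ centralizer (W j : Set G)) ∧
      P ≤ centralizer (ZZ (S : Subgroup G) W j : Set G) := by
  obtain ⟨k, hk, hk'⟩ := C.one P hP
  have hodd : ∀ m : Fin 2, m ≠ k.down → ∀ g ∈ P, Odd (orderOf g) → g ∈ centralizer (W m : Set G) :=
    fun m hm g hg ho => hk' ⟨m⟩ (fun e => hm (congrArg ULift.down e)) g hg ho
  have hcent : ∀ m : Fin 2, m ≠ k.down → P ≤ centralizer (ZZ (S : Subgroup G) W m : Set G) := by
    intro m hm
    conv_lhs => rw [← NoFF.LinesPlug.oddGen_sup hP.1.le (MinSimple.Basic.not_dvd_relIndex S hP.1.le)]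
    refine sup_le ?_ (InstZ.Spl.S_le_cent W m)
    rw [MinSimple.VModule.oddGen_def, closure_le]
    rintro g ⟨hg, ho⟩
    exact centralizer_le inf_le_left (hodd m hm g hg ho)
  have hki : k.down = i := by
    by_contra hki
    exact hmv (hcent i (Ne.symm hki))
  exact ⟨hodd j (by rw [hki]; exact hij.symm), hcent j (by rw [hki]; exact hij.symm)⟩

/-- some active `P` moves `Z_i` and centralises `Z_j` -/
theorem exists_act (hm : MvAct (S : Subgroup G)) {i j : Fin 2} (hij : i ≠ j) :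
    ∃ P, Act (S : Subgroup G) P ∧ ¬ P ≤ centralizer (ZZ (S : Subgroup G) W i : Set G) ∧
      (∀ g ∈ P, Odd (orderOf g) → g ∈ centralizer (W j : Set G)) ∧
        P ≤ centralizer (ZZ (S : Subgroup G) W j : Set G) := by
  obtain ⟨z, hz, hz1⟩ := exists_z h C i
  obtain ⟨P, hP, hPz⟩ := hm z hz.2 hz1
  have hmv : ¬ P ≤ centralizer (ZZ (S : Subgroup G) W i : Set G) := fun h1 =>
    hPz (h1.trans (centralizer_le (Set.singleton_subset_iff.2 hz)))
  exact ⟨P, hP, hmv, act_odd h C hP hij hmv⟩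

omit C in
/-- **nonlocality** -/
theorem nonLoc (hc : ∀ R, IsParS (S : Subgroup G) R → R ≤ centralizer (ZZ (S : Subgroup G) W 0 : Set G) ∨
      R ≤ centralizer (ZZ (S : Subgroup G) W 1 : Set G)) :
    NonLoc (centralizer (ZZ (S : Subgroup G) W 0 : Set G)) (centralizer (ZZ (S : Subgroup G) W 1 : Set G)) := by
  intro U hU h0 h1
  refine Merge.nonLoc_MZ h.ctx h.full U hU (sSup_le fun R hR => ?_) ?_
  · rcases hc R hR with h2 | h2
    · exact h2.trans h0
    · exact h2.trans h1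
  · exact (centralizer_le (inf_le_right : ZZ (S : Subgroup G) W 0 ≤ zc (S : Subgroup G))).trans h0

end fin

end Cfsg.Agent.Omega.NOThreeL.RRed.WLeft

end

section


/-!
# NO-3L, box R, one class: the `𝔽₂`-half of `OneBlk` (item 10 of 699's ledger)

* `bks_of_tvS` : `V*` irreducible for `M₀` and `TvS S` give `Bks S N E ⊥ Om phi`;
* `OneNat` : what is left (`¬ TvS S`, so `Fld S`): natural blocks, `q ≥ 4`;
* **`oneBlk_of : OneNat → OneBlk`**.
-/

set_option autoImplicit false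
set_option linter.unusedSectionVars false

namespace Cfsg.Agent.Omega.NOThreeL.RRed.WideTree

open Subgroup Cfsg Cfsg.Agent.ZN Cfsg.Agent.Omega.MinPar Cfsg.Agent.Omega.Frame Cfsg.Agent.Omega.FrameNOFF
open Cfsg.Agent.Omega.Node.NO3L Cfsg.Agent.Omega.NOThreeL.Basic Cfsg.Agent.Omega.NOThreeL.RTree
open Cfsg.Agent.Omega.NOThreeL.RTreeF
open Cfsg.Agent.Omega.NOThreeL.Merge (MZ)
open Cfsg.Agent.Omega.NOThreeL.RRed.GlueSig
open Cfsg.Agent.Omega.NOThreeL.RRed.FourTree (Bks TvS Fld tvS_or exists_bks)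

universe u

section

variable {G : Type u} [Group G]

/-- `R₀ = 1` for an irreducible `V*` -/
theorem rest_eq_bot {ι : Type u} {S L U R₀ : Subgroup G} {N E : ι → Subgroup G} (h : Blk.Dec S L U N E R₀)
    (hι : Nonempty ι) (hirr : ∀ W : Subgroup G, W ≤ U → L ≤ normalizer (W : Set G) → W ≠ ⊥ → U ≤ W) : R₀ = ⊥ := by
  by_contra hne
  obtain ⟨b⟩ := hι
  have h1 : R₀ ≤ U := by rw [← h.sup]; exact le_sup_right
  have h2 : U ≤ R₀ := hirr R₀ h1 h.Rnor hne
  have h3 : N b ≤ R₀ := ((le_iSup N b).trans (le_sup_left.trans h.sup.le)).trans h2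
  apply h.ne b
  rw [eq_bot_iff, ← h.ind b]
  exact le_inf le_rfl (h3.trans le_sup_right)

/-- **`𝔽₂`-blocks for an irreducible `V*`** -/
theorem bks_of_tvS [Finite G] {S : Sylow 2 G} (hW : Wide S)
    (hirr : ∀ W : Subgroup G, W ≤ Wd (S : Subgroup G) → MZ (S : Subgroup G) ≤ normalizer (W : Set G) → W ≠ ⊥ →
      Wd (S : Subgroup G) ≤ W) (ht : TvS (S : Subgroup G)) :
    ∃ (I : Type u) (_ : Fintype I) (_ : DecidableEq I) (N E : I → Subgroup G) (Om : I → Type u)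
      (_ : ∀ i, Fintype (Om i)) (_ : ∀ i, DecidableEq (Om i)) (phi : ∀ i, Finset (Om i) → G), Bks S N E ⊥ Om phi := by
  obtain ⟨I, i1, i2, N, E, R₀, Om, i3, i4, phi, h⟩ := exists_bks hW.toRB hW.rr ht
  obtain rfl := rest_eq_bot h.toDec h.nonempty hirr
  exact ⟨I, i1, i2, N, E, Om, i3, i4, phi, h⟩

end

/-- **The half `q ≥ 4` of `OneBlk`.** -/
def OneNat : Prop :=
  ∀ (G : Type u) [Group G] [Finite G] (S : Sylow 2 G), Wide S → MvAct (S : Subgroup G) →
    CM (S : Subgroup G) (fun _ : PUnit.{u + 1} => Wd (S : Subgroup G)) → Fld S → ¬ TvS (S : Subgroup G) →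
      ∃ (ι : Type u) (_ : Finite ι) (N E D l : ι → Subgroup G) (q : ℕ), 4 ≤ q ∧ Nonempty ι ∧
        NBs (S : Subgroup G) N E D l (fun _ => q) ∧ Src (S : Subgroup G) N l (fun _ => q)

/-- **`OneBlk` from its half `q ≥ 4`** -/
theorem oneBlk_of (h4 : OneNat.{u}) : OneBlk.{u} := by
  intro G _ _ S hW hm hCM
  by_cases ht : TvS (S : Subgroup G)
  · exact Or.inr (bks_of_tvS hW (fun W => hCM.irr PUnit.unit W) ht)
  · exact Or.inl (h4 G S hW hm hCM ((tvS_or hW.toRB hW.rr).resolve_left ht) ht)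

end Cfsg.Agent.Omega.NOThreeL.RRed.WideTree

end

section


/-!
# NO-3L, box R: one natural block is void (`WideTree.WOneOne`)

`V* = N` one natural `SL₂(q)`-block, `T = S ∩ D` (the root group of the line `l`): `C_Z(P) = 1` for all `P ∈ P*(S)`
(`WOneA.fix_eq_one` if `T ≰ O₂(P)`, `WOneB.Rt.not_fix` if `T ≤ O₂(P)`), against `RB.ex`.
-/

set_option autoImplicit false
set_option linter.unusedSectionVars false

namespace Cfsg.Agent.Omega.NOThreeL.RRed.WOneOne

open Subgroup Cfsg Cfsg.Agent.ZN Cfsg.Agent.Omega.MinPar Cfsg.Agent.Omega.Frame Cfsg.Agent.Omega.FrameNOFF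
open Cfsg.Agent.Omega.Node.NO3L Cfsg.Agent.Omega.NOThreeL.Basic Cfsg.Agent.Omega.NOThreeL.RTree
open Cfsg.Agent.Omega.NOThreeL.Merge (MZ le_MZ S_le_MZ)
open Cfsg.Agent.Omega.NOThreeL.RRed.GlueSig
open Cfsg.Agent.Omega.NOThreeL.RRed.WideTree
open Cfsg.Agent.Omega.FFThm (ElemM)
open scoped Pointwise

universe u

/-- **one block is void** : `C_Z(P) = 1` for all `P ∈ P*(S)` -/
theorem zc_inf_eq_bot {G : Type u} [Group G] [Finite G] {S : Sylow 2 G} (hW : Wide S) {ι : Type u}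
    {N E D l : ι → Subgroup G} {q : ι → ℕ} (h : NBs (S : Subgroup G) N E D l q) {b : ι} (hb : ∀ c, c = b)
    {P : Subgroup G} (hP : IsParS (S : Subgroup G) P) : zc (S : Subgroup G) ⊓ centralizer (P : Set G) = ⊥ := by
  have hSM : (S : Subgroup G) ≤ MZ (S : Subgroup G) := S_le_MZ hW.ctx hW.full
  have hMV : MZ (S : Subgroup G) ≤ normalizer (Wd (S : Subgroup G) : Set G) :=
    MinSimple.VModule.le_normalizer_zl _ _
  have hNV : N b = Wd (S : Subgroup G) := by
    have h1 := h.dec.sup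
    rw [sup_bot_eq] at h1
    rw [← h1]
    refine le_antisymm (le_iSup N b) (iSup_le fun c => ?_)
    rw [hb c]
  obtain ⟨F, i1, i2, i3, e, -, hn⟩ := h.nat b
  rw [hNV] at hn
  have hSl1 : ∀ s ∈ (S : Subgroup G), ∀ x ∈ l b, s * x * s⁻¹ ∈ l b := by
    intro s hs x hx
    obtain ⟨c, hc⟩ := h.ln s hs b
    rw [hb c] at hc
    have h1 := Subgroup.smul_mem_pointwise_smul x (MulAut.conj s) (l b) hx
    rw [hc] at h1
    exact h1
  have hSl : (S : Subgroup G) ≤ normalizer (l b : Set G) := by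
    intro s hs
    rw [mem_normalizer_iff]
    intro x
    refine ⟨hSl1 s hs x, fun hx => ?_⟩
    have h1 := hSl1 s⁻¹ (inv_mem hs) _ hx
    have h2 : s⁻¹ * (s * x * s⁻¹) * s⁻¹⁻¹ = x := by group
    rwa [h2] at h1
  have hR : WOneB.Rt (Wd (S : Subgroup G)) ((S : Subgroup G) ⊓ D b) (l b) F e :=
    { mul := hn.mul
      inj := hn.inj
      sur := hn.sur
      line := hn.line
      root := hn.root
      syl := hn.sylow
      nV := inf_le_left.trans (hSM.trans hMV) }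
  have hZV : zc (S : Subgroup G) ≤ Wd (S : Subgroup G) := MinSimple.VModule.zc_le_zl _ _
  have hZl : zc (S : Subgroup G) ≤ l b := by
    intro y hy
    obtain ⟨t, ht, hc⟩ := hn.sylow 1
    have h1 := hc y (hZV hy)
    have h2 : t * y * t⁻¹ = y := by
      rw [(MinSimple.VModule.mem_zc.1 hy).2.1 t ht.1]
      group
    rw [h2] at h1
    have h3 : e y 0 = e y 0 + 1 * e y 1 := congrFun h1 0
    rw [one_mul] at h3
    exact (hn.line y).2 ⟨hZV hy, left_eq_add.1 h3⟩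
  obtain ⟨P₀, A₀, hg⟩ := FourTree.exists_gOne_rr hW.toRB hW.rr
  have hno : ∀ A ≤ (S : Subgroup G), ElemM (Wd (S : Subgroup G)) A →
      Nat.card A * Nat.card ↥(Wd (S : Subgroup G) ⊓ centralizer (A : Set G)) ≤
        Nat.card (Wd (S : Subgroup G)) * Nat.card ↥(A ⊓ centralizer (Wd (S : Subgroup G) : Set G)) :=
    fun A hA hE => hg.no A (hA.trans hSM) hE
  have hPM : P ≤ MZ (S : Subgroup G) := le_MZ hP
  rw [eq_bot_iff]
  rintro z ⟨hz, hzP⟩
  rw [mem_bot]
  by_cases hT : (S : Subgroup G) ⊓ D b ≤ o2 P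
  · exact hR.not_fix hP (hPM.trans hMV) hno hSl hT hZl (hZl hz) hzP
  · exact WOneA.fix_eq_one hW.ctx.char2 hP (Star.zl_mono _ hPM) hg.comm inf_le_left hT hn.mul hn.inj hn.sur
      hn.root hn.sylow hz hzP

/-- **`WOneOne`** -/
theorem wOneOne (K : Cls.{u}) (B : Fr.{u}) : WOneOne K B := by
  intro G _ _ _ S _ hW _ _ ι _ N E D l q _ h _ hι
  exfalso
  obtain ⟨h1, ⟨b⟩⟩ := Nat.card_eq_one_iff_unique.1 hι
  obtain ⟨P, hP, hne⟩ := hW.ex
  exact hne (zc_inf_eq_bot hW h (b := b) (fun c => Subsingleton.elim _ _) hP)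

end Cfsg.Agent.Omega.NOThreeL.RRed.WOneOne

end

section


/-!
# WideAll, one class, two natural blocks, `q = 4`: void (T3 of helper483's #26256, row 13 of #25504)

* `odd_trick` : `Y ≤ X` contains the squares and the 2-elements of `X`: `X ≤ Y`;
* `core` : `T` a 2-group, every 2-subgroup of `P₀` is conjugate in `P₀` to a subgroup of `T`, `P₀` acts on `N`, `T` centralises
  `l` (order 4), `R ≤ T` acts as a root group with line `l`, `P₀` fixes `v₀ ∈ l`, `v₀ ≠ 1`: then `P₀` centralises `l`;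
* `exists_swap` : some `s ∈ S` interchanges the two blocks;
* **`four_false`** : `Wide S`, `V*` irreducible for `M₀`, two natural blocks with `q = 4` are impossible.
-/

set_option autoImplicit false
set_option linter.unusedSectionVars false

namespace Cfsg.Agent.Omega.NOThreeL.RRed.OneTwoFour

open Subgroup Cfsg Cfsg.Agent.ZN Cfsg.Agent.Omega.MinPar Cfsg.Agent.Omega.Frame Cfsg.Agent.Omega.FrameNOFF
open Cfsg.Agent.Omega.Node.NO3L Cfsg.Agent.Omega.NOThreeL.Basic Cfsg.Agent.Omega.NOThreeL.RTree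
open Cfsg.Agent.Omega.NOThreeL.Merge (MZ)
open Cfsg.Agent.Omega.NOThreeL.RRed.WideTree
open Cfsg.Agent.Omega.NOThreeL.RRed.Blk
open Cfsg.Agent.ZN.ChoiceBase (cj mem_cj mem_normalizer_iff_cj card_cj isPGroup_cj)
open scoped Pointwise

universe u

variable {G : Type u} [Group G]

section abs

theorem odd_trick [Finite G] {X Y : Subgroup G} (h2 : ∀ x ∈ X, x * x ∈ Y)
    (he : ∀ x ∈ X, IsPGroup 2 (zpowers x) → x ∈ Y) : X ≤ Y := by
  intro x hx
  obtain ⟨a, n, hn, e⟩ := Nat.exists_eq_two_pow_mul_odd (orderOf_pos x).ne'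
  have h1 : x ^ n ∈ Y := by
    refine he _ (pow_mem hx n) (IsPGroup.of_card (n := a) ?_)
    rw [Nat.card_zpowers, orderOf_pow, e, Nat.gcd_eq_right (Dvd.intro_left _ rfl),
      Nat.mul_div_cancel _ hn.pos]
  obtain ⟨m, hm⟩ := hn
  have h3 : x ^ n = (x * x) ^ m * x := by rw [hm, pow_succ, pow_mul, pow_two]
  have h4 : x = ((x * x) ^ m)⁻¹ * x ^ n := by rw [h3]; group
  rw [h4]
  exact mul_mem (inv_mem (pow_mem (h2 x hx) m)) h1

/-- a Sylow 2-subgroup `W ≥ R` of `X`; every 2-element of `X` is conjugate in `X` into `W` -/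
theorem exists_syl_ge [Finite G] {X R : Subgroup G} (hR : IsPGroup 2 R) (hRX : R ≤ X) :
    ∃ W : Subgroup G, W ≤ X ∧ IsPGroup 2 W ∧ R ≤ W ∧
      ∀ y ∈ X, IsPGroup 2 (zpowers y) → ∃ x ∈ X, x⁻¹ * y * x ∈ W := by
  have hf : Fact (Nat.Prime 2) := ⟨Nat.prime_two⟩
  obtain ⟨Q, hQ⟩ := (hR.comap_of_injective X.subtype X.subtype_injective).exists_le_sylow
  refine ⟨(Q : Subgroup X).map X.subtype, map_subtype_le _, Q.isPGroup'.map _, ?_, ?_⟩
  · intro r hr
    exact ⟨⟨r, hRX hr⟩, hQ (mem_comap.2 hr), rfl⟩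
  · intro y hy hy2
    have h1 : IsPGroup 2 (zpowers (⟨y, hy⟩ : X)) := by
      have h2 : (zpowers (⟨y, hy⟩ : X)).map X.subtype = zpowers y := by rw [MonoidHom.map_zpowers]; rfl
      have h3 : IsPGroup 2 ((zpowers (⟨y, hy⟩ : X)).map X.subtype) := by rw [h2]; exact hy2
      have h4 := h3.comap_of_injective X.subtype X.subtype_injective
      rwa [comap_map_eq_self_of_injective X.subtype_injective] at h4
    obtain ⟨Q', hQ'⟩ := h1.exists_le_sylow
    obtain ⟨x, hx⟩ := MulAction.exists_smul_eq X Q Q'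
    have h5 : (⟨y, hy⟩ : X) ∈ (Q' : Subgroup X) := hQ' (mem_zpowers _)
    rw [← hx, Sylow.coe_subgroup_smul] at h5
    have h6 : x⁻¹ * (⟨y, hy⟩ : X) * x ∈ (Q : Subgroup X) := by
      have h7 := (mem_pointwise_smul_iff_inv_smul_mem (a := MulAut.conj x) (S := (Q : Subgroup X))).1 h5
      simpa [MulAut.conj_apply, MulAut.inv_def, MulAut.conj_symm_apply] using h7
    exact ⟨(x : G), x.2, ⟨_, h6, rfl⟩⟩

variable [Finite G]

theorem conj_cent {l : Subgroup G} {g c : G} (hg : g ∈ normalizer (l : Set G)) (hc : ∀ x ∈ l, c * x = x * c) :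
    ∀ x ∈ l, (g * c * g⁻¹) * x = x * (g * c * g⁻¹) := by
  intro x hx
  have h1 : g⁻¹ * x * g ∈ l := (mem_normalizer_iff''.1 hg x).1 hx
  have h3 := hc _ h1
  calc g * c * g⁻¹ * x = g * (c * (g⁻¹ * x * g)) * g⁻¹ := by group
    _ = g * ((g⁻¹ * x * g) * c) * g⁻¹ := by rw [h3]
    _ = x * (g * c * g⁻¹) := by group

theorem norm_of {l : Subgroup G} {g : G} (hg : ∀ x ∈ l, g * x * g⁻¹ ∈ l) : g ∈ normalizer (l : Set G) := by
  rw [mem_normalizer_iff_cj]
  refine Subgroup.eq_of_le_of_card_ge ?_ (by rw [card_cj])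
  rintro _ ⟨y, hy, rfl⟩
  exact hg y hy

/-- the elements of `l` -/
theorem four_elems {l : Subgroup G} {v₀ w x : G} (hcard : Nat.card l = 4) (h2 : v₀ * v₀ = 1) (hv : v₀ ∈ l)
    (hv1 : v₀ ≠ 1) (hw : w ∈ l) (hw1 : w ≠ 1) (hwv : w ≠ v₀) (hx : x ∈ l) :
    x = 1 ∨ x = v₀ ∨ x = w ∨ x = v₀ * w := by
  classical
  by_contra hcon
  push Not at hcon
  obtain ⟨c1, c2, c3, c4⟩ := hcon
  have hvw : v₀ * w ∈ l := mul_mem hv hw
  have h1 : ({1, v₀, w, v₀ * w, x} : Finset G).card = 5 := by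
    have n1 : v₀ * w ≠ 1 := fun e => hwv (by
      have h3 : v₀ * w = v₀ * v₀ := by rw [e, h2]
      exact mul_left_cancel h3)
    have n2 : v₀ * w ≠ v₀ := fun e => hw1 (by simpa using e)
    have n3 : v₀ * w ≠ w := fun e => hv1 (by simpa using e)
    rw [Finset.card_insert_of_notMem, Finset.card_insert_of_notMem, Finset.card_insert_of_notMem,
      Finset.card_insert_of_notMem, Finset.card_singleton]
    · simp only [Finset.mem_singleton]; exact fun e => c4 e.symm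
    · simp only [Finset.mem_insert, Finset.mem_singleton]
      rintro (e | e)
      · exact n3 e.symm
      · exact c3 e.symm
    · simp only [Finset.mem_insert, Finset.mem_singleton]
      rintro (e | e | e)
      · exact hwv e.symm
      · exact n2 e.symm
      · exact c2 e.symm
    · simp only [Finset.mem_insert, Finset.mem_singleton]
      rintro (e | e | e | e)
      · exact hv1 e.symm
      · exact hw1 e.symm
      · exact n1 e.symm
      · exact c1 e.symm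
  have h3 : (({1, v₀, w, v₀ * w, x} : Finset G) : Set G) ⊆ (l : Set G) := by
    intro y hy
    simp only [Finset.coe_insert, Finset.coe_singleton, Set.mem_insert_iff, Set.mem_singleton_iff] at hy
    rcases hy with rfl | rfl | rfl | rfl | rfl
    · exact one_mem l
    · exact hv
    · exact hw
    · exact hvw
    · exact hx
  have h4 := Set.ncard_le_ncard h3 (Set.toFinite _)
  rw [Set.ncard_coe_finset, h1] at h4
  have h5 : (l : Set G).ncard = 4 := hcard
  omega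

theorem core {T P₀ N l R : Subgroup G} {v₀ : G} (hT : IsPGroup 2 T)
    (hsyl : ∀ W : Subgroup G, W ≤ P₀ → IsPGroup 2 W → ∃ h ∈ P₀, ∀ w ∈ W, h * w * h⁻¹ ∈ T)
    (hTP : T ≤ P₀) (hPN : ∀ g ∈ P₀, ∀ x ∈ N, g * x * g⁻¹ ∈ N) (hN2 : ∀ x ∈ N, x * x = 1)
    (hlN : l ≤ N) (hcard : Nat.card l = 4) (hTl : ∀ t ∈ T, ∀ x ∈ l, t * x = x * t) (hRT : R ≤ T)
    (hRf : ∀ x ∈ N, x ∉ l → ∀ z ∈ l, ∃ r ∈ R, r * x * r⁻¹ * x⁻¹ = z)
    (hv : v₀ ∈ l) (hv1 : v₀ ≠ 1) (hvP : ∀ g ∈ P₀, g * v₀ = v₀ * g) : ∀ g ∈ P₀, ∀ x ∈ l, g * x = x * g := by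
  have hRP : R ≤ P₀ := hRT.trans hTP
  have hvv : v₀ * v₀ = 1 := hN2 v₀ (hlN hv)
  have hvc : ∀ g ∈ P₀, g * v₀ * g⁻¹ = v₀ := fun g hg => by rw [hvP g hg, mul_inv_cancel_right]
  -- Step A
  have hnor : ∀ g ∈ P₀, g ∈ normalizer (l : Set G) := by
    intro g hg
    by_contra hgn
    have hne : cj g l ≠ l := fun e => hgn (mem_normalizer_iff_cj.2 e)
    have hvl' : v₀ ∈ cj g l := ⟨v₀, hv, hvc g hg⟩
    obtain ⟨w, hw, hwl'⟩ : ∃ w ∈ l, w ∉ cj g l := by
      by_contra hcon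
      push Not at hcon
      exact hne (Subgroup.eq_of_le_of_card_ge hcon (by rw [card_cj])).symm
    have hw1 : w ≠ 1 := fun e => hwl' (e ▸ one_mem _)
    have hwv : w ≠ v₀ := fun e => hwl' (e ▸ hvl')
    -- `r'`
    have hgw : g⁻¹ * w * g ∈ N := by
      have := hPN g⁻¹ (inv_mem hg) w (hlN hw)
      rwa [inv_inv] at this
    have hgwl : g⁻¹ * w * g ∉ l := fun h => hwl' ⟨_, h, by
      change g * (g⁻¹ * w * g) * g⁻¹ = w
      group⟩
    obtain ⟨r, hr, e⟩ := hRf _ hgw hgwl v₀ hv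
    set r' := g * r * g⁻¹ with hr'
    have hr'P : r' ∈ P₀ := mul_mem (mul_mem hg (hRP hr)) (inv_mem hg)
    have hr'w : r' * w * r'⁻¹ = v₀ * w := by
      have e1 : r' * w * r'⁻¹ * w⁻¹ = g * (r * (g⁻¹ * w * g) * r⁻¹ * (g⁻¹ * w * g)⁻¹) * g⁻¹ := by
        rw [hr']; group
      rw [e, hvc g hg] at e1
      rw [← e1]; group
    have hr'2 : IsPGroup 2 (zpowers r') := by
      have h1 : zpowers r' = cj g (zpowers r) := by
        rw [hr']
        exact (MonoidHom.map_zpowers (MulAut.conj g).toMonoidHom r).symm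
      rw [h1]
      exact isPGroup_cj g (hT.to_le (by rw [zpowers_le]; exact hRT hr))
    have hr'n : r' ∈ normalizer (l : Set G) := by
      refine norm_of fun x hx => ?_
      rcases four_elems hcard hvv hv hv1 hw hw1 hwv hx with rfl | rfl | rfl | rfl
      · rw [mul_one, mul_inv_cancel]; exact one_mem _
      · rw [hvc r' hr'P]; exact hv
      · rw [hr'w]; exact mul_mem hv hw
      · have e2 : r' * (v₀ * w) * r'⁻¹ = (r' * v₀ * r'⁻¹) * (r' * w * r'⁻¹) := by group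
        rw [e2, hvc r' hr'P, hr'w]
        exact mul_mem hv (mul_mem hv hw)
    have hRn : R ≤ normalizer (l : Set G) := fun r hr => norm_of fun x hx => by
      rw [hTl r (hRT hr) x hx, mul_inv_cancel_right]; exact hx
    have hXn : R ⊔ zpowers r' ≤ normalizer (l : Set G) := sup_le hRn (by rw [zpowers_le]; exact hr'n)
    have hXP : R ⊔ zpowers r' ≤ P₀ := sup_le hRP (by rw [zpowers_le]; exact hr'P)
    obtain ⟨W, hWX, hW2, hRW, hWc⟩ := exists_syl_ge (hT.to_le hRT) (le_sup_left : R ≤ R ⊔ zpowers r')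
    obtain ⟨h, hh, hhW⟩ := hsyl W (hWX.trans hXP) hW2
    -- `W` centralises `l`
    have hWy : ∀ x ∈ l, ∀ w' ∈ W, w' * (h⁻¹ * x * h) = (h⁻¹ * x * h) * w' := by
      intro x hx w' hw'
      have h1 := hTl _ (hhW w' hw') x hx
      calc w' * (h⁻¹ * x * h) = h⁻¹ * ((h * w' * h⁻¹) * x) * h := by group
        _ = h⁻¹ * (x * (h * w' * h⁻¹)) * h := by rw [h1]
        _ = (h⁻¹ * x * h) * w' := by group
    have hle : cj h⁻¹ l ≤ l := by
      rintro _ ⟨x, hx, rfl⟩
      change h⁻¹ * x * h⁻¹⁻¹ ∈ l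
      rw [inv_inv]
      by_contra hcon
      have hxN : h⁻¹ * x * h ∈ N := by
        have := hPN h⁻¹ (inv_mem hh) x (hlN hx)
        rwa [inv_inv] at this
      obtain ⟨r₁, hr₁, e1⟩ := hRf _ hxN hcon v₀ hv
      rw [hWy x hx r₁ (hRW hr₁), mul_inv_cancel_right, mul_inv_cancel] at e1
      exact hv1 e1.symm
    have heq : cj h⁻¹ l = l := Subgroup.eq_of_le_of_card_ge hle (by rw [card_cj])
    have hWl : ∀ w' ∈ W, ∀ x ∈ l, w' * x = x * w' := by
      intro w' hw' x hx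
      rw [← heq] at hx
      obtain ⟨y, hy, e1⟩ := hx
      have e2 : h⁻¹ * y * h = x := by
        rw [← e1]
        change _ = h⁻¹ * y * h⁻¹⁻¹
        rw [inv_inv]
      rw [← e2]
      exact hWy y hy w' hw'
    obtain ⟨x, hx, hxW⟩ := hWc r' (mem_sup_right (mem_zpowers r')) hr'2
    have h5 := conj_cent (hXn hx) (hWl _ hxW) w hw
    have e3 : x * (x⁻¹ * r' * x) * x⁻¹ = r' := by group
    rw [e3] at h5
    rw [h5, mul_inv_cancel_right] at hr'w
    exact hv1 (by simpa using hr'w.symm)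
  -- Step B
  have hle : P₀ ≤ centralizer (l : Set G) := by
    refine odd_trick ?_ ?_
    · intro g hg
      rw [mem_centralizer_iff]
      intro x hx
      have hgx : g * x * g⁻¹ ∈ l := (mem_normalizer_iff.1 (hnor g hg) x).1 hx
      have key : g * (g * x * g⁻¹) * g⁻¹ = x := by
        by_cases hx1 : x = 1
        · rw [hx1]; group
        by_cases hxv : x = v₀
        · rw [hxv, hvc g hg, hvc g hg]
        rcases four_elems hcard hvv hv hv1 hx hx1 hxv hgx with e | e | e | e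
        · exact absurd (conj_eq_one_iff.1 e) hx1
        · exfalso
          apply hxv
          have e1 : x = g⁻¹ * v₀ * g := by rw [← e]; group
          rw [e1, mul_assoc, ← hvP g hg]; group
        · rw [e, e]
        · have e2 : g * (v₀ * x) * g⁻¹ = (g * v₀ * g⁻¹) * (g * x * g⁻¹) := by group
          rw [e, e2, hvc g hg, e, ← mul_assoc, hvv, one_mul]
      have e4 : (g * g) * x * (g * g)⁻¹ = x := by
        have : (g * g) * x * (g * g)⁻¹ = g * (g * x * g⁻¹) * g⁻¹ := by group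
        rw [this, key]
      exact (mul_inv_eq_iff_eq_mul.1 e4).symm
    · intro g hg hg2
      obtain ⟨h, hh, hhg⟩ := hsyl (zpowers g) (by rw [zpowers_le]; exact hg) hg2
      have h1 := hTl _ (hhg g (mem_zpowers g))
      have h2 := conj_cent (inv_mem (hnor h hh)) h1
      rw [mem_centralizer_iff]
      intro x hx
      have h3 := h2 x hx
      have e1 : h⁻¹ * (h * g * h⁻¹) * h⁻¹⁻¹ = g := by group
      rw [e1] at h3
      exact h3.symm
  intro g hg x hx
  exact (mem_centralizer_iff.1 (hle hg) x hx).symm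

end abs

section grp

variable [Finite G]

theorem conj_into {S : Sylow 2 G} {P W : Subgroup G} (hSP : (S : Subgroup G) ≤ P) (hW : W ≤ P) (h2 : IsPGroup 2 W) :
    ∃ p ∈ P, ∀ w ∈ W, p * w * p⁻¹ ∈ (S : Subgroup G) := by
  have hf : Fact (Nat.Prime 2) := ⟨Nat.prime_two⟩
  obtain ⟨Q, hQ⟩ := (h2.comap_of_injective P.subtype P.subtype_injective).exists_le_sylow
  obtain ⟨x, hx⟩ := MulAction.exists_smul_eq P Q (S.subtype hSP)
  refine ⟨x, x.2, fun w hw => ?_⟩
  have h1 : (⟨w, hW hw⟩ : P) ∈ (Q : Subgroup P) := hQ (mem_comap.2 hw)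
  have h3 : MulAut.conj x • (⟨w, hW hw⟩ : P) ∈ ((x • Q : Sylow 2 P) : Subgroup P) := by
    rw [Sylow.coe_subgroup_smul]
    exact smul_mem_pointwise_smul _ _ _ h1
  rw [hx] at h3
  exact h3

theorem smul_eq_iff {X : Subgroup G} {g : G} : MulAut.conj g • X = X ↔ g ∈ normalizer (X : Set G) := by
  rw [mem_normalizer_iff_cj]
  exact Iff.rfl

variable {S : Sylow 2 G} {ι : Type u} {N E D l : ι → Subgroup G} {q : ι → ℕ} {b c : ι}

section two

variable (h : NBs (S : Subgroup G) N E D l q) (hbc : b ≠ c) (hall : ∀ d, d = b ∨ d = c)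
include h hbc hall

theorem swap_or {g : G} (hg : g ∈ MZ (S : Subgroup G)) :
    (MulAut.conj g • N b = N b ∧ MulAut.conj g • N c = N c) ∨
      (MulAut.conj g • N b = N c ∧ MulAut.conj g • N c = N b) := by
  obtain ⟨d, hd, -⟩ := h.dec.perm g hg b
  obtain ⟨d', hd', -⟩ := h.dec.perm g hg c
  have hne : d ≠ d' := by
    rintro rfl
    rw [← hd'] at hd
    exact hbc (h.dec.Ninj (smul_left_cancel _ hd))
  rcases hall d with rfl | rfl <;> rcases hall d' with rfl | rfl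
  · exact absurd rfl hne
  · exact Or.inl ⟨hd, hd'⟩
  · exact Or.inr ⟨hd, hd'⟩
  · exact absurd rfl hne

theorem not_both {g : G} (h1 : MulAut.conj g • N b = N b) (h2 : MulAut.conj g • N b = N c) : False :=
  hbc (h.dec.Ninj (h1.symm.trans h2))

/-- some `s ∈ S` interchanges the blocks -/
theorem exists_swap (B : RB S)
    (hirr : ∀ U : Subgroup G, U ≤ Wd (S : Subgroup G) → MZ (S : Subgroup G) ≤ normalizer (U : Set G) → U ≠ ⊥ →
      Wd (S : Subgroup G) ≤ U) :
    ∃ s ∈ (S : Subgroup G), MulAut.conj s • N b = N c ∧ MulAut.conj s • N c = N b := by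
  by_contra hcon
  have hS : ∀ s ∈ (S : Subgroup G), MulAut.conj s • N b = N b ∧ MulAut.conj s • N c = N c := by
    intro s hs
    rcases swap_or h hbc hall (SM B hs) with h1 | h1
    · exact h1
    · exact absurd ⟨s, hs, h1⟩ hcon
  have hM : MZ (S : Subgroup G) ≤ normalizer (N b : Set G) := by
    refine sSup_le fun P hP => ?_
    have hP' : IsParS (S : Subgroup G) P := hP
    have hPM : P ≤ MZ (S : Subgroup G) := le_MZ hP'
    have hSP : (S : Subgroup G) ≤ P := hP'.isLoc.le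
    refine odd_trick ?_ ?_
    · intro x hx
      rw [← smul_eq_iff, map_mul, mul_smul]
      rcases swap_or h hbc hall (hPM hx) with ⟨h1, h2⟩ | ⟨h1, h2⟩
      · rw [h1, h1]
      · rw [h1, h2]
    · intro x hx hx2
      rw [← smul_eq_iff]
      rcases swap_or h hbc hall (hPM hx) with ⟨h1, -⟩ | ⟨h1, h1'⟩
      · exact h1
      exfalso
      obtain ⟨p, hp, hpx⟩ := conj_into hSP (by rw [zpowers_le]; exact hx) hx2
      obtain ⟨h3, h4⟩ := hS _ (hpx x (mem_zpowers x))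
      rw [map_mul, map_mul, mul_smul, mul_smul, map_inv] at h3 h4
      rcases swap_or h hbc hall (hPM hp) with ⟨h5, h6⟩ | ⟨h5, h6⟩
      · have h7 : (MulAut.conj p)⁻¹ • N b = N b := by
          conv_lhs => rw [← h5]
          rw [inv_smul_smul]
        rw [h7, h1, h6] at h3
        exact hbc (h.dec.Ninj h3.symm)
      · have h7 : (MulAut.conj p)⁻¹ • N b = N c := by
          conv_lhs => rw [← h6]
          rw [inv_smul_smul]
        rw [h7, h1', h5] at h3
        exact hbc (h.dec.Ninj h3.symm)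
  have h1 := hirr (N b) (h.dec.NU b) hM (h.dec.ne b)
  have h2 : N c ≤ N b := (h.dec.NU c).trans h1
  apply h.dec.ne c
  rw [eq_bot_iff, ← h.dec.ind b]
  exact le_inf h2 (h.dec.N_le_Co hbc.symm)

theorem ext2 {x : G} (hx : x ∈ Wd (S : Subgroup G)) (h1 : IsC N ⊥ b x 1) (h2 : IsC N ⊥ c x 1) : x = 1 := by
  have hR := h.dec
  have : Finite ι := by
    refine Set.finite_univ_iff.1 ((Set.toFinite {b, c}).subset fun d _ => ?_)
    rcases hall d with rfl | rfl
    · exact Or.inl rfl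
    · exact Or.inr rfl
  have h3 := h.dec.mem_R hx fun d => by
    rcases hall d with rfl | rfl
    · exact h1
    · exact h2
  rwa [mem_bot] at h3

variable {s₀ : G} (hs₀ : s₀ ∈ (S : Subgroup G)) (hsb : MulAut.conj s₀ • N b = N c) (hsc : MulAut.conj s₀ • N c = N b)
include hs₀ hsb hsc

theorem eq_one_of {x : G} (hS : ∀ s ∈ (S : Subgroup G), s * x * s⁻¹ = x) (hx : x ∈ Wd (S : Subgroup G))
    (h1 : IsC N ⊥ b x 1) : x = 1 := by
  refine ext2 h hbc hall hx h1 ?_
  have h2 := h.dec.comp_conj (h.dec.SL hs₀) hsb h1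
  rwa [hS s₀ hs₀, mul_one, mul_inv_cancel] at h2

/-- `P ⊓ N(N b)` centralises the line `l b` if `P` fixes some `v ∈ Z`, `v ≠ 1`, `q b = 4`, `|Z| ≥ 4`. -/
theorem cent_line (B : RB S) (hq : q b = 4) (hZ : 4 ≤ Nat.card (zc (S : Subgroup G))) {P : Subgroup G}
    (hP : IsParS (S : Subgroup G) P) {v : G} (hv : v ∈ zc (S : Subgroup G)) (hv1 : v ≠ 1)
    (hvP : ∀ g ∈ P, g * v * g⁻¹ = v) :
    (∀ z ∈ zc (S : Subgroup G), ∀ n, IsC N ⊥ b z n → n ∈ l b) ∧
      ∀ g ∈ P, MulAut.conj g • N b = N b → ∀ x ∈ l b, g * x = x * g := by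
  classical
  have hSM : (S : Subgroup G) ≤ MZ (S : Subgroup G) := SM B
  have hPM : P ≤ MZ (S : Subgroup G) := le_MZ hP
  have hSP : (S : Subgroup G) ≤ P := hP.isLoc.le
  have hzS : ∀ z ∈ zc (S : Subgroup G), ∀ s ∈ (S : Subgroup G), s * z * s⁻¹ = z := fun z hz s hs => by
    rw [(mem_zc.1 hz).2.1 s hs, mul_inv_cancel_right]
  obtain ⟨F, _, _, _, e, hF, hN⟩ := h.nat b
  have hEn : ∀ g ∈ D b, MulAut.conj g • N b = N b := fun g hg =>
    smul_eq_iff.2 (h.dec.EN b (h.DE b hg))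
  have hnN : ∀ {g : G}, MulAut.conj g • N b = N b → ∀ x ∈ N b, g * x * g⁻¹ ∈ N b := fun hg x hx =>
    (conj_smul hg).1 hx
  have hchar : ∀ x : F, x + x = 0 := fun x => CharTwo.add_self_eq_zero x
  have he1 : e 1 = 0 := by
    have := hN.mul 1 (one_mem _) 1 (one_mem _)
    rw [one_mul] at this
    exact left_eq_add.1 this
  have hN2 : ∀ x ∈ N b, x * x = 1 := fun x hx => hN.inj _ (mul_mem hx hx) (by
    rw [hN.mul x hx x hx]
    funext i
    exact hchar _)
  have hinv : ∀ x ∈ N b, x⁻¹ = x := fun x hx => inv_eq_of_mul_eq_one_right (hN2 x hx)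
  have hein : ∀ x ∈ N b, ∀ y ∈ N b, e x = e y → x = y := fun x hx y hy hxy => by
    have h1 : x * y = 1 := hN.inj _ (mul_mem hx hy) (by
      rw [hN.mul x hx y hy, hxy]
      funext i
      exact hchar _)
    rw [eq_comm, ← hinv x hx]
    exact (eq_inv_of_mul_eq_one_right h1)
  have hlN : l b ≤ N b := fun x hx => ((hN.line x).1 hx).1
  -- `|l b| = 4`
  have hcard : Nat.card (l b) = 4 := by
    rw [← hq, ← hF]
    refine Nat.card_congr (Equiv.ofBijective (fun x : l b => e (x : G) 0) ⟨?_, ?_⟩)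
    · intro x y hxy
      obtain ⟨hx, hx1⟩ := (hN.line _).1 x.2
      obtain ⟨hy, hy1⟩ := (hN.line _).1 y.2
      refine Subtype.ext (hein _ hx _ hy ?_)
      funext i
      fin_cases i
      · exact hxy
      · exact hx1.trans hy1.symm
    · intro a
      obtain ⟨x, hx, hxe⟩ := hN.sur ![a, 0]
      refine ⟨⟨x, (hN.line x).2 ⟨hx, by rw [hxe]; rfl⟩⟩, ?_⟩
      change e x 0 = a
      rw [hxe]; rfl
  -- commutators with the root elements
  have hcomm : ∀ s : G, MulAut.conj s • N b = N b → ∀ a : F,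
      (∀ x ∈ N b, e (s * x * s⁻¹) = ![e x 0 + a * e x 1, e x 1]) → ∀ x ∈ N b,
      e (s * x * s⁻¹ * x⁻¹) = ![a * e x 1, 0] := by
    intro s hs a hsa x hx
    rw [hinv x hx, hN.mul _ (hnN hs x hx) x hx, hsa x hx]
    funext i
    fin_cases i
    · change e x 0 + a * e x 1 + e x 0 = a * e x 1
      rw [add_comm (e x 0), add_assoc, hchar, add_zero]
    · change e x 1 + e x 1 = 0
      exact hchar _
  -- the `b`-components of `Z` are in `l b`
  have hcl : ∀ z ∈ zc (S : Subgroup G), ∀ n, IsC N ⊥ b z n → n ∈ l b := by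
    intro z hz n hn
    obtain ⟨s, hs, hse⟩ := hN.sylow 1
    have h1 := h.dec.comp_conj (hSM hs.1) (hEn s hs.2) hn
    rw [hzS z hz s hs.1] at h1
    have h2 := h.dec.uniq h1 hn
    refine (hN.line n).2 ⟨hn.1, ?_⟩
    have h3 := hse n hn.1
    rw [h2] at h3
    have h4 := congrFun h3 0
    change e n 0 = e n 0 + 1 * e n 1 at h4
    rw [one_mul] at h4
    exact left_eq_add.1 h4
  refine ⟨hcl, ?_⟩
  -- every element of `l b` is a component
  have hzW : ∀ z ∈ zc (S : Subgroup G), z ∈ Wd (S : Subgroup G) := fun z hz => zc_le_Wd _ hz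
  have hsurj : ∀ n ∈ l b, ∃ z ∈ zc (S : Subgroup G), IsC N ⊥ b z n := by
    choose f hf using fun z : zc (S : Subgroup G) => h.dec.ex_comp b (hzW z z.2)
    let φ : zc (S : Subgroup G) → l b := fun z => ⟨f z, hcl z z.2 _ (hf z)⟩
    have hφ : Function.Injective φ := by
      intro z z' hzz
      have h1 : f z = f z' := congrArg Subtype.val hzz
      have h2 := h.dec.comp_mul (h.dec.comp_inv (hf z)) (hf z')
      rw [h1, inv_mul_cancel] at h2
      have h3 : ((z : G))⁻¹ * (z' : G) = 1 :=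
        eq_one_of h hbc hall hs₀ hsb hsc (hzS _ (mul_mem (inv_mem z.2) z'.2))
          (hzW _ (mul_mem (inv_mem z.2) z'.2)) h2
      exact Subtype.ext (inv_mul_eq_one.1 h3)
    have hb : Function.Bijective φ := hφ.bijective_of_nat_card_le (by rw [hcard]; exact hZ)
    intro n hn
    obtain ⟨z, hz⟩ := hb.2 ⟨n, hn⟩
    have h1 : f z = n := congrArg Subtype.val hz
    exact ⟨z, z.2, h1 ▸ hf z⟩
  -- `v b`
  obtain ⟨v₀, hv₀⟩ := h.dec.ex_comp b (hzW v hv)
  have hv01 : v₀ ≠ 1 := by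
    rintro rfl
    exact hv1 (eq_one_of h hbc hall hs₀ hsb hsc (hzS v hv) (hzW v hv) hv₀)
  have key := core (T := (S : Subgroup G) ⊓ normalizer (N b : Set G)) (P₀ := P ⊓ normalizer (N b : Set G))
    (N := N b) (l := l b) (R := (S : Subgroup G) ⊓ D b) (v₀ := v₀) (S.isPGroup'.to_le inf_le_left) ?_
    (inf_le_inf_right _ hSP) (fun g hg x hx => (mem_normalizer_iff.1 hg.2 x).1 hx) hN2 hlN hcard ?_
    (inf_le_inf_left _ ((h.DE b).trans (h.dec.EN b))) ?_ (hcl v hv _ hv₀) hv01 ?_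
  · intro g hg hgn x hx
    exact key g ⟨hg, smul_eq_iff.1 hgn⟩ x hx
  · -- Sylow
    intro W hW hW2
    obtain ⟨p, hp, hpW⟩ := conj_into hSP (hW.trans inf_le_left) hW2
    have hWn : ∀ w ∈ W, MulAut.conj w • N b = N b := fun w hw => smul_eq_iff.2 (hW hw).2
    have main : ∀ g ∈ P, MulAut.conj g • N b = N b → (∀ w ∈ W, g * w * g⁻¹ ∈ (S : Subgroup G)) →
        ∃ h ∈ P ⊓ normalizer (N b : Set G), ∀ w ∈ W, h * w * h⁻¹ ∈ (S : Subgroup G) ⊓ normalizer (N b : Set G) := by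
      intro g hg hgn hgW
      refine ⟨g, ⟨hg, smul_eq_iff.1 hgn⟩, fun w hw => mem_inf.2 ⟨hgW w hw, ?_⟩⟩
      exact mul_mem (mul_mem (smul_eq_iff.1 hgn) (hW hw).2) (inv_mem (smul_eq_iff.1 hgn))
    rcases swap_or h hbc hall (hPM hp) with ⟨h1, -⟩ | ⟨h1, h2⟩
    · exact main p hp h1 hpW
    · refine main (s₀ * p) (mul_mem (hSP hs₀) hp) ?_ fun w hw => ?_
      · rw [map_mul, mul_smul, h1, hsc]
      · have e3 : s₀ * p * w * (s₀ * p)⁻¹ = s₀ * (p * w * p⁻¹) * s₀⁻¹ := by group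
        rw [e3]
        exact mul_mem (mul_mem hs₀ (hpW w hw)) (inv_mem hs₀)
  · -- `T` centralises `l b`
    intro t ht x hx
    obtain ⟨z, hz, hzx⟩ := hsurj x hx
    have h1 := h.dec.comp_conj (hSM ht.1) (smul_eq_iff.2 ht.2) hzx
    rw [hzS z hz t ht.1] at h1
    exact mul_inv_eq_iff_eq_mul.1 (h.dec.uniq h1 hzx)
  · -- the root group
    intro x hx hxl z hz
    have hx1 : e x 1 ≠ 0 := fun h0 => hxl ((hN.line x).2 ⟨hx, h0⟩)
    obtain ⟨hzN, hz1⟩ := (hN.line z).1 hz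
    obtain ⟨s, hs, hse⟩ := hN.sylow (e z 0 / e x 1)
    refine ⟨s, hs, hein _ (mul_mem (hnN (hEn s hs.2) x hx) (inv_mem hx)) _ hzN ?_⟩
    rw [hcomm s (hEn s hs.2) _ hse x hx]
    funext i
    fin_cases i
    · change e z 0 / e x 1 * e x 1 = e z 0
      exact div_mul_cancel₀ _ hx1
    · exact hz1.symm
  · intro g hg
    have h1 := h.dec.comp_conj (hPM hg.1) (smul_eq_iff.2 hg.2) hv₀
    rw [hvP g hg.1] at h1
    exact mul_inv_eq_iff_eq_mul.1 (h.dec.uniq h1 hv₀)

end two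

/-- **T3: two natural blocks with `q = 4` are impossible in `WideAll`, one class.** -/
theorem four_false (W : Wide S)
    (hirr : ∀ U : Subgroup G, U ≤ Wd (S : Subgroup G) → MZ (S : Subgroup G) ≤ normalizer (U : Set G) → U ≠ ⊥ →
      Wd (S : Subgroup G) ≤ U)
    (h : NBs (S : Subgroup G) N E D l q) (hq : ∀ b, q b = 4) (hbc : b ≠ c) (hall : ∀ d, d = b ∨ d = c) : False := by
  have B : RB S := W.toRB
  obtain ⟨s₀, hs₀, hsb, hsc⟩ := exists_swap h hbc hall B hirr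
  have hZ : 4 ≤ Nat.card (zc (S : Subgroup G)) := W.four_le
  obtain ⟨P, hP, hne⟩ := B.ex
  obtain ⟨v, hv, hv1⟩ : ∃ v ∈ zc (S : Subgroup G) ⊓ centralizer (P : Set G), v ≠ 1 := by
    by_contra hcon
    push Not at hcon
    exact hne ((eq_bot_iff_forall _).2 hcon)
  have hvP : ∀ g ∈ P, g * v * g⁻¹ = v := fun g hg => by
    rw [mem_centralizer_iff.1 hv.2 g hg, mul_inv_cancel_right]
  obtain ⟨a1, a2⟩ := cent_line h hbc hall hs₀ hsb hsc B (hq b) hZ hP hv.1 hv1 hvP
  obtain ⟨b1, b2⟩ := cent_line h hbc.symm (fun d => (hall d).symm) hs₀ hsc hsb B (hq c) hZ hP hv.1 hv1 hvP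
  have hPM : P ≤ MZ (S : Subgroup G) := le_MZ hP
  have hSP : (S : Subgroup G) ≤ P := hP.isLoc.le
  -- `P` centralises `Z`
  have main : ∀ g ∈ P, MulAut.conj g • N b = N b → MulAut.conj g • N c = N c → ∀ z ∈ zc (S : Subgroup G),
      g * z * g⁻¹ = z := by
    intro g hg hgb hgc z hz
    have hzW : z ∈ Wd (S : Subgroup G) := zc_le_Wd _ hz
    obtain ⟨n, hn⟩ := h.dec.ex_comp b hzW
    obtain ⟨m, hm⟩ := h.dec.ex_comp c hzW
    have h1 := h.dec.comp_conj (hPM hg) hgb hn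
    have h2 := h.dec.comp_conj (hPM hg) hgc hm
    rw [a2 g hg hgb n (a1 z hz n hn), mul_inv_cancel_right] at h1
    rw [b2 g hg hgc m (b1 z hz m hm), mul_inv_cancel_right] at h2
    have h3 := h.dec.comp_mul (h.dec.comp_inv h1) hn
    have h4 := h.dec.comp_mul (h.dec.comp_inv h2) hm
    rw [inv_mul_cancel] at h3 h4
    have h5 := ext2 h hbc hall (mul_mem (inv_mem (nor g (hPM hg) z hzW)) hzW) h3 h4
    exact inv_mul_eq_one.1 h5
  refine hP.not_zc ((le_trans ?_ (centralizer_le_normalizer _)))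
  intro p hp
  rw [mem_centralizer_iff]
  intro z hz
  have key : p * z * p⁻¹ = z := by
    rcases swap_or h hbc hall (hPM hp) with ⟨h1, h2⟩ | ⟨h1, h2⟩
    · exact main p hp h1 h2 z hz
    · have h3 := main (s₀ * p) (mul_mem (hSP hs₀) hp) (by rw [map_mul, mul_smul, h1, hsc])
        (by rw [map_mul, mul_smul, h2, hsb]) z hz
      have hsz : s₀ * z = z * s₀ := (mem_zc.1 hz).2.1 s₀ hs₀
      have h4 : p * z * p⁻¹ = s₀⁻¹ * (s₀ * p * z * (s₀ * p)⁻¹) * s₀ := by group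
      rw [h4, h3, mul_assoc, ← hsz, inv_mul_cancel_left]
  exact (mul_inv_eq_iff_eq_mul.1 key).symm

/-- the same with the literals of `WideTree.WOneN` -/
theorem wOneTwo_four (W : Wide S) (hCM : CM (S : Subgroup G) (fun _ : PUnit.{u + 1} => Wd (S : Subgroup G)))
    (h : NBs (S : Subgroup G) N E D l (fun _ => 4)) (hι : Nat.card ι = 2) : False := by
  obtain ⟨b, c, hbc, hall⟩ := Nat.card_eq_two_iff.1 hι
  refine four_false W (hCM.irr PUnit.unit) h (fun _ => rfl) hbc fun d => ?_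
  have h1 : d ∈ ({b, c} : Set ι) := by rw [hall]; exact Set.mem_univ d
  simpa using h1

end grp

end Cfsg.Agent.Omega.NOThreeL.RRed.OneTwoFour

end

section


/-!
# NO-3L, box R: the tree with a refined (RC')

`Ref G S` : any property with `Ref G S → RR S = 1` (e.g. helper319's refined (RC'): every `z ∈ Z#` is moved by some
`P ∈ P*(S)` with `P ≰ N_G(K_e)`, `K_e` the end of the refined chain of levels, #24937).

* `FBR Ref` : the frame `RBF S ∧ Ref G S`; `FourOf K (FBR Ref)`, `WideAll K (FBR Ref)` : the sockets with `Ref`;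
* `NrOf K Ref` : `RBF S`, `¬ Ref G S`, (L2) if `Thin S`;
* `rbf_ref`, `rbzF_ref`, `rbcF_ref` : the tree.
-/

set_option autoImplicit false
set_option linter.unusedSectionVars false

namespace Cfsg.Agent.Omega.NOThreeL.RRed.GlueSig

open Subgroup Cfsg Cfsg.Agent.ZN Cfsg.Agent.Omega.MinPar Cfsg.Agent.Omega.Frame Cfsg.Agent.Omega.FrameNOFF
open Cfsg.Agent.Omega.Node.NO3L Cfsg.Agent.Omega.NOThreeL.Basic Cfsg.Agent.Omega.NOThreeL.RTree
open Cfsg.Agent.Omega.NOThreeL.RTreeF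
open Cfsg.Agent.Omega.NOThreeL.RZ (RR)

universe u

/-- the frame `RBF` with `Ref` -/
abbrev FBR (Ref : Fr.{u}) : Fr.{u} := fun G _ _ S => RBF S ∧ Ref G S

/-- box R, `V*` FF, not `Ref`. -/
def NrOf (K : Cls.{u}) (Ref : Fr.{u}) : Prop :=
  ∀ (G : Type u) [Group G] [Finite G], K G → ∀ (S : Sylow 2 G), RBF S → ¬ Ref G S →
    (Thin (S : Subgroup G) → L2 (S : Subgroup G)) → IsKnownSimple' G

section tree

variable {K : Cls.{u}} {Ref : Fr.{u}}

theorem NrOf.br (h : NrOf K Ref) (hR : ∀ (G : Type u) [Group G] [Finite G] (S : Sylow 2 G), RBF S → Ref G S →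
    RR (S : Subgroup G) = ⊥) : BrTOf K FBF.{u} :=
  fun G _ _ hK S hB hne h2 => h G hK S hB (fun hr => hne (hR G S hB hr)) h2

/-- **Box R, `V*` FF**, with `Ref`. -/
theorem rbf_ref (hR : ∀ (G : Type u) [Group G] [Finite G] (S : Sylow 2 G), RBF S → Ref G S →
    RR (S : Subgroup G) = ⊥) (hσ : SigTOf K FBF.{u}) (hs : SmOf K FBF.{u}) (h4 : FourOf K (FBR Ref))
    (hw : WideAll K (FBR Ref)) (hn : NrOf K Ref) {G : Type u} [Group G] [Finite G] (hK : K G) {S : Sylow 2 G}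
    (hB : RBF S) : IsKnownSimple' G := by
  by_cases hr : Ref G S
  · exact bnT_of (B := FBR Ref) (fun G _ _ S h => h.1.toRB) (hσ.mono fun _ _ _ _ h => h.1)
      (hs.mono fun _ _ _ _ h => h.1) h4 hw G hK S ⟨hB, hr⟩ (hR G S hB hr)
  · by_cases h2 : Thin (S : Subgroup G) → L2 (S : Subgroup G)
    · exact hn G hK S hB hr h2
    · push Not at h2
      exact hσ G hK S hB h2.1 h2.2

theorem rbzF_ref (hR : ∀ (G : Type u) [Group G] [Finite G] (S : Sylow 2 G), RBF S → Ref G S →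
    RR (S : Subgroup G) = ⊥) (hσ : SigTOf K FBF.{u}) (hs : SmOf K FBF.{u}) (h4 : FourOf K (FBR Ref))
    (hw : WideAll K (FBR Ref)) (hn : NrOf K Ref) : RBzF K :=
  fun _ _ _ hK _ hB _ _ _ _ => rbf_ref hR hσ hs h4 hw hn hK hB

theorem rbcF_ref (hR : ∀ (G : Type u) [Group G] [Finite G] (S : Sylow 2 G), RBF S → Ref G S →
    RR (S : Subgroup G) = ⊥) (hσ : SigTOf K FBF.{u}) (hs : SmOf K FBF.{u}) (h4 : FourOf K (FBR Ref))
    (hw : WideAll K (FBR Ref)) (hn : NrOf K Ref) : RBcF K :=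
  fun _ _ _ hK _ hB _ => rbf_ref hR hσ hs h4 hw hn hK hB

end tree

end Cfsg.Agent.Omega.NOThreeL.RRed.GlueSig

end
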