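import Cfsg.Agent.Mrg.Omega.NOThreeL.RRed.BlkG1
import Cfsg.Agent.Mrg.Omega.NOThreeL.RRed.TvFin
import Cfsg.Agent.Mrg.Omega.NOThreeL.RRed.Blk.Dich
import Cfsg.Agent.Mrg.Omega.KL.TwoS.Inp
import Cfsg.Agent.Mrg.Omega.NOThreeL.RRed.ClassMx
import Cfsg.Agent.Mrg.Omega.NOThreeL.RRed.Blk.OneOf
import Cfsg.Agent.Mrg.Omega.FrameI

section


/-!
# NO-3L, box R: without `P` of type `q ≥ 4` every minimal exact offender is a transvection

`V = zl S L`, `S ≤ L`, `L` 2-local, generated by the members of `P*(S)` in `L`.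

* `card_le_two` : `t` acts on `V` as a transvection: `|V| ≤ 2 |C_V(t)|`;
* `mx_tv` : no `GOne S L P A` with `Big4 S P`: a minimal exact offender `A ≤ L` is `⟨t⟩ C_A(V)`, `t` a transvection;
* `mx_cent` : it centralises `R₀` (`TvFin.Full`).
-/

set_option autoImplicit false
set_option linter.unusedSectionVars false

namespace Cfsg.Agent.Omega.NOThreeL.RRed.AtomTv

open Subgroup Cfsg Cfsg.Agent.ZN Cfsg.Agent.Omega.MinPar Cfsg.Agent.Omega.Frame Cfsg.Agent.Omega.FrameNOFF
open Cfsg.Agent.Omega.NOThreeL.Basic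
open Cfsg.Agent.Omega.FFThm (ElemM OffM NoOverM ConclM)
open Cfsg.Agent.ZN.ChoiceBase (cj)
open Cfsg.Agent.Omega.NOThreeL.RRed

universe u

variable {G : Type u} [Group G]

/-- `|V| ≤ 2 |C_V(B)|`, `B = ⟨t⟩ D`, `D` centralises `V`, `t` acts as a transvection. -/
theorem card_le_two [Finite G] {V C : Subgroup G} {c t : G} (hV : V ≤ centralizer (V : Set G)) (hc : c ∈ V)
    (ht : Tv V c t) (hC : ∀ v ∈ V, t * v * t⁻¹ = v → v ∈ C) : Nat.card V ≤ 2 * Nat.card C := by
  classical
  by_cases h0 : V ≤ C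
  · have := Subgroup.card_le_of_le h0
    omega
  obtain ⟨x, hx, hxC⟩ := SetLike.not_le_iff_exists.1 h0
  have hx1 : t * x * t⁻¹ = x * c := (ht x hx).resolve_left fun e => hxC (hC x hx e)
  have hsub : (V : Set G) ⊆ (C : Set G) ∪ (fun y => x * y) '' (C : Set G) := by
    intro v hv
    rcases ht v hv with h1 | h1
    · exact Or.inl (hC v hv h1)
    · right
      refine ⟨x⁻¹ * v, hC _ (mul_mem (inv_mem hx) hv) ?_, by simp⟩
      have e : t * (x⁻¹ * v) * t⁻¹ = (t * x * t⁻¹)⁻¹ * (t * v * t⁻¹) := by group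
      rw [e, hx1, h1]
      have h2 : c⁻¹ * (x⁻¹ * v) = (x⁻¹ * v) * c⁻¹ :=
        mem_centralizer_iff.1 (hV (mul_mem (inv_mem hx) hv)) _ (inv_mem hc)
      calc (x * c)⁻¹ * (v * c) = (c⁻¹ * (x⁻¹ * v)) * c := by group
        _ = x⁻¹ * v := by rw [h2]; group
  have h1 := (Set.ncard_le_ncard hsub (Set.toFinite _)).trans (Set.ncard_union_le _ _)
  have h2 : ((fun y => x * y) '' (C : Set G)).ncard ≤ (C : Set G).ncard := Set.ncard_image_le (Set.toFinite _)
  have e1 : (V : Set G).ncard = Nat.card V := (Nat.card_coe_set_eq _).symm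
  have e2 : (C : Set G).ncard = Nat.card C := (Nat.card_coe_set_eq _).symm
  omega

variable [Finite G] {S : Sylow 2 G} {L A : Subgroup G}

/-- **A minimal exact offender is a transvection** (no `P` of type `q ≥ 4`). -/
theorem mx_tv (hc : IsCharacteristicTwoType G) (hL : IsLoc (S : Subgroup G) L)
    (hgen : L ≤ sSup {P | IsParS (S : Subgroup G) P ∧ P ≤ L}) (hF : ¬ ∃ P A, GOne S L P A ∧ Big4 S P)
    (hAL : A ≤ L) (h : Mx (zl (S : Subgroup G) L) A) :
    ∃ t ∈ A, ∃ c ∈ zl (S : Subgroup G) L, c ≠ 1 ∧ Tv (zl (S : Subgroup G) L) c t ∧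
      t ∉ centralizer (zl (S : Subgroup G) L : Set G) ∧
        zpowers t ⊔ (A ⊓ centralizer (zl (S : Subgroup G) L : Set G)) = A := by
  obtain ⟨m, hm, P, hg⟩ := gOne_of_mx hc hL hgen hAL h
  have h2 : Two2 S P := (two2_or hg.concl).resolve_right fun h4 => hF ⟨P, _, hg, h4⟩
  obtain ⟨t, ht, c, hcP, hc1, htv, hn⟩ := hg.tv hc h2
  have hLV : L ≤ normalizer (zl (S : Subgroup G) L : Set G) := MinSimple.VModule.le_normalizer_zl _ _
  have hcomm := hg.comm
  have hno := hg.no
  have hcV := hg.VU hcP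
  set V : Subgroup G := zl (S : Subgroup G) L with hV
  have hmV := hLV hm
  have hmiV : m⁻¹ ∈ normalizer (V : Set G) := inv_mem hmV
  have hbk : ∀ x ∈ V, m⁻¹ * x * m ∈ V := fun x hx => by
    have := (mem_normalizer_iff.1 hmiV x).1 hx
    rwa [inv_inv] at this
  set t' := m⁻¹ * t * m with ht'
  set c' := m⁻¹ * c * m with hc'
  have htA : t' ∈ A := ChoiceBase.mem_cj.1 ht
  have htv' : Tv V c' t' := by
    intro w hw
    have hw' : m * w * m⁻¹ ∈ V := (mem_normalizer_iff.1 hmV w).1 hw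
    rcases htv _ hw' with e | e
    · left
      calc t' * w * t'⁻¹ = m⁻¹ * (t * (m * w * m⁻¹) * t⁻¹) * m := by rw [ht']; group
        _ = w := by rw [e]; group
    · right
      calc t' * w * t'⁻¹ = m⁻¹ * (t * (m * w * m⁻¹) * t⁻¹) * m := by rw [ht']; group
        _ = w * c' := by rw [e, hc']; group
  have hn' : t' ∉ centralizer (V : Set G) := by
    intro h3
    apply hn
    rw [mem_centralizer_iff]
    intro v hv
    have h4 := mem_centralizer_iff.1 h3 _ (hbk v hv)
    have h5 : m⁻¹ * (v * t) * m = m⁻¹ * (t * v) * m := by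
      calc m⁻¹ * (v * t) * m = (m⁻¹ * v * m) * t' := by rw [ht']; group
        _ = t' * (m⁻¹ * v * m) := h4
        _ = _ := by rw [ht']; group
    exact mul_left_cancel (mul_right_cancel h5)
  refine ⟨t', htA, c', hbk c hcV, ?_, htv', hn', ?_⟩
  · intro e
    apply hc1
    have : c = m * c' * m⁻¹ := by rw [hc']; group
    rw [this, e]; group
  set D : Subgroup G := A ⊓ centralizer (V : Set G) with hD
  set B : Subgroup G := zpowers t' ⊔ D with hB
  have hBA : B ≤ A := sup_le (by rw [zpowers_le]; exact htA) inf_le_left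
  have hBn : ¬ B ≤ centralizer (V : Set G) := fun h3 => hn' (h3 (le_sup_left (a := zpowers t') (mem_zpowers t')))
  -- `B` is exact
  have h1 : Nat.card B * Nat.card ↥(V ⊓ centralizer (B : Set G)) ≤
      Nat.card V * Nat.card ↥(B ⊓ centralizer (V : Set G)) :=
    hno B (hBA.trans hAL) (VF.elemM_mono h.toElemM hBA)
  have h3 : Nat.card V ≤ 2 * Nat.card ↥(V ⊓ centralizer (B : Set G)) := by
    refine card_le_two hcomm (hbk c hcV) htv' fun v hv hv1 => mem_inf.2 ⟨hv, ?_⟩
    have h4 : B ≤ centralizer {v} := by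
      refine sup_le ?_ (inf_le_right.trans (centralizer_le (Set.singleton_subset_iff.2 hv)))
      rw [zpowers_le, mem_centralizer_singleton_iff]
      exact mul_inv_eq_iff_eq_mul.1 hv1
    rw [mem_centralizer_iff]
    intro b hb
    exact mem_centralizer_singleton_iff.1 (h4 hb)
  have h4 : 2 * Nat.card ↥(B ⊓ centralizer (V : Set G)) ≤ Nat.card B := by
    have h5 : B ⊓ centralizer (V : Set G) < B := lt_of_le_of_ne inf_le_left fun e => hBn (inf_eq_left.1 e)
    obtain ⟨k, hk⟩ := Subgroup.card_dvd_of_le h5.le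
    have h6 : Nat.card ↥(B ⊓ centralizer (V : Set G)) ≠ Nat.card B := fun e =>
      h5.ne (Subgroup.eq_of_le_of_card_ge h5.le e.ge)
    have pB : 0 < Nat.card B := Nat.card_pos
    rw [hk] at h6 pB ⊢
    have hk0 : k ≠ 0 := by rintro rfl; simp at pB
    have hk1 : k ≠ 1 := by rintro rfl; simp at h6
    rw [mul_comm 2]
    exact Nat.mul_le_mul_left _ (by omega)
  have hex : Nat.card V * Nat.card ↥(B ⊓ centralizer (V : Set G)) =
      Nat.card B * Nat.card ↥(V ⊓ centralizer (B : Set G)) := by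
    refine le_antisymm ?_ h1
    calc Nat.card V * Nat.card ↥(B ⊓ centralizer (V : Set G))
        ≤ (2 * Nat.card ↥(V ⊓ centralizer (B : Set G))) * Nat.card ↥(B ⊓ centralizer (V : Set G)) :=
          Nat.mul_le_mul_right _ h3
      _ = (2 * Nat.card ↥(B ⊓ centralizer (V : Set G))) * Nat.card ↥(V ⊓ centralizer (B : Set G)) := by ring
      _ ≤ _ := Nat.mul_le_mul_right _ h4
  exact (h.min B hBA hex le_sup_right).resolve_left hBn

/-- **It centralises `R₀`.** -/
theorem mx_cent (hc : IsCharacteristicTwoType G) (hL : IsLoc (S : Subgroup G) L)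
    (hgen : L ≤ sSup {P | IsParS (S : Subgroup G) P ∧ P ≤ L}) (hF : ¬ ∃ P A, GOne S L P A ∧ Big4 S P)
    {I : Type u} {N E : I → Subgroup G} {R₀ : Subgroup G} {Om : I → Type u}
    [∀ i, Fintype (Om i)] [∀ i, DecidableEq (Om i)] {phi : ∀ i, Finset (Om i) → G}
    (F : TvFin.Full (S : Subgroup G) L (zl (S : Subgroup G) L) N E R₀ Om phi) (hAL : A ≤ L)
    (h : Mx (zl (S : Subgroup G) L) A) : A ≤ centralizer (R₀ : Set G) := by
  obtain ⟨t, ht, c, hc', -, htv, -, hA⟩ := mx_tv hc hL hgen hF hAL h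
  rw [← hA]
  refine sup_le ?_ (inf_le_right.trans (centralizer_le F.toDec.RU))
  rw [zpowers_le, mem_centralizer_iff]
  intro v hv
  have h1 := (F.fixR v (F.toDec.RU hv)).1 hv t (hAL ht) c hc' htv
  exact (mul_inv_eq_iff_eq_mul.1 h1).symm

end Cfsg.Agent.Omega.NOThreeL.RRed.AtomTv

end

section


/-!
# Box R, the left case: an offender inside a normalised 2-group does not move `S_n`-blocks, `n ≥ 5` (helper559)

`Full S M V N E R₀ Om phi` (TvFin), `e ∈ V` with the component `phi b (Ω_b - {p})` in the block `b`, `O ≤ M` a 2-group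
which centralises `e` and is normalised by `C_{E b}(e)`.

* `conj_N` : `O` normalises `N b` and `E b`;
* `lett_sup` : `E b ⊔ O` acts on `N b` as `Sym(Ω_b)`;
* **`card_eq_three`** : if an offender `A ≤ O` on `V` moves `N b`, then `|Ω_b| = 3`.
-/

set_option autoImplicit false
set_option linter.unusedSectionVars false

namespace Cfsg.Agent.Omega.NOThreeL.RRed.LeftLett

open Subgroup Cfsg Cfsg.Agent.Omega.NOThreeL.RRed.TvFin
open Cfsg.Agent.Omega.FFThm (ElemM OffM NoOverM)
open Cfsg.Agent.Omega.NOThreeL.RRed.Blk (Dec Co IsC)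
open Cfsg.Agent.Omega.KL.TwoS (Rel Lett)
open scoped Pointwise

universe u

theorem exists_notMem {Ω : Type*} [Fintype Ω] [DecidableEq Ω] {s : Finset Ω} (h : s.card < Fintype.card Ω) :
    ∃ x, x ∉ s := by
  by_contra hcon
  push Not at hcon
  have h1 : (Finset.univ : Finset Ω) ⊆ s := fun x _ => hcon x
  have h2 := Finset.card_le_card h1
  rw [Finset.card_univ] at h2
  omega

variable {G : Type u} [Group G]

theorem norm_of_conj [Finite G] {W : Subgroup G} {g : G} (h : MulAut.conj g • W = W) :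
    g ∈ normalizer (W : Set G) := by
  rw [mem_normalizer_iff]
  exact fun x => Blk.conj_smul h

variable {S M V : Subgroup G} {I : Type u} {N E : I → Subgroup G} {R₀ : Subgroup G} {Om : I → Type u}
  [∀ i, Fintype (Om i)] [∀ i, DecidableEq (Om i)] {phi : ∀ i, Finset (Om i) → G}

/-- The data of one block. -/
structure At (M V : Subgroup G) (N E : I → Subgroup G) (R₀ : Subgroup G) (phi : ∀ i, Finset (Om i) → G) (b : I)
    (p : Om b) (e : G) (O : Subgroup G) : Prop where
  comp : IsC N R₀ b e (phi b (Finset.univ.erase p))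
  two : IsPGroup 2 O
  OM : O ≤ M
  Oe : O ≤ centralizer ({e} : Set G)
  nO : ∀ g ∈ E b, g ∈ centralizer ({e} : Set G) → g ∈ normalizer (O : Set G)

section

variable (F : Full S M V N E R₀ Om phi) {b : I} {p : Om b} {e : G} {O : Subgroup G}
  (D : At M V N E R₀ phi b p e O)
include F D

/-- `g ∈ E b` which fixes the component fixes `e` -/
theorem cent_e {g : G} (hg : g ∈ E b)
    (hz : g ∈ centralizer ({phi b (Finset.univ.erase p)} : Set G)) : g ∈ centralizer ({e} : Set G) := by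
  have hco : Co N R₀ b ≤ centralizer (E b : Set G) := by
    refine sup_le (iSup_le fun c => ?_) ?_
    · have h1 := F.EC b c.1 (Ne.symm c.2)
      exact fun x hx => mem_centralizer_iff.2 fun y hy => (mem_centralizer_iff.1 (h1 hy) x hx).symm
    · have h1 := F.ER b
      exact fun x hx => mem_centralizer_iff.2 fun y hy => (mem_centralizer_iff.1 (h1 hy) x hx).symm
  have h1 := D.comp.2
  have h2 := mem_centralizer_iff.1 (hco h1) g hg
  rw [mem_centralizer_singleton_iff] at hz ⊢
  have e1 : e = phi b (Finset.univ.erase p) * ((phi b (Finset.univ.erase p))⁻¹ * e) := by group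
  rw [e1, ← mul_assoc, hz, mul_assoc, h2, ← mul_assoc]

theorem nor_e {g : G} (hg : g ∈ E b)
    (hz : g ∈ centralizer ({phi b (Finset.univ.erase p)} : Set G)) : g ∈ normalizer (O : Set G) :=
  D.nO g hg (cent_e F D hg hz)

/-- an element of `M` which normalises `N b` and fixes `e` fixes the component -/
theorem cent_comp {x : G} (hx : x ∈ M) (hN : MulAut.conj x • N b = N b) (he : x ∈ centralizer ({e} : Set G)) :
    x ∈ centralizer ({phi b (Finset.univ.erase p)} : Set G) := by
  have h1 := F.comp_conj hx hN D.comp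
  rw [mem_centralizer_singleton_iff] at he ⊢
  have h2 : x * e * x⁻¹ = e := by rw [he, mul_inv_cancel_right]
  rw [h2] at h1
  have h3 := F.uniq h1 D.comp
  rwa [mul_inv_eq_iff_eq_mul] at h3

/-- **`O` normalises the block** -/
theorem conj_N (h5 : 4 ≤ Fintype.card (Om b)) {x : G} (hx : x ∈ O) :
    MulAut.conj x • N b = N b ∧ MulAut.conj x • E b = E b := by
  obtain ⟨c, h1, h2⟩ := F.perm x (D.OM hx) b
  by_cases hc : c = b
  · rw [hc] at h1 h2
    exact ⟨h1, h2⟩
  exfalso
  have L := F.lett b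
  obtain ⟨u, hu⟩ := exists_notMem (s := {p}) (by rw [Finset.card_singleton]; omega)
  obtain ⟨v, hv⟩ := exists_notMem (s := {p, u}) (by
    have := Finset.card_le_two (a := p) (b := u)
    omega)
  obtain ⟨w, hw⟩ := exists_notMem (s := {p, u, v}) (by
    have := Finset.card_le_three (a := p) (b := u) (c := v)
    omega)
  simp only [Finset.mem_insert, Finset.mem_singleton, not_or] at hu hv hw
  set τ : Equiv.Perm (Om b) := Equiv.swap u v * Equiv.swap u w with hτ
  have h3 : τ.IsThreeCycle := Equiv.Perm.isThreeCycle_swap_mul_swap_same (Ne.symm hv.2) (Ne.symm hw.2.1)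
    (Ne.symm hw.2.2)
  have hτp : τ p = p := by
    rw [hτ, Equiv.Perm.mul_apply, Equiv.swap_apply_of_ne_of_ne (Ne.symm hu) (Ne.symm hw.1),
      Equiv.swap_apply_of_ne_of_ne (Ne.symm hu) (Ne.symm hv.1)]
  obtain ⟨k, hk, hkr⟩ := L.all τ
  have hkz : k ∈ centralizer ({phi b (Finset.univ.erase p)} : Set G) := by
    rw [mem_centralizer_singleton_iff]
    have h4 := (L.fix_iff hkr p).2 hτp
    rwa [mul_inv_eq_iff_eq_mul] at h4
  have hkn := nor_e F D hk hkz
  have hm : x * k⁻¹ * x⁻¹ * k ∈ O := by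
    have e1 : x * k⁻¹ * x⁻¹ * k = x * (k⁻¹ * x⁻¹ * k⁻¹⁻¹) := by group
    rw [e1]
    exact mul_mem hx ((mem_normalizer_iff.1 (inv_mem hkn) x⁻¹).1 (inv_mem hx))
  have hy : x * k⁻¹ * x⁻¹ ∈ E c := (Blk.conj_smul h2).1 (inv_mem hk)
  have hyc := F.EC c b hc hy
  have hrel : Rel (phi b) (x * k⁻¹ * x⁻¹ * k) τ := by
    intro s hs
    have h4 := hkr s hs
    have e1 : x * k⁻¹ * x⁻¹ * k * phi b s * (x * k⁻¹ * x⁻¹ * k)⁻¹ =
        x * k⁻¹ * x⁻¹ * (k * phi b s * k⁻¹) * (x * k⁻¹ * x⁻¹)⁻¹ := by group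
    rw [e1, h4]
    exact Blk.cent hyc ((L.mem _).2 ⟨_, by rwa [Finset.card_map], rfl⟩)
  obtain ⟨n, hn2⟩ := D.two ⟨_, hm⟩
  have h6 : (x * k⁻¹ * x⁻¹ * k) ^ 2 ^ n = 1 := by
    have := congrArg Subtype.val hn2
    simpa using this
  have h7 := hrel.pow (2 ^ n)
  rw [h6] at h7
  have h8 := L.unique (by omega) h7 Rel.one
  have h9 := orderOf_dvd_of_pow_eq_one h8
  rw [h3.orderOf] at h9
  have h10 := Nat.Prime.dvd_of_dvd_pow Nat.prime_three h9
  omega

/-- `E b ⊔ O` acts on `N b` as `Sym(Ω_b)` -/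
theorem lett_sup [Finite G] (h5 : 4 ≤ Fintype.card (Om b)) : Lett (N b) (E b ⊔ O) (phi b) := by
  have L := F.lett b
  refine ⟨L.odd, L.mul, L.inj, L.mem, fun g hg => ?_, fun σ => ?_⟩
  · have h1 : E b ⊔ O ≤ normalizer (N b : Set G) :=
      sup_le (F.EN b) fun x hx => norm_of_conj (conj_N F D h5 hx).1
    have h2 : E b ⊔ O ≤ M := sup_le (F.EL b) D.OM
    exact F.rel_of_fix (h2 hg) (Blk.smul_of_mem (h1 hg))
  · obtain ⟨g, hg, h⟩ := L.all σ
    exact ⟨g, (le_sup_left : E b ≤ E b ⊔ O) hg, h⟩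

theorem hn_sup [Finite G] (h5 : 4 ≤ Fintype.card (Om b)) :
    ∀ g ∈ E b ⊔ O, g ∈ centralizer ({phi b (Finset.univ.erase p)} : Set G) → g ∈ normalizer (O : Set G) := by
  intro g hg hz
  have h1 : O ≤ normalizer (E b : Set G) := fun _ hx => norm_of_conj (conj_N F D h5 hx).2
  rw [sup_comm] at hg
  obtain ⟨o, ho, y, hy, rfl⟩ := Blk.mem_sup_of h1 hg
  have hoz := cent_comp F D (D.OM ho) (conj_N F D h5 ho).1 (D.Oe ho)
  have hyz : y ∈ centralizer ({phi b (Finset.univ.erase p)} : Set G) := by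
    have h2 := mul_mem (inv_mem hoz) hz
    rwa [inv_mul_cancel_left] at h2
  exact mul_mem (le_normalizer ho) (nor_e F D hy hyz)

/-- **an offender `A ≤ O` of `N b` centralises `N b`** -/
theorem cent_N [Finite G] (h5 : 4 ≤ Fintype.card (Om b)) {A : Subgroup G} (hA : A ≤ O)
    (hle : (centralizer (A : Set G)).relIndex (N b) ≤ (centralizer (N b : Set G)).relIndex A) :
    A ≤ centralizer (N b : Set G) :=
  (lett_sup F D h5).cent (O := O) (p := p) h5 D.two le_sup_right
    (fun x hx => cent_comp F D (D.OM hx) (conj_N F D h5 hx).1 (D.Oe hx)) (hn_sup F D h5) hA hle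

end

/-- **The cut** : `A` an offender on `V`, no over-offender: `|N : C_N(A)| ≤ |A : C_A(N)|` for all `N ≤ V`. -/
theorem cut [Finite G] {V M N A : Subgroup G} (hV : V ≤ centralizer (V : Set G)) (no : NoOverM V M) (hN : N ≤ V)
    (hAM : A ≤ M) (el : ElemM V A)
    (off : Nat.card V * Nat.card ↥(A ⊓ centralizer (V : Set G)) ≤
      Nat.card A * Nat.card ↥(V ⊓ centralizer (A : Set G))) :
    (centralizer (A : Set G)).relIndex N ≤ (centralizer (N : Set G)).relIndex A := by
  set B : Subgroup G := A ⊓ centralizer (N : Set G) with hB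
  have hBA : B ≤ A := inf_le_left
  have hel : ElemM V B := ⟨fun a ha => el.sq a (hBA ha), fun a ha b hb => el.comm a (hBA ha) b (hBA hb)⟩
  have h1 := no B (hBA.trans hAM) hel
  have h2 : B ⊓ centralizer (V : Set G) = A ⊓ centralizer (V : Set G) :=
    le_antisymm (inf_le_inf_right _ hBA) (le_inf (le_inf inf_le_left (inf_le_right.trans (centralizer_le hN)))
      inf_le_right)
  rw [h2] at h1
  -- `N C_V(A) ≤ C_V(B)`
  have hCA : V ⊓ centralizer (A : Set G) ≤ V ⊓ centralizer (B : Set G) :=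
    inf_le_inf_left _ (centralizer_le hBA)
  have hNB : N ≤ V ⊓ centralizer (B : Set G) :=
    le_inf hN fun x hx => mem_centralizer_iff.2 fun y hy => (mem_centralizer_iff.1 (mem_inf.1 hy).2 x hx).symm
  have hAV : V ⊓ centralizer (A : Set G) ≤ V := inf_le_left
  have h3 := NoFF.ThmJFam.card_sup_inf (A := N) (B := V ⊓ centralizer (A : Set G))
    (NoFF.Basic.comm_mono hV hN hAV)
  have h4 : Nat.card ↥(N ⊔ V ⊓ centralizer (A : Set G)) ≤ Nat.card ↥(V ⊓ centralizer (B : Set G)) :=
    Subgroup.card_le_of_le (sup_le hNB hCA)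
  have h5 : N ⊓ (V ⊓ centralizer (A : Set G)) = N ⊓ centralizer (A : Set G) := by
    rw [← inf_assoc, inf_eq_left.2 hN]
  rw [h5] at h3
  have h6 : Nat.card N = Nat.card ↥(N ⊓ centralizer (A : Set G)) * (centralizer (A : Set G)).relIndex N :=
    TC.LemZ.card_eq N _
  have h7 : Nat.card A = Nat.card B * (centralizer (N : Set G)).relIndex A := TC.LemZ.card_eq A _
  have p1 : 0 < Nat.card ↥(N ⊓ centralizer (A : Set G)) := Nat.card_pos
  have p2 : 0 < Nat.card B := Nat.card_pos
  have p3 : 0 < Nat.card ↥(V ⊓ centralizer (A : Set G)) := Nat.card_pos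
  rw [h6] at h3
  have h8 := h1.trans off
  rw [h7] at h8
  have h9 : Nat.card ↥(V ⊓ centralizer (B : Set G)) ≤
      (centralizer (N : Set G)).relIndex A * Nat.card ↥(V ⊓ centralizer (A : Set G)) := by
    refine Nat.le_of_mul_le_mul_left ?_ p2
    rw [← mul_assoc]
    exact h8
  have h10 : (centralizer (A : Set G)).relIndex N * Nat.card ↥(V ⊓ centralizer (A : Set G)) =
      Nat.card ↥(N ⊔ V ⊓ centralizer (A : Set G)) := by
    refine Nat.eq_of_mul_eq_mul_right p1 ?_
    rw [h3]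
    ring
  refine Nat.le_of_mul_le_mul_right ?_ p3
  rw [h10]
  exact h4.trans h9

/-- **an offender `A ≤ O` on `V` which moves the block `b`: `|Ω_b| = 3`** -/
theorem card_eq_three [Finite G] (F : Full S M V N E R₀ Om phi) {b : I} {p : Om b} {e : G} {O : Subgroup G}
    (D : At M V N E R₀ phi b p e O) (no : NoOverM V M) {A : Subgroup G} (hA : A ≤ O) (el : ElemM V A)
    (off : Nat.card V * Nat.card ↥(A ⊓ centralizer (V : Set G)) ≤
      Nat.card A * Nat.card ↥(V ⊓ centralizer (A : Set G)))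
    (mv : ¬ A ≤ centralizer (N b : Set G)) : Fintype.card (Om b) = 3 := by
  by_contra hne
  have h3 := F.three b
  exact mv (cent_N F D (by omega) hA (cut F.ab no (F.NU b) (hA.trans D.OM) el off))

/-- the same for `A` elementary abelian of maximal order in `O*`, `V ≤ O*` (Thompson) -/
theorem card_eq_three_mx [Finite G] (F : Full S M V N E R₀ Om phi) {b : I} {p : Om b} {e : G} {O : Subgroup G}
    (D : At M V N E R₀ phi b p e O) {A : Subgroup G} (hA : KL.TwoS.Mx O A) (hVO : N b ≤ O)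
    (sq : ∀ v ∈ V, v ^ 2 = 1) (mv : ¬ A ≤ centralizer (N b : Set G)) : Fintype.card (Om b) = 3 := by
  by_contra hne
  have h3 := F.three b
  exact mv (cent_N F D (by omega) hA.le (hA.thom hVO fun v hv => sq v (F.NU b hv)))

end Cfsg.Agent.Omega.NOThreeL.RRed.LeftLett

end

section


/-!
# Box R: if no `P` is of type `q ≥ 4`, the minimal exact offenders are transvections (helper930)

`V = zl S L`, no `GOne S L P A` with `Big4 S P`:
* **`mx_tv`** : a minimal exact `X ≤ L` is `⟨t⟩ C_X(V)`, `t` a transvection of `V`;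
* **`mx_le_cent`** : over `TvFin.Full`: every minimal exact `X ≤ L` centralises `R₀`.
-/

set_option autoImplicit false
set_option linter.unusedSectionVars false

namespace Cfsg.Agent.Omega.NOThreeL.RRed.TvAtom

open Subgroup Cfsg Cfsg.Agent.ZN Cfsg.Agent.Omega.MinPar Cfsg.Agent.Omega.Frame
open Cfsg.Agent.Omega.FFThm (ElemM OffM NoOverM)
open Cfsg.Agent.Omega.NOThreeL.RRed
open Cfsg.Agent.ZN.ChoiceBase (cj)
open Cfsg.Agent.Omega.NOThreeL.RRed.TvFin (TvV Full)
open scoped Pointwise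

universe u

variable {G : Type u} [Group G]

/-- a transvection fixes a subgroup of index `≤ 2` -/
theorem card_le_tv [Finite G] {V : Subgroup G} {c t : G} (ht : TvV V c t) :
    Nat.card V ≤ 2 * Nat.card ↥(V ⊓ centralizer ({t} : Set G)) := by
  classical
  by_cases h : V ≤ centralizer ({t} : Set G)
  · rw [inf_eq_left.2 h]; omega
  · obtain ⟨a, ha, hat⟩ := Set.not_subset.1 h
    have key : ∀ v ∈ V, v ∉ centralizer ({t} : Set G) → v * a⁻¹ ∈ centralizer ({t} : Set G) := by
      intro v hv hvt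
      have fx : ∀ {w : G}, t * w * t⁻¹ = w ↔ w ∈ centralizer ({t} : Set G) := by
        intro w
        rw [mem_centralizer_singleton_iff]
        constructor
        · intro e
          have : t * w = w * t := by
            calc t * w = (t * w * t⁻¹) * t := by group
              _ = w * t := by rw [e]
          exact this.symm
        · intro e; rw [← e]; group
      have h1 : t * v * t⁻¹ = v * c := (ht v hv).resolve_left fun e => hvt (fx.1 e)
      have h2 : t * a * t⁻¹ = a * c := (ht a ha).resolve_left fun e => hat (fx.1 e)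
      rw [← fx]
      have e : t * (v * a⁻¹) * t⁻¹ = (t * v * t⁻¹) * (t * a * t⁻¹)⁻¹ := by group
      rw [e, h1, h2]; group
    have h1 : (V ⊓ centralizer ({t} : Set G) : Subgroup G).relIndex V = 2 := by
      rw [relIndex, index_eq_two_iff]
      refine ⟨⟨a⁻¹, inv_mem ha⟩, fun b => ?_⟩
      rw [mem_subgroupOf, mem_subgroupOf, mem_inf, mem_inf]
      by_cases hb : (b : G) ∈ centralizer ({t} : Set G)
      · refine Or.inr ⟨⟨b.2, hb⟩, fun hc => hat ?_⟩
        have h3 : (b : G) * a⁻¹ ∈ centralizer ({t} : Set G) := hc.2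
        have h4 := mul_mem (inv_mem h3) hb
        have e : ((b : G) * a⁻¹)⁻¹ * b = a := by group
        rwa [e] at h4
      · exact Or.inl ⟨⟨mul_mem b.2 (inv_mem ha), key b b.2 hb⟩, fun hc => hb hc.2⟩
    have h2 := card_mul_index ((V ⊓ centralizer ({t} : Set G)).subgroupOf V)
    rw [← relIndex, h1, Nat.card_congr (subgroupOfEquivOfLe inf_le_left).toEquiv] at h2
    omega

section fin

variable [Finite G] {S : Sylow 2 G} {L X : Subgroup G}

/-- **A minimal exact offender is a transvection group** if no `P` is of type `q ≥ 4`. -/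
theorem mx_tv (hc : IsCharacteristicTwoType G) (hL : IsLoc (S : Subgroup G) L)
    (hgen : L ≤ sSup {P | IsParS (S : Subgroup G) P ∧ P ≤ L}) (hF : ¬ ∃ P A, GOne S L P A ∧ Big4 S P)
    (hXL : X ≤ L) (h : Mx (zl (S : Subgroup G) L) X) :
    ∃ t ∈ X, ∃ c ∈ zl (S : Subgroup G) L, t ∉ centralizer (zl (S : Subgroup G) L : Set G) ∧
      TvV (zl (S : Subgroup G) L) c t ∧ X = zpowers t ⊔ (X ⊓ centralizer (zl (S : Subgroup G) L : Set G)) := by
  obtain ⟨m, hm, P, hg⟩ := gOne_of_mx hc hL hgen hXL h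
  have h2 := (two2_or hg.concl).resolve_right fun h4 => hF ⟨P, _, hg, h4⟩
  obtain ⟨t', ht', c', hc', -, htv, hn⟩ := hg.tv hc h2
  set V : Subgroup G := zl (S : Subgroup G) L with hV
  have hLV : L ≤ normalizer (V : Set G) := MinSimple.VModule.le_normalizer_zl _ _
  have hmV := hLV hm
  have nV : ∀ {v : G}, v ∈ V ↔ m * v * m⁻¹ ∈ V := fun {v} => mem_normalizer_iff.1 hmV v
  obtain ⟨t, ht, rfl⟩ := ht'
  have et : (MulAut.conj m).toMonoidHom t = m * t * m⁻¹ := rfl
  rw [et] at htv hn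
  set c := m⁻¹ * c' * m with hcd
  have ec : m * c * m⁻¹ = c' := by rw [hcd]; group
  have hcV : c ∈ V := by rw [nV, ec]; exact hg.VU hc'
  have hTv : TvV V c t := by
    intro w hw
    rcases htv (m * w * m⁻¹) (nV.1 hw) with h3 | h3
    · left
      have e : m * (t * w * t⁻¹) * m⁻¹ = m * w * m⁻¹ := by
        rw [← h3]; group
      exact mul_left_cancel (mul_right_cancel e)
    · right
      have e : m * (t * w * t⁻¹) * m⁻¹ = m * (w * c) * m⁻¹ := by
        have e1 : m * (w * c) * m⁻¹ = (m * w * m⁻¹) * (m * c * m⁻¹) := by group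
        rw [e1, ec, ← h3]; group
      exact mul_left_cancel (mul_right_cancel e)
  have htn : t ∉ centralizer (V : Set G) := by
    intro hcon
    apply hn
    rw [mem_centralizer_iff]
    intro v hv
    have hv' : m⁻¹ * v * m ∈ V := by
      rw [nV]
      have e : m * (m⁻¹ * v * m) * m⁻¹ = v := by group
      rwa [e]
    have h3 : (m⁻¹ * v * m) * t = t * (m⁻¹ * v * m) := mem_centralizer_iff.1 hcon _ hv'
    calc v * (m * t * m⁻¹) = m * ((m⁻¹ * v * m) * t) * m⁻¹ := by group
      _ = m * (t * (m⁻¹ * v * m)) * m⁻¹ := by rw [h3]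
      _ = m * t * m⁻¹ * v := by group
  refine ⟨t, ht, c, hcV, htn, hTv, ?_⟩
  set Y : Subgroup G := zpowers t ⊔ (X ⊓ centralizer (V : Set G)) with hY
  have hYX : Y ≤ X := sup_le ((zpowers_le).2 ht) inf_le_left
  have htY : t ∈ Y := mem_sup_left (mem_zpowers t)
  have hYn : ¬ Y ≤ centralizer (V : Set G) := fun hcon => htn (hcon htY)
  have hCY : V ⊓ centralizer (Y : Set G) = V ⊓ centralizer ({t} : Set G) := by
    apply le_antisymm
    · exact inf_le_inf_left _ (centralizer_le (Set.singleton_subset_iff.2 htY))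
    · refine le_inf inf_le_left ?_
      rw [le_centralizer_iff, hY]
      refine sup_le ?_ (inf_le_right.trans (centralizer_le inf_le_left))
      rw [zpowers_le, mem_centralizer_iff]
      intro v hv
      exact (mem_centralizer_singleton_iff.1 hv.2)
  have h1 : Nat.card V ≤ 2 * Nat.card ↥(V ⊓ centralizer (Y : Set G)) := hCY ▸ card_le_tv hTv
  have h3 : 2 * Nat.card ↥(Y ⊓ centralizer (V : Set G)) ≤ Nat.card Y := by
    have h4 : Y ⊓ centralizer (V : Set G) < Y := lt_of_le_of_ne inf_le_left fun e => hYn (inf_eq_left.1 e)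
    have h5 := card_mul_index ((Y ⊓ centralizer (V : Set G)).subgroupOf Y)
    rw [Nat.card_congr (subgroupOfEquivOfLe inf_le_left).toEquiv] at h5
    have h6 : ((Y ⊓ centralizer (V : Set G)).subgroupOf Y).index ≠ 1 := by
      rw [Ne, index_eq_one, subgroupOf_eq_top]
      exact fun h7 => absurd h7 (not_le_of_gt h4)
    have h7 : ((Y ⊓ centralizer (V : Set G)).subgroupOf Y).index ≠ 0 := index_ne_zero_of_finite
    have h8 : 2 ≤ ((Y ⊓ centralizer (V : Set G)).subgroupOf Y).index := by omega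
    calc 2 * Nat.card ↥(Y ⊓ centralizer (V : Set G)) =
        Nat.card ↥(Y ⊓ centralizer (V : Set G)) * 2 := mul_comm _ _
      _ ≤ _ := Nat.mul_le_mul_left _ h8
      _ = Nat.card Y := h5
  have hno := hg.no Y (hYX.trans hXL) (VF.elemM_mono h.toElemM hYX)
  have hex : Nat.card V * Nat.card ↥(Y ⊓ centralizer (V : Set G)) =
      Nat.card Y * Nat.card ↥(V ⊓ centralizer (Y : Set G)) := by
    refine le_antisymm ?_ hno
    calc Nat.card V * Nat.card ↥(Y ⊓ centralizer (V : Set G)) ≤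
        (2 * Nat.card ↥(V ⊓ centralizer (Y : Set G))) * Nat.card ↥(Y ⊓ centralizer (V : Set G)) :=
          Nat.mul_le_mul_right _ h1
      _ = (2 * Nat.card ↥(Y ⊓ centralizer (V : Set G))) * Nat.card ↥(V ⊓ centralizer (Y : Set G)) := by ring
      _ ≤ _ := Nat.mul_le_mul_right _ h3
  rcases h.min Y hYX hex le_sup_right with h4 | h4
  · exact absurd h4 hYn
  · exact h4.symm

/-- **Every minimal exact offender centralises `R₀`** if no `P` is of type `q ≥ 4`. -/
theorem mx_le_cent (hc : IsCharacteristicTwoType G) (hL : IsLoc (S : Subgroup G) L)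
    (hgen : L ≤ sSup {P | IsParS (S : Subgroup G) P ∧ P ≤ L}) (hF : ¬ ∃ P A, GOne S L P A ∧ Big4 S P)
    {I : Type u} {N E : I → Subgroup G} {R₀ : Subgroup G} {Om : I → Type u}
    [∀ i, Fintype (Om i)] [∀ i, DecidableEq (Om i)] {phi : ∀ i, Finset (Om i) → G}
    (F : Full (S : Subgroup G) L (zl (S : Subgroup G) L) N E R₀ Om phi) (hXL : X ≤ L)
    (h : Mx (zl (S : Subgroup G) L) X) : X ≤ centralizer (R₀ : Set G) := by
  obtain ⟨t, ht, c, hcV, -, htv, e⟩ := mx_tv hc hL hgen hF hXL h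
  have hRV : R₀ ≤ zl (S : Subgroup G) L := F.sup ▸ le_sup_right
  rw [e]
  refine sup_le ?_ (inf_le_right.trans (centralizer_le hRV))
  rw [zpowers_le, mem_centralizer_iff]
  intro v hv
  have h1 := (F.fixR v (hRV hv)).1 hv t (hXL ht) c hcV htv
  calc v * t = (t * v * t⁻¹) * t := by rw [h1]
    _ = t * v := by group

end fin

end Cfsg.Agent.Omega.NOThreeL.RRed.TvAtom

end

section


/-!
# Box R: exact offenders are generated by transvections (helper930)

`TvFin.Full S L V N E R₀ Om phi`, `NoOverM V L`, the minimal exact offenders contain transvections.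
* `exists_vec` : `t ∈ A` a transvection, `A` elementary abelian on `V`: some `v ∈ V` is moved by `t` and has at most two
  conjugates under `A`;
* **`gen_tv`** : an exact 2-group `A ≤ L` is generated by the elements which act on `V` as transvections (or trivially);
* `le_cent`, `le_E` : it centralises `R₀` and lies in `(S ∩ ⟨E b⟩) C_A(V)`;
* **`best_le_cent`, `best_le_E`** : the same for best offenders of `S` on `V = zl S L` if no `P` is of type `q ≥ 4`.
-/

set_option autoImplicit false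
set_option linter.unusedSectionVars false

namespace Cfsg.Agent.Omega.NOThreeL.RRed.TvExa

open Subgroup Cfsg Cfsg.Agent.ZN Cfsg.Agent.Omega.MinPar Cfsg.Agent.Omega.Frame
open Cfsg.Agent.Omega.FFThm (ElemM OffM NoOverM)
open Cfsg.Agent.Omega.NOThreeL.RRed
open Cfsg.Agent.Omega.NOThreeL.RRed.TvFin (TvV Full)
open Cfsg.Agent.Omega.KL.TwoS (Rel Lett)
open Cfsg.Agent.Omega.NO1.BestOff (Best)
open scoped Pointwise

universe u

variable {G : Type u} [Group G]

theorem card_le_two [Finite G] {H K : Subgroup G} (hHK : H ≤ K)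
    (h : ∀ x ∈ K, ∀ y ∈ K, x ∉ H → y ∉ H → x⁻¹ * y ∈ H) : Nat.card K ≤ 2 * Nat.card H := by
  classical
  by_cases hK : K ≤ H
  · rw [le_antisymm hHK hK]; omega
  · obtain ⟨a, ha, haH⟩ := Set.not_subset.1 hK
    have h1 : H.relIndex K = 2 := by
      rw [relIndex, index_eq_two_iff]
      refine ⟨⟨a⁻¹, inv_mem ha⟩, fun b => ?_⟩
      rw [mem_subgroupOf, mem_subgroupOf]
      by_cases hb : (b : G) ∈ H
      · refine Or.inr ⟨hb, fun hc => haH ?_⟩
        have h3 : (b : G) * a⁻¹ ∈ H := hc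
        have h4 := mul_mem (inv_mem h3) hb
        have e : ((b : G) * a⁻¹)⁻¹ * b = a := by group
        rwa [e] at h4
      · refine Or.inl ⟨?_, hb⟩
        have h3 := h _ (inv_mem b.2) _ (inv_mem ha) (fun hc => hb (by simpa using inv_mem hc))
          (fun hc => haH (by simpa using inv_mem hc))
        have e : ((b : G)⁻¹)⁻¹ * a⁻¹ = (b : G) * a⁻¹ := by group
        rwa [e] at h3
    have h2 := card_mul_index (H.subgroupOf K)
    rw [← relIndex, h1, Nat.card_congr (subgroupOfEquivOfLe hHK).toEquiv] at h2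
    omega

theorem two_mul_card [Finite G] {H K : Subgroup G} (h : H < K) : 2 * Nat.card H ≤ Nat.card K := by
  have h5 := card_mul_index (H.subgroupOf K)
  rw [Nat.card_congr (subgroupOfEquivOfLe h.le).toEquiv] at h5
  have h6 : (H.subgroupOf K).index ≠ 1 := by
    rw [Ne, index_eq_one, subgroupOf_eq_top]
    exact fun h7 => absurd h7 (not_le_of_gt h)
  have h7 : (H.subgroupOf K).index ≠ 0 := index_ne_zero_of_finite
  have h8 : 2 ≤ (H.subgroupOf K).index := by omega
  calc 2 * Nat.card H = Nat.card H * 2 := mul_comm _ _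
    _ ≤ _ := Nat.mul_le_mul_left _ h8
    _ = Nat.card K := h5

section full

variable [Finite G] {S L V A : Subgroup G} {I : Type u} {N E : I → Subgroup G} {R₀ : Subgroup G} {Om : I → Type u}
    [∀ i, Fintype (Om i)] [∀ i, DecidableEq (Om i)] {phi : ∀ i, Finset (Om i) → G}
    (F : Full S L V N E R₀ Om phi)
include F

/-- **The vector.** -/
theorem exists_vec (hA : A ≤ L) (pg : IsPGroup 2 A) (hE : ElemM V A) {t c : G} (ht : t ∈ A) (hc : c ∈ V)
    (htv : TvV V c t) (hn : t ∉ centralizer (V : Set G)) :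
    ∃ v ∈ V, t * v * t⁻¹ ≠ v ∧ ∀ g ∈ A, g * v * g⁻¹ = v ∨ g * v * g⁻¹ = t * v * t⁻¹ := by
  classical
  obtain ⟨i, hti, a, b, hab, rfl, hrt⟩ := F.tvs t (hA ht) c hc htv hn
  set φ := phi i with hφ
  have Lt := F.lett i
  have h3 := F.three i
  -- a vector moved by `t`
  obtain ⟨v₀, hv₀, hv₀t⟩ : ∃ v ∈ V, t * v * t⁻¹ ≠ v := by
    by_contra hcon
    push Not at hcon
    refine hn (mem_centralizer_iff.2 fun v hv => ?_)
    calc v * t = (t * v * t⁻¹) * t := by rw [hcon v hv]
      _ = t * v := by group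
  have hv₀c : t * v₀ * t⁻¹ = v₀ * φ {a, b} := (htv v₀ hv₀).resolve_left hv₀t
  have hcN : φ {a, b} ∈ N i := (Lt.mem _).2 ⟨{a, b}, by rw [Finset.card_pair hab]; exact even_two, rfl⟩
  have hc1 : φ {a, b} ≠ 1 := by
    intro e
    rw [e, mul_one] at hv₀c
    exact hv₀t hv₀c
  have key : ∀ g ∈ A, g * φ {a, b} * g⁻¹ = φ {a, b} := by
    intro g hg
    have hgV : g ∈ normalizer (V : Set G) := F.LU (hA hg)
    have hz : g * t * g⁻¹ * t⁻¹ ∈ centralizer (V : Set G) := hE.comm g hg t ht
    set z := g * t * g⁻¹ * t⁻¹ with hzd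
    have hw : g * v₀ * g⁻¹ ∈ V := (mem_normalizer_iff.1 hgV _).1 hv₀
    have htw : t * (g * v₀ * g⁻¹) * t⁻¹ ∈ V := (mem_normalizer_iff.1 (F.LU (hA ht)) _).1 hw
    have h5 : z * (t * (g * v₀ * g⁻¹) * t⁻¹) * z⁻¹ = t * (g * v₀ * g⁻¹) * t⁻¹ := Blk.cent hz htw
    have h6 : z * (t * (g * v₀ * g⁻¹) * t⁻¹) * z⁻¹ = (g * v₀ * g⁻¹) * (g * φ {a, b} * g⁻¹) := by
      have e1 : z * (t * (g * v₀ * g⁻¹) * t⁻¹) * z⁻¹ = g * (t * v₀ * t⁻¹) * g⁻¹ := by
        rw [hzd]; group
      rw [e1, hv₀c]; group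
    have h7 : t * (g * v₀ * g⁻¹) * t⁻¹ = (g * v₀ * g⁻¹) * (g * φ {a, b} * g⁻¹) := h5.symm.trans h6
    rcases htv _ hw with h8 | h8
    · exfalso
      rw [h8] at h7
      have h9 : g * φ {a, b} * g⁻¹ = 1 := by
        have := h7.symm
        rwa [mul_eq_left] at this
      apply hc1
      have e : φ {a, b} = g⁻¹ * (g * φ {a, b} * g⁻¹) * g := by group
      rw [e, h9]; group
    · rw [h8] at h7
      exact (mul_left_cancel h7).symm
  have hfix : ∀ g ∈ A, MulAut.conj g • N i = N i := by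
    intro g hg
    obtain ⟨j, hj, -⟩ := F.perm g (hA hg) i
    have h5 : g * φ {a, b} * g⁻¹ ∈ N j := (Blk.conj_smul hj).1 hcN
    rw [key g hg] at h5
    by_cases hij : i = j
    · rw [hj, ← hij]
    · exfalso
      apply hc1
      have h6 : φ {a, b} ∈ N i ⊓ Blk.Co N R₀ i := ⟨hcN, F.toDec.N_le_Co (Ne.symm hij) h5⟩
      rw [show N i ⊓ Blk.Co N R₀ i = ⊥ from F.ind i, mem_bot] at h6
      exact h6
  choose f hf using fun g : A => F.rel_of_fix (hA g.2) (hfix g g.2)
  let f' : A →* Equiv.Perm (Om i) := MonoidHom.mk' f fun s t => Lt.unique h3 (hf (s * t)) ((hf s).mul (hf t))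
  let _ : MulAction A (Om i) := MulAction.compHom (Om i) f'
  have : Fact (Nat.Prime 2) := ⟨Nat.prime_two⟩
  have h1 : ¬ 2 ∣ Nat.card (Om i) := by
    rw [Nat.card_eq_fintype_card]
    exact Lt.odd.not_two_dvd_nat
  obtain ⟨w, hw⟩ := pg.nonempty_fixed_point_of_prime_not_dvd_card (Om i) h1
  have hw' : ∀ g : A, f g w = w := fun g => hw g
  have hft : f ⟨t, ht⟩ = Equiv.swap a b := Lt.unique h3 (hf ⟨t, ht⟩) hrt
  have hwa : w ≠ a := by
    rintro rfl
    have := hw' ⟨t, ht⟩
    rw [hft, Equiv.swap_apply_left] at this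
    exact hab this.symm
  have hwb : w ≠ b := by
    rintro rfl
    have := hw' ⟨t, ht⟩
    rw [hft, Equiv.swap_apply_right] at this
    exact hab this
  have hpa : ∀ g : A, f g a = a ∨ f g a = b := by
    intro g
    have h5 := Lt.pair (hf g) hab
    rw [key g g.2] at h5
    have hne : f g a ≠ f g b := fun e => hab ((f g).injective e)
    have h6 := Lt.phi_inj (by rw [Finset.card_pair hab]; exact even_two)
      (by rw [Finset.card_pair hne]; exact even_two) h5
    have h7 : f g a ∈ ({a, b} : Finset (Om i)) := by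
      rw [h6]; exact Finset.mem_insert_self _ _
    simpa using h7
  have hv : φ {a, w} ∈ V := by
    have h5 : φ {a, w} ∈ N i := (Lt.mem _).2 ⟨{a, w}, by rw [Finset.card_pair hwa.symm]; exact even_two, rfl⟩
    exact F.toDec.NU i h5
  have htvv : t * φ {a, w} * t⁻¹ = φ {b, w} := by
    rw [Lt.pair hrt hwa.symm, Equiv.swap_apply_left, Equiv.swap_apply_of_ne_of_ne hwa hwb]
  refine ⟨φ {a, w}, hv, ?_, fun g hg => ?_⟩
  · rw [htvv]
    intro e
    have h6 := Lt.phi_inj (by rw [Finset.card_pair hwb.symm]; exact even_two)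
      (by rw [Finset.card_pair hwa.symm]; exact even_two) e
    have h7 : b ∈ ({a, w} : Finset (Om i)) := by rw [← h6]; exact Finset.mem_insert_self _ _
    rw [Finset.mem_insert, Finset.mem_singleton] at h7
    exact h7.elim (fun h => hab h.symm) fun h => hwb h.symm
  · have h5 := Lt.pair (hf ⟨g, hg⟩) hwa.symm
    rw [hw' ⟨g, hg⟩] at h5
    rw [htvv]
    rcases hpa ⟨g, hg⟩ with h6 | h6
    · left; rw [h6] at h5; exact h5
    · right; rw [h6] at h5; exact h5

/-- **An exact group is generated by transvections.** -/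
theorem gen_tv (no : NoOverM V L)
    (hmx : ∀ X ≤ L, Mx V X → ∃ t ∈ X, ∃ c ∈ V, t ∉ centralizer (V : Set G) ∧ TvV V c t) :
    ∀ A ≤ L, IsPGroup 2 A → ElemM V A → Exa V A → A ≤ closure {t | t ∈ A ∧ ∃ c ∈ V, TvV V c t} := by
  suffices key : ∀ n : ℕ, ∀ A : Subgroup G, Nat.card A = n → A ≤ L → IsPGroup 2 A → ElemM V A → Exa V A →
      A ≤ closure {t | t ∈ A ∧ ∃ c ∈ V, TvV V c t} from fun A h1 h2 h3 h4 => key _ A rfl h1 h2 h3 h4
  intro n
  induction n using Nat.strong_induction_on with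
  | _ n ih =>
    rintro A rfl hA pg hE hex
    by_cases hne : A ≤ centralizer (V : Set G)
    · intro a ha
      refine subset_closure ⟨ha, 1, one_mem _, fun w hw => Or.inl ?_⟩
      exact Blk.cent (hne ha) hw
    obtain ⟨X, hXA, -, hX⟩ := exists_mx hE pg hne hex
    obtain ⟨t, htX, c, hc, htn, htv⟩ := hmx X (hXA.trans hA) hX
    have ht := hXA htX
    obtain ⟨v, hv, htv', hvA⟩ := exists_vec F hA pg hE ht hc htv htn
    have fx : ∀ {g : G}, g * v * g⁻¹ = v ↔ g ∈ centralizer ({v} : Set G) := by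
      intro g
      rw [mem_centralizer_singleton_iff]
      constructor
      · intro e
        calc g * v = (g * v * g⁻¹) * g := by group
          _ = v * g := by rw [e]
      · intro e; rw [e]; group
    set A' : Subgroup G := A ⊓ centralizer ({v} : Set G) with hA'
    have hle : A' ≤ A := inf_le_left
    have htA' : t ∉ A' := fun h => htv' (fx.2 h.2)
    have hlt : A' < A := lt_of_le_of_ne hle fun e => htA' (e ▸ ht)
    have hcV : A' ⊓ centralizer (V : Set G) = A ⊓ centralizer (V : Set G) := by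
      rw [hA', inf_assoc, inf_eq_right.2 (centralizer_le (Set.singleton_subset_iff.2 hv))]
    have hvA' : v ∈ V ⊓ centralizer (A' : Set G) := by
      refine mem_inf.2 ⟨hv, mem_centralizer_iff.2 fun g hg => ?_⟩
      exact mem_centralizer_singleton_iff.1 hg.2
    have hvA'' : v ∉ V ⊓ centralizer (A : Set G) := by
      intro h
      apply htv'
      have := mem_centralizer_iff.1 h.2 t ht
      rw [this]; group
    have h1 : 2 * Nat.card ↥(V ⊓ centralizer (A : Set G)) ≤ Nat.card ↥(V ⊓ centralizer (A' : Set G)) := by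
      refine two_mul_card (lt_of_le_of_ne (inf_le_inf_left _ (centralizer_le hle)) fun e => ?_)
      rw [← e] at hvA'
      exact hvA'' hvA'
    have h2 : Nat.card A ≤ 2 * Nat.card A' := by
      refine card_le_two hle fun x hx y hy hxn hyn => mem_inf.2 ⟨mul_mem (inv_mem hx) hy, ?_⟩
      have h3 : x * v * x⁻¹ = t * v * t⁻¹ := (hvA x hx).resolve_left fun e => hxn ⟨hx, fx.1 e⟩
      have h4 : y * v * y⁻¹ = t * v * t⁻¹ := (hvA y hy).resolve_left fun e => hyn ⟨hy, fx.1 e⟩
      refine fx.1 ?_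
      have e : x⁻¹ * y * v * (x⁻¹ * y)⁻¹ = x⁻¹ * (y * v * y⁻¹) * x := by group
      rw [e, h4, ← h3]; group
    have hE' : ElemM V A' := VF.elemM_mono hE hle
    have hex' : Exa V A' := by
      refine le_antisymm ?_ (no A' (hle.trans hA) hE')
      rw [hcV]
      have h3 : Nat.card V * Nat.card ↥(A ⊓ centralizer (V : Set G)) =
          Nat.card A * Nat.card ↥(V ⊓ centralizer (A : Set G)) := hex
      rw [h3]
      calc Nat.card A * Nat.card ↥(V ⊓ centralizer (A : Set G)) ≤
          (2 * Nat.card A') * Nat.card ↥(V ⊓ centralizer (A : Set G)) := Nat.mul_le_mul_right _ h2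
        _ = Nat.card A' * (2 * Nat.card ↥(V ⊓ centralizer (A : Set G))) := by ring
        _ ≤ _ := Nat.mul_le_mul_left _ h1
    have hcard : Nat.card A' < Nat.card A := by
      have := two_mul_card hlt
      have h0 : 0 < Nat.card A' := Nat.card_pos
      omega
    have h5 := ih _ hcard A' rfl (hle.trans hA) (pg.to_le hle) hE' hex'
    have h6 : A' ≤ closure {t | t ∈ A ∧ ∃ c ∈ V, TvV V c t} :=
      h5.trans (closure_mono fun x hx => ⟨hle hx.1, hx.2⟩)
    have h7 : t ∈ closure {t | t ∈ A ∧ ∃ c ∈ V, TvV V c t} := subset_closure ⟨ht, c, hc, htv⟩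
    intro g hg
    rcases hvA g hg with h8 | h8
    · exact h6 ⟨hg, fx.1 h8⟩
    · have h9 : t⁻¹ * g ∈ A' := by
        refine mem_inf.2 ⟨mul_mem (inv_mem ht) hg, fx.1 ?_⟩
        have e : t⁻¹ * g * v * (t⁻¹ * g)⁻¹ = t⁻¹ * (g * v * g⁻¹) * t := by group
        rw [e, h8]; group
      have h10 := mul_mem h7 (h6 h9)
      rwa [mul_inv_cancel_left] at h10

/-- an exact group centralises `R₀` -/
theorem le_cent (no : NoOverM V L)
    (hmx : ∀ X ≤ L, Mx V X → ∃ t ∈ X, ∃ c ∈ V, t ∉ centralizer (V : Set G) ∧ TvV V c t)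
    (hA : A ≤ L) (pg : IsPGroup 2 A) (hE : ElemM V A) (hex : Exa V A) : A ≤ centralizer (R₀ : Set G) := by
  refine (gen_tv F no hmx A hA pg hE hex).trans ((closure_le _).2 ?_)
  rintro t ⟨ht, c, hc, htv⟩
  refine mem_centralizer_iff.2 fun v hv => ?_
  have h1 := (F.fixR v (F.toDec.RU hv)).1 hv t (hA ht) c hc htv
  calc v * t = (t * v * t⁻¹) * t := by rw [h1]
    _ = t * v := by group

/-- an exact subgroup of `S` lies in `(S ∩ ⟨E b⟩) C(V)` -/
theorem le_E (no : NoOverM V L)
    (hmx : ∀ X ≤ L, Mx V X → ∃ t ∈ X, ∃ c ∈ V, t ∉ centralizer (V : Set G) ∧ TvV V c t)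
    (hS : A ≤ S) (hA : A ≤ L) (pg : IsPGroup 2 A) (hE : ElemM V A) (hex : Exa V A) :
    A ≤ (S ⊓ ⨆ b, E b) ⊔ (A ⊓ centralizer (V : Set G)) := by
  refine (gen_tv F no hmx A hA pg hE hex).trans ((closure_le _).2 ?_)
  rintro t ⟨ht, c, hc, htv⟩
  by_cases hn : t ∈ centralizer (V : Set G)
  · exact mem_sup_right ⟨ht, hn⟩
  · obtain ⟨i, hti, -⟩ := F.tvs t (hA ht) c hc htv hn
    exact mem_sup_left ⟨hS ht, le_iSup E i hti⟩

end full

section main

variable [Finite G] {S : Sylow 2 G} {L A : Subgroup G} {I : Type u} {N E : I → Subgroup G} {R₀ : Subgroup G}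
    {Om : I → Type u} [∀ i, Fintype (Om i)] [∀ i, DecidableEq (Om i)] {phi : ∀ i, Finset (Om i) → G}

theorem exa_of_best {V : Subgroup G} (no : NoOverM V L) (hA : A ≤ L) (hb : Best V A) : Exa V A := by
  refine le_antisymm ?_ (no A hA hb.toElemM)
  have h1 := hb.max (A ⊓ centralizer (V : Set G)) inf_le_left le_rfl
  have h2 : V ⊓ centralizer ((A ⊓ centralizer (V : Set G) : Subgroup G) : Set G) = V :=
    inf_eq_left.2 (le_centralizer_iff.1 inf_le_right)
  rw [h2, mul_comm] at h1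
  exact h1

/-- **Best offenders of `S` centralise `R₀`** if no `P` is of type `q ≥ 4`. -/
theorem best_le_cent (hc : IsCharacteristicTwoType G) (hL : IsLoc (S : Subgroup G) L)
    (hgen : L ≤ sSup {P | IsParS (S : Subgroup G) P ∧ P ≤ L}) (hF : ¬ ∃ P A, GOne S L P A ∧ Big4 S P)
    (F : Full (S : Subgroup G) L (zl (S : Subgroup G) L) N E R₀ Om phi) (no : NoOverM (zl (S : Subgroup G) L) L)
    (hS : A ≤ (S : Subgroup G)) (hb : Best (zl (S : Subgroup G) L) A) : A ≤ centralizer (R₀ : Set G) := by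
  have hA : A ≤ L := hS.trans hL.le
  refine le_cent F no (fun X hX h => ?_) hA (S.isPGroup'.to_le hS) hb.toElemM (exa_of_best no hA hb)
  obtain ⟨t, ht, c, hc', hn, htv, -⟩ := TvAtom.mx_tv hc hL hgen hF hX h
  exact ⟨t, ht, c, hc', hn, htv⟩

/-- **Best offenders of `S` lie in `(S ∩ ⟨E b⟩) C(V)`** if no `P` is of type `q ≥ 4`. -/
theorem best_le_E (hc : IsCharacteristicTwoType G) (hL : IsLoc (S : Subgroup G) L)
    (hgen : L ≤ sSup {P | IsParS (S : Subgroup G) P ∧ P ≤ L}) (hF : ¬ ∃ P A, GOne S L P A ∧ Big4 S P)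
    (F : Full (S : Subgroup G) L (zl (S : Subgroup G) L) N E R₀ Om phi) (no : NoOverM (zl (S : Subgroup G) L) L)
    (hS : A ≤ (S : Subgroup G)) (hb : Best (zl (S : Subgroup G) L) A) :
    A ≤ ((S : Subgroup G) ⊓ ⨆ b, E b) ⊔ (A ⊓ centralizer (zl (S : Subgroup G) L : Set G)) := by
  have hA : A ≤ L := hS.trans hL.le
  refine le_E F no (fun X hX h => ?_) hS hA (S.isPGroup'.to_le hS) hb.toElemM (exa_of_best no hA hb)
  obtain ⟨t, ht, c, hc', hn, htv, -⟩ := TvAtom.mx_tv hc hL hgen hF hX h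
  exact ⟨t, ht, c, hc', hn, htv⟩

end main

end Cfsg.Agent.Omega.NOThreeL.RRed.TvExa

end
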