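import Cfsg.Agent.Mrg.Omega.NOThreeL.RRed.ClassMx
import Cfsg.Agent.Mrg.Omega.NOThreeL.RZ.Trace


/-!
# NO-3L, box R: `E₁`, `Z₁`, `R₁`, `B₁` without blocks (#25243; the trace: #24537 (0))

`V = V* = ⟨Z^Y⟩`. For `D ≤ Y` normalised by `Y` (`Tr`):
* `exists_tr`, `zc_eqD` : `Z = (Z ∩ [V, D]) C_Z(D)`; `Vstar_eqD` : `V = [V, D] ⟨C_Z(D)^Y⟩`;
  `genD` : `[V, D] = ⟨(Z ∩ [V, D])^Y⟩`.

For `E₁` (`h : RB S`):
* `nS_E1`, `nS_Z1`, `nS_R1`, `nS_B1`, `YS_le_norm_B1`;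
* `zc_eq1 : Z = (B₁ ∩ Z) Z₁`, `Vstar_eq1 : V = B₁ R₁`, `genB1 : B₁ = ⟨(B₁ ∩ Z)^Y⟩`, `R1_zc : R₁ ∩ Z = Z₁`;
* `E1_cent : E₁ ≤ C(R₁)`, `mx_cent` : atoms centralise `R₁`;
* `spl1 : B₁ ∩ R₁ = 1 ↔ B₁ ∩ Z₁ = 1`, `R1_eq_of`, `split_eq` : a splitting `V = B × R` with `[R, E₁] = 1`, `C_B(E₁) = 1` is
  `(B₁, R₁)`;
* `no_of_mx`, `best_of_mx` : atoms are best offenders; `RR_le_R1`, **`rr_of_e1s : RB S → E1S S → RR S = ⊥`**.
-/

set_option autoImplicit false
set_option linter.unusedSectionVars false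

namespace Cfsg.Agent.Omega.NOThreeL.RRed.EOne

open Subgroup Cfsg Cfsg.Agent.Omega.MinPar Cfsg.Agent.Omega.Frame Cfsg.Agent.Omega.FrameNOFF
open Cfsg.Agent.ZN (o2 zc zl jj)
open Cfsg.Agent.ZN.ChoiceBase hiding mem_zc
open Cfsg.Agent.Omega.NOThreeL.Star (YS le_YS S_le_YS)
open Cfsg.Agent.Omega.NOThreeL.Merge (MZ)
open Cfsg.Agent.Omega.NOThreeL.RTree (RB)
open Cfsg.Agent.Omega.NOThreeL.RRed (Mx)
open Cfsg.Agent.Omega.NO3b.Bang
open Cfsg.Agent.Omega.NO1.BestOff (Best exists_best)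
open Cfsg.Agent.Omega.FFThm (ElemM OffM NoOverM)
open Cfsg.Agent.Omega.NOThreeL.RZ (norm_cent norm_V_of norm_commutator_of V_le_of le_norm_V V_mono Inv RR inv_RR)
open Cfsg.Agent.MinSimple.VModule (zc_le_zl le_normalizer_zl zl_le zc_le mem_zc le_centralizer_zc zc_sq
  le_normalizer_o2 o2_isPGroup o2_le le_o2 normalizer_le_normalizer_zc)
open scoped Pointwise commutatorElement

universe u

variable {G : Type u} [Group G]

section tr

variable [Finite G] {S : Sylow 2 G} {D : Subgroup G} (h : RB S)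
include h

theorem VC : zl (S : Subgroup G) (YS S) ≤ centralizer (zl (S : Subgroup G) (YS S) : Set G) :=
  Star.zl_comm h.ctx.char2 h.data.noff

theorem Vsq : ∀ v ∈ zl (S : Subgroup G) (YS S), v ^ 2 = 1 := Star.zl_sq h.ctx.char2 h.data.noff

theorem S_YS : (S : Subgroup G) ≤ YS (S : Subgroup G) := S_le_YS h.ctx h.full

theorem VS : zl (S : Subgroup G) (YS S) ≤ (S : Subgroup G) :=
  le_of_le_normalizer S (fun x => ⟨1, Subtype.ext (by simpa using Vsq h x x.2)⟩)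
    ((S_YS h).trans (le_normalizer_zl _ _))

theorem Vfix {v : G} (hv : v ∈ zl (S : Subgroup G) (YS S)) (hs : ∀ s ∈ (S : Subgroup G), s * v = v * s) :
    v ∈ zc (S : Subgroup G) := mem_zc.2 ⟨VS h hv, hs, Vsq h v hv⟩

variable (hY : YS (S : Subgroup G) ≤ normalizer (D : Set G)) (hD : D ≤ YS (S : Subgroup G))
include hY hD

omit [Finite G] h hY in
theorem comm_leD : (⁅zl (S : Subgroup G) (YS S), D⁆ : Subgroup G) ≤ zl (S : Subgroup G) (YS S) := by
  rw [commutator_le]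
  intro v hv d hd
  have e : ⁅v, d⁆ = v * (d * v⁻¹ * d⁻¹) := by rw [commutatorElement_def]; group
  rw [e]
  exact mul_mem hv ((mem_normalizer_iff.1 (le_normalizer_zl _ _ (hD hd)) _).1 (Subgroup.inv_mem _ hv))

/-- for `z ∈ Z` there is `t ∈ C_Z(D)` with `z⁻¹ t ∈ [V, D]` -/
theorem exists_tr {z : G} (hz : z ∈ zc (S : Subgroup G)) :
    ∃ t ∈ zc (S : Subgroup G) ⊓ centralizer (D : Set G), z⁻¹ * t ∈ (⁅zl (S : Subgroup G) (YS S), D⁆ : Subgroup G) := by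
  have hzV : z ∈ zl (S : Subgroup G) (YS S) := zc_le_zl _ _ hz
  have hXn : D ⊔ (S : Subgroup G) ≤ YS (S : Subgroup G) := sup_le hD (S_YS h)
  obtain ⟨t, htV, hfix, hB⟩ := RZ.Trace.trace (V := zl (S : Subgroup G) (YS S))
    (X := D ⊔ (S : Subgroup G)) (S := (S : Subgroup G)) (B := (⁅zl (S : Subgroup G) (YS S), D⁆ : Subgroup G))
    (hXn.trans (le_normalizer_zl _ _)) (VC h) (Vsq h) (RZ.Trace.odd_relIndex S le_sup_right) hzV
    (fun s hs => (mem_zc.1 hz).2.1 s hs) (by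
      intro x hx
      have hx' : x ∈ (D : Set G) * ((S : Subgroup G) : Set G) := by
        have h5 := Subgroup.coe_mul_of_right_le_normalizer_left D (S : Subgroup G) ((S_YS h).trans hY)
        rw [← h5] at *
        exact hx
      obtain ⟨d, hd, s, hs, rfl⟩ := hx'
      have e1 : s * z = z * s := (mem_zc.1 hz).2.1 s hs
      have e : d * s * z * (d * s)⁻¹ * z⁻¹ = (z * (d * z⁻¹ * d⁻¹))⁻¹ := by
        calc d * s * z * (d * s)⁻¹ * z⁻¹ = d * (s * z) * s⁻¹ * d⁻¹ * z⁻¹ := by group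
          _ = d * (z * s) * s⁻¹ * d⁻¹ * z⁻¹ := by rw [e1]
          _ = (z * (d * z⁻¹ * d⁻¹))⁻¹ := by group
      change d * s * z * (d * s)⁻¹ * z⁻¹ ∈ _
      rw [e]
      refine inv_mem ?_
      have h3 : ⁅z, d⁆ ∈ (⁅zl (S : Subgroup G) (YS S), D⁆ : Subgroup G) := commutator_mem_commutator hzV hd
      have e3 : ⁅z, d⁆ = z * (d * z⁻¹ * d⁻¹) := by rw [commutatorElement_def]; group
      rwa [e3] at h3)
  have hc : ∀ x ∈ D ⊔ (S : Subgroup G), x * t = t * x := fun x hx => mul_inv_eq_iff_eq_mul.1 (hfix x hx)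
  refine ⟨t, ⟨Vfix h htV fun s hs => hc s (le_sup_right (a := D) hs), ?_⟩, hB⟩
  exact mem_centralizer_iff.2 fun d hd => hc d (le_sup_left (b := (S : Subgroup G)) hd)

/-- **`Z = (Z ∩ [V, D]) C_Z(D)`** -/
theorem zc_eqD : zc (S : Subgroup G) = ((⁅zl (S : Subgroup G) (YS S), D⁆ : Subgroup G) ⊓ zc (S : Subgroup G)) ⊔
    (zc (S : Subgroup G) ⊓ centralizer (D : Set G)) := by
  apply le_antisymm
  · intro z hz
    obtain ⟨t, ht, hB⟩ := exists_tr h hY hD hz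
    have h1 : z⁻¹ * t ∈ (⁅zl (S : Subgroup G) (YS S), D⁆ : Subgroup G) ⊓ zc (S : Subgroup G) :=
      ⟨hB, mul_mem (Subgroup.inv_mem _ hz) ht.1⟩
    have e : z = t * (z⁻¹ * t)⁻¹ := by group
    rw [e]
    exact mul_mem (mem_sup_right ht) (mem_sup_left (inv_mem h1))
  · exact sup_le inf_le_right inf_le_left

omit hD h [Finite G] in
theorem norm_commD : YS (S : Subgroup G) ≤ normalizer ((⁅zl (S : Subgroup G) (YS S), D⁆ : Subgroup G) : Set G) :=
  norm_commutator_of (le_normalizer_zl _ _) hY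

omit h [Finite G] hY hD in
theorem VcZ_le : NoFF.Basic.V (zc (S : Subgroup G) ⊓ centralizer (D : Set G)) (YS (S : Subgroup G)) ≤
    zl (S : Subgroup G) (YS S) := V_le_of (inf_le_left.trans (zc_le_zl _ _)) (le_normalizer_zl _ _)

omit h [Finite G] hD in
/-- `D` centralises `⟨C_Z(D)^Y⟩` -/
theorem VcZ_cent : NoFF.Basic.V (zc (S : Subgroup G) ⊓ centralizer (D : Set G)) (YS (S : Subgroup G)) ≤
    centralizer (D : Set G) := V_le_of inf_le_right (norm_cent hY)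

/-- **`V = [V, D] ⟨C_Z(D)^Y⟩`** -/
theorem Vstar_eqD : zl (S : Subgroup G) (YS S) = (⁅zl (S : Subgroup G) (YS S), D⁆ : Subgroup G) ⊔
    NoFF.Basic.V (zc (S : Subgroup G) ⊓ centralizer (D : Set G)) (YS (S : Subgroup G)) := by
  apply le_antisymm
  · refine zl_le ?_ (le_normalizer_sup (norm_commD hY) (le_norm_V _ _))
    conv_lhs => rw [zc_eqD h hY hD]
    exact sup_le_sup inf_le_left (RZ.Z_le _ _)
  · exact sup_le (comm_leD hD) VcZ_le

/-- **`[V, D] = ⟨(Z ∩ [V, D])^Y⟩`** -/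
theorem genD : (⁅zl (S : Subgroup G) (YS S), D⁆ : Subgroup G) =
    NoFF.Basic.V ((⁅zl (S : Subgroup G) (YS S), D⁆ : Subgroup G) ⊓ zc (S : Subgroup G)) (YS (S : Subgroup G)) := by
  set B' : Subgroup G := NoFF.Basic.V ((⁅zl (S : Subgroup G) (YS S), D⁆ : Subgroup G) ⊓ zc (S : Subgroup G))
    (YS (S : Subgroup G)) with hB'
  set R : Subgroup G := NoFF.Basic.V (zc (S : Subgroup G) ⊓ centralizer (D : Set G)) (YS (S : Subgroup G)) with hR
  have h1 : YS (S : Subgroup G) ≤ normalizer (B' : Set G) := le_norm_V _ _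
  have hB'V : B' ≤ zl (S : Subgroup G) (YS S) :=
    V_le_of (inf_le_right.trans (zc_le_zl _ _)) (le_normalizer_zl _ _)
  have hRV : R ≤ zl (S : Subgroup G) (YS S) := VcZ_le
  have hRD : R ≤ centralizer (D : Set G) := VcZ_cent hY
  apply le_antisymm
  · have h2 : zl (S : Subgroup G) (YS S) ≤ B' ⊔ R := by
      refine zl_le ?_ (le_normalizer_sup h1 (le_norm_V _ _))
      conv_lhs => rw [zc_eqD h hY hD]
      exact sup_le_sup (RZ.Z_le _ _) (RZ.Z_le _ _)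
    have hc : R ≤ centralizer (B' : Set G) := (hRV.trans (VC h)).trans (centralizer_le hB'V)
    rw [commutator_le]
    intro v hv d hd
    have hv' : v ∈ (B' : Set G) * (R : Set G) := by
      rw [← Cfsg.Agent.PLocal.ElemAbSup.coe_sup_of_le_centralizer hc]
      exact h2 hv
    obtain ⟨b, hb, r, hr, rfl⟩ := hv'
    have e1 : r * d = d * r := (mem_centralizer_iff.1 (hRD hr) d hd).symm
    have e : ⁅b * r, d⁆ = b * (d * b⁻¹ * d⁻¹) := by
      rw [commutatorElement_def]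
      calc b * r * d * (b * r)⁻¹ * d⁻¹ = b * (r * d) * r⁻¹ * b⁻¹ * d⁻¹ := by group
        _ = b * (d * r) * r⁻¹ * b⁻¹ * d⁻¹ := by rw [e1]
        _ = b * (d * b⁻¹ * d⁻¹) := by group
    change ⁅b * r, d⁆ ∈ B'
    rw [e]
    exact mul_mem hb ((mem_normalizer_iff.1 (h1 (hD hd)) _).1 (inv_mem hb))
  · exact V_le_of inf_le_left (norm_commD hY)

end tr

/-! ### `E₁`, `R₁`, `B₁` -/

section one

variable [Finite G] {S : Sylow 2 G} (h : RB S)

section noh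

omit [Finite G]

variable {S₀ : Subgroup G}

theorem YS_le_norm_B1 : YS S₀ ≤ normalizer (B1 S₀ : Set G) :=
  norm_commutator_of (le_normalizer_zl _ _) (YS_le_norm_E1 S₀)

theorem R1_le : R1 S₀ ≤ zl S₀ (YS S₀) := V_le_of (inf_le_left.trans (zc_le_zl _ _)) (le_normalizer_zl _ _)

theorem R1_cent : R1 S₀ ≤ centralizer (E1 S₀ : Set G) := V_le_of inf_le_right (norm_cent (YS_le_norm_E1 S₀))

theorem E1_cent : E1 S₀ ≤ centralizer (R1 S₀ : Set G) := cent_symm R1_cent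

/-- atoms centralise `R₁` -/
theorem mx_cent {A : Subgroup G} (hA : A ≤ S₀) (hm : Mx (zl S₀ (YS S₀)) A) : A ≤ centralizer (R1 S₀ : Set G) :=
  (mx_le_E1 hA hm).trans E1_cent

/-- `R₁ ∩ Z = Z₁` -/
theorem R1_zc : zc S₀ ⊓ R1 S₀ = Z1 S₀ :=
  le_antisymm (inf_le_inf_left _ R1_cent) (le_inf (Z1_le S₀) (Z1_le_R1 S₀))

end noh

theorem mx_conj {V A : Subgroup G} {n : G} (hn : n ∈ normalizer (V : Set G)) (hm : Mx V A) : Mx V (cj n A) := by
  have hV : cj n V = V := cj_eq_of_mem_normalizer hn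
  have hV' : cj n⁻¹ V = V := cj_eq_of_mem_normalizer (inv_mem hn)
  have hcV : cj n (centralizer (V : Set G)) = centralizer (V : Set G) := by rw [cj_centralizer, hV]
  have c1 : ∀ X : Subgroup G, Nat.card (cj n X) = Nat.card X := fun X => by
    rw [cj]; exact Nat.card_congr (X.equivMapOfInjective _ (MulAut.conj n).injective).symm.toEquiv
  have c2 : ∀ X : Subgroup G, cj n X ⊓ centralizer (V : Set G) = cj n (X ⊓ centralizer (V : Set G)) := fun X => by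
    rw [cj_inf, hcV]
  have c3 : ∀ X : Subgroup G, V ⊓ centralizer (cj n X : Set G) = cj n (V ⊓ centralizer (X : Set G)) := fun X => by
    rw [cj_inf, hV, cj_centralizer]
  have key : ∀ X : Subgroup G, (Nat.card V * Nat.card ↥(cj n X ⊓ centralizer (V : Set G)) =
      Nat.card ↥(cj n X) * Nat.card ↥(V ⊓ centralizer (cj n X : Set G))) ↔
      (Nat.card V * Nat.card ↥(X ⊓ centralizer (V : Set G)) =
      Nat.card X * Nat.card ↥(V ⊓ centralizer (X : Set G))) := fun X => by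
    rw [c2, c3, c1, c1, c1]
  have hmem : ∀ g, g ∈ centralizer (V : Set G) → n * g * n⁻¹ ∈ centralizer (V : Set G) := fun g hg => by
    rw [← hcV]; exact ⟨g, hg, rfl⟩
  refine ⟨⟨?_, ?_⟩, ?_, ?_, (key A).2 hm.exact, ?_⟩
  · rintro _ ⟨a, ha, rfl⟩
    have := hmem _ (hm.sq a ha)
    have e : (n * a * n⁻¹) ^ 2 = n * a ^ 2 * n⁻¹ := by rw [pow_two, pow_two]; group
    change (n * a * n⁻¹) ^ 2 ∈ _
    rwa [e]
  · rintro _ ⟨a, ha, rfl⟩ _ ⟨b, hb, rfl⟩
    have := hmem _ (hm.comm a ha b hb)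
    change n * a * n⁻¹ * (n * b * n⁻¹) * (n * a * n⁻¹)⁻¹ * (n * b * n⁻¹)⁻¹ ∈ _
    have e : n * a * n⁻¹ * (n * b * n⁻¹) * (n * a * n⁻¹)⁻¹ * (n * b * n⁻¹)⁻¹ =
      n * (a * b * a⁻¹ * b⁻¹) * n⁻¹ := by group
    rwa [e]
  · exact hm.pg.map _
  · intro hc
    apply hm.ne
    have h2 := cj_mono n⁻¹ hc
    rw [cj_inv_cj, cj_centralizer, hV'] at h2
    exact h2
  · intro B hB hBe hBc
    have e : cj n (cj n⁻¹ B) = B := cj_cj_inv _ _
    have h1 : cj n⁻¹ B ≤ A := by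
      have := cj_mono n⁻¹ hB
      rwa [cj_inv_cj] at this
    have h2 := (key (cj n⁻¹ B)).1 (by rw [e]; exact hBe)
    have h3 : A ⊓ centralizer (V : Set G) ≤ cj n⁻¹ B := by
      have := cj_mono n⁻¹ hBc
      rw [c2, cj_inv_cj] at this
      exact this
    rcases hm.min _ h1 h2 h3 with h4 | h4
    · left
      have := cj_mono n h4
      rw [e, hcV] at this
      exact this
    · right
      rw [← e, h4]

theorem nS_J1 : normalizer ((S : Subgroup G) : Set G) ≤ normalizer (J1 (S : Subgroup G) : Set G) := by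
  have h1 : ∀ n ∈ normalizer ((S : Subgroup G) : Set G), cj n (J1 (S : Subgroup G)) ≤ J1 (S : Subgroup G) := by
    intro n hn
    rw [J1, cj, map_le_iff_le_comap]
    refine sSup_le fun A hA => ?_
    rw [← map_le_iff_le_comap]
    refine mx_le_J1 ?_ (mx_conj (RZ.Frm.nS_Vs hn) hA.2)
    have := cj_mono n hA.1
    rwa [cj_eq_of_mem_normalizer hn] at this
  intro n hn
  rw [mem_normalizer_iff_cj]
  refine le_antisymm (h1 n hn) ?_
  have h2 := cj_mono n (h1 n⁻¹ (inv_mem hn))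
  rwa [cj_cj_inv] at h2

theorem nS_E1 : normalizer ((S : Subgroup G) : Set G) ≤ normalizer (E1 (S : Subgroup G) : Set G) :=
  norm_V_of nS_J1 RZ.Frm.nS_ys

theorem nS_Z1 : normalizer ((S : Subgroup G) : Set G) ≤ normalizer (Z1 (S : Subgroup G) : Set G) := by
  intro n hn
  rw [mem_normalizer_iff_cj, Z1, cj_inf, cj_eq_of_mem_normalizer (normalizer_le_normalizer_zc _ hn), cj_centralizer,
    cj_eq_of_mem_normalizer (nS_E1 hn)]

theorem nS_R1 : normalizer ((S : Subgroup G) : Set G) ≤ normalizer (R1 (S : Subgroup G) : Set G) :=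
  norm_V_of nS_Z1 RZ.Frm.nS_ys

theorem nS_B1 : normalizer ((S : Subgroup G) : Set G) ≤ normalizer (B1 (S : Subgroup G) : Set G) :=
  norm_commutator_of RZ.Frm.nS_Vs nS_E1

include h

theorem E1_le_YS : E1 (S : Subgroup G) ≤ YS (S : Subgroup G) := E1_le (S_YS h)

theorem B1_le : B1 (S : Subgroup G) ≤ zl (S : Subgroup G) (YS S) := comm_leD (E1_le_YS h)

/-- **`Z = (B₁ ∩ Z) Z₁`** -/
theorem zc_eq1 : zc (S : Subgroup G) = (B1 (S : Subgroup G) ⊓ zc (S : Subgroup G)) ⊔ Z1 (S : Subgroup G) :=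
  zc_eqD h (YS_le_norm_E1 _) (E1_le_YS h)

/-- **`V = B₁ R₁`** -/
theorem Vstar_eq1 : zl (S : Subgroup G) (YS S) = B1 (S : Subgroup G) ⊔ R1 (S : Subgroup G) :=
  Vstar_eqD h (YS_le_norm_E1 _) (E1_le_YS h)

/-- **`B₁ = ⟨(B₁ ∩ Z)^Y⟩`** -/
theorem genB1 : B1 (S : Subgroup G) =
    NoFF.Basic.V (B1 (S : Subgroup G) ⊓ zc (S : Subgroup G)) (YS (S : Subgroup G)) :=
  genD h (YS_le_norm_E1 _) (E1_le_YS h)

theorem R1_fix {v : G} (hv : v ∈ R1 (S : Subgroup G)) (hs : ∀ s ∈ (S : Subgroup G), s * v = v * s) :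
    v ∈ Z1 (S : Subgroup G) := by
  rw [← R1_zc]
  exact ⟨Vfix h (R1_le hv) hs, hv⟩

/-- `B₁ ∩ R₁ = 1` iff `B₁ ∩ Z₁ = 1`. -/
theorem spl1 : B1 (S : Subgroup G) ⊓ R1 (S : Subgroup G) = ⊥ ↔ B1 (S : Subgroup G) ⊓ Z1 (S : Subgroup G) = ⊥ := by
  constructor
  · intro h1
    exact le_bot_iff.1 (h1 ▸ inf_le_inf_left _ (Z1_le_R1 _))
  · intro h1
    by_contra hne
    have hn : (S : Subgroup G) ≤
        normalizer ((B1 (S : Subgroup G) ⊓ R1 (S : Subgroup G) : Subgroup G) : Set G) := by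
      intro s hs
      rw [mem_normalizer_iff_cj, cj_inf, cj_eq_of_mem_normalizer (YS_le_norm_B1 (S_YS h hs)),
        cj_eq_of_mem_normalizer (YS_le_norm_R1 _ (S_YS h hs))]
    obtain ⟨z, hz, hz1, hzT⟩ := NOThreeL.AdjTransv.exists_fixed S.isPGroup' hne
      (fun n hn => by rw [← pow_two]; exact Vsq h n (R1_le hn.2)) fun s hs n hn' =>
        (mem_normalizer_iff.1 (hn hs) n).1 hn'
    have h2 : z ∈ Z1 (S : Subgroup G) := R1_fix h hz.2 fun s hs => mul_inv_eq_iff_eq_mul.1 (hzT s hs)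
    have h3 : z ∈ B1 (S : Subgroup G) ⊓ Z1 (S : Subgroup G) := ⟨hz.1, h2⟩
    rw [h1, mem_bot] at h3
    exact hz1 h3

/-- `C_{B₁}(E₁) = 1`: `R₁ = C_V(E₁)` -/
theorem R1_eq_of (hs : B1 (S : Subgroup G) ⊓ centralizer (E1 (S : Subgroup G) : Set G) = ⊥) :
    R1 (S : Subgroup G) = zl (S : Subgroup G) (YS S) ⊓ centralizer (E1 (S : Subgroup G) : Set G) := by
  refine le_antisymm (le_inf R1_le R1_cent) ?_
  intro v hv0
  obtain ⟨hv, hvE⟩ := mem_inf.1 hv0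
  rw [Vstar_eq1 h, ← SetLike.mem_coe] at hv
  have hc : R1 (S : Subgroup G) ≤ centralizer (B1 (S : Subgroup G) : Set G) :=
    (R1_le.trans (VC h)).trans (centralizer_le (B1_le h))
  rw [Cfsg.Agent.PLocal.ElemAbSup.coe_sup_of_le_centralizer hc] at hv
  obtain ⟨b, hb, r, hr, rfl⟩ := hv
  have h1 : b ∈ centralizer (E1 (S : Subgroup G) : Set G) := by
    have h2 := mul_mem hvE (inv_mem (R1_cent hr))
    rwa [mul_inv_cancel_right] at h2
  have h3 : b ∈ B1 (S : Subgroup G) ⊓ centralizer (E1 (S : Subgroup G) : Set G) := ⟨hb, h1⟩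
  rw [hs, mem_bot] at h3
  rw [h3]
  change 1 * r ∈ _
  rw [one_mul]
  exact hr

/-- a splitting `V = B × R` with `[R, E₁] = 1` and `C_B(E₁) = 1` is `(B₁, R₁)` -/
theorem split_eq {B R : Subgroup G} (hs : B ⊔ R = zl (S : Subgroup G) (YS S))
    (hYB : YS (S : Subgroup G) ≤ normalizer (B : Set G)) (hR : R ≤ centralizer (E1 (S : Subgroup G) : Set G))
    (hB : B ⊓ centralizer (E1 (S : Subgroup G) : Set G) = ⊥) :
    B = B1 (S : Subgroup G) ∧ R = R1 (S : Subgroup G) := by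
  have hBV : B ≤ zl (S : Subgroup G) (YS S) := hs ▸ le_sup_left
  have hRV : R ≤ zl (S : Subgroup G) (YS S) := hs ▸ le_sup_right
  have hc : R ≤ centralizer (B : Set G) := (hRV.trans (VC h)).trans (centralizer_le hBV)
  have hdec : ∀ v ∈ zl (S : Subgroup G) (YS S), ∃ b ∈ B, ∃ r ∈ R, b * r = v := by
    intro v hv
    rw [← hs, ← SetLike.mem_coe, Cfsg.Agent.PLocal.ElemAbSup.coe_sup_of_le_centralizer hc] at hv
    obtain ⟨b, hb, r, hr, e⟩ := hv
    exact ⟨b, hb, r, hr, e⟩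
  -- `C_V(E₁) = R`
  have hCR : zl (S : Subgroup G) (YS S) ⊓ centralizer (E1 (S : Subgroup G) : Set G) ≤ R := by
    intro v hv0
    obtain ⟨hv, hvE⟩ := mem_inf.1 hv0
    obtain ⟨b, hb, r, hr, rfl⟩ := hdec v hv
    have h1 : b ∈ centralizer (E1 (S : Subgroup G) : Set G) := by
      have h2 := mul_mem hvE (inv_mem (hR hr))
      rwa [mul_inv_cancel_right] at h2
    have h3 : b ∈ B ⊓ centralizer (E1 (S : Subgroup G) : Set G) := ⟨hb, h1⟩
    rw [hB, mem_bot] at h3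
    rw [h3]
    change 1 * r ∈ _
    rw [one_mul]
    exact hr
  -- `B₁ ≤ B`
  have hB1 : B1 (S : Subgroup G) ≤ B := by
    rw [B1, commutator_le]
    intro v hv d hd
    obtain ⟨b, hb, r, hr, rfl⟩ := hdec v hv
    have e1 : r * d = d * r := (mem_centralizer_iff.1 (hR hr) d hd).symm
    have e : ⁅b * r, d⁆ = b * (d * b⁻¹ * d⁻¹) := by
      rw [commutatorElement_def]
      calc b * r * d * (b * r)⁻¹ * d⁻¹ = b * (r * d) * r⁻¹ * b⁻¹ * d⁻¹ := by group
        _ = b * (d * r) * r⁻¹ * b⁻¹ * d⁻¹ := by rw [e1]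
        _ = b * (d * b⁻¹ * d⁻¹) := by group
    rw [e]
    exact mul_mem hb ((mem_normalizer_iff.1 (hYB (E1_le_YS h hd)) _).1 (inv_mem hb))
  have hBR : B ⊓ R1 (S : Subgroup G) = ⊥ := le_bot_iff.1 (hB ▸ inf_le_inf_left _ R1_cent)
  have hcR1 : R1 (S : Subgroup G) ≤ centralizer (B1 (S : Subgroup G) : Set G) :=
    (R1_le.trans (VC h)).trans (centralizer_le (B1_le h))
  have hdec1 : ∀ v ∈ zl (S : Subgroup G) (YS S), ∃ b ∈ B1 (S : Subgroup G), ∃ r ∈ R1 (S : Subgroup G), b * r = v := by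
    intro v hv
    rw [Vstar_eq1 h, ← SetLike.mem_coe, Cfsg.Agent.PLocal.ElemAbSup.coe_sup_of_le_centralizer hcR1] at hv
    obtain ⟨b, hb, r, hr, e⟩ := hv
    exact ⟨b, hb, r, hr, e⟩
  refine ⟨le_antisymm ?_ hB1, le_antisymm ?_ ((le_inf R1_le R1_cent).trans hCR)⟩
  · intro b hb
    obtain ⟨b', hb', r, hr, rfl⟩ := hdec1 b (hBV hb)
    have h1 : r ∈ B ⊓ R1 (S : Subgroup G) := by
      refine ⟨?_, hr⟩
      have h2 := mul_mem (inv_mem (hB1 hb')) hb
      rwa [inv_mul_cancel_left] at h2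
    rw [hBR, mem_bot] at h1
    rw [h1, mul_one]
    exact hb'
  · intro r hr
    obtain ⟨b', hb', r', hr', rfl⟩ := hdec1 r (hRV hr)
    have h1 : b' ∈ B ⊓ centralizer (E1 (S : Subgroup G) : Set G) := by
      refine ⟨hB1 hb', ?_⟩
      have h2 := mul_mem (hR hr) (inv_mem (R1_cent hr'))
      rwa [mul_inv_cancel_right] at h2
    rw [hB, mem_bot] at h1
    rw [h1, one_mul]
    exact hr'

/-! ### Atoms are best offenders -/

/-- no over-offenders on `V` -/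
theorem no_of_mx {A : Subgroup G} (hA : A ≤ S) (hm : Mx (zl (S : Subgroup G) (YS S)) A) :
    NoOverM (zl (S : Subgroup G) (YS S)) (YS (S : Subgroup G)) := by
  have hne : (S : Subgroup G) ≠ ⊥ := by
    intro h0
    apply hm.ne
    have : A = ⊥ := le_bot_iff.1 (h0 ▸ hA)
    rw [this]
    exact bot_le
  exact (exists_gOne h.ctx.char2 (Star.isLoc h.ctx.char2 h.data.noff (S_YS h) hne)
    (sSup_le fun P hP => le_sSup ⟨hP, le_YS hP⟩) ⟨A, hA.trans (S_YS h), hm.off⟩).choose_spec.choose_spec.no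

/-- **atoms are best offenders** -/
theorem best_of_mx {A : Subgroup G} (hA : A ≤ S) (hm : Mx (zl (S : Subgroup G) (YS S)) A) :
    Best (zl (S : Subgroup G) (YS S)) A := by
  refine { toElemM := hm.toElemM, max := fun Y hYA hY => ?_ }
  have h1 := no_of_mx h hA hm Y (hYA.trans (hA.trans (S_YS h))) (Cfsg.Agent.Omega.NO1.BestOff.ElemM.mono hm.toElemM hYA)
  have h2 : Y ⊓ centralizer (zl (S : Subgroup G) (YS S) : Set G) =
      A ⊓ centralizer (zl (S : Subgroup G) (YS S) : Set G) :=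
    le_antisymm (inf_le_inf_right _ hYA) (le_inf hY inf_le_right)
  rw [h2, hm.exact] at h1
  exact h1

/-- **`RR S ≤ R₁`** -/
theorem RR_le_R1 : RR (S : Subgroup G) ≤ R1 (S : Subgroup G) := by
  have hI := inv_RR (S : Subgroup G)
  have h1 : E1 (S : Subgroup G) ≤ centralizer (RR (S : Subgroup G) : Set G) :=
    E1_le_of (norm_cent hI.ys) fun A hA hm => hI.nn.best hA hI.le_zl (best_of_mx h hA hm)
  refine hI.gen.trans (V_mono (le_inf inf_le_right (inf_le_left.trans (cent_symm h1))) le_rfl)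

/-- **`C_Z(E₁) = 1` implies `RR S = 1`.** -/
theorem rr_of_e1s (he : E1S (S : Subgroup G)) : RR (S : Subgroup G) = ⊥ := by
  have h1 : Z1 (S : Subgroup G) = ⊥ := he
  have h2 : R1 (S : Subgroup G) ≤ ⊥ := by
    refine V_le_of h1.le ?_
    intro t _
    rw [mem_normalizer_iff_cj]
    exact Subgroup.map_bot _
  exact le_bot_iff.1 ((RR_le_R1 h).trans h2)

/-- `C_Z(E₁) ≠ 1`: `R₁ ≠ 1`, `Z₁ = R₁ ∩ Z ≠ 1` -/
theorem ne_of_not (he : ¬ E1S (S : Subgroup G)) : Z1 (S : Subgroup G) ≠ ⊥ ∧ R1 (S : Subgroup G) ≠ ⊥ :=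
  ⟨he, fun h1 => he (le_bot_iff.1 (h1 ▸ Z1_le_R1 _))⟩

end one

end Cfsg.Agent.Omega.NOThreeL.RRed.EOne
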