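import Cfsg.Agent.Mrg.Omega.NOThreeL.RRed.TvTr
import Cfsg.Agent.Mrg.Omega.NOThreeL.RRed.Blk.PermAt


/-!
# Blocks of letters: `N(M) ⊓ N(V)` permutes the blocks, normalises `⨆ N i` and `R₀`

* `TvA M V` : the groups `⟨x⟩`, `x ∈ M` acting as a transvection on `V`; `atoms_tv : Atoms N R₀ (TvA M V)`;
* **`perm_norm`**, `norm_B`, `norm_R` for `d ∈ N(M) ⊓ N(V)`.
-/

set_option autoImplicit false
set_option linter.unusedSectionVars false

namespace Cfsg.Agent.Omega.NOThreeL.RRed.TvTr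

open Subgroup Cfsg
open Cfsg.Agent.Omega.KL.TwoS (Rel Lett)
open Cfsg.Agent.Omega.NOThreeL.RRed.Blk (Dec Co IsC Atoms)
open Cfsg.Agent.Omega.NOThreeL.RRed.TvFin (Full TvV)
open scoped Pointwise

universe u

variable {G : Type u} [Group G]

/-- the groups generated by an element of `M` which acts as a transvection -/
def TvA (M V : Subgroup G) : Set (Subgroup G) :=
  {B | ∃ x ∈ M, ∃ c ∈ V, TvV V c x ∧ x ∉ centralizer (V : Set G) ∧ B = zpowers x}

theorem tvA_conj {M V : Subgroup G} {d : G} (hM : d ∈ normalizer (M : Set G)) (hV : d ∈ normalizer (V : Set G))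
    {B : Subgroup G} (hB : B ∈ TvA M V) : MulAut.conj d • B ∈ TvA M V := by
  obtain ⟨x, hx, c, hc, hT, hne, rfl⟩ := hB
  refine ⟨d * x * d⁻¹, Blk.conj_of hM hx, d * c * d⁻¹, Blk.conj_of hV hc, fun w hw => ?_, fun h1 => hne ?_, ?_⟩
  · have h1 := hT _ (Blk.conj_of (inv_mem hV) hw)
    rw [inv_inv] at h1
    have e1 : d * x * d⁻¹ * w * (d * x * d⁻¹)⁻¹ = d * (x * (d⁻¹ * w * d) * x⁻¹) * d⁻¹ := by group
    rw [e1]
    rcases h1 with h2 | h2
    · left
      rw [h2]; group
    · right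
      rw [h2]; group
  · rw [mem_centralizer_iff] at h1 ⊢
    intro w hw
    have h2 := h1 _ (Blk.conj_of hV hw)
    have h3 : d * (w * x) * d⁻¹ = d * (x * w) * d⁻¹ := by
      calc d * (w * x) * d⁻¹ = (d * w * d⁻¹) * (d * x * d⁻¹) := by group
        _ = (d * x * d⁻¹) * (d * w * d⁻¹) := h2
        _ = d * (x * w) * d⁻¹ := by group
    exact mul_left_cancel (mul_right_cancel h3)
  · show (zpowers x).map (MulAut.conj d).toMonoidHom = _
    rw [MonoidHom.map_zpowers]
    rfl

section full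

variable {S M V : Subgroup G} {I : Type u} {N E : I → Subgroup G} {R₀ : Subgroup G} {Om : I → Type u}
    [∀ i, Fintype (Om i)] [∀ i, DecidableEq (Om i)] {phi : ∀ i, Finset (Om i) → G}
    (F : Full S M V N E R₀ Om phi)
include F

/-- an element which acts as a transposition of letters moves `N i` -/
theorem not_cent_of_swap {i : I} {x : G} {a b : Om i} (hab : a ≠ b) (hx : Rel (phi i) x (Equiv.swap a b)) :
    x ∉ centralizer (N i : Set G) := by
  intro h1
  have h2 := Blk.Rel.cent (F.lett i) h1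
  have h3 := (F.lett i).unique (F.three i) hx h2
  have h4 := congrArg (fun σ : Equiv.Perm (Om i) => σ a) h3
  simp only [Equiv.swap_apply_left, Equiv.Perm.one_apply] at h4
  exact hab h4.symm

theorem zpowers_le_cent {x : G} {W : Subgroup G} : zpowers x ≤ centralizer (W : Set G) ↔ x ∈ centralizer (W : Set G) :=
  zpowers_le

/-- **the transvections are atoms** -/
theorem atoms_tv : Atoms N R₀ (TvA M V) where
  one := by
    rintro _ ⟨x, hx, c, hc, hT, hne, rfl⟩
    obtain ⟨i, hi, a, b, hab, -, hr⟩ := F.tvs x hx c hc hT hne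
    refine ⟨i, fun j hj => ?_, ?_⟩
    · rw [zpowers_le]; exact F.toDec.EC i j (Ne.symm hj) hi
    · rw [zpowers_le]; exact not_cent_of_swap F hab hr
  cR := by
    rintro _ ⟨x, hx, c, hc, hT, hne, rfl⟩
    obtain ⟨i, hi, -⟩ := F.tvs x hx c hc hT hne
    rw [zpowers_le]; exact F.toDec.ER i hi
  nor := by
    rintro _ ⟨x, hx, c, hc, hT, hne, rfl⟩ j
    obtain ⟨i, hi, -⟩ := F.tvs x hx c hc hT hne
    rw [zpowers_le]
    by_cases hij : i = j
    · subst hij; exact F.toDec.EN i hi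
    · exact centralizer_le_normalizer _ (F.toDec.EC i j hij hi)
  ex i := by
    have h3 : 1 < Fintype.card (Om i) := lt_of_lt_of_le (by norm_num) (F.three i)
    obtain ⟨a, b, hab⟩ := Fintype.exists_pair_of_one_lt_card h3
    obtain ⟨x, hx, hr, hT⟩ := F.swap i a b hab
    have hne := not_cent_of_swap F hab hr
    have hcV : phi i {a, b} ∈ V := F.toDec.NU i (((F.lett i).mem _).2 ⟨_, by rw [Finset.card_pair hab]; decide, rfl⟩)
    refine ⟨zpowers x, ⟨x, F.toDec.EL i hx, _, hcV, hT, fun h1 => hne ?_, rfl⟩, ?_⟩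
    · exact centralizer_le (F.toDec.NU i) h1
    · rw [zpowers_le]; exact hne
  irr i W hW hn hne := by
    have L := F.lett i
    have hsw : ∀ a b : Om i, a ≠ b → ∃ x ∈ normalizer (W : Set G), Rel (phi i) x (Equiv.swap a b) := by
      intro a b hab
      obtain ⟨x, hx, hr, hT⟩ := F.swap i a b hab
      have hne := not_cent_of_swap F hab hr
      have hcV : phi i {a, b} ∈ V := F.toDec.NU i ((L.mem _).2 ⟨_, by rw [Finset.card_pair hab]; decide, rfl⟩)
      refine ⟨x, ?_, hr⟩
      have h1 := hn (zpowers x) ⟨x, F.toDec.EL i hx, _, hcV, hT, fun h1 => hne (centralizer_le (F.toDec.NU i) h1), rfl⟩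
        (by rw [zpowers_le]; exact hne)
      exact h1 (mem_zpowers x)
    have htop : Blk.PermS (phi i) (normalizer (W : Set G)) = ⊤ := by
      refine Blk.eq_top_of_swap fun a b hab => ?_
      obtain ⟨x, hx, hr⟩ := hsw a b hab
      exact Blk.mem_PermS.2 ⟨x, hx, hr⟩
    refine Blk.le_of_inv L (F.three i) hW (fun g hg => ?_) hne
    have key : ∀ g ∈ E i, ∀ w ∈ W, g * w * g⁻¹ ∈ W := by
      intro g hg w hw
      obtain ⟨σ, hσ⟩ := L.act g hg
      obtain ⟨x, hx, hr⟩ := Blk.mem_PermS.1 (show σ ∈ Blk.PermS (phi i) (normalizer (W : Set G)) by rw [htop]; trivial)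
      rw [Blk.Rel.eq_of L hσ hr (hW hw)]
      exact Blk.conj_of hx hw
    rw [mem_normalizer_iff]
    refine fun w => ⟨fun hw => key g hg w hw, fun hw => ?_⟩
    have h1 := key g⁻¹ (inv_mem hg) _ hw
    have e : g⁻¹ * (g * w * g⁻¹) * g⁻¹⁻¹ = w := by group
    rwa [e] at h1

/-- **`N(M) ⊓ N(V)` permutes the blocks** -/
theorem perm_norm {d : G} (hM : d ∈ normalizer (M : Set G)) (hV : d ∈ normalizer (V : Set G)) (i : I) :
    ∃ j, MulAut.conj d • N i = N j :=
  Blk.perm_atoms F.toDec (atoms_tv F) (fun _ hA => tvA_conj hM hV hA)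
    (fun _ hA => tvA_conj (inv_mem hM) (inv_mem hV) hA) hV i

theorem norm_B {d : G} (hM : d ∈ normalizer (M : Set G)) (hV : d ∈ normalizer (V : Set G)) :
    d ∈ normalizer ((⨆ i, N i : Subgroup G) : Set G) :=
  Blk.norm_atoms_B F.toDec (atoms_tv F) (fun _ hA => tvA_conj hM hV hA)
    (fun _ hA => tvA_conj (inv_mem hM) (inv_mem hV) hA) hV

theorem norm_R [Finite I] {d : G} (hM : d ∈ normalizer (M : Set G)) (hV : d ∈ normalizer (V : Set G)) :
    d ∈ normalizer (R₀ : Set G) :=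
  Blk.norm_atoms_R F.toDec (atoms_tv F) (fun _ hA => tvA_conj hM hV hA)
    (fun _ hA => tvA_conj (inv_mem hM) (inv_mem hV) hA) hV

end full

end Cfsg.Agent.Omega.NOThreeL.RRed.TvTr
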