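import Cfsg.Agent.Mrg.Omega.NOThreeL.RRed.TvFin
import Cfsg.Agent.Mrg.Omega.NOThreeL.RRed.Blk.Tr
import Cfsg.Agent.Mrg.Omega.NOThreeL.RRed.Blk.OneOf

section


/-!
# Blocks of letters (`q = 2`): the vector of full support (#25135 (0), #25243 (1)-(4), #25376 `FrE`)

`Full S M V N E R₀ Om phi`, `B = ⨆ i, N i`, `R₀` = the elements of `V` fixed by all transvections of `M`.

* `Orb phi i` : the vectors `{1, .., n} - {p}` of the block `i`; `orb_sub`, `orb_conj`, `orb_tr`, `orb_fix`, `orb_one`;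
* **`exists_e`** : `e ∈ B`, centralised by `S`, all components in the `Orb phi i`, every `M`-conjugate of `e` is a
  `⨆ E i`-conjugate, `M ≤ (M ⊓ C(R₀)) ⊔ (M ⊓ C(e))`, `e ≠ 1` if there is a block;
* `nonempty_of` : an element of `M` which acts as a transvection gives a block;
* **`frame_zl`** : everything for `V = zl S L` : `B`, `R₀`, `e` with `V = B × R₀`, `R₀ = ⟨(R₀ ⊓ zc S)^L⟩`,
  `zc S ≤ (B ⊓ zc S) ⊔ (R₀ ⊓ zc S)`, `e ∈ B ⊓ zc S`, `L ≤ (L ⊓ C(R₀)) ⊔ (L ⊓ C(e))`.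
-/

set_option autoImplicit false
set_option linter.unusedSectionVars false

namespace Cfsg.Agent.Omega.NOThreeL.RRed.TvTr

open Subgroup Cfsg
open Cfsg.Agent.ZN (zl zc)
open Cfsg.Agent.Omega.FFThm (NoOverM)
open Cfsg.Agent.Omega.KL.TwoS (Rel Lett)
open Cfsg.Agent.Omega.NOThreeL.RRed.Blk (Dec Co IsC)
open Cfsg.Agent.Omega.NOThreeL.RRed.TvFin (Full TvV of_zl blocks)
open Cfsg.Agent.Omega.NOThreeL.RRed.TvG (GHyp)
open scoped Pointwise

universe u

variable {G : Type u} [Group G]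

theorem conj_eq {g : G} {W : Subgroup G} (hg : g ∈ normalizer (W : Set G)) : MulAut.conj g • W = W := by
  ext x
  rw [mem_pointwise_smul_iff_inv_smul_mem, ← map_inv, MulAut.smul_def, MulAut.conj_apply, inv_inv]
  constructor
  · intro hx
    have := Blk.conj_of hg hx
    have e : g * (g⁻¹ * x * g) * g⁻¹ = x := by group
    rwa [e] at this
  · intro hx
    have := Blk.conj_of (inv_mem hg) hx
    rwa [inv_inv] at this

section full

variable {S M V : Subgroup G} {I : Type u} {N E : I → Subgroup G} {R₀ : Subgroup G} {Om : I → Type u}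
    [∀ i, Fintype (Om i)] [∀ i, DecidableEq (Om i)] {phi : ∀ i, Finset (Om i) → G}

/-- the vectors `{1, .., n} - {p}` -/
def Orb (phi : ∀ i, Finset (Om i) → G) (i : I) : Set G := {x | ∃ p : Om i, x = phi i (Finset.univ.erase p)}

omit [Group G] in
theorem map_erase {A B : Type u} [Fintype A] [Fintype B] [DecidableEq A] [DecidableEq B] (σ : A ≃ B) (p : A) :
    (Finset.univ.erase p).map σ.toEmbedding = Finset.univ.erase (σ p) := by
  rw [Finset.map_erase, Finset.map_univ_equiv]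
  rfl

variable (F : Full S M V N E R₀ Om phi)
include F

theorem orb_sub (i : I) : Orb phi i ⊆ N i := by
  rintro _ ⟨p, rfl⟩
  exact ((F.lett i).mem _).2 ⟨_, (F.lett i).even_erase p, rfl⟩

theorem orb_one (i : I) : (1 : G) ∉ Orb phi i := by
  rintro ⟨p, hp⟩
  exact Blk.erase_ne_one (F.lett i) (F.three i) p hp.symm

theorem orb_conj {g : G} (hg : g ∈ M) {i j : I} (hij : MulAut.conj g • N i = N j) {x : G} (hx : x ∈ Orb phi i) :
    g * x * g⁻¹ ∈ Orb phi j := by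
  obtain ⟨p, rfl⟩ := hx
  obtain ⟨τ, σ, h1, -, h3⟩ := F.letters g hg
  have hj : j = τ i := F.toDec.Ninj (by rw [← hij, h1])
  subst hj
  exact ⟨σ i p, by rw [h3, map_erase]⟩

theorem orb_tr (i : I) {x y : G} (hx : x ∈ Orb phi i) (hy : y ∈ Orb phi i) : ∃ e ∈ E i, e * x * e⁻¹ = y := by
  obtain ⟨p, rfl⟩ := hx
  obtain ⟨q, rfl⟩ := hy
  obtain ⟨e, he, h1⟩ := (F.lett i).all (Equiv.swap p q)
  refine ⟨e, he, ?_⟩
  rw [h1 _ ((F.lett i).even_erase p), map_erase, Equiv.swap_apply_left]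

/-- the letters of `i`, for the stabiliser of `i` -/
theorem lett_norm (i : I) : Lett (N i) (M ⊓ normalizer (N i : Set G)) (phi i) where
  odd := (F.lett i).odd
  mul := (F.lett i).mul
  inj := (F.lett i).inj
  mem := (F.lett i).mem
  act g hg := F.rel_of_fix hg.1 (conj_eq hg.2)
  all σ := by
    obtain ⟨e, he, h1⟩ := (F.lett i).all σ
    exact ⟨e, mem_inf.2 ⟨F.toDec.EL i he, F.toDec.EN i he⟩, h1⟩

theorem orb_fix (hS : IsPGroup 2 S) (i : I) :
    ∃ x ∈ Orb phi i, ∀ s ∈ S, MulAut.conj s • N i = N i → s * x * s⁻¹ = x := by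
  have L := lett_norm F i
  obtain ⟨p, hp⟩ := Blk.exists_fix (T := S ⊓ normalizer (N i : Set G)) L (F.three i)
    (inf_le_inf_right _ F.toDec.SL) (hS.to_le inf_le_left)
  refine ⟨_, ⟨p, rfl⟩, fun s hs hsi => ?_⟩
  have hn : s ∈ normalizer (N i : Set G) := by
    rw [mem_normalizer_iff]
    exact fun x => Blk.conj_smul hsi
  obtain ⟨σ, hσ⟩ := L.act s (mem_inf.2 ⟨F.toDec.SL hs, hn⟩)
  exact (L.fix_iff hσ p).2 (hp s (mem_inf.2 ⟨hs, hn⟩) σ hσ)

/-- an element of `M` which acts as a transvection gives a block -/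
theorem nonempty_of {x c : G} (hx : x ∈ M) (hc : c ∈ V) (hT : TvV V c x) (hne : x ∉ centralizer (V : Set G)) :
    Nonempty I := by
  obtain ⟨i, -⟩ := F.tvs x hx c hc hT hne
  exact ⟨i⟩

/-- **The vector of full support.** -/
theorem exists_e [Finite I] (hS : IsPGroup 2 S) :
    ∃ e ∈ ⨆ i, N i, (∀ s ∈ S, s * e = e * s) ∧ (∀ i, ∃ n ∈ Orb phi i, IsC N R₀ i e n) ∧
      (∀ y ∈ M, ∃ g ∈ ⨆ i, E i, g * e * g⁻¹ = y * e * y⁻¹) ∧
      M ≤ (M ⊓ centralizer (R₀ : Set G)) ⊔ (M ⊓ centralizer ({e} : Set G)) ∧ (Nonempty I → e ≠ 1) := by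
  obtain ⟨e, he, h1, h2, h3, h4⟩ := F.toDec.exists_tr (Orb phi) (orb_sub F) (orb_fix F hS)
    (fun g hg b c hbc x hx => orb_conj F hg hbc hx) fun b x hx y hy => orb_tr F b hx hy
  refine ⟨e, he, h1, h2, h3, h4, fun ⟨i⟩ he1 => ?_⟩
  obtain ⟨n, hn, h5⟩ := h2 i
  have h6 : n = 1 := F.toDec.uniq h5 (by rw [he1]; exact F.toDec.comp_one (one_mem _))
  exact orb_one F i (by rw [← h6]; exact hn)

end full

/-- **The frame for `V = zl S L`.** -/
theorem frame_zl [Finite G] {S : Sylow 2 G} {L : Subgroup G} (hSL : (S : Subgroup G) ≤ L)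
    (hsq : ∀ v ∈ zl (S : Subgroup G) L, v ^ 2 = 1) (hno : NoOverM (zl (S : Subgroup G) L) L) :
    ∃ (B R₀ : Subgroup G) (e : G), B ⊔ R₀ = zl (S : Subgroup G) L ∧ B ⊓ R₀ = ⊥ ∧
      L ≤ normalizer (B : Set G) ∧ L ≤ normalizer (R₀ : Set G) ∧
      (∀ v ∈ zl (S : Subgroup G) L, (v ∈ R₀ ↔
        ∀ x ∈ L, ∀ c ∈ zl (S : Subgroup G) L, TvV (zl (S : Subgroup G) L) c x → x * v * x⁻¹ = v)) ∧
      zc (S : Subgroup G) = (B ⊓ zc (S : Subgroup G)) ⊔ (R₀ ⊓ zc (S : Subgroup G)) ∧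
      (∀ K : Subgroup G, R₀ ⊓ zc (S : Subgroup G) ≤ K → L ≤ normalizer (K : Set G) → R₀ ≤ K) ∧
      e ∈ B ∧ e ∈ zc (S : Subgroup G) ∧
      ((∃ x ∈ L, ∃ c ∈ zl (S : Subgroup G) L, TvV (zl (S : Subgroup G) L) c x ∧
        x ∉ centralizer (zl (S : Subgroup G) L : Set G)) → e ≠ 1) ∧
      L ≤ (L ⊓ centralizer (R₀ : Set G)) ⊔ (L ⊓ centralizer ({e} : Set G)) := by
  have H := of_zl hSL hsq hno
  obtain ⟨I, i1, i2, N, E, R₀, Om, i3, i4, phi, F⟩ := blocks H
  obtain ⟨e, he, h1, h2, h3, h4, h5⟩ := exists_e F S.isPGroup'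
  have hV2 : IsPGroup 2 (zl (S : Subgroup G) L) := fun v => ⟨1, Subtype.ext (by
    show (v : G) ^ 2 ^ 1 = 1
    rw [pow_one]; exact hsq v v.2)⟩
  have hVS : zl (S : Subgroup G) L ≤ S := by
    have h6 : IsPGroup 2 ((S : Subgroup G) ⊔ zl (S : Subgroup G) L : Subgroup G) :=
      S.isPGroup'.to_sup_of_normal_right' hV2 (hSL.trans H.norm)
    exact le_sup_right.trans (S.is_maximal' h6 le_sup_left).le
  have hzc : ∀ z ∈ zl (S : Subgroup G) L, (∀ s ∈ (S : Subgroup G), s * z = z * s) → z ∈ zc (S : Subgroup G) :=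
    fun z hz hzS => MinSimple.VModule.mem_zc.2 ⟨hVS hz, hzS, hsq z hz⟩
  have hBV : (⨆ i, N i) ≤ zl (S : Subgroup G) L := F.toDec.B_le
  refine ⟨⨆ i, N i, R₀, e, F.toDec.sup, F.toDec.inf_R, F.toDec.le_norm_B, F.toDec.Rnor, fun v hv => F.fixR v hv,
    le_antisymm ?_ (sup_le inf_le_right inf_le_right), fun K hK hKL => ?_, he, hzc e (hBV he) h1, ?_, h4⟩
  · intro z hz
    obtain ⟨b, hb, r, hr, e1, h6, h7⟩ := F.toDec.fix_split (MinSimple.VModule.zc_le_zl _ _ hz)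
      (MinSimple.VModule.mem_zc.1 hz).2.1
    rw [e1]
    exact mul_mem (mem_sup_left (mem_inf.2 ⟨hb, hzc b (hBV hb) h6⟩))
      (mem_sup_right (mem_inf.2 ⟨hr, hzc r (F.toDec.RU hr) h7⟩))
  · refine F.toDec.R_le_of H.gen fun g hg z hz hzS => ?_
    exact Blk.conj_of (hKL hg) (hK (mem_inf.2 ⟨hz, hzc z (F.toDec.RU hz) hzS⟩))
  · rintro ⟨x, hx, c, hc, hT, hne⟩
    exact h5 (nonempty_of F hx hc hT hne)

end Cfsg.Agent.Omega.NOThreeL.RRed.TvTr

end

section


/-!
# Box R: classes and blocks of letters (helper559)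

`V = ∏ W i` (direct, `W i` normalised by `M`, irreducible), `F : Full S M V N E R₀ Om phi` the blocks of letters of `V`.

* `exists_le` : every `N b` lies in one `W i`; `not_le_two` : in one only;
* `eq_sup` : `N b ≤ W i` for some `b` implies `W i = ∏_{N b ≤ W i} N b`;
* `le_R` : `W i ≤ R₀` if no `N b` lies in `W i`;
* **`exists_cls`** : a function `cls : I → ι` with `N b ≤ W (cls b)`, `W i = ∏_{cls b = i} N b` if `i` is in its image,
  `W i ≤ R₀` otherwise, and `R₀ = ∏_{i ∉ im cls} W i`;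
* `other_le` : `W j ≤ Co N R₀ b` for `j ≠ cls b`.
-/

set_option autoImplicit false
set_option linter.unusedSectionVars false

namespace Cfsg.Agent.Omega.NOThreeL.RRed.ClsBlk

open Subgroup Cfsg
open Cfsg.Agent.Omega.NOThreeL.RRed.TvFin (Full TvV)
open Cfsg.Agent.Omega.NOThreeL.RRed.Blk (Dec Co IsC)
open Cfsg.Agent.Omega.KL.TwoS (Rel Lett)
open scoped Pointwise

universe u v

variable {G : Type u} [Group G]

/-- `V = ∏ W i`, irreducible `M`-modules -/
structure Irr (M V : Subgroup G) {ι : Type v} (W : ι → Subgroup G) : Prop where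
  ne : ∀ i, W i ≠ ⊥
  sup : ⨆ i, W i = V
  ind : ∀ i, W i ⊓ (⨆ j : {j // j ≠ i}, W j) = ⊥
  inv : ∀ i, M ≤ normalizer (W i : Set G)
  irr : ∀ i, ∀ U : Subgroup G, U ≤ W i → M ≤ normalizer (U : Set G) → U ≠ ⊥ → W i ≤ U

variable {S M V : Subgroup G} {I : Type u} {N E : I → Subgroup G} {R₀ : Subgroup G} {Om : I → Type u}
    [∀ i, Fintype (Om i)] [∀ i, DecidableEq (Om i)] {phi : ∀ i, Finset (Om i) → G} {ι : Type v} {W : ι → Subgroup G}

theorem Irr.le (h : Irr M V W) (i : ι) : W i ≤ V := by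
  rw [← h.sup]
  exact le_iSup W i

theorem Irr.inf_bot (h : Irr M V W) {i j : ι} (hij : j ≠ i) : W i ⊓ W j = ⊥ := by
  rw [eq_bot_iff, ← h.ind i]
  exact inf_le_inf_left _ (le_iSup (fun k : {k // k ≠ i} => W k) ⟨j, hij⟩)

variable (h : Irr M V W) (F : Full S M V N E R₀ Om phi)
include h F

/-- an element of `M` acting as a transvection with centre `c`: `c` lies in a class -/
theorem exists_ctr {c x : G} (hx : x ∈ M) (hT : TvV V c x) (hne : x ∉ centralizer (V : Set G)) :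
    ∃ i, c ∈ W i := by
  by_contra hcon
  push Not at hcon
  apply hne
  have h1 : V ≤ centralizer ({x} : Set G) := by
    rw [← h.sup]
    refine iSup_le fun i w hw => ?_
    rw [mem_centralizer_singleton_iff]
    rcases hT w (h.le i hw) with e | e
    · exact (mul_inv_eq_iff_eq_mul.1 e).symm
    · exfalso
      apply hcon i
      have h2 : x * w * x⁻¹ ∈ W i := (mem_normalizer_iff.1 (h.inv i hx) w).1 hw
      rw [e] at h2
      have h3 := mul_mem (inv_mem hw) h2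
      rwa [inv_mul_cancel_left] at h3
  rw [mem_centralizer_iff]
  intro v hv
  exact mem_centralizer_singleton_iff.1 (h1 hv)

/-- every block lies in a class -/
theorem exists_le (b : I) : ∃ i, N b ≤ W i := by
  have L := F.lett b
  obtain ⟨u, v, huv⟩ : ∃ u v : Om b, u ≠ v := Fintype.exists_pair_of_one_lt_card (by
    have := F.three b
    omega)
  obtain ⟨x, hx, hr, hT⟩ := F.swap b u v huv
  have hxM := F.EL b hx
  have hc1 : phi b {u, v} ≠ 1 := Blk.ne_one_of L (F.three b) (by rw [Finset.card_pair huv]; exact even_two)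
    (Finset.mem_insert_self u {v})
  have hcN : phi b {u, v} ∈ N b := (L.mem _).2 ⟨_, by rw [Finset.card_pair huv]; exact even_two, rfl⟩
  have hne : x ∉ centralizer (V : Set G) := by
    intro hxc
    have h1 : Rel (phi b) x 1 := Blk.Rel.cent L ((centralizer_le (F.NU b)) hxc)
    have h2 := L.unique (F.three b) hr h1
    have h3 := Equiv.swap_eq_one_iff.1 h2
    exact huv h3
  obtain ⟨i, hi⟩ := exists_ctr h F hxM hT hne
  refine ⟨i, ?_⟩
  have h1 : N b ≤ N b ⊓ W i := by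
    refine Blk.le_of_inv L (F.three b) inf_le_left ?_ ?_
    · intro e he
      rw [mem_normalizer_iff]
      have hM := F.EL b he
      intro y
      constructor
      · intro hy
        exact mem_inf.2 ⟨(mem_normalizer_iff.1 (F.EN b he) y).1 (mem_inf.1 hy).1,
          (mem_normalizer_iff.1 (h.inv i hM) y).1 (mem_inf.1 hy).2⟩
      · intro hy
        exact mem_inf.2 ⟨(mem_normalizer_iff.1 (F.EN b he) y).2 (mem_inf.1 hy).1,
          (mem_normalizer_iff.1 (h.inv i hM) y).2 (mem_inf.1 hy).2⟩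
    · intro hb
      have h2 : phi b {u, v} ∈ N b ⊓ W i := mem_inf.2 ⟨hcN, hi⟩
      rw [hb, mem_bot] at h2
      exact hc1 h2
  exact h1.trans inf_le_right

/-- a class with a block is the product of its blocks -/
theorem eq_sup {i : ι} (hi : ∃ b, N b ≤ W i) : W i = ⨆ b : {b // N b ≤ W i}, N b := by
  obtain ⟨b, hb⟩ := hi
  refine le_antisymm (h.irr i _ (iSup_le fun c => c.2) ?_ fun hbot => F.ne b (eq_bot_iff.2 ?_)) (iSup_le fun c => c.2)
  · have h1 : ∀ g ∈ M, MulAut.conj g • (⨆ b : {b // N b ≤ W i}, N b) ≤ ⨆ b : {b // N b ≤ W i}, N b := by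
      intro g hg
      rw [show MulAut.conj g • (⨆ b : {b // N b ≤ W i}, N b) = ⨆ b : {b // N b ≤ W i}, MulAut.conj g • N b from
        Subgroup.map_iSup _ _]
      refine iSup_le fun d => ?_
      obtain ⟨e, he, -⟩ := F.perm g hg d.1
      rw [he]
      refine le_iSup (fun b : {b // N b ≤ W i} => N b.1) ⟨e, ?_⟩
      rw [← he]
      rintro _ ⟨x, hx, rfl⟩
      exact (mem_normalizer_iff.1 (h.inv i hg) x).1 (d.2 hx)
    intro g hg
    rw [mem_normalizer_iff]
    refine fun x => ⟨fun hx => h1 g hg ((Blk.conj_smul rfl).1 hx), fun hx => ?_⟩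
    have h2 := h1 g⁻¹ (inv_mem hg) ((Blk.conj_smul rfl).1 hx)
    have e : g⁻¹ * (g * x * g⁻¹) * g⁻¹⁻¹ = x := by group
    rwa [e] at h2
  · rw [← hbot]
    exact le_iSup (fun b : {b // N b ≤ W i} => N b.1) ⟨b, hb⟩

theorem not_le_two {b : I} {i j : ι} (hi : N b ≤ W i) (hj : N b ≤ W j) : j = i := by
  by_contra hne
  apply F.ne b
  rw [eq_bot_iff, ← h.inf_bot hne]
  exact le_inf hi hj

/-- a class without a block lies in `R₀` -/
theorem le_R {i : ι} (hi : ∀ b, ¬ N b ≤ W i) : W i ≤ R₀ := by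
  intro v hv
  rw [F.fixR v (h.le i hv)]
  intro x hx c hc hT
  by_cases hxc : x ∈ centralizer (V : Set G)
  · exact Blk.cent hxc (h.le i hv)
  rcases hT v (h.le i hv) with e | e
  · exact e
  exfalso
  obtain ⟨b, hxb, u, v', huv, rfl, hr⟩ := F.tvs x hx c hc hT hxc
  obtain ⟨j, hj⟩ := exists_le h F b
  have L := F.lett b
  have hcN : phi b {u, v'} ∈ N b := (L.mem _).2 ⟨_, by rw [Finset.card_pair huv]; exact even_two, rfl⟩
  have hc1 : phi b {u, v'} ≠ 1 := Blk.ne_one_of L (F.three b) (by rw [Finset.card_pair huv]; exact even_two)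
    (Finset.mem_insert_self u {v'})
  have h2 : x * v * x⁻¹ ∈ W i := (mem_normalizer_iff.1 (h.inv i hx) v).1 hv
  rw [e] at h2
  have h3 := mul_mem (inv_mem hv) h2
  rw [inv_mul_cancel_left] at h3
  have hji : j ≠ i := fun e => hi b (e ▸ hj)
  have h4 : phi b {u, v'} ∈ W i ⊓ W j := mem_inf.2 ⟨h3, hj hcN⟩
  rw [h.inf_bot hji, mem_bot] at h4
  exact hc1 h4

/-- the other classes lie in the complement of `N b` -/
theorem other_le {b : I} {i j : ι} (hb : N b ≤ W i) (hj : j ≠ i) : W j ≤ Co N R₀ b := by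
  by_cases hjb : ∃ c, N c ≤ W j
  · rw [eq_sup h F hjb]
    refine iSup_le fun c => F.toDec.N_le_Co fun e => hj ?_
    have h1 := c.2
    rw [e] at h1
    exact not_le_two h F hb h1
  · push Not at hjb
    exact (le_R h F hjb).trans (F.toDec.R_le_Co b)

/-- **Classes and blocks.** -/
theorem exists_cls [Finite I] : ∃ cls : I → ι, (∀ b, N b ≤ W (cls b)) ∧
    (∀ i, (∃ b, cls b = i) → W i = ⨆ b : {b // cls b = i}, N b) ∧
    (∀ i, (∀ b, cls b ≠ i) → W i ≤ R₀) ∧ R₀ = ⨆ i : {i // ∀ b, cls b ≠ i}, W i := by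
  choose cls hcls using exists_le h F
  have key : ∀ b i, N b ≤ W i ↔ cls b = i := fun b i =>
    ⟨fun hb => not_le_two h F hb (hcls b), fun e => e ▸ hcls b⟩
  have h1 : ∀ i, (∃ b, cls b = i) → W i = ⨆ b : {b // cls b = i}, N b := by
    rintro i ⟨b, hb⟩
    have h2 := eq_sup h F ⟨b, (key b i).2 hb⟩
    rw [h2]
    refine le_antisymm (iSup_le fun c => ?_) (iSup_le fun c => ?_)
    · exact le_iSup (fun b : {b // cls b = i} => N b.1) ⟨c.1, (key _ _).1 c.2⟩
    · exact le_iSup (fun b : {b // N b ≤ W i} => N b.1) ⟨c.1, (key _ _).2 c.2⟩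
  have h2 : ∀ i, (∀ b, cls b ≠ i) → W i ≤ R₀ := fun i hi => le_R h F fun b hb => hi b ((key b i).1 hb)
  refine ⟨cls, hcls, h1, h2, ?_⟩
  set Bg : Subgroup G := ⨆ i : {i // ∀ b, cls b ≠ i}, W i with hBg
  have h3 : Bg ≤ R₀ := iSup_le fun i => h2 i.1 i.2
  refine le_antisymm (fun r hr => ?_) h3
  have hV : V ≤ (⨆ b, N b) ⊔ Bg := by
    rw [← h.sup]
    refine iSup_le fun i => ?_
    by_cases hi : ∃ b, cls b = i
    · have h4 : (⨆ b : {b // cls b = i}, N b.1) ≤ ⨆ b, N b := iSup_le fun b => le_iSup N b.1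
      exact ((h1 i hi).le.trans h4).trans le_sup_left
    · have hi' : ∀ b, cls b ≠ i := fun b hb => hi ⟨b, hb⟩
      have h4 : W i ≤ Bg := le_iSup (fun i : {i // ∀ b, cls b ≠ i} => W i.1) ⟨i, hi'⟩
      exact h4.trans le_sup_right
  have hnB : (⨆ b, N b) ≤ V := iSup_le F.NU
  obtain ⟨a, ha, s, hs, e⟩ := Blk.mem_sup_of (F.toDec.nor hnB (h3.trans F.toDec.RU)) (hV (F.toDec.RU hr))
  have h4 : a ∈ (⨆ b, N b) ⊓ R₀ := by
    refine mem_inf.2 ⟨ha, ?_⟩
    have h5 : a = r * s⁻¹ := by rw [e, mul_inv_cancel_right]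
    rw [h5]
    exact mul_mem hr (inv_mem (h3 hs))
  rw [F.toDec.inf_R, mem_bot] at h4
  rw [e, h4, one_mul]
  exact hs

end Cfsg.Agent.Omega.NOThreeL.RRed.ClsBlk

end
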