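import Cfsg.Agent.Mrg.Omega.NOThreeL.RRed.SBadNat
import Cfsg.Agent.Mrg.Omega.EK3.FrStar
import Cfsg.Agent.Mrg.Omega.NOThreeL.RRed.WRunA
import Cfsg.Agent.Omega.NOThreeL.RWide.TBlk
import Cfsg.Agent.Mrg.Omega.NOThreeL.RRed.WideTree
import Cfsg.Agent.Mrg.Omega.NOThreeL.RRed.FourTree
import Cfsg.Agent.Mrg.Omega.NOThreeL.RZ.TwoE.Tv
import Cfsg.Agent.Mrg.Omega.NOThreeL.RRed.Blk.AsmInact
import Cfsg.Agent.Mrg.Omega.NOThreeL.RRed.TvKind
import Cfsg.Agent.Mrg.Omega.NOThreeL.RRed.TvKindT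
import Cfsg.Agent.Mrg.Omega.NOThreeL.RRed.TvOrbs
import Cfsg.Agent.Mrg.Omega.NOThreeL.RRed.ClassMod
import Cfsg.Agent.Mrg.Omega.NOThreeL.RRed.AtomTv
import Cfsg.Agent.Mrg.Omega.NOThreeL.RRed.Blk.AsmInp
import Cfsg.Agent.Mrg.Omega.NOThreeL.RRed.Blk.AsmLn
import Cfsg.Agent.Mrg.Omega.NOThreeL.RRed.EOneTr
import Cfsg.Agent.Mrg.Omega.NOThreeL.RRed.Blk.AsmNDef
import Cfsg.Agent.Mrg.Omega.NOThreeL.RRed.WLeftBase
import Cfsg.Agent.Mrg.Omega.NOThreeL.RRed.Blk.AsmRR
import Cfsg.Agent.Mrg.Omega.NOThreeL.RRed.Blk.AsmHn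
import Cfsg.Agent.Mrg.Omega.NOThreeL.RRed.Blk.TypesLine
import Cfsg.Agent.Mrg.Omega.NOThreeL.RRed.TvTr
import Cfsg.Agent.Mrg.Omega.NOThreeL.RRed.Blk.OneOf
import Cfsg.Agent.Lib.SylowNormalInf

section


/-!
# NO-3L, box R, `FourOf`, the left case: the inputs `kg` and `nl` of THEOREM U (`EDel.AOF.AO.false_of`)

* `Lf.z_inj` : the `z b` are different;
* **`Lf.kg`** : `C_G(z_l : l ∈ T)` is a `K`-group;
* **`Lf.nl`** : no (K2) in `P*(S)`: no 2-subgroup `≠ 1` is normalised by all `Y_b = C_G(z_c : c ≠ b)`.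
-/

set_option autoImplicit false
set_option linter.unusedSectionVars false

namespace Cfsg.Agent.Omega.NOThreeL.RRed.FourLf

open Subgroup Cfsg Cfsg.Agent.ZN Cfsg.Agent.Omega.MinPar Cfsg.Agent.Omega.Frame Cfsg.Agent.Omega.FrameNOFF
open Cfsg.Agent.Omega.Node.NO3L Cfsg.Agent.Omega.NOThreeL.Basic Cfsg.Agent.Omega.NOThreeL.RTree
open Cfsg.Agent.Omega.NOThreeL.Merge (MZ le_MZ S_le_MZ)
open Cfsg.Agent.Omega.NOThreeL.RRed.Blk
open Cfsg.Agent.Omega.EK3 (CT mem_CT Yc mem_Yc)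
open Cfsg.Agent.Omega.TC.LemZ (norm_cent norm_inf)
open scoped Pointwise

universe u

variable {G : Type u} [Group G]

namespace Lf

variable [Finite G] {S : Sylow 2 G} {I : Type u} [Finite I] {N E : I → Subgroup G} {z : I → G} {O : Fin 2 → Set I}
  {v : Fin 2 → G} (h : Lf S N E z O v)
include h

theorem z_inj : Function.Injective z := by
  intro b c e
  by_contra hbc
  have h1 := h.tw.dec.comp_ne hbc (h.tw.one.zN b)
  rw [e] at h1
  have h2 := h.tw.dec.uniq h1 (h.tw.dec.comp_self (h.tw.one.zN c))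
  exact h.tw.one.z1 c h2.symm

/-- `C_G(z b)` is a `K`-group -/
theorem kg_of {X : Subgroup G} {b : I} (hX : X ≤ centralizer ({z b} : Set G)) : IsKGroup X := by
  refine h.rb.ctx.kproper _ fun e => ?_
  obtain ⟨y, hy, hyz⟩ := h.tw.one.mv b
  apply hyz
  have h1 : y ∈ X := by rw [e]; exact mem_top y
  rw [mem_centralizer_singleton_iff.1 (hX h1)]
  group

/-- **`C_T` is a `K`-group** -/
theorem kg {ι : Type} (e : ι → I) {T : Set ι} (hT : T.Nonempty) : IsKGroup (CT (fun i => z (e i)) T) := by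
  obtain ⟨l, hl⟩ := hT
  refine h.kg_of (b := e l) fun x hx => ?_
  exact mem_centralizer_singleton_iff.2 (mem_CT.1 hx l hl)

/-- **`⟨Y_b⟩` is nonlocal** -/
theorem nl {ι : Type} (e : ι ≃ I)
    (hno : ∀ R, IsParS (S : Subgroup G) R → ¬ R ≤ normalizer (((S : Subgroup G) ⊓ ⨆ b, E b : Subgroup G) : Set G)) :
    ∀ R : Subgroup G, R ≠ ⊥ → IsPGroup 2 R → ¬ ∀ j, Yc (fun i => z (e i)) j ≤ normalizer (R : Set G) := by
  intro R hR1 hR2 hRn
  have hinj := h.z_inj
  set X : Subgroup G := ⨆ j, Yc (fun i => z (e i)) j with hX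
  have hXR : X ≤ normalizer (R : Set G) := iSup_le hRn
  have hEX : ∀ b, E b ≤ X := fun b => by
    refine le_trans (fun x hx => ?_) (le_iSup (fun j => Yc (fun i => z (e i)) j) (e.symm b))
    rw [mem_Yc]
    intro l hl
    have hne : b ≠ e l := fun e1 => hl (by rw [e1, Equiv.symm_apply_apply])
    exact (mem_centralizer_iff.1 (h.tw.dec.EC b (e l) hne hx) _ (h.tw.one.zN (e l))).symm
  obtain ⟨b₀, -⟩ := (h.tw.orb 0).ne
  have hCX : centralizer (ZJ z : Set G) ≤ X := by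
    refine le_trans (fun x hx => ?_) (le_iSup (fun j => Yc (fun i => z (e i)) j) (e.symm b₀))
    rw [mem_Yc]
    exact fun l _ => (mem_centralizer_iff.1 hx _ (subset_closure ⟨e l, rfl⟩)).symm
  have hBX : BB (S : Subgroup G) z ≤ X := inf_le_right.trans hCX
  have hB2 : IsPGroup 2 (BB (S : Subgroup G) z) := S.isPGroup'.to_le inf_le_left
  -- `C_R(B) ≠ 1`
  have hRX : R ⊓ X ≠ ⊥ := by
    have hBR : BB (S : Subgroup G) z ≤ normalizer (R : Set G) := hBX.trans hXR
    have hP : IsPGroup 2 (BB (S : Subgroup G) z ⊔ R : Subgroup G) :=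
      IsPGroup.to_sup_of_normal_right' hB2 hR2 hBR
    have hPR : BB (S : Subgroup G) z ⊔ R ≤ normalizer (R : Set G) := sup_le hBR le_normalizer
    obtain ⟨w, hw, hw1, hwc⟩ := exists_fix_of hP le_sup_right hPR hR1
    intro e1
    apply hw1
    have hwX : w ∈ X := by
      refine hCX (mem_centralizer_iff.2 fun y hy => ?_)
      have hyB : y ∈ BB (S : Subgroup G) z := h.U_le_B (h.ZJU hy)
      exact mul_inv_eq_iff_eq_mul.1 (hwc y (mem_sup_left hyB))
    have h1 : w ∈ R ⊓ X := ⟨hw, hwX⟩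
    rwa [e1, mem_bot] at h1
  have hO2 : R ⊓ X ≤ o2 X := by
    refine MinSimple.VModule.le_o2 inf_le_right (hR2.to_le inf_le_left) ?_
    exact norm_inf hXR le_normalizer
  -- `C_G(Z)` and `MZ S` normalise `X`
  have hD : CZ (S : Subgroup G) ≤ normalizer (X : Set G) := by
    have key : ∀ d ∈ centralizer (zc (S : Subgroup G) : Set G), ∀ x ∈ X, d * x * d⁻¹ ∈ X := by
      intro d hd
      have h1 : X ≤ X.comap (MulAut.conj d).toMonoidHom := by
        conv_lhs => rw [hX]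
        refine iSup_le fun j x hx => ?_
        rw [mem_comap]
        change d * x * d⁻¹ ∈ X
        rw [mem_Yc] at hx
        obtain ⟨c, hc⟩ := h.perm d hd (e j)
        refine (le_iSup (fun j => Yc (fun i => z (e i)) j) (e.symm c)) ?_
        rw [mem_Yc]
        intro l hl
        obtain ⟨m, hm⟩ := h.perm d⁻¹ (inv_mem hd) (e l)
        rw [inv_inv] at hm
        have hml : d * z m * d⁻¹ = z (e l) := by rw [← hm]; group
        have hmj : m ≠ e j := by
          intro e1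
          rw [e1, hc] at hml
          apply hl
          rw [hinj hml, Equiv.symm_apply_apply]
        have h2 := hx (e.symm m) (fun e1 => hmj (by rw [← e1, Equiv.apply_symm_apply]))
        rw [Equiv.apply_symm_apply] at h2
        change d * x * d⁻¹ * z (e l) = z (e l) * (d * x * d⁻¹)
        rw [← hml]
        calc d * x * d⁻¹ * (d * z m * d⁻¹) = d * (x * z m) * d⁻¹ := by group
          _ = d * z m * d⁻¹ * (d * x * d⁻¹) := by rw [h2]; group
      exact fun x hx => h1 hx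
    exact le_norm_of key
  have hM : MZ (S : Subgroup G) ≤ normalizer (X : Set G) := by
    refine sSup_le fun P hP => ?_
    have h1 := FourTwoO.k1_of h.tw hP (hno P hP)
    rw [← h1]
    refine sup_le ((inf_le_right.trans (iSup_le hEX)).trans le_normalizer) ?_
    have h2 : (S : Subgroup G) ≤ CZ (S : Subgroup G) := MinSimple.VModule.le_centralizer_zc _
    exact h2.trans hD
  have h3 := Merge.nonLoc_MZ h.rb.ctx h.rb.full (o2 X) (MinSimple.VModule.o2_isPGroup X)
    (hM.trans (ZN.normalizer_le_normalizer_o2 X)) (hD.trans (ZN.normalizer_le_normalizer_o2 X))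
  apply hRX
  rw [eq_bot_iff, ← h3]
  exact hO2

end Lf

end Cfsg.Agent.Omega.NOThreeL.RRed.FourLf

end

section


/-!
# NO-3L, box R: `RWide.TBlk.Bls` from the natural blocks `NBs` (helper258)
-/

set_option autoImplicit false
set_option linter.unusedSectionVars false

namespace Cfsg.Agent.Omega.NOThreeL.RRed.UBls

open Subgroup Cfsg Cfsg.Agent.ZN.ChoiceBase Cfsg.Agent.Omega.NOThreeL.Basic
open Cfsg.Agent.Omega.NOThreeL.Merge (MZ)
open Cfsg.Agent.Omega.NOThreeL.RRed.WideTree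
open Cfsg.Agent.Omega.NOThreeL.RWide.TBlk (Bls NB)
open scoped Pointwise

universe u

variable {G : Type u} [Group G] {S : Subgroup G} {ι : Type u} {N E D l : ι → Subgroup G} {q : ι → ℕ}

theorem nbs_inj (h : NBs S N E D l q) : Function.Injective N := fun b c hbc => by
  by_contra hne
  refine h.dec.ne b (le_bot_iff.1 ?_)
  rw [← h.dec.ind b]
  exact le_inf le_rfl ((hbc.le.trans (le_iSup (fun d : {d // d ≠ b} => N d) ⟨c, fun e => hne e.symm⟩)).trans le_sup_left)

/-- **natural blocks are `Bls`** -/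
theorem bls_of (h : NBs S N E D l q)
    (sD : ∀ s ∈ S, ∀ b, ∃ c, MulAut.conj s • N b = N c ∧ MulAut.conj s • D b = D c ∧ MulAut.conj s • l b = l c) :
    Bls S (Wd S) N l E where
  com v hv w hw := (mem_centralizer_iff.1 (h.dec.ab hw) v hv)
  sup := by rw [← h.dec.sup, sup_bot_eq]
  ind b := by
    have h1 := h.dec.ind b
    rwa [sup_bot_eq] at h1
  EN := h.dec.EN
  EC := h.dec.EC
  nat b := by
    obtain ⟨F, i1, i2, i3, e, -, h1⟩ := h.nat b
    refine ⟨F, i1, i2, i3, e, h1.mul, h1.inj, h1.sur, h1.line, fun M => ?_, fun c => ?_, fun s hs hsN => ?_⟩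
    · obtain ⟨g, hg, h2⟩ := h1.full M
      exact ⟨g, h.DE b hg, h2⟩
    · obtain ⟨s, hs, h2⟩ := h1.sylow c
      exact ⟨s, ⟨hs.1, h.DE b hs.2⟩, h2⟩
    · obtain ⟨c, h2, h3, h4⟩ := sD s hs b
      have h5 : MulAut.conj s • N b = N b := cj_eq_of_mem_normalizer hsN
      obtain rfl : c = b := nbs_inj h (h2.symm.trans h5)
      refine Semi.natblk_semi' h1 hsN (fun d hd => ?_) ((h.DE _).trans (h.dec.EN _)) fun v hv => ?_
      · rw [← h3]
        exact RWide.conj_mem_cj hd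
      · rw [← h4]
        exact RWide.conj_mem_cj hv
  perm s hs b := by
    obtain ⟨c, h2, -, h4⟩ := sD s hs b
    exact ⟨c, h2, h4⟩

end Cfsg.Agent.Omega.NOThreeL.RRed.UBls

end

section


/-!
# NO-3L, box R: `FourOf` and `WideAll` from ONE theorem over `Wide S`

`Wide S` (RRed/WideTree) covers the hypotheses of `WideAll` (some `|Z : C_Z(P)| ≥ 4`) and those of `FourOf` (`|Z| = 4`,
some `|V_P| ≠ 8`).

* `All K B` : everything over `Wide S`;
* **`four_of : All K B → FourOf K B`**, **`wide_of : All K B → WideAll K B`**;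
* `fourFld_of` : the socket `FourTree.FourFld`.
-/

set_option autoImplicit false
set_option linter.unusedSectionVars false

namespace Cfsg.Agent.Omega.NOThreeL.RRed.WideTree

open Subgroup Cfsg Cfsg.Agent.ZN Cfsg.Agent.Omega.MinPar Cfsg.Agent.Omega.Frame Cfsg.Agent.Omega.FrameNOFF
open Cfsg.Agent.Omega.Node.NO3L Cfsg.Agent.Omega.NOThreeL.Basic Cfsg.Agent.Omega.NOThreeL.RTree
open Cfsg.Agent.Omega.NOThreeL.RTreeF
open Cfsg.Agent.Omega.NOThreeL.RRed.GlueSig

universe u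

variable {K : Cls.{u}} {B : Fr.{u}}

/-- **`FourOf` from the theorem over `Wide S`.** -/
theorem four_of (hb : ∀ (G : Type u) [Group G] [Finite G] (S : Sylow 2 G), B G S → RB S)
    (all : ∀ (G : Type u) [Group G] [Finite G], K G → ∀ (S : Sylow 2 G), B G S → Wide S → IsKnownSimple' G) :
    FourOf K B :=
  fun G _ _ hK S hB hr _ hz hn _ => all G hK S hB { toRB := hb G S hB, rr := hr, wd := Or.inr ⟨hz, hn⟩ }

/-- **`WideAll` from the theorem over `Wide S`.** -/
theorem wide_of (hb : ∀ (G : Type u) [Group G] [Finite G] (S : Sylow 2 G), B G S → RB S)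
    (all : ∀ (G : Type u) [Group G] [Finite G], K G → ∀ (S : Sylow 2 G), B G S → Wide S → IsKnownSimple' G) :
    WideAll K B :=
  fun G _ _ hK S hB hr hwd => all G hK S hB { toRB := hb G S hB, rr := hr, wd := Or.inl hwd }

/-- the four sockets of `FourTree` -/
theorem fourFld_of
    (all : ∀ (G : Type u) [Group G] [Finite G], K G → ∀ (S : Sylow 2 G), B G S → Wide S → IsKnownSimple' G) :
    FourTree.FourFld K B :=
  fun G _ _ hK S hB h4 _ => all G hK S hB { toRB := h4.toRB, rr := h4.rr, wd := Or.inr ⟨h4.z4, h4.n8⟩ }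

end Cfsg.Agent.Omega.NOThreeL.RRed.WideTree

end

section


/-!
# NO-3L, box R: `z ∈ Z` which is not fixed by all transvections of `M₀` is moved by an active `P` (#27180 (B2))

`Pts M V R₀ blk w pr` : the letters of all blocks, in the group.

* `pr_union` : a union of blocks has product `1`; `exists_even` : `v = pr F * r` with `F` even in every block;
* `map_eq` : `g ∈ M` which fixes `v` preserves `F` and fixes `r`;
* `exists_sw_mem` : an `S`-invariant set `F` with two letters of one block: some `s ∈ S` is a transposition of `F`;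
* `exists_fix` : a letter outside `F` which is fixed by all `s ∈ S` fixing its block;
* **`core`** : `M₁ = ⟨S, t'⟩` moves `z`; every `g ∈ M₁` which maps the transpositions of `S` to elements of `S` fixes `z`;
* **`act_or_fix`**, **`act_of`**.
-/

set_option autoImplicit false
set_option linter.unusedSectionVars false

namespace Cfsg.Agent.Omega.NOThreeL.RRed.TvAct

open Subgroup Cfsg Cfsg.Agent.ZN Cfsg.Agent.Omega.MinPar Cfsg.Agent.Omega.Frame Cfsg.Agent.Omega.FrameNOFF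
open Cfsg.Agent.Omega.NOThreeL.RRed.TvG2 (Pts)
open Cfsg.Agent.Omega.NOThreeL.RRed.TvFin (TvV)
open Cfsg.Agent.Omega.KL.TwoS (even_symmDiff)

universe u

variable {G : Type u} [Group G]

section pts

variable {M V R₀ : Subgroup G} {Pt I : Type u} [Fintype Pt] [DecidableEq Pt] [DecidableEq I] {blk : Pt → I}
  {w : Pt → G} {pr : Finset Pt → G} (h : Pts M V R₀ blk w pr)

/-- the letters of the block of `x` -/
def bl (blk : Pt → I) (x : Pt) : Finset Pt := Finset.univ.filter fun y => blk y = blk x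

theorem mem_bl {x y : Pt} : y ∈ bl blk x ↔ blk y = blk x := by
  rw [bl, Finset.mem_filter]; exact ⟨fun h => h.2, fun h => ⟨Finset.mem_univ _, h⟩⟩

include h

/-- a union of blocks -/
theorem pr_union : ∀ (n : ℕ) (D : Finset Pt), D.card ≤ n → (∀ x y, blk x = blk y → (x ∈ D ↔ y ∈ D)) → pr D = 1 := by
  intro n
  induction n with
  | zero =>
    intro D hD _
    rw [Finset.card_eq_zero.1 (Nat.le_zero.1 hD)]
    exact h.pr_empty
  | succ n ih =>
    intro D hD hu
    by_cases h0 : D = ∅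
    · rw [h0]; exact h.pr_empty
    obtain ⟨x, hx⟩ := Finset.nonempty_iff_ne_empty.2 h0
    have hB : bl blk x ⊆ D := fun y hy => (hu x y (mem_bl.1 hy).symm).1 hx
    have e1 : symmDiff D (bl blk x) = D \ bl blk x := by
      ext y
      rw [Finset.mem_symmDiff, Finset.mem_sdiff]
      exact ⟨fun hy => hy.elim id fun hy => absurd (hB hy.1) hy.2, Or.inl⟩
    have h1 : (D \ bl blk x).card ≤ n := by
      have : (D \ bl blk x) ⊂ D := by
        refine Finset.ssubset_iff_subset_ne.2 ⟨Finset.sdiff_subset, fun e => ?_⟩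
        have h2 : x ∈ D \ bl blk x := by rw [e]; exact hx
        exact (Finset.mem_sdiff.1 h2).2 (mem_bl.2 rfl)
      have := Finset.card_lt_card this
      omega
    have h2 := ih _ h1 (by
      intro y z hyz
      rw [Finset.mem_sdiff, Finset.mem_sdiff, mem_bl, mem_bl, hyz, hu y z hyz])
    have h3 := h.pr_symm D (bl blk x)
    rw [e1, h2, show pr (bl blk x) = 1 from h.sum x, mul_one] at h3
    exact h3.symm

theorem even_bl_symm {A B : Finset Pt} (x : Pt) (hA : Even (A.filter fun y => blk y = blk x).card)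
    (hB : Even (B.filter fun y => blk y = blk x).card) :
    Even ((symmDiff A B).filter fun y => blk y = blk x).card := by
  have e : (symmDiff A B).filter (fun y => blk y = blk x) =
      symmDiff (A.filter fun y => blk y = blk x) (B.filter fun y => blk y = blk x) := by
    ext y
    simp only [Finset.mem_filter, Finset.mem_symmDiff]
    tauto
  rw [e]
  exact even_symmDiff hA hB

/-- **the even representative** -/
theorem exists_even {v : G} (hv : v ∈ V) : ∃ F : Finset Pt, ∃ r ∈ R₀, v = pr F * r ∧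
    ∀ x, Even (F.filter fun y => blk y = blk x).card := by
  classical
  obtain ⟨F₀, r, hr, rfl⟩ := h.mem v hv
  obtain ⟨F, hF⟩ : ∃ F : Finset Pt, ∀ x, x ∈ F ↔ (x ∈ F₀ ↔ Even (F₀.filter fun y => blk y = blk x).card) :=
    ⟨Finset.univ.filter fun x => (x ∈ F₀ ↔ Even (F₀.filter fun y => blk y = blk x).card), fun x => by
      rw [Finset.mem_filter]; exact ⟨fun h => h.2, fun h => ⟨Finset.mem_univ _, h⟩⟩⟩
  have hD : ∀ x, x ∈ symmDiff F F₀ ↔ ¬ Even (F₀.filter fun y => blk y = blk x).card := by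
    intro x
    rw [Finset.mem_symmDiff, hF]
    tauto
  have h1 : pr (symmDiff F F₀) = 1 := by
    refine pr_union h _ _ le_rfl fun x y hxy => ?_
    rw [hD, hD, hxy]
  rw [h.pr_symm] at h1
  have h2 : pr F = pr F₀ := by
    rw [← h.pr_sq F₀] at h1
    exact mul_right_cancel h1
  refine ⟨F, r, hr, by rw [h2], fun x => ?_⟩
  by_cases he : Even (F₀.filter fun y => blk y = blk x).card
  · have e : F.filter (fun y => blk y = blk x) = F₀.filter fun y => blk y = blk x := by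
      ext y
      rw [Finset.mem_filter, Finset.mem_filter, hF]
      constructor
      · rintro ⟨h3, h4⟩
        rw [h4] at h3
        exact ⟨h3.2 he, h4⟩
      · rintro ⟨h3, h4⟩
        rw [h4]
        exact ⟨⟨fun _ => he, fun _ => h3⟩, rfl⟩
    rw [e]; exact he
  · have e : F.filter (fun y => blk y = blk x) = (bl blk x) \ (F₀.filter fun y => blk y = blk x) := by
      ext y
      rw [Finset.mem_filter, Finset.mem_sdiff, mem_bl, Finset.mem_filter, hF]
      constructor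
      · rintro ⟨h3, h4⟩
        rw [h4] at h3
        exact ⟨h4, fun h5 => he (h3.1 h5.1)⟩
      · rintro ⟨h3, h4⟩
        rw [h3]
        exact ⟨⟨fun h5 => absurd ⟨h5, h3⟩ h4, fun h5 => absurd h5 he⟩, rfl⟩
    have h3 := Finset.card_sdiff_add_card_eq_card (s := F₀.filter fun y => blk y = blk x) (t := bl blk x)
      fun y hy => mem_bl.2 (Finset.mem_filter.1 hy).2
    rw [e]
    have h4 : Odd (bl blk x).card := h.odd x
    rw [← h3] at h4
    rw [Nat.odd_add] at h4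
    by_contra h5
    exact he (h4.1 (Nat.not_even_iff_odd.1 h5))

/-- the permutation of letters -/
theorem perm_iff {g : G} {σ : Equiv.Perm Pt} (h1 : ∀ x, g * w x * g⁻¹ = w (σ x)) {x y : Pt}
    (e : g * w x * g⁻¹ = w y) : y = σ x := h.inj (by rw [← e, h1])

/-- **`g ∈ M` which fixes `pr F * r`, `F` even in every block, preserves `F` and fixes `r`.** -/
theorem map_eq {g : G} {σ : Equiv.Perm Pt} (hM : g ∈ M) (h1 : ∀ x, g * w x * g⁻¹ = w (σ x))
    (h2 : ∀ x y, blk x = blk y ↔ blk (σ x) = blk (σ y)) {F : Finset Pt} {r : G} (hr : r ∈ R₀)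
    (hF : ∀ x, Even (F.filter fun y => blk y = blk x).card) (hg : g * (pr F * r) * g⁻¹ = pr F * r) :
    F.map σ.toEmbedding = F ∧ g * r * g⁻¹ = r := by
  have hrV := h.R₀V hr
  have hgr : g * r * g⁻¹ ∈ R₀ := (mem_normalizer_iff.1 (h.R₀M hM) r).1 hr
  have e1 : g * (pr F * r) * g⁻¹ = pr (F.map σ.toEmbedding) * (g * r * g⁻¹) := by
    rw [← h.conj h1]; group
  have e2 : pr (symmDiff (F.map σ.toEmbedding) F) = r * (g * r * g⁻¹)⁻¹ := by
    have h3 : pr (F.map σ.toEmbedding) * (g * r * g⁻¹) = pr F * r := by rw [← e1, hg]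
    have h4 : pr (F.map σ.toEmbedding) = pr F * r * (g * r * g⁻¹)⁻¹ := by rw [← h3]; group
    rw [h.pr_symm, h4, h.comm (mul_mem (mul_mem (h.pr_mem F) hrV) (inv_mem (h.R₀V hgr))) (h.pr_mem F)]
    have h5 := h.pr_sq F
    calc pr F * (pr F * r * (g * r * g⁻¹)⁻¹) = (pr F * pr F) * (r * (g * r * g⁻¹)⁻¹) := by group
      _ = _ := by rw [h5, one_mul]
  have e3 : pr (symmDiff (F.map σ.toEmbedding) F) = 1 := h.disj _ (e2 ▸ mul_mem hr (inv_mem hgr))
  have hD : symmDiff (F.map σ.toEmbedding) F = ∅ := by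
    by_contra h0
    obtain ⟨x, hx⟩ := Finset.nonempty_iff_ne_empty.2 h0
    have h3 : (symmDiff (F.map σ.toEmbedding) F).filter (fun y => blk y = blk x) = bl blk x := by
      ext y
      rw [Finset.mem_filter, mem_bl]
      exact ⟨fun h4 => h4.2, fun h4 => ⟨(h.rel _ e3 y x h4).2 hx, h4⟩⟩
    have h4 : Even ((F.map σ.toEmbedding).filter fun y => blk y = blk x).card := by
      have h5 := hF (σ.symm x)
      have e : (F.map σ.toEmbedding).filter (fun y => blk y = blk x) =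
          (F.filter fun y => blk y = blk (σ.symm x)).map σ.toEmbedding := by
        ext y
        rw [Finset.mem_filter, Finset.mem_map, Finset.mem_map]
        constructor
        · rintro ⟨⟨z, hz, rfl⟩, h6⟩
          refine ⟨z, Finset.mem_filter.2 ⟨hz, (h2 _ _).2 ?_⟩, rfl⟩
          rw [Equiv.apply_symm_apply]
          exact h6
        · rintro ⟨z, hz, rfl⟩
          obtain ⟨h6, h7⟩ := Finset.mem_filter.1 hz
          refine ⟨⟨z, h6, rfl⟩, ?_⟩
          have h8 := (h2 _ _).1 h7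
          rw [Equiv.apply_symm_apply] at h8
          exact h8
      rw [e, Finset.card_map]
      exact h5
    have h5 := even_bl_symm h x h4 (hF x)
    rw [h3] at h5
    exact (Nat.not_even_iff_odd.2 (h.odd x)) h5
  refine ⟨symmDiff_eq_bot.1 hD, ?_⟩
  rw [e3] at e2
  have h3 := mul_inv_eq_one.1 e2.symm
  exact h3.symm

/-! ### Transpositions -/

omit h in
/-- `s` is the transposition of `x` and `y` -/
structure Sw (V : Subgroup G) (blk : Pt → I) (w : Pt → G) (s : G) (x y : Pt) : Prop where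
  ne : x ≠ y
  b : blk x = blk y
  act : ∀ u, s * w u * s⁻¹ = w (Equiv.swap x y u)
  tv : TvV V (w x * w y) s

theorem Sw.not_cent {s : G} {x y : Pt} (t : Sw V blk w s x y) : s ∉ centralizer (V : Set G) := by
  intro hs
  have h1 := mem_centralizer_iff.1 hs _ (h.wV x)
  have h2 := t.act x
  rw [← h1, mul_inv_cancel_right, Equiv.swap_apply_left] at h2
  exact t.ne (h.inj h2)

theorem Sw.conj {s g : G} {x y : Pt} (t : Sw V blk w s x y) (hM : g ∈ M) {σ : Equiv.Perm Pt}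
    (h1 : ∀ x, g * w x * g⁻¹ = w (σ x)) (h2 : ∀ x y, blk x = blk y ↔ blk (σ x) = blk (σ y)) :
    Sw V blk w (g * s * g⁻¹) (σ x) (σ y) where
  ne e := t.ne (σ.injective e)
  b := (h2 _ _).1 t.b
  act u := by
    have e1 : g * s * g⁻¹ * w u * (g * s * g⁻¹)⁻¹ = g * (s * (g⁻¹ * w u * g) * s⁻¹) * g⁻¹ := by group
    have e2 : g⁻¹ * w u * g = w (σ.symm u) := by
      have := h1 (σ.symm u)
      rw [Equiv.apply_symm_apply] at this
      rw [← this]; group
    rw [e1, e2, t.act, h1]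
    have e3 := σ.injective.swap_apply x y (σ.symm u)
    rw [Equiv.apply_symm_apply] at e3
    rw [e3]
  tv := by
    intro v hv
    have hn := h.MV hM
    have hv' : g⁻¹ * v * g ∈ V := (mem_normalizer_iff''.1 hn v).1 hv
    have e0 : w (σ x) * w (σ y) = g * (w x * w y) * g⁻¹ := by
      rw [← h1, ← h1]; group
    have e1 : g * s * g⁻¹ * v * (g * s * g⁻¹)⁻¹ = g * (s * (g⁻¹ * v * g) * s⁻¹) * g⁻¹ := by group
    rw [e1, e0]
    rcases t.tv _ hv' with h3 | h3
    · left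
      rw [h3]; group
    · right
      rw [h3]; group

/-- the elements of `M` which preserve `F` -/
def StF (F : Finset Pt) : Subgroup G where
  carrier := {g | g ∈ M ∧ ∀ x x', g * w x * g⁻¹ = w x' → (x ∈ F ↔ x' ∈ F)}
  mul_mem' := by
    rintro g k ⟨hg, h1⟩ ⟨hk, h2⟩
    refine ⟨mul_mem hg hk, fun x x' e => ?_⟩
    obtain ⟨σ, h3, -⟩ := h.perm k hk
    rw [h2 x _ (h3 x)]
    refine h1 _ _ ?_
    rw [← h3, ← e]; group
  one_mem' := ⟨one_mem _, fun x x' e => by
    rw [one_mul, inv_one, mul_one] at e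
    rw [h.inj e]⟩
  inv_mem' := by
    rintro g ⟨hg, h1⟩
    refine ⟨inv_mem hg, fun x x' e => ?_⟩
    refine (h1 x' x ?_).symm
    rw [← e]; group

theorem mem_StF {F : Finset Pt} {g : G} : g ∈ StF h F ↔ g ∈ M ∧ ∀ x x', g * w x * g⁻¹ = w x' → (x ∈ F ↔ x' ∈ F) :=
  Iff.rfl

theorem StF_of_map {F : Finset Pt} {g : G} (hg : g ∈ M) {σ : Equiv.Perm Pt} (h1 : ∀ x, g * w x * g⁻¹ = w (σ x))
    (e : F.map σ.toEmbedding = F) : g ∈ StF h F := by
  refine ⟨hg, fun x x' hx => ?_⟩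
  rw [perm_iff h h1 hx]
  constructor
  · intro h2
    rw [← e]
    exact Finset.mem_map_of_mem _ h2
  · intro h2
    rw [← e] at h2
    obtain ⟨y, hy, hyx⟩ := Finset.mem_map.1 h2
    have : y = x := σ.injective hyx
    exact this ▸ hy

theorem map_of_StF {F : Finset Pt} {g : G} (hg : g ∈ StF h F) {σ : Equiv.Perm Pt} (h1 : ∀ x, g * w x * g⁻¹ = w (σ x)) :
    F.map σ.toEmbedding = F := by
  ext y
  rw [Finset.mem_map]
  constructor
  · rintro ⟨x, hx, rfl⟩
    exact (hg.2 x _ (h1 x)).1 hx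
  · intro hy
    refine ⟨σ.symm y, ?_, Equiv.apply_symm_apply σ y⟩
    have h2 := h1 (σ.symm y)
    rw [Equiv.apply_symm_apply] at h2
    exact (hg.2 _ _ h2).2 hy

/-- a group of `g` which fixes `pr F * r` -/
theorem cent_of_StF {F : Finset Pt} {r g : G} (hg : g ∈ StF h F) (hr : g * r * g⁻¹ = r) :
    g ∈ centralizer ({pr F * r} : Set G) := by
  obtain ⟨σ, h1, -⟩ := h.perm g hg.1
  rw [mem_centralizer_singleton_iff]
  have e : g * (pr F * r) * g⁻¹ = pr F * r := by
    calc g * (pr F * r) * g⁻¹ = (g * pr F * g⁻¹) * (g * r * g⁻¹) := by group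
      _ = _ := by rw [h.conj h1, map_of_StF h hg h1, hr]
  exact mul_inv_eq_iff_eq_mul.1 e

/-! ### Elements of 2-power order -/

omit h in
theorem exists_two [Finite G] {t : G} (h2 : t ^ 2 ∈ centralizer (V : Set G)) : ∃ k : ℕ,
    IsPGroup 2 (zpowers (t ^ (2 * k + 1))) ∧ ∀ v ∈ V, t ^ (2 * k + 1) * v * (t ^ (2 * k + 1))⁻¹ = t * v * t⁻¹ := by
  obtain ⟨a, m, hm, hn⟩ := Nat.exists_eq_two_pow_mul_odd (n := orderOf t) (orderOf_pos t).ne'
  obtain ⟨k, rfl⟩ := hm
  refine ⟨k, ?_, fun v hv => ?_⟩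
  · have hf : Fact (Nat.Prime 2) := ⟨Nat.prime_two⟩
    refine IsPGroup.of_card (n := a) ?_
    rw [Nat.card_zpowers, orderOf_pow' t (by omega), hn]
    have e : Nat.gcd (2 ^ a * (2 * k + 1)) (2 * k + 1) = 2 * k + 1 := Nat.gcd_eq_right (Dvd.intro_left _ rfl)
    rw [e]
    exact Nat.mul_div_cancel _ (by omega)
  · have h3 : (t ^ 2) ^ k ∈ centralizer (V : Set G) := pow_mem h2 k
    have h4 := mem_centralizer_iff.1 h3 v hv
    have e : t ^ (2 * k + 1) = t * (t ^ 2) ^ k := by rw [← pow_mul, pow_succ']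
    rw [e]
    calc t * (t ^ 2) ^ k * v * (t * (t ^ 2) ^ k)⁻¹ = t * ((t ^ 2) ^ k * v) * ((t ^ 2) ^ k)⁻¹ * t⁻¹ := by group
      _ = t * (v * (t ^ 2) ^ k) * ((t ^ 2) ^ k)⁻¹ * t⁻¹ := by rw [h4]
      _ = _ := by group

theorem exists_sw [Finite G] {x y : Pt} (hne : x ≠ y) (hb : blk x = blk y) : ∃ t ∈ M, Sw V blk w t x y ∧
    (∀ r ∈ R₀, t * r * t⁻¹ = r) ∧ IsPGroup 2 (zpowers t) := by
  obtain ⟨t, ht, h1, h2, h3⟩ := h.full x y hne hb
  have h4 : t ^ 2 ∈ centralizer (V : Set G) := RZ.TwoE.Tv.tv_two (c := w x * w y) (mul_mem (h.wV x) (h.wV y))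
    (fun v hv => by rw [pow_two]; exact h.sq v hv) h3
  obtain ⟨k, hk, h5⟩ := exists_two h4
  refine ⟨_, pow_mem ht (2 * k + 1), ⟨hne, hb, fun u => by rw [h5 _ (h.wV u), h1], fun v hv => ?_⟩,
    fun r hr => by rw [h5 _ (h.R₀V hr), h2 r hr], hk⟩
  rw [h5 v hv]
  exact h3 v hv

theorem Sw.mem_StF {t : G} {x y : Pt} (hM : t ∈ M) (s : Sw V blk w t x y) {F : Finset Pt} (hF : x ∈ F ↔ y ∈ F) :
    t ∈ StF h F := by
  refine ⟨hM, fun u u' e => ?_⟩
  rw [s.act] at e
  have e1 := h.inj e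
  rw [← e1]
  by_cases hx : u = x
  · rw [hx, Equiv.swap_apply_left]; exact hF
  by_cases hy : u = y
  · rw [hy, Equiv.swap_apply_right]; exact hF.symm
  rw [Equiv.swap_apply_of_ne_of_ne hx hy]

/-- the action on the letters -/
noncomputable def rho : M →* Equiv.Perm Pt where
  toFun g := (h.perm g g.2).choose
  map_one' := by
    ext x
    have h1 := (h.perm _ (1 : M).2).choose_spec.1 x
    have h2 : w x = ((1 : M) : G) * w x * ((1 : M) : G)⁻¹ := by simp
    exact (h.inj (h2.trans h1)).symm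
  map_mul' g k := by
    ext x
    have h1 := (h.perm _ (g * k).2).choose_spec.1 x
    have h2 := (h.perm _ k.2).choose_spec.1 x
    have h3 := (h.perm _ g.2).choose_spec.1 ((h.perm _ k.2).choose x)
    refine (h.inj ?_)
    rw [← h1]
    change _ = w ((h.perm _ g.2).choose ((h.perm _ k.2).choose x))
    rw [← h3, ← h2, Subgroup.coe_mul]
    group

theorem rho_spec (g : M) (x : Pt) : (g : G) * w x * (g : G)⁻¹ = w (rho h g x) := (h.perm g g.2).choose_spec.1 x

theorem rho_blk (g : M) (x y : Pt) : blk x = blk y ↔ blk (rho h g x) = blk (rho h g y) :=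
  (h.perm g g.2).choose_spec.2 x y

section syl

variable [Finite G] {S : Sylow 2 G} (hSM : (S : Subgroup G) ≤ M)
include hSM

/-- **an `S`-invariant set `F` with two letters of one block: some `s ∈ S` is a transposition of `F`** -/
theorem exists_sw_mem {F : Finset Pt} (hS : (S : Subgroup G) ≤ StF h F) {x y : Pt} (hne : x ≠ y)
    (hb : blk x = blk y) (hx : x ∈ F) (hy : y ∈ F) : ∃ x' ∈ F, ∃ y' ∈ F, ∃ s ∈ (S : Subgroup G), Sw V blk w s x' y' := by
  obtain ⟨t, ht, st, -, h2⟩ := exists_sw h hne hb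
  have htF : t ∈ StF h F := st.mem_StF h ht ⟨fun _ => hy, fun _ => hx⟩
  have hZ : zpowers t ≤ StF h F := zpowers_le.2 htF
  obtain ⟨l, hl, hle⟩ : ∃ l ∈ StF h F, ∀ z ∈ zpowers t, l * z * l⁻¹ ∈ (S : Subgroup G) := by
    have hf : Fact (Nat.Prime 2) := ⟨Nat.prime_two⟩
    have h3 : IsPGroup 2 ((zpowers t).subgroupOf (StF h F)) := h2.comap_subtype
    obtain ⟨Q, hQ⟩ := h3.exists_le_sylow
    obtain ⟨l, hl⟩ := MulAction.exists_smul_eq (StF h F) Q (S.subtype hS)
    refine ⟨l, l.2, fun z hz => ?_⟩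
    have h4 : (⟨z, hZ hz⟩ : StF h F) ∈ Q := hQ hz
    have h5 : l * ⟨z, hZ hz⟩ * l⁻¹ ∈ ((l • Q : Sylow 2 (StF h F)) : Subgroup (StF h F)) :=
      ⟨⟨z, hZ hz⟩, h4, rfl⟩
    rw [hl] at h5
    exact h5
  have h3 : l * t * l⁻¹ ∈ (S : Subgroup G) := hle t (mem_zpowers t)
  obtain ⟨σ, h4, h5⟩ := h.perm l hl.1
  exact ⟨σ x, (hl.2 x _ (h4 x)).1 hx, σ y, (hl.2 y _ (h4 y)).1 hy, _, h3, st.conj h hl.1 h4 h5⟩

/-- **a letter of the block of `x` outside `F` which is fixed by all `s ∈ S` fixing the block** -/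
theorem exists_fix {F : Finset Pt} (hS : (S : Subgroup G) ≤ StF h F)
    (hF : ∀ x, Even (F.filter fun y => blk y = blk x).card) (x : Pt) : ∃ p, blk p = blk x ∧ p ∉ F ∧
      ∀ s ∈ (S : Subgroup G), (∀ y, s * w x * s⁻¹ = w y → blk y = blk x) → s * w p * s⁻¹ = w p := by
  have hf : Fact (Nat.Prime 2) := ⟨Nat.prime_two⟩
  let T : Subgroup M :=
    { carrier := {g | (g : G) ∈ (S : Subgroup G) ∧ blk (rho h g x) = blk x}
      mul_mem' := by
        rintro g k ⟨h1, h2⟩ ⟨h3, h4⟩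
        refine ⟨mul_mem h1 h3, ?_⟩
        rw [map_mul, Equiv.Perm.mul_apply, (rho_blk h g _ _).1 h4, h2]
      one_mem' := ⟨one_mem _, by rw [map_one, Equiv.Perm.one_apply]⟩
      inv_mem' := by
        rintro g ⟨h1, h2⟩
        refine ⟨inv_mem h1, ?_⟩
        rw [rho_blk h g, ← Equiv.Perm.mul_apply, ← map_mul, mul_inv_cancel, map_one, Equiv.Perm.one_apply, h2] }
  have hT : ∀ g : T, ∀ y : Pt, (blk y = blk x ∧ y ∉ F) → (blk (rho h g.1 y) = blk x ∧ rho h g.1 y ∉ F) := by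
    intro g y hy
    refine ⟨by rw [(rho_blk h g.1 _ _).1 hy.1, g.2.2], fun hc => hy.2 ?_⟩
    exact ((hS g.2.1).2 y _ (rho_spec h g.1 y)).2 hc
  let X := {y : Pt // blk y = blk x ∧ y ∉ F}
  let act : MulAction T X :=
    { smul := fun g y => ⟨rho h g.1 y.1, hT g y.1 y.2⟩
      one_smul := fun y => Subtype.ext (by
        change rho h (1 : M) y.1 = y.1
        rw [map_one, Equiv.Perm.one_apply])
      mul_smul := fun g k y => Subtype.ext (by
        change rho h (g.1 * k.1) y.1 = rho h g.1 (rho h k.1 y.1)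
        rw [map_mul, Equiv.Perm.mul_apply]) }
  have h2T : IsPGroup 2 T := by
    have h1 : IsPGroup 2 ((S : Subgroup G).subgroupOf M) := S.isPGroup'.comap_subtype
    exact h1.to_le fun g hg => mem_subgroupOf.2 hg.1
  have hX : ¬ 2 ∣ Nat.card X := by
    have e : Nat.card X = (bl blk x \ (F.filter fun y => blk y = blk x)).card := by
      rw [Nat.card_eq_fintype_card, Fintype.card_subtype]
      congr 1
      ext y
      rw [Finset.mem_filter, Finset.mem_sdiff, mem_bl, Finset.mem_filter]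
      constructor
      · rintro ⟨-, h1, h2⟩
        exact ⟨h1, fun h3 => h2 h3.1⟩
      · rintro ⟨h1, h2⟩
        exact ⟨Finset.mem_univ _, h1, fun h3 => h2 ⟨h3, h1⟩⟩
    have h3 := Finset.card_sdiff_add_card_eq_card (s := F.filter fun y => blk y = blk x) (t := bl blk x)
      fun y hy => mem_bl.2 (Finset.mem_filter.1 hy).2
    have h4 : Odd (bl blk x).card := h.odd x
    have h5 := hF x
    rw [e]
    intro h6
    rw [← h3, Nat.odd_add] at h4
    have h7 := h4.2 h5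
    exact (Nat.not_even_iff_odd.2 h7) (even_iff_two_dvd.2 h6)
  obtain ⟨p, hp⟩ := h2T.nonempty_fixed_point_of_prime_not_dvd_card X hX
  refine ⟨p.1, p.2.1, p.2.2, fun s hs hsx => ?_⟩
  have h1 : blk (rho h ⟨s, hSM hs⟩ x) = blk x := hsx _ (rho_spec h ⟨s, hSM hs⟩ x)
  have h2 := hp (⟨⟨s, hSM hs⟩, hs, h1⟩ : T)
  have h3 : rho h ⟨s, hSM hs⟩ p.1 = p.1 := congrArg Subtype.val h2
  have h4 := rho_spec h ⟨s, hSM hs⟩ p.1
  rw [h3] at h4
  exact h4

open Classical in
/-- **The group `M₁ = ⟨S, t'⟩`.** -/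
theorem core {z : G} (hz : z ∈ V) (zS : ∀ s ∈ (S : Subgroup G), s * z * s⁻¹ = z) (hR : z ∉ R₀) :
    ∃ M₁ ≤ M, (S : Subgroup G) ≤ M₁ ∧ ¬ M₁ ≤ centralizer ({z} : Set G) ∧
      ∀ g ∈ M₁, (∀ s ∈ (S : Subgroup G), ∀ x y, Sw V blk w s x y → g * s * g⁻¹ ∈ (S : Subgroup G)) →
        (∀ s ∈ (S : Subgroup G), ∀ x y, Sw V blk w s x y → g⁻¹ * s * g ∈ (S : Subgroup G)) →
          g ∈ centralizer ({z} : Set G) := by
  obtain ⟨F, r, hr, rfl, hF⟩ := exists_even h hz
  have hS : ∀ s ∈ (S : Subgroup G), s ∈ StF h F ∧ s * r * s⁻¹ = r := by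
    intro s hs
    obtain ⟨σ, h1, h2⟩ := h.perm s (hSM hs)
    obtain ⟨h3, h4⟩ := map_eq h (hSM hs) h1 h2 hr hF (zS s hs)
    exact ⟨StF_of_map h (hSM hs) h1 h3, h4⟩
  have hSF : (S : Subgroup G) ≤ StF h F := fun s hs => (hS s hs).1
  have hne : F ≠ ∅ := by
    rintro rfl
    rw [h.pr_empty, one_mul] at hR
    exact hR hr
  obtain ⟨x₀, hx₀⟩ := Finset.nonempty_iff_ne_empty.2 hne
  have hx₀' : x₀ ∈ F.filter fun y => blk y = blk x₀ := Finset.mem_filter.2 ⟨hx₀, rfl⟩
  have hc : 1 < (F.filter fun y => blk y = blk x₀).card := by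
    have h1 := Finset.card_pos.2 ⟨x₀, hx₀'⟩
    obtain ⟨k, hk⟩ := hF x₀
    omega
  obtain ⟨y₀, hy₀, hyne⟩ := Finset.exists_mem_ne hc x₀
  obtain ⟨hy₀F, hy₀b⟩ := Finset.mem_filter.1 hy₀
  obtain ⟨x, hxF, y, hyF, s₀, hs₀, st⟩ := exists_sw_mem h hSM hSF (Ne.symm hyne) hy₀b.symm hx₀ hy₀F
  obtain ⟨p, hpb, hpF, hfix⟩ := exists_fix h hSM hSF hF x
  have hxp : x ≠ p := fun e => hpF (e ▸ hxF)
  obtain ⟨t, htM, stt, htr, -⟩ := exists_sw h hxp hpb.symm
  -- the letters
  let LL : Finset Pt := Finset.univ.filter fun u =>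
    (∃ s ∈ (S : Subgroup G), s * w x * s⁻¹ = w u) ∨ ∃ s ∈ (S : Subgroup G), s * w p * s⁻¹ = w u
  have hLL : ∀ u, u ∈ LL ↔ (∃ s ∈ (S : Subgroup G), s * w x * s⁻¹ = w u) ∨
      ∃ s ∈ (S : Subgroup G), s * w p * s⁻¹ = w u := fun u => by
    rw [Finset.mem_filter]; exact ⟨fun h => h.2, fun h => ⟨Finset.mem_univ _, h⟩⟩
  have hxL : x ∈ LL := (hLL x).2 (Or.inl ⟨1, one_mem _, by group⟩)
  have hpL : p ∈ LL := (hLL p).2 (Or.inr ⟨1, one_mem _, by group⟩)
  have hSLL : (S : Subgroup G) ≤ StF h LL := by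
    intro s hs
    refine ⟨hSM hs, fun u u' e => ?_⟩
    have key : ∀ {s : G}, s ∈ (S : Subgroup G) → ∀ {u u' : Pt}, s * w u * s⁻¹ = w u' → u ∈ LL → u' ∈ LL := by
      intro s hs u u' e hu
      rw [hLL] at hu ⊢
      rcases hu with ⟨a, ha, h1⟩ | ⟨a, ha, h1⟩
      · exact Or.inl ⟨s * a, mul_mem hs ha, by rw [← e, ← h1]; group⟩
      · exact Or.inr ⟨s * a, mul_mem hs ha, by rw [← e, ← h1]; group⟩
    refine ⟨key hs e, key (inv_mem hs) ?_⟩
    rw [← e]; group
  have hSD : (S : Subgroup G) ≤ StF h (F \ LL) := by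
    intro s hs
    refine ⟨hSM hs, fun u u' e => ?_⟩
    rw [Finset.mem_sdiff, Finset.mem_sdiff, (hSF hs).2 u u' e, (hSLL hs).2 u u' e]
  have htL : t ∈ StF h LL := stt.mem_StF h htM ⟨fun _ => hpL, fun _ => hxL⟩
  have htD : t ∈ StF h (F \ LL) := stt.mem_StF h htM
    ⟨fun h1 => absurd hxL (Finset.mem_sdiff.1 h1).2, fun h1 => absurd hpL (Finset.mem_sdiff.1 h1).2⟩
  have hML : (S : Subgroup G) ⊔ zpowers t ≤ StF h LL := sup_le hSLL (zpowers_le.2 htL)
  have hMD : (S : Subgroup G) ⊔ zpowers t ≤ StF h (F \ LL) := sup_le hSD (zpowers_le.2 htD)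
  have hMr : (S : Subgroup G) ⊔ zpowers t ≤ centralizer ({r} : Set G) := by
    refine sup_le (fun s hs => ?_) (zpowers_le.2 ?_)
    · rw [mem_centralizer_singleton_iff]
      exact mul_inv_eq_iff_eq_mul.1 (hS s hs).2
    · rw [mem_centralizer_singleton_iff]
      exact mul_inv_eq_iff_eq_mul.1 (htr r hr)
  refine ⟨(S : Subgroup G) ⊔ zpowers t, sup_le hSM (zpowers_le.2 htM), le_sup_left, fun hle => ?_,
    fun g hg h1 h2 => ?_⟩
  · have h1 := hle (le_sup_right (a := (S : Subgroup G)) (mem_zpowers t))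
    rw [mem_centralizer_singleton_iff] at h1
    obtain ⟨σ, h2, h3⟩ := h.perm t htM
    obtain ⟨h4, -⟩ := map_eq h htM h2 h3 hr hF (mul_inv_eq_iff_eq_mul.2 h1)
    have h5 := StF_of_map h htM h2 h4
    have h6 : t * w x * t⁻¹ = w p := by rw [stt.act, Equiv.swap_apply_left]
    exact hpF ((h5.2 _ _ h6).1 hxF)
  · have hgM : g ∈ M := (hML hg).1
    -- letters moved by transpositions of `S`
    have hU : ∀ {g : G}, g ∈ M →
        (∀ s ∈ (S : Subgroup G), ∀ x y, Sw V blk w s x y → g * s * g⁻¹ ∈ (S : Subgroup G)) → ∀ u u',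
          g * w u * g⁻¹ = w u' → (∃ v, ∃ s ∈ (S : Subgroup G), Sw V blk w s u v) →
            ∃ v, ∃ s ∈ (S : Subgroup G), Sw V blk w s u' v := by
      rintro g hgM h1 u u' e ⟨v, s, hs, hsw⟩
      obtain ⟨σ, h3, h4⟩ := h.perm g hgM
      rw [perm_iff h h3 e]
      exact ⟨σ v, _, h1 s hs _ _ hsw, hsw.conj h hgM h3 h4⟩
    have hSS : ∀ {a : G}, a ∈ (S : Subgroup G) → ∀ s ∈ (S : Subgroup G), ∀ x y, Sw V blk w s x y →
        a * s * a⁻¹ ∈ (S : Subgroup G) := fun ha s hs _ _ _ => mul_mem (mul_mem ha hs) (inv_mem ha)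
    have hC : ∀ u ∈ LL, (u ∈ F ↔ ∃ v, ∃ s ∈ (S : Subgroup G), Sw V blk w s u v) := by
      intro u hu
      rcases (hLL u).1 hu with ⟨a, ha, e⟩ | ⟨a, ha, e⟩
      · exact ⟨fun _ => hU (hSM ha) (hSS ha) x u e ⟨y, s₀, hs₀, st⟩, fun _ => ((hSF ha).2 _ _ e).1 hxF⟩
      · refine ⟨fun h3 => absurd (((hSF ha).2 _ _ e).2 h3) hpF, fun h3 => ?_⟩
        have e' : a⁻¹ * w u * a⁻¹⁻¹ = w p := by rw [← e]; group
        obtain ⟨v, s, hs, hsw⟩ := hU (hSM (inv_mem ha)) (hSS (inv_mem ha)) u p e' h3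
        exfalso
        obtain ⟨σ, h4, h5⟩ := h.perm s (hSM hs)
        have h6 : s * w p * s⁻¹ = w v := by rw [hsw.act, Equiv.swap_apply_left]
        have h7 := hfix s hs fun q hq => by
          rw [perm_iff h h4 hq]
          have h8 := (h5 p x).1 hpb
          rw [← perm_iff h h4 h6] at h8
          rw [← h8, ← hsw.b, hpb]
        rw [h6] at h7
        exact hsw.ne (h.inj h7).symm
    have hgF : g ∈ StF h F := by
      refine ⟨hgM, fun u u' e => ?_⟩
      have e1 := (hML hg).2 u u' e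
      have e2 := (hMD hg).2 u u' e
      rw [Finset.mem_sdiff, Finset.mem_sdiff] at e2
      by_cases hu : u ∈ LL
      · have hu' := e1.1 hu
        rw [hC u hu, hC u' hu']
        refine ⟨hU hgM h1 u u' e, hU (inv_mem hgM) (fun s hs x y hsw => ?_) u' u (by rw [← e]; group)⟩
        rw [inv_inv]
        exact h2 s hs x y hsw
      · have hu' : u' ∉ LL := fun h3 => hu (e1.2 h3)
        constructor
        · exact fun h3 => (e2.1 ⟨h3, hu⟩).1
        · exact fun h3 => (e2.2 ⟨h3, hu'⟩).1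
    refine cent_of_StF h hgF ?_
    have h3 := hMr hg
    rw [mem_centralizer_singleton_iff] at h3
    rw [h3, mul_inv_cancel_right]

end syl

end pts

/-! ### Box R -/

section main

open Cfsg.Agent.Omega.NOThreeL.RTree (RB)
open Cfsg.Agent.Omega.NOThreeL.Merge (MZ le_MZ isLoc_MZ)
open Cfsg.Agent.Omega.FFThm (NoOverM)
open Cfsg.Agent.Omega.NOThreeL.RRed.WideTree (Act)

variable [Finite G] {S : Sylow 2 G}

/-- **(B2) of #27180** : a vector of `Z` which is moved by a transvection of `M₀` on `V*` is moved by an active `P`. -/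
theorem act_or_fix (B : RB S) (no : NoOverM (Wd (S : Subgroup G)) (MZ (S : Subgroup G))) {z : G}
    (hz : z ∈ zc (S : Subgroup G)) {t c : G} (ht : t ∈ MZ (S : Subgroup G)) (hc : c ∈ Wd (S : Subgroup G))
    (htv : TvV (Wd (S : Subgroup G)) c t) (hm : t * z * t⁻¹ ≠ z) :
    ∃ P, Act (S : Subgroup G) P ∧ ¬ P ≤ centralizer ({z} : Set G) := by
  have hSM : (S : Subgroup G) ≤ MZ (S : Subgroup G) := (isLoc_MZ B.ctx B.full B.data.noff).le
  have H : TvG.GHyp (S : Subgroup G) (Wd (S : Subgroup G)) (MZ (S : Subgroup G)) :=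
    TvFin.of_zl hSM (Star.zl_sq B.ctx.char2 B.data.noff) no
  obtain ⟨Pt, I, i1, i2, i3, i4, blk, w, tr, b⟩ := TvBlk.exists_blk (TvFin.sys H)
  have h := TvG2.pts H.sq H.norm b
  have hzV : z ∈ Wd (S : Subgroup G) := MinSimple.VModule.zc_le_zl _ _ hz
  have hR : z ∉ TvDec.R₀ H.sq H.norm := fun h1 => hm ((TvFin.fixR H.sq H.norm b hzV).1 h1 t ht c hc htv)
  have zS : ∀ s ∈ (S : Subgroup G), s * z * s⁻¹ = z := fun s hs => by
    rw [(MinSimple.VModule.mem_zc.1 hz).2.1 s hs, mul_inv_cancel_right]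
  obtain ⟨M₁, hM, hS, hn, hall⟩ := core h hSM hzV zS hR
  have hloc : IsLoc (S : Subgroup G) M₁ := (isLoc_MZ B.ctx B.full B.data.noff).of_le S hS hM
  have hN : M₁ ⊓ normalizer ((S : Subgroup G) : Set G) ≤ centralizer ({z} : Set G) := by
    rintro g ⟨hg, hgn⟩
    refine hall g hg (fun s hs _ _ _ => (mem_normalizer_iff.1 hgn s).1 hs) fun s hs _ _ _ => ?_
    exact (mem_normalizer_iff''.1 hgn s).1 hs
  obtain ⟨P, hP, hPM, hPz⟩ := hloc.exists_not_le S hN hn
  have hPS : IsParS (S : Subgroup G) P := by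
    refine ⟨hP, fun h1 => hPz ?_⟩
    exact (RZ.Nz.le_centralizer_of hP h1).trans (centralizer_le (Set.singleton_subset_iff.2 hz))
  refine ⟨P, ?_, hPz⟩
  by_contra hA
  have hin := Blk.AsmInact.inact_of hPS hA
  apply hPz
  have key : ∀ g ∈ P, ∀ s ∈ (S : Subgroup G), ∀ x y, Sw (Wd (S : Subgroup G)) blk (fun x => (w x).val) s x y →
      g * s * g⁻¹ ∈ (S : Subgroup G) := by
    intro g hg s hs x y hsw
    have h1 : Mx (Wd (S : Subgroup G)) (zpowers s) :=
      RZ.TwoE.Tv.tv_mx no (hSM hs) (S.isPGroup'.to_le (zpowers_le.2 hs)) (mul_mem (h.wV x) (h.wV y))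
        (fun v hv => by rw [pow_two]; exact h.sq v hv) hsw.tv (hsw.not_cent h)
    have h2 : s ∈ o2 P := hin _ (zpowers_le.2 hs) h1 (mem_zpowers s)
    exact hP.isLoc.o2_le S ((mem_normalizer_iff.1 (MinSimple.VModule.le_normalizer_o2 P hg) s).1 h2)
  intro g hg
  refine hall g (hPM hg) (key g hg) fun s hs x y hsw => ?_
  have h1 := key g⁻¹ (inv_mem hg) s hs x y hsw
  rwa [inv_inv] at h1

/-- over the blocks of letters -/
theorem act_of (B : RB S) (no : NoOverM (Wd (S : Subgroup G)) (MZ (S : Subgroup G))) {I : Type u}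
    {N E : I → Subgroup G} {R₀ : Subgroup G} {Om : I → Type u} [∀ i, Fintype (Om i)] [∀ i, DecidableEq (Om i)]
    {phi : ∀ i, Finset (Om i) → G}
    (F : TvFin.Full (S : Subgroup G) (MZ (S : Subgroup G)) (Wd (S : Subgroup G)) N E R₀ Om phi) {z : G}
    (hz : z ∈ zc (S : Subgroup G)) (hR : z ∉ R₀) :
    ∃ P, IsParS (S : Subgroup G) P ∧ ¬ P ≤ centralizer ({z} : Set G) ∧
      ∃ A ≤ (S : Subgroup G), Mx (Wd (S : Subgroup G)) A ∧ ¬ A ≤ o2 P := by
  have hzV : z ∈ Wd (S : Subgroup G) := MinSimple.VModule.zc_le_zl _ _ hz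
  rw [F.fixR z hzV] at hR
  push Not at hR
  obtain ⟨t, ht, c, hc, htv, hm⟩ := hR
  obtain ⟨P, ⟨h1, h2⟩, h3⟩ := act_or_fix B no hz ht hc htv hm
  exact ⟨P, h1, h3, h2⟩

end main

end Cfsg.Agent.Omega.NOThreeL.RRed.TvAct

end

section


/-!
# NO-3L, box R: an active `P` moves `z ∈ Z`, `z ∉ R₀` ((B2) of #27180, helper811)

`F : TvFin.Full S M V N E R₀ Om phi`, `S` a Sylow 2-subgroup of `G`. Letters: the vectors `lt phi b a = phi b (Om b ∖ {a})`.

* `Trs S V t` : `t ∈ S` acts on `V` as a (non-trivial) transvection; `Fre S V w` : no such `t` moves `w`;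
* `exists_p` : exactly one letter of each block is free;
* `cent_of_inact` : `P ≤ ⟨S, t⟩`, `t` = the swap of the letters `x`, `p` (`p` free, `x` not), `P` permutes the
  transvections in `S`: `P` fixes every `z ∈ C_V(S)`;
* `exists_par` : `⟨S, t⟩` contains a member of `P*(S)` which moves `z`, if `t` does;
* **`act_of`** : `z ∈ Z`, `z ∉ R₀`: some active `P ∈ P*(S)` moves `z`.
-/

set_option autoImplicit false
set_option linter.unusedSectionVars false

namespace Cfsg.Agent.Omega.NOThreeL.RRed.TvActP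

open Subgroup Cfsg
open Cfsg.Agent.ZN (o2 zc zl)
open Cfsg.Agent.Omega.MinPar
open Cfsg.Agent.Omega.NOThreeL.RRed
open Cfsg.Agent.Omega.NOThreeL.RRed.Blk
open Cfsg.Agent.Omega.NOThreeL.RRed.TvFin (TvV)
open Cfsg.Agent.Omega.KL.TwoS (Rel Lett)
open scoped Pointwise

universe u

variable {G : Type u} [Group G]

/-- the letters -/
def lt {I : Type u} {Om : I → Type u} [∀ i, Fintype (Om i)] [∀ i, DecidableEq (Om i)]
    (phi : ∀ i, Finset (Om i) → G) (b : I) (a : Om b) : G := phi b (Finset.univ.erase a)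

/-- transvections in `S` -/
def Trs (S V : Subgroup G) (t : G) : Prop := t ∈ S ∧ t ∉ centralizer (V : Set G) ∧ ∃ c ∈ V, TvV V c t

/-- `w` is not moved by the transvections in `S` -/
def Fre (S V : Subgroup G) (w : G) : Prop := ∀ t, Trs S V t → t * w * t⁻¹ = w

theorem tvV_conj {V : Subgroup G} {c t g : G} (hg : g ∈ normalizer (V : Set G)) (h : TvV V c t) :
    TvV V (g * c * g⁻¹) (g * t * g⁻¹) := by
  intro w hw
  have hw' : g⁻¹ * w * g ∈ V := TvKind.conj_mem' hg hw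
  rcases h _ hw' with e | e
  · left
    calc g * t * g⁻¹ * w * (g * t * g⁻¹)⁻¹ = g * (t * (g⁻¹ * w * g) * t⁻¹) * g⁻¹ := by group
      _ = w := by rw [e]; group
  · right
    calc g * t * g⁻¹ * w * (g * t * g⁻¹)⁻¹ = g * (t * (g⁻¹ * w * g) * t⁻¹) * g⁻¹ := by group
      _ = w * (g * c * g⁻¹) := by rw [e]; group

theorem cent_conj {V : Subgroup G} {t g : G} (hg : g ∈ normalizer (V : Set G))
    (h : g * t * g⁻¹ ∈ centralizer (V : Set G)) : t ∈ centralizer (V : Set G) := by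
  rw [mem_centralizer_iff]
  intro v hv
  have h8 := mem_centralizer_iff.1 h _ ((mem_normalizer_iff.1 hg v).1 hv)
  have h9 : g * (v * t) * g⁻¹ = g * (t * v) * g⁻¹ := by
    calc g * (v * t) * g⁻¹ = g * v * g⁻¹ * (g * t * g⁻¹) := by group
      _ = g * t * g⁻¹ * (g * v * g⁻¹) := h8
      _ = _ := by group
  exact mul_left_cancel (mul_right_cancel h9)

/-- conjugates of transvections in `S` which lie in `S` -/
theorem trs_conj {S V : Subgroup G} {t g : G} (hg : g ∈ normalizer (V : Set G)) (h : Trs S V t)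
    (hS : g * t * g⁻¹ ∈ S) : Trs S V (g * t * g⁻¹) := by
  obtain ⟨_, h2, c, hc, h3⟩ := h
  exact ⟨hS, fun h4 => h2 (cent_conj hg h4), g * c * g⁻¹, (mem_normalizer_iff.1 hg c).1 hc, tvV_conj hg h3⟩

section full

variable {M V : Subgroup G} {I : Type u} {N E : I → Subgroup G} {R₀ : Subgroup G}
  {Om : I → Type u} [∀ i, Fintype (Om i)] [∀ i, DecidableEq (Om i)] {phi : ∀ i, Finset (Om i) → G}

section any

variable {S : Subgroup G} (F : TvFin.Full S M V N E R₀ Om phi)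
include F

theorem lt_mem (b : I) (a : Om b) : lt phi b a ∈ N b :=
  ((F.lett b).mem _).2 ⟨_, (F.lett b).even_erase a, rfl⟩

theorem lt_inj {b : I} {a a' : Om b} (h : lt phi b a = lt phi b a') : a = a' := by
  by_contra hne
  have h4 := (F.lett b).phi_inj ((F.lett b).even_erase a) ((F.lett b).even_erase a') h
  have h5 : a' ∈ (Finset.univ : Finset (Om b)).erase a := Finset.mem_erase.2 ⟨Ne.symm hne, Finset.mem_univ _⟩
  rw [h4] at h5
  exact (Finset.mem_erase.1 h5).1 rfl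

theorem lt_ne (b : I) (a : Om b) : lt phi b a ≠ 1 := by
  intro h
  have h1 := (F.lett b).inj _ ((F.lett b).even_erase a) h
  have h2 := congrArg Finset.card h1
  rw [Finset.card_erase_of_mem (Finset.mem_univ a), Finset.card_univ, Finset.card_empty] at h2
  have := F.three b
  omega

theorem blk_eq {b c : I} {x : G} (h1 : x ∈ N b) (h2 : x ∈ N c) (hx : x ≠ 1) : b = c := by
  by_contra hne
  have h3 : x ∈ N b ⊓ Co N R₀ b := mem_inf.2 ⟨h1, F.toDec.N_le_Co (Ne.symm hne) h2⟩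
  rw [show N b ⊓ Co N R₀ b = ⊥ from F.toDec.ind b, mem_bot] at h3
  exact hx h3

/-- an element of `E b` fixes the letters of the other blocks -/
theorem fix_other {b c : I} (hbc : b ≠ c) {t : G} (ht : t ∈ E b) (a : Om c) : t * lt phi c a * t⁻¹ = lt phi c a :=
  cent (F.EC b c hbc ht) (lt_mem F c a)

/-- a swap on the letters of its block -/
theorem lt_rel {b : I} {t : G} {σ : Equiv.Perm (Om b)} (h : Rel (phi b) t σ) (a : Om b) :
    t * lt phi b a * t⁻¹ = lt phi b (σ a) := by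
  rw [lt, h _ ((F.lett b).even_erase a), TvOrb.map_erase]
  rfl

end any

variable [Finite G] {S : Sylow 2 G} (F : TvFin.Full (S : Subgroup G) M V N E R₀ Om phi)
include F

theorem S_norm : (S : Subgroup G) ≤ normalizer (V : Set G) := F.toDec.SL.trans F.toDec.LU

theorem trs_S {s t : G} (hs : s ∈ (S : Subgroup G)) (h : Trs (S : Subgroup G) V t) :
    Trs (S : Subgroup G) V (s * t * s⁻¹) :=
  trs_conj (S_norm F hs) h (mul_mem (mul_mem hs h.1) (inv_mem hs))

theorem fre_S {s w : G} (hs : s ∈ (S : Subgroup G)) (h : Fre (S : Subgroup G) V w) :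
    Fre (S : Subgroup G) V (s * w * s⁻¹) := by
  intro t ht
  have h1 := h _ (trs_S F (inv_mem hs) ht)
  calc t * (s * w * s⁻¹) * t⁻¹ = s * (s⁻¹ * t * s⁻¹⁻¹ * w * (s⁻¹ * t * s⁻¹⁻¹)⁻¹) * s⁻¹ := by group
    _ = s * w * s⁻¹ := by rw [h1]

/-- **Exactly one letter of each block is free.** -/
theorem exists_p (b : I) : ∃ p : Om b, Fre (S : Subgroup G) V (lt phi b p) ∧
    ∀ a, a ≠ p → ¬ Fre (S : Subgroup G) V (lt phi b a) := by
  classical
  obtain ⟨P, hP⟩ := TvKind.exists_img (F.lett b) (F.three b) (TvKind.syl F b)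
  obtain ⟨r, hr⟩ := (F.lett b).odd
  obtain ⟨x, y, p, hp⟩ := TvKindT.exists_pairs P hr
  have hno : ∀ a, a ≠ p → Equiv.swap a p ∉ (P : Subgroup (Equiv.Perm (Om b))) := by
    intro a ha hs
    -- another swap with the letter `a`
    obtain ⟨a', h1, h2, h3⟩ : ∃ a', a' ≠ a ∧ a' ≠ p ∧ Equiv.swap a a' ∈ (P : Subgroup (Equiv.Perm (Om b))) := by
      obtain ⟨i, hi | hi⟩ := hp.cov a ha
      · exact ⟨y i, hi ▸ (hp.ne i).symm, hp.yp i, hi ▸ hp.sw i⟩
      · refine ⟨x i, hi ▸ hp.ne i, hp.xp i, ?_⟩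
        rw [hi, Equiv.swap_comm]
        exact hp.sw i
    have h4 : (Equiv.swap a p * Equiv.swap a a').IsThreeCycle :=
      Equiv.Perm.isThreeCycle_swap_mul_swap_same ha (Ne.symm h1) (Ne.symm h2)
    obtain ⟨n, hn⟩ := P.isPGroup' ⟨_, mul_mem hs h3⟩
    have h5 : (Equiv.swap a p * Equiv.swap a a') ^ 2 ^ n = 1 := congrArg Subtype.val hn
    have h6 := orderOf_dvd_of_pow_eq_one h5
    rw [h4.orderOf] at h6
    have h7 := Nat.Prime.dvd_of_dvd_pow Nat.prime_three h6
    omega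
  refine ⟨p, ?_, ?_⟩
  · rintro t ⟨htS, htn, c, hc, hT⟩
    obtain ⟨i, hi, a, a', haa, _, hrel⟩ := F.tvs t (F.toDec.SL htS) c hc hT htn
    by_cases hib : i = b
    · subst hib
      rw [lt_rel F hrel]
      have h1 : Equiv.swap a a' ∈ (P : Subgroup (Equiv.Perm (Om i))) := by
        rw [hP]
        exact ⟨t, mem_inf.2 ⟨htS, hi⟩, hrel⟩
      have h2 : p ≠ a := by
        rintro rfl
        exact hno a' (Ne.symm haa) (by rw [Equiv.swap_comm]; exact h1)
      have h3 : p ≠ a' := by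
        rintro rfl
        exact hno a haa h1
      rw [Equiv.swap_apply_of_ne_of_ne h2 h3]
    · exact fix_other F hib hi p
  · intro a ha hf
    obtain ⟨a', h1, h3⟩ : ∃ a', a' ≠ a ∧ Equiv.swap a a' ∈ (P : Subgroup (Equiv.Perm (Om b))) := by
      obtain ⟨i, hi | hi⟩ := hp.cov a ha
      · exact ⟨y i, hi ▸ (hp.ne i).symm, hi ▸ hp.sw i⟩
      · refine ⟨x i, hi ▸ hp.ne i, ?_⟩
        rw [hi, Equiv.swap_comm]
        exact hp.sw i
    rw [hP] at h3
    obtain ⟨t, ht, hrel⟩ := h3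
    have h4 : t * lt phi b a * t⁻¹ = lt phi b a' := by rw [lt_rel F hrel, Equiv.swap_apply_left]
    have h5 : t ∉ centralizer (V : Set G) := by
      intro h6
      rw [cent h6 (F.toDec.NU b (lt_mem F b a))] at h4
      exact h1 (lt_inj F h4).symm
    have hc : phi b {a, a'} ∈ N b :=
      ((F.lett b).mem _).2 ⟨_, by rw [Finset.card_pair (Ne.symm h1)]; exact even_two, rfl⟩
    have h6 : Trs (S : Subgroup G) V t := ⟨ht.1, h5, phi b {a, a'}, F.toDec.NU b hc,
      TvKind.tvV_of F ht.2 (fun w hw => TvKind.tv_swap (F.lett b) (Ne.symm h1) hrel hw) hc⟩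
    rw [hf t h6] at h4
    exact h1 (lt_inj F h4).symm

/-! ### An inactive `P ≤ ⟨S, t⟩` -/

/-- the letters conjugate under `S` to the letters `x`, `p` of the block `b` -/
def XX (S : Subgroup G) (phi : ∀ i, Finset (Om i) → G) (b : I) (x p : Om b) (w : G) : Prop :=
  ∃ s ∈ S, w = s * lt phi b x * s⁻¹ ∨ w = s * lt phi b p * s⁻¹

omit F [Finite G] in
theorem XX_S {S : Subgroup G} {b : I} {x p : Om b} {s w : G} (hs : s ∈ S) (h : XX S phi b x p w) :
    XX S phi b x p (s * w * s⁻¹) := by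
  obtain ⟨s', hs', h⟩ := h
  refine ⟨s * s', mul_mem hs hs', ?_⟩
  rcases h with rfl | rfl
  · left; group
  · right; group

omit F [Finite G] in
theorem XX_S' {S : Subgroup G} {b : I} {x p : Om b} {s w : G} (hs : s ∈ S) (h : XX S phi b x p (s * w * s⁻¹)) :
    XX S phi b x p w := by
  have h1 := XX_S (inv_mem hs) h
  have e : s⁻¹ * (s * w * s⁻¹) * s⁻¹⁻¹ = w := by group
  rwa [e] at h1

/-- letters are mapped to letters -/
theorem let_conj {g : G} (hg : g ∈ M) {w : G} (hw : ∃ (c : I) (a : Om c), w = lt phi c a) :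
    ∃ (c : I) (a : Om c), g * w * g⁻¹ = lt phi c a := by
  obtain ⟨c, a, rfl⟩ := hw
  obtain ⟨τ, σ, _, _, h3⟩ := F.letters g hg
  exact ⟨τ c, σ c a, by rw [lt, h3, TvOrb.map_erase]; rfl⟩

/-- **`⟨S, t⟩` on the letters.** -/
theorem letters_of {b : I} {x p : Om b} {t : G} (ht : t ∈ E b) (hrel : Rel (phi b) t (Equiv.swap x p))
    {g : G} (hg : g ∈ (S : Subgroup G) ⊔ zpowers t) :
    (∀ w, (∃ (c : I) (a : Om c), w = lt phi c a) → XX (S : Subgroup G) phi b x p w →
      XX (S : Subgroup G) phi b x p (g * w * g⁻¹)) ∧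
    ∀ w, (∃ (c : I) (a : Om c), w = lt phi c a) → ¬ XX (S : Subgroup G) phi b x p w →
      ∃ s ∈ (S : Subgroup G), g * w * g⁻¹ = s * w * s⁻¹ := by
  let K : Subgroup G :=
    { carrier := {g | g ∈ M ∧ (∀ w, (∃ (c : I) (a : Om c), w = lt phi c a) → XX (S : Subgroup G) phi b x p w →
        XX (S : Subgroup G) phi b x p (g * w * g⁻¹)) ∧
        ∀ w, (∃ (c : I) (a : Om c), w = lt phi c a) → ¬ XX (S : Subgroup G) phi b x p w →
          ∃ s ∈ (S : Subgroup G), g * w * g⁻¹ = s * w * s⁻¹}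
      one_mem' := ⟨one_mem _, fun w _ hX => by simpa using hX, fun w _ _ => ⟨1, one_mem _, rfl⟩⟩
      mul_mem' := by
        rintro g h ⟨hg, h1, h2⟩ ⟨hh, h3, h4⟩
        have e : ∀ w, g * h * w * (g * h)⁻¹ = g * (h * w * h⁻¹) * g⁻¹ := fun w => by group
        refine ⟨mul_mem hg hh, fun w hw hX => ?_, fun w hw hX => ?_⟩
        · rw [e]
          exact h1 _ (let_conj F hh hw) (h3 w hw hX)
        · rw [e]
          obtain ⟨s, hs, h5⟩ := h4 w hw hX
          have h6 : ¬ XX (S : Subgroup G) phi b x p (h * w * h⁻¹) := by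
            rw [h5]
            exact fun h7 => hX (XX_S' hs h7)
          obtain ⟨s', hs', h7⟩ := h2 _ (let_conj F hh hw) h6
          exact ⟨s' * s, mul_mem hs' hs, by rw [h7, h5]; group⟩
      inv_mem' := by
        rintro g ⟨hg, h1, h2⟩
        have e : ∀ w, g * (g⁻¹ * w * g⁻¹⁻¹) * g⁻¹ = w := fun w => by group
        refine ⟨inv_mem hg, fun w hw hX => ?_, fun w hw hX => ?_⟩
        · by_contra hn
          obtain ⟨s, hs, h3⟩ := h2 _ (let_conj F (inv_mem hg) hw) hn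
          rw [e] at h3
          rw [h3] at hX
          exact hn (XX_S' hs hX)
        · have hn : ¬ XX (S : Subgroup G) phi b x p (g⁻¹ * w * g⁻¹⁻¹) := by
            intro h3
            have h4 := h1 _ (let_conj F (inv_mem hg) hw) h3
            rw [e] at h4
            exact hX h4
          obtain ⟨s, hs, h3⟩ := h2 _ (let_conj F (inv_mem hg) hw) hn
          rw [e] at h3
          refine ⟨s⁻¹, inv_mem hs, ?_⟩
          calc g⁻¹ * w * g⁻¹⁻¹ = s⁻¹ * (s * (g⁻¹ * w * g⁻¹⁻¹) * s⁻¹) * s⁻¹⁻¹ := by group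
            _ = s⁻¹ * w * s⁻¹⁻¹ := by rw [← h3] }
  have hSK : (S : Subgroup G) ≤ K := fun s hs =>
    ⟨F.toDec.SL hs, fun w _ hX => XX_S hs hX, fun w _ _ => ⟨s, hs, rfl⟩⟩
  have htK : t ∈ K := by
    refine ⟨F.toDec.EL b ht, ?_, ?_⟩
    · rintro w ⟨c, a, rfl⟩ hX
      by_cases hbc : b = c
      · subst hbc
        rw [lt_rel F hrel]
        rcases eq_or_ne a x with rfl | hax
        · rw [Equiv.swap_apply_left]
          exact ⟨1, one_mem _, Or.inr (by group)⟩
        · rcases eq_or_ne a p with rfl | hap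
          · rw [Equiv.swap_apply_right]
            exact ⟨1, one_mem _, Or.inl (by group)⟩
          · rw [Equiv.swap_apply_of_ne_of_ne hax hap]
            exact hX
      · rw [fix_other F hbc ht]
        exact hX
    · rintro w ⟨c, a, rfl⟩ hX
      refine ⟨1, one_mem _, ?_⟩
      rw [one_mul, inv_one, mul_one]
      by_cases hbc : b = c
      · subst hbc
        have hax : a ≠ x := by
          rintro rfl
          exact hX ⟨1, one_mem _, Or.inl (by group)⟩
        have hap : a ≠ p := by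
          rintro rfl
          exact hX ⟨1, one_mem _, Or.inr (by group)⟩
        rw [lt_rel F hrel, Equiv.swap_apply_of_ne_of_ne hax hap]
      · exact fix_other F hbc ht a
  have h1 : (S : Subgroup G) ⊔ zpowers t ≤ K := sup_le hSK (zpowers_le.2 htK)
  exact (h1 hg).2

/-- **An inactive `P` on the letters.** -/
theorem inact_letters {b : I} {x p : Om b} (hp : Fre (S : Subgroup G) V (lt phi b p))
    (hx : ¬ Fre (S : Subgroup G) V (lt phi b x)) {t : G} (ht : t ∈ E b) (hrel : Rel (phi b) t (Equiv.swap x p))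
    {P : Subgroup G} (hPL : P ≤ (S : Subgroup G) ⊔ zpowers t)
    (hPT : ∀ g ∈ P, ∀ t, Trs (S : Subgroup G) V t → Trs (S : Subgroup G) V (g * t * g⁻¹)) {g : G} (hg : g ∈ P)
    {w : G} (hw : ∃ (c : I) (a : Om c), w = lt phi c a) : ∃ s ∈ (S : Subgroup G), g * w * g⁻¹ = s * w * s⁻¹ := by
  obtain ⟨h1, h2⟩ := letters_of F ht hrel (hPL hg)
  by_cases hX : XX (S : Subgroup G) phi b x p w
  · -- free letters are mapped to free letters
    have key : ∀ g ∈ P, ∀ w, Fre (S : Subgroup G) V w → Fre (S : Subgroup G) V (g * w * g⁻¹) := by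
      intro g hg w hw t ht
      have h3 := hw _ (hPT g⁻¹ (inv_mem hg) t ht)
      calc t * (g * w * g⁻¹) * t⁻¹ = g * (g⁻¹ * t * g⁻¹⁻¹ * w * (g⁻¹ * t * g⁻¹⁻¹)⁻¹) * g⁻¹ := by group
        _ = g * w * g⁻¹ := by rw [h3]
    obtain ⟨s', hs', h3⟩ := h1 w hw hX
    obtain ⟨s, hs, h4⟩ := hX
    rcases h4 with rfl | rfl
    · rcases h3 with h3 | h3
      · exact ⟨s' * s⁻¹, mul_mem hs' (inv_mem hs), by rw [h3]; group⟩
      · exfalso
        apply hx
        have h5 : Fre (S : Subgroup G) V (g * (s * lt phi b x * s⁻¹) * g⁻¹) := by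
          rw [h3]
          exact fre_S F hs' hp
        have h6 := key g⁻¹ (inv_mem hg) _ h5
        have h7 := fre_S F (inv_mem hs) h6
        have e : s⁻¹ * (g⁻¹ * (g * (s * lt phi b x * s⁻¹) * g⁻¹) * g⁻¹⁻¹) * s⁻¹⁻¹ = lt phi b x := by group
        rwa [e] at h7
    · rcases h3 with h3 | h3
      · exfalso
        apply hx
        have h5 : Fre (S : Subgroup G) V (g * (s * lt phi b p * s⁻¹) * g⁻¹) := key g hg _ (fre_S F hs hp)
        rw [h3] at h5
        have h7 := fre_S F (inv_mem hs') h5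
        have e : s'⁻¹ * (s' * lt phi b x * s'⁻¹) * s'⁻¹⁻¹ = lt phi b x := by group
        rwa [e] at h7
      · exact ⟨s' * s⁻¹, mul_mem hs' (inv_mem hs), by rw [h3]; group⟩
  · exact h2 w hw hX

/-- a letter in the support of `y` -/
def InZ (N : I → Subgroup G) (R₀ : Subgroup G) (phi : ∀ i, Finset (Om i) → G) (y w : G) : Prop :=
  ∃ (c : I) (a : Om c) (s : Finset (Om c)), w = lt phi c a ∧ Even s.card ∧ IsC N R₀ c y (phi c s) ∧ a ∈ s

theorem inZ_S {y : G} {s : G} (hs : s ∈ (S : Subgroup G)) (hy : s * y * s⁻¹ = y) {w : G}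
    (h : InZ N R₀ phi y w) : InZ N R₀ phi y (s * w * s⁻¹) := by
  obtain ⟨c, a, u, rfl, hu, hc, ha⟩ := h
  obtain ⟨τ, σ, h1, _, h3⟩ := F.letters s (F.toDec.SL hs)
  refine ⟨τ c, σ c a, u.map (σ c).toEmbedding, ?_, by rw [Finset.card_map]; exact hu, ?_, Finset.mem_map_of_mem _ ha⟩
  · rw [lt, h3, TvOrb.map_erase]; rfl
  · have h4 := F.toDec.comp_conj (F.toDec.SL hs) (h1 c) hc
    rwa [hy, h3] at h4

theorem inZ_iff {y : G} {c : I} {a : Om c} {s : Finset (Om c)} (hs : Even s.card) (hc : IsC N R₀ c y (phi c s)) :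
    InZ N R₀ phi y (lt phi c a) ↔ a ∈ s := by
  constructor
  · rintro ⟨d, a', u, e, hu, hd, ha⟩
    have h1 : c = d := by
      refine blk_eq F (lt_mem F c a) ?_ (lt_ne F c a)
      rw [e]
      exact lt_mem F d a'
    subst h1
    have h2 : a = a' := lt_inj F e
    have h3 : s = u := (F.lett c).phi_inj hs hu (F.toDec.uniq hc hd)
    rw [h2, h3]
    exact ha
  · intro ha
    exact ⟨c, a, s, rfl, hs, hc, ha⟩

/-- **An inactive `P` fixes `z`.** -/
theorem cent_of_inact [Finite I] {b : I} {x p : Om b} (hp : Fre (S : Subgroup G) V (lt phi b p))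
    (hx : ¬ Fre (S : Subgroup G) V (lt phi b x)) {t : G} (ht : t ∈ E b) (hrel : Rel (phi b) t (Equiv.swap x p))
    {P : Subgroup G} (hPL : P ≤ (S : Subgroup G) ⊔ zpowers t)
    (hPT : ∀ g ∈ P, ∀ t, Trs (S : Subgroup G) V t → Trs (S : Subgroup G) V (g * t * g⁻¹)) {z : G} (hz : z ∈ V)
    (hzS : ∀ s ∈ (S : Subgroup G), s * z * s⁻¹ = z) {g : G} (hg : g ∈ P) : g * z * g⁻¹ = z := by
  obtain ⟨y, hy, r, hr, rfl⟩ := RZ.TwoC.DecE.ex_mul F.toDec hz
  have hyS : ∀ s ∈ (S : Subgroup G), s * y * s⁻¹ = y := fun s hs =>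
    (RZ.TwoC.DecE.sep F.toDec (F.toDec.SL hs) hy hr (hzS s hs)).1
  have hrS : ∀ s ∈ (S : Subgroup G), s * r * s⁻¹ = r := fun s hs =>
    (RZ.TwoC.DecE.sep F.toDec (F.toDec.SL hs) hy hr (hzS s hs)).2
  have hLM : (S : Subgroup G) ⊔ zpowers t ≤ M := sup_le F.toDec.SL (zpowers_le.2 (F.toDec.EL b ht))
  -- `r`
  have hgr : g * r * g⁻¹ = r := by
    have h1 : (S : Subgroup G) ⊔ zpowers t ≤ centralizer ({r} : Set G) := by
      refine sup_le (fun s hs => ?_) (zpowers_le.2 ?_)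
      · rw [mem_centralizer_singleton_iff]
        exact mul_inv_eq_iff_eq_mul.1 (hrS s hs)
      · rw [mem_centralizer_singleton_iff]
        exact mul_inv_eq_iff_eq_mul.1 (cent (F.toDec.ER b ht) hr)
    have h2 := mem_centralizer_singleton_iff.1 (h1 (hPL hg))
    rw [h2]; group
  -- `y`
  have hin : ∀ g ∈ P, ∀ w, InZ N R₀ phi y w → InZ N R₀ phi y (g * w * g⁻¹) := by
    intro g hg w hw
    have hl : ∃ (c : I) (a : Om c), w = lt phi c a := by
      obtain ⟨c, a, s, e, _⟩ := hw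
      exact ⟨c, a, e⟩
    obtain ⟨s, hs, e⟩ := inact_letters F hp hx ht hrel hPL hPT hg hl
    rw [e]
    exact inZ_S F hs (hyS s hs) hw
  have hgM : g ∈ M := hLM (hPL hg)
  have hgy : g * y * g⁻¹ = y := by
    refine F.toDec.ext (RZ.TwoC.DecE.norm_B F.toDec hgM hy) hy fun c => ?_
    obtain ⟨τ, σ, h1, _, h3⟩ := F.letters g hgM
    obtain ⟨d, rfl⟩ := τ.surjective c
    obtain ⟨n, hn⟩ := F.toDec.ex_comp d (RZ.TwoC.DecE.B_le F.toDec hy)
    obtain ⟨s, hs, rfl⟩ := ((F.lett d).mem n).1 hn.1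
    obtain ⟨n', hn'⟩ := F.toDec.ex_comp (τ d) (RZ.TwoC.DecE.B_le F.toDec hy)
    obtain ⟨s', hs', rfl⟩ := ((F.lett (τ d)).mem n').1 hn'.1
    have h4 := F.toDec.comp_conj hgM (h1 d) hn
    rw [h3] at h4
    have hlt : ∀ a : Om d, g * lt phi d a * g⁻¹ = lt phi (τ d) (σ d a) := fun a => by
      rw [lt, h3, TvOrb.map_erase]; rfl
    have h5 : s.map (σ d).toEmbedding = s' := by
      ext a'
      obtain ⟨a, rfl⟩ := (σ d).surjective a'
      have e1 : σ d a ∈ s.map (σ d).toEmbedding ↔ a ∈ s := Finset.mem_map' (σ d).toEmbedding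
      rw [e1, ← inZ_iff F hs hn, ← inZ_iff F hs' hn', ← hlt]
      constructor
      · exact hin g hg _
      · intro h6
        have h7 := hin g⁻¹ (inv_mem hg) _ h6
        have e : g⁻¹ * (g * lt phi d a * g⁻¹) * g⁻¹⁻¹ = lt phi d a := by group
        rwa [e] at h7
    rw [h5] at h4
    exact ⟨_, h4, hn'⟩
  calc g * (y * r) * g⁻¹ = (g * y * g⁻¹) * (g * r * g⁻¹) := by group
    _ = y * r := by rw [hgy, hgr]

end full

/-! ### A member of `P*(S)` in `⟨S, t⟩` which moves `z` -/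

theorem isPar_conj {S : Subgroup G} {P : Subgroup G} (h : IsPar S P) {n : G} (hn : n ∈ normalizer (S : Set G)) :
    IsPar S (P.map (MulAut.conj n).toMonoidHom) := by
  have h1 := IsPar.map (e := MulAut.conj n) h
  have h2 : S.map (MulAut.conj n).toMonoidHom = S := by
    have := RZ.TwoC.DecE.smul_of_norm hn
    exact this
  rwa [h2] at h1

/-- **`⟨S, t⟩`, `t` a 2-element, contains a member of `P*(S)` which moves `z ∈ C_Z(S)`, if `t` moves `z`.** -/
theorem exists_par [Finite G] {S : Sylow 2 G} {M : Subgroup G} (hM : IsLoc (S : Subgroup G) M) {t z : G} (htM : t ∈ M)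
    (h2 : IsPGroup 2 (zpowers t)) (hz : z ∈ zc (S : Subgroup G)) (ht : t * z ≠ z * t) :
    ∃ P, IsParS (S : Subgroup G) P ∧ P ≤ (S : Subgroup G) ⊔ zpowers t ∧ ¬ P ≤ centralizer ({z} : Set G) := by
  set L : Subgroup G := (S : Subgroup G) ⊔ zpowers t with hL
  have hLM : L ≤ M := sup_le hM.le (zpowers_le.2 htM)
  have hSL : (S : Subgroup G) ≤ L := le_sup_left
  have htL : t ∈ L := (le_sup_right : zpowers t ≤ L) (mem_zpowers t)
  have hl : IsLoc (S : Subgroup G) L := hM.of_le S hSL hLM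
  have hSz : (S : Subgroup G) ≤ centralizer ({z} : Set G) := fun s hs => by
    rw [mem_centralizer_singleton_iff]
    exact (MinSimple.VModule.mem_zc.1 hz).2.1 s hs
  -- `K = ⟨P(L, S)⟩`
  set K : Subgroup G := (S : Subgroup G) ⊔ sSup {P : Subgroup G | IsPar (S : Subgroup G) P ∧ P ≤ L} with hK
  have hKn : L ≤ normalizer (K : Set G) := by
    refine hl.le_of_forall S ?_ fun P hP hPL => ?_
    · have key : ∀ n ∈ L ⊓ normalizer ((S : Subgroup G) : Set G), ∀ k ∈ K, n * k * n⁻¹ ∈ K := by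
        intro n hn
        have h1 : K ≤ K.comap (MulAut.conj n).toMonoidHom := by
          refine sup_le (fun s hs => ?_) (sSup_le fun P hP x hx => ?_)
          · exact (le_sup_left : (S : Subgroup G) ≤ K) ((mem_normalizer_iff.1 hn.2 s).1 hs)
          · have h3 : P.map (MulAut.conj n).toMonoidHom ≤ L := by
              rintro _ ⟨y, hy, rfl⟩
              exact mul_mem (mul_mem hn.1 (hP.2 hy)) (inv_mem hn.1)
            have h4 : P.map (MulAut.conj n).toMonoidHom ≤ K :=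
              (le_sSup (show P.map (MulAut.conj n).toMonoidHom ∈
                {P : Subgroup G | IsPar (S : Subgroup G) P ∧ P ≤ L} from ⟨isPar_conj hP.1 hn.2, h3⟩)).trans le_sup_right
            exact h4 ⟨x, hx, rfl⟩
        exact fun k hk => h1 hk
      intro n hn
      rw [mem_normalizer_iff]
      refine fun k => ⟨key n hn k, fun hk => ?_⟩
      have h1 := key n⁻¹ (inv_mem hn) _ hk
      have e : n⁻¹ * (n * k * n⁻¹) * n⁻¹⁻¹ = k := by group
      rwa [e] at h1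
    · exact ((le_sSup (show P ∈ {P : Subgroup G | IsPar (S : Subgroup G) P ∧ P ≤ L} from ⟨hP, hPL⟩)).trans
        le_sup_right).trans le_normalizer
  have htK : t ∈ K := by
    obtain ⟨m, hm, h1⟩ := CM.exists_conj_le S.isPGroup' (MinSimple.Basic.not_dvd_relIndex S hSL) h2
      (le_sup_right : zpowers t ≤ L)
    have h3 : m * t * m⁻¹ ∈ K := (le_sup_left : (S : Subgroup G) ≤ K) (h1 t (mem_zpowers t))
    exact (mem_normalizer_iff.1 (hKn hm) t).2 h3
  -- some `P ∈ P(S)` in `L` moves `z`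
  obtain ⟨P, hP, hPL, hPz⟩ : ∃ P : Subgroup G, IsPar (S : Subgroup G) P ∧ P ≤ L ∧ ¬ P ≤ centralizer ({z} : Set G) := by
    by_contra hcon
    push Not at hcon
    have h1 : K ≤ centralizer ({z} : Set G) := sup_le hSz (sSup_le fun P hP => hcon P hP.1 hP.2)
    exact ht (mem_centralizer_singleton_iff.1 (h1 htK))
  refine ⟨P, ⟨hP, fun hn => hPz ?_⟩, hPL, hPz⟩
  -- `P ≤ N(Z)` implies `P ≤ C(Z)`
  have hzc : (S : Subgroup G) ≤ centralizer (zc (S : Subgroup G) : Set G) := fun s hs => by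
    rw [mem_centralizer_iff]
    intro y hy
    exact ((MinSimple.VModule.mem_zc.1 hy).2.1 s hs).symm
  have hNn : P ≤ normalizer ((P ⊓ centralizer (zc (S : Subgroup G) : Set G) : Subgroup G) : Set G) := by
    have key : ∀ g ∈ P, ∀ x ∈ P ⊓ centralizer (zc (S : Subgroup G) : Set G),
        g * x * g⁻¹ ∈ P ⊓ centralizer (zc (S : Subgroup G) : Set G) := by
      intro g hg x hx
      refine mem_inf.2 ⟨mul_mem (mul_mem hg hx.1) (inv_mem hg), ?_⟩
      rw [mem_centralizer_iff]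
      intro v hv
      have h3 := mem_centralizer_iff.1 hx.2 _ (TvKind.conj_mem' (hn hg) hv)
      calc v * (g * x * g⁻¹) = g * ((g⁻¹ * v * g) * x) * g⁻¹ := by group
        _ = g * x * g⁻¹ * v := by rw [h3]; group
    intro g hg
    rw [mem_normalizer_iff]
    refine fun x => ⟨key g hg x, fun hx => ?_⟩
    have h1 := key g⁻¹ (inv_mem hg) _ hx
    have e : g⁻¹ * (g * x * g⁻¹) * g⁻¹⁻¹ = x := by group
    rwa [e] at h1
  rcases hP.sup_eq_or_inf_le S inf_le_left hNn with h1 | h1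
  · rw [← h1]
    refine sup_le (inf_le_right.trans (centralizer_le ?_)) hSz
    exact Set.singleton_subset_iff.2 hz
  · exfalso
    apply hP.toIsMinPar.not_le
    have h3 : (S : Subgroup G) ≤ o2 P := (le_inf le_rfl (le_inf hP.le hzc)).trans h1
    have h4 : o2 P ≤ (S : Subgroup G) := hP.isLoc.o2_le S
    have h5 : o2 P = (S : Subgroup G) := le_antisymm h4 h3
    rw [← h5]
    exact Cfsg.Agent.ZN.le_normalizer_o2 P

/-! ### The theorem -/

/-- the 2-part of an element which acts as a swap -/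
theorem exists_two_part [Finite G] {Ω : Type*} [Fintype Ω] [DecidableEq Ω] {φ : Finset Ω → G} {t : G} {x p : Ω}
    (h : Rel φ t (Equiv.swap x p)) : ∃ m : ℕ, IsPGroup 2 (zpowers (t ^ m)) ∧ Rel φ (t ^ m) (Equiv.swap x p) := by
  obtain ⟨k, m, hm, hk⟩ := Nat.exists_eq_two_pow_mul_odd (orderOf_pos t).ne'
  refine ⟨m, ?_, ?_⟩
  · refine IsPGroup.iff_card.2 ⟨k, ?_⟩
    rw [Nat.card_zpowers, orderOf_pow' t hm.pos.ne', hk, Nat.gcd_mul_left_left]
    exact Nat.mul_div_cancel _ hm.pos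
  · have h1 := h.pow m
    obtain ⟨j, rfl⟩ := hm
    have h2 : Equiv.swap x p ^ (2 * j + 1) = Equiv.swap x p := by
      rw [pow_succ, pow_mul, pow_two, Equiv.swap_mul_self, one_pow, one_mul]
    rwa [h2] at h1

variable {I : Type u} {N E : I → Subgroup G} {R₀ : Subgroup G}
  {Om : I → Type u} [∀ i, Fintype (Om i)] [∀ i, DecidableEq (Om i)] {phi : ∀ i, Finset (Om i) → G}

/-- a component `≠ 1` -/
theorem exists_comp [Finite I] {S M V : Subgroup G} (F : TvFin.Full S M V N E R₀ Om phi) {z : G} (hz : z ∈ V)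
    (hzR : z ∉ R₀) : ∃ (b : I) (s : Finset (Om b)), Even s.card ∧ s ≠ ∅ ∧ IsC N R₀ b z (phi b s) := by
  by_contra hcon
  push Not at hcon
  apply hzR
  obtain ⟨y, hy, r, hr, rfl⟩ := RZ.TwoC.DecE.ex_mul F.toDec hz
  have h1 : y = 1 := by
    refine F.toDec.ext hy (one_mem _) fun b => ?_
    obtain ⟨n, hn⟩ := F.toDec.ex_comp b (RZ.TwoC.DecE.B_le F.toDec hy)
    obtain ⟨s, hs, rfl⟩ := ((F.lett b).mem n).1 hn.1
    have h2 : IsC N R₀ b (y * r) (phi b s) := by
      have h3 := F.toDec.comp_mul hn (F.toDec.comp_one (F.toDec.R_le_Co b hr))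
      rwa [mul_one] at h3
    have h3 : s = ∅ := by
      by_contra h4
      exact hcon b s hs (Finset.nonempty_iff_ne_empty.2 h4) h2
    subst h3
    rw [(F.lett b).phi_empty] at hn
    exact ⟨1, hn, F.toDec.comp_one (one_mem _)⟩
  rw [h1, one_mul]
  exact hr

/-- **`z ∈ C_V(S)`, `z ∉ R₀`: some `P ∈ P*(S)` in `M` moves `z` and does not permute the transvections in `S`.** -/
theorem exists_move [Finite G] [Finite I] {S : Sylow 2 G} {M V : Subgroup G}
    (F : TvFin.Full (S : Subgroup G) M V N E R₀ Om phi) (hM : IsLoc (S : Subgroup G) M) {z : G}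
    (hz : z ∈ zc (S : Subgroup G)) (hzV : z ∈ V) (hzR : z ∉ R₀) :
    ∃ P, IsParS (S : Subgroup G) P ∧ P ≤ M ∧ ¬ P ≤ centralizer ({z} : Set G) ∧
      ¬ ∀ g ∈ P, ∀ t, Trs (S : Subgroup G) V t → Trs (S : Subgroup G) V (g * t * g⁻¹) := by
  obtain ⟨b, s, hs, hs0, hc⟩ := exists_comp F hzV hzR
  obtain ⟨p, hp, hnp⟩ := exists_p F b
  have hsu : s ≠ Finset.univ := by
    rintro rfl
    rw [Finset.card_univ] at hs
    exact (Nat.not_even_iff_odd.2 (F.lett b).odd) hs
  obtain ⟨x, hxp, hx⟩ : ∃ x, x ≠ p ∧ ¬ (x ∈ s ↔ p ∈ s) := by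
    by_cases hps : p ∈ s
    · obtain ⟨x, hx⟩ : ∃ x, x ∉ s := by
        by_contra hcon
        push Not at hcon
        exact hsu (Finset.eq_univ_of_forall hcon)
      exact ⟨x, fun e => hx (e ▸ hps), by tauto⟩
    · obtain ⟨x, hx⟩ := Finset.nonempty_iff_ne_empty.2 hs0
      exact ⟨x, fun e => hps (e ▸ hx), by tauto⟩
  obtain ⟨t₀, ht₀, hrel₀⟩ := (F.lett b).all (Equiv.swap x p)
  obtain ⟨m, h2, hrel⟩ := exists_two_part hrel₀
  set t := t₀ ^ m with ht
  have htE : t ∈ E b := pow_mem ht₀ m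
  -- `t` moves `z`
  have htz : t * z ≠ z * t := by
    intro h1
    have h3 := F.toDec.comp_conj (F.toDec.EL b htE) (RZ.TwoC.DecE.smul_of_norm (F.toDec.EN b htE)) hc
    have h4 : t * z * t⁻¹ = z := by rw [h1]; group
    rw [h4, hrel s hs] at h3
    have h5 := (F.lett b).phi_inj (by rw [Finset.card_map]; exact hs) hs (F.toDec.uniq h3 hc)
    exact hx ((TvKind.map_swap_eq_iff hxp).1 h5)
  obtain ⟨P, hP, hPL, hPz⟩ := exists_par hM (F.toDec.EL b htE) h2 hz htz
  refine ⟨P, hP, hPL.trans (sup_le hM.le (zpowers_le.2 (F.toDec.EL b htE))), hPz, fun hcon => hPz fun g hg => ?_⟩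
  rw [mem_centralizer_singleton_iff]
  refine mul_inv_eq_iff_eq_mul.1 (cent_of_inact F hp (hnp x hxp) htE hrel hPL hcon hzV (fun s hs => ?_) hg)
  rw [(MinSimple.VModule.mem_zc.1 hz).2.1 s hs, mul_inv_cancel_right]

open Cfsg.Agent.Omega.NOThreeL.Merge (MZ S_le_MZ isLoc_MZ)
open Cfsg.Agent.Omega.NOThreeL.RTree (RB)
open Cfsg.Agent.Omega.NOThreeL.RRed.FourTree (Bks)

/-- **(B2)**: `z ∈ Z`, `z ∉ R₀`: some active `P ∈ P*(S)` moves `z`. -/
theorem act_of [Finite G] [Finite I] {S : Sylow 2 G} (h : RB S) (hB : Bks S N E R₀ Om phi) {z : G}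
    (hz : z ∈ zc (S : Subgroup G)) (hzR : z ∉ R₀) :
    ∃ P, IsParS (S : Subgroup G) P ∧ ¬ P ≤ centralizer ({z} : Set G) ∧
      ∃ A ≤ (S : Subgroup G), Mx (Wd (S : Subgroup G)) A ∧ ¬ A ≤ o2 P := by
  have F := hB.toFull
  obtain ⟨P, hP, hPM, hPz, hn⟩ := exists_move F (isLoc_MZ h.ctx h.full h.data.noff) hz
    (MinSimple.VModule.zc_le_zl _ _ hz) hzR
  refine ⟨P, hP, hPz, ?_⟩
  by_contra hcon
  push Not at hcon
  refine hn fun g hg t ht => ?_
  obtain ⟨htS, htn, c, hc, hT⟩ := ht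
  have hMV : MZ (S : Subgroup G) ≤ normalizer (Wd (S : Subgroup G) : Set G) :=
    MinSimple.VModule.le_normalizer_zl _ _
  have hno := RZ.TwoE.Tv.no_of_tvS h htS hc hT htn
  have h1 : Mx (Wd (S : Subgroup G)) (zpowers t) := RZ.TwoE.Tv.tv_mx hno (S_le_MZ h.ctx h.full htS)
    (S.isPGroup'.to_le (zpowers_le.2 htS)) hc (EOne.Vsq h) hT htn
  have h2 : t ∈ o2 P := hcon _ (zpowers_le.2 htS) h1 (mem_zpowers t)
  have h3 : g * t * g⁻¹ ∈ o2 P := (mem_normalizer_iff.1 (Cfsg.Agent.ZN.le_normalizer_o2 P hg) t).1 h2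
  exact trs_conj (hMV (hPM hg)) ⟨htS, htn, c, hc, hT⟩ (hP.isLoc.o2_le S h3)

end Cfsg.Agent.Omega.NOThreeL.RRed.TvActP

end

section


/-!
# NO-3L, box R: `C_Z(E₁) = 1` implies `MvAct` ((M4) of #27316)

* `MvBig S` : (M3n), the literal `mv_big`: `z ∈ Z` outside of the complement of a natural block is moved by an active `P`;
* `mx_big_or` : a minimal exact offender `X ≤ MZ S` is a transvection group, or an `L`-conjugate is in `EP` of a `P` of type
  `q ≥ 4`;
* `permC_inp` : the complements of the natural blocks are permuted;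
* **`mvAct_of_parts`** : `Spl S (MZ S)`, `MvBig S`, `E1S S` ⟹ `MvAct S` (letters: `TvActP.act_of`).
-/

set_option autoImplicit false
set_option linter.unusedSectionVars false

namespace Cfsg.Agent.Omega.NOThreeL.RRed.MvEnd

open Subgroup Cfsg Cfsg.Agent.ZN Cfsg.Agent.Omega.MinPar
open Cfsg.Agent.ZN.ChoiceBase (cj)
open Cfsg.Agent.Omega.FFThm (ElemM OffM NoOverM ConclM)
open Cfsg.Agent.Omega.NOThreeL.RSplit (Nrm)
open Cfsg.Agent.Omega.NOThreeL.Star (YS)
open Cfsg.Agent.Omega.NOThreeL.RRed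
open Cfsg.Agent.Omega.NOThreeL.RRed.NS (fxd brk mem_fxd un val_mem_un smul_eq_iff)
open Cfsg.Agent.Omega.NOThreeL.RRed.WideTree (Act MvAct)
open Cfsg.Agent.Omega.NOThreeL.RTree (RB)
open Cfsg.Agent.Omega.NOThreeL.Merge (MZ le_MZ isLoc_MZ)
open Cfsg.Agent.Omega.NOThreeL.RRed.EOne (E1 E1S)
open Cfsg.Agent.Omega.NOThreeL.RRed.TvFin (TvV Full)
open Cfsg.Agent.Omega.NOThreeL.RRed.FourTree (Bks gen_MZ)
open Cfsg.Agent.Omega.NOThreeL.RRed.Blk
open Cfsg.Agent.Omega.NOThreeL.RRed.Blk.TypesNat (XH ph ph_smul XH_faith ph_eq ph_surj)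
open Cfsg.Agent.Omega.NOThreeL.RRed.Blk.Asm
open Cfsg.Agent.Omega.NOThreeL.RRed.Blk.AsmG (Inp RRs Ps sSup_Ps inact)
open Cfsg.Agent.Omega.NOThreeL.RRed.Blk.AsmCore (EP KP im ph_mem_im)
open Cfsg.Agent.Omega.NOThreeL.RRed.Blk.AsmInp (Spl type_of inp_of act_iff nrm_box)
open scoped Pointwise

universe u

variable {G : Type u} [Group G] [Finite G] {S : Sylow 2 G}

/-- (M3n): `z ∈ Z` outside of the complement of a natural block is moved by an active `P`. -/
def MvBig (S : Sylow 2 G) : Prop :=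
  ∀ Q : Nrm (MZ (S : Subgroup G)) (zl (S : Subgroup G) (MZ (S : Subgroup G))), Inp S (MZ (S : Subgroup G)) Q →
    Spl S (MZ (S : Subgroup G)) →
    ∀ D ∈ FFs (im Q '' AsmCore.EE (S : Subgroup G) (zl (S : Subgroup G) (MZ (S : Subgroup G)))) (RRs S (MZ (S : Subgroup G)) Q),
    ∀ z ∈ zc (S : Subgroup G), ∀ hU : z ∈ zl (S : Subgroup G) (MZ (S : Subgroup G)),
      Q.of z hU ∉ CC (im Q '' AsmCore.EE (S : Subgroup G) (zl (S : Subgroup G) (MZ (S : Subgroup G)))) Q.Mod D →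
      ∃ P, IsParS (S : Subgroup G) P ∧ P ≤ MZ (S : Subgroup G) ∧
        (EP (S : Subgroup G) P (zl (S : Subgroup G) (MZ (S : Subgroup G)))).Nonempty ∧ ¬ P ≤ centralizer ({z} : Set G)

section gen

variable {L X : Subgroup G}

/-- **A minimal exact offender is a transvection group, or a conjugate belongs to a `P` of type `q ≥ 4`.** -/
theorem mx_big_or (hc : IsCharacteristicTwoType G) (hL : IsLoc (S : Subgroup G) L)
    (hgen : L ≤ sSup {P | IsParS (S : Subgroup G) P ∧ P ≤ L}) (hXL : X ≤ L) (h : Mx (zl (S : Subgroup G) L) X) :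
    (∃ t ∈ X, ∃ c ∈ zl (S : Subgroup G) L, TvV (zl (S : Subgroup G) L) c t ∧
        X = zpowers t ⊔ (X ⊓ centralizer (zl (S : Subgroup G) L : Set G))) ∨
      ∃ m ∈ L, ∃ P, GOne S L P (cj m X) ∧ Big4 S P := by
  obtain ⟨m, hm, P, hg⟩ := gOne_of_mx hc hL hgen hXL h
  rcases two2_or hg.concl with h2 | h4
  · left
    obtain ⟨t', ht', c', hc', -, htv, hn⟩ := hg.tv hc h2
    set V : Subgroup G := zl (S : Subgroup G) L with hV
    have hLV : L ≤ normalizer (V : Set G) := MinSimple.VModule.le_normalizer_zl _ _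
    have hmV := hLV hm
    have nV : ∀ {v : G}, v ∈ V ↔ m * v * m⁻¹ ∈ V := fun {v} => mem_normalizer_iff.1 hmV v
    obtain ⟨t, ht, rfl⟩ := ht'
    have et : (MulAut.conj m).toMonoidHom t = m * t * m⁻¹ := rfl
    rw [et] at htv hn
    set c := m⁻¹ * c' * m with hcd
    have ec : m * c * m⁻¹ = c' := by rw [hcd]; group
    have hcV : c ∈ V := by rw [nV, ec]; exact hg.VU hc'
    have hTv : TvV V c t := by
      intro w hw
      rcases htv (m * w * m⁻¹) (nV.1 hw) with h3 | h3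
      · left
        have e : m * (t * w * t⁻¹) * m⁻¹ = m * w * m⁻¹ := by
          rw [← h3]; group
        exact mul_left_cancel (mul_right_cancel e)
      · right
        have e : m * (t * w * t⁻¹) * m⁻¹ = m * (w * c) * m⁻¹ := by
          have e1 : m * (w * c) * m⁻¹ = (m * w * m⁻¹) * (m * c * m⁻¹) := by group
          rw [e1, ec, ← h3]; group
        exact mul_left_cancel (mul_right_cancel e)
    have htn : t ∉ centralizer (V : Set G) := by
      intro hcon
      apply hn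
      rw [mem_centralizer_iff]
      intro v hv
      have hv' : m⁻¹ * v * m ∈ V := by
        rw [nV]
        have e : m * (m⁻¹ * v * m) * m⁻¹ = v := by group
        rwa [e]
      have h3 : (m⁻¹ * v * m) * t = t * (m⁻¹ * v * m) := mem_centralizer_iff.1 hcon _ hv'
      calc v * (m * t * m⁻¹) = m * ((m⁻¹ * v * m) * t) * m⁻¹ := by group
        _ = m * (t * (m⁻¹ * v * m)) * m⁻¹ := by rw [h3]
        _ = m * t * m⁻¹ * v := by group
    refine ⟨t, ht, c, hcV, hTv, ?_⟩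
    set Y : Subgroup G := zpowers t ⊔ (X ⊓ centralizer (V : Set G)) with hY
    have hYX : Y ≤ X := sup_le ((zpowers_le).2 ht) inf_le_left
    have htY : t ∈ Y := mem_sup_left (mem_zpowers t)
    have hYn : ¬ Y ≤ centralizer (V : Set G) := fun hcon => htn (hcon htY)
    have hCY : V ⊓ centralizer (Y : Set G) = V ⊓ centralizer ({t} : Set G) := by
      apply le_antisymm
      · exact inf_le_inf_left _ (centralizer_le (Set.singleton_subset_iff.2 htY))
      · refine le_inf inf_le_left ?_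
        rw [le_centralizer_iff, hY]
        refine sup_le ?_ (inf_le_right.trans (centralizer_le inf_le_left))
        rw [zpowers_le, mem_centralizer_iff]
        intro v hv
        exact (mem_centralizer_singleton_iff.1 hv.2)
    have h1 : Nat.card V ≤ 2 * Nat.card ↥(V ⊓ centralizer (Y : Set G)) := hCY ▸ TvAtom.card_le_tv hTv
    have h3 : 2 * Nat.card ↥(Y ⊓ centralizer (V : Set G)) ≤ Nat.card Y := by
      have h4 : Y ⊓ centralizer (V : Set G) < Y := lt_of_le_of_ne inf_le_left fun e => hYn (inf_eq_left.1 e)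
      have h5 := card_mul_index ((Y ⊓ centralizer (V : Set G)).subgroupOf Y)
      rw [Nat.card_congr (subgroupOfEquivOfLe inf_le_left).toEquiv] at h5
      have h6 : ((Y ⊓ centralizer (V : Set G)).subgroupOf Y).index ≠ 1 := by
        rw [Ne, index_eq_one, subgroupOf_eq_top]
        exact fun h7 => absurd h7 (not_le_of_gt h4)
      have h7 : ((Y ⊓ centralizer (V : Set G)).subgroupOf Y).index ≠ 0 := index_ne_zero_of_finite
      have h8 : 2 ≤ ((Y ⊓ centralizer (V : Set G)).subgroupOf Y).index := by omega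
      calc 2 * Nat.card ↥(Y ⊓ centralizer (V : Set G)) =
          Nat.card ↥(Y ⊓ centralizer (V : Set G)) * 2 := mul_comm _ _
        _ ≤ _ := Nat.mul_le_mul_left _ h8
        _ = Nat.card Y := h5
    have hno := hg.no Y (hYX.trans hXL) (VF.elemM_mono h.toElemM hYX)
    have hex : Nat.card V * Nat.card ↥(Y ⊓ centralizer (V : Set G)) =
        Nat.card Y * Nat.card ↥(V ⊓ centralizer (Y : Set G)) := by
      refine le_antisymm ?_ hno
      calc Nat.card V * Nat.card ↥(Y ⊓ centralizer (V : Set G)) ≤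
          (2 * Nat.card ↥(V ⊓ centralizer (Y : Set G))) * Nat.card ↥(Y ⊓ centralizer (V : Set G)) :=
            Nat.mul_le_mul_right _ h1
        _ = (2 * Nat.card ↥(Y ⊓ centralizer (V : Set G))) * Nat.card ↥(V ⊓ centralizer (Y : Set G)) := by ring
        _ ≤ _ := Nat.mul_le_mul_right _ h3
    rcases h.min Y hYX hex le_sup_right with h4 | h4
    · exact absurd h4 hYn
    · exact h4.symm
  · exact Or.inr ⟨m, hm, P, hg, h4⟩

end gen

section box

/-- **The complements of the natural blocks are permuted.** -/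
theorem permC_inp {L : Subgroup G} {Q : Nrm L (zl (S : Subgroup G) L)} (hc : IsCharacteristicTwoType G)
    (hL : IsLoc (S : Subgroup G) L) (hs : Spl S L) (I : Inp S L Q) :
    ∀ g : XH Q, ∀ D ∈ FFs (im Q '' AsmCore.EE (S : Subgroup G) (zl (S : Subgroup G) L)) (RRs S L Q),
      ∃ D' ∈ FFs (im Q '' AsmCore.EE (S : Subgroup G) (zl (S : Subgroup G) L)) (RRs S L Q), Nat.card D' = Nat.card D ∧
        ∀ m, m ∈ CC (im Q '' AsmCore.EE (S : Subgroup G) (zl (S : Subgroup G) L)) Q.Mod D ↔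
          g • m ∈ CC (im Q '' AsmCore.EE (S : Subgroup G) (zl (S : Subgroup G) L)) Q.Mod D' := by
  have no := I.no
  have h2 := I.two
  obtain ⟨h1, h4, hGB, hF⟩ := I.main (RR := RRs S L Q) le_rfl
  have hRE : RRs S L Q ⊆ im Q '' AsmCore.EE (S : Subgroup G) (zl (S : Subgroup G) L) := by
    rintro _ ⟨-, P, -, -, A, hA, rfl⟩
    exact ⟨A, hA.1, rfl⟩
  exact Asm.permC h2 I.hf I.hno (EE := im Q '' AsmCore.EE (S : Subgroup G) (zl (S : Subgroup G) L)) I.es
    (Ps := Ps (S : Subgroup G) L Q) (by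
    rintro _ ⟨P, hP, hPL, rfl⟩
    by_cases ne : (EP (S : Subgroup G) P (zl (S : Subgroup G) L)).Nonempty
    · refine Or.inr ⟨_, _, I.ac P hP hPL ne, ?_⟩
      rintro _ ⟨A, hA, rfl⟩ hA4 N C hNC
      rcases type_of hc hL no hP hPL ne with h3 | ⟨F, i1, i2, i3, k, hF4, hk, ⟨M⟩⟩
      · have h5 := AsmSmall.card_small hc hL hP hPL no h3 Q hA
        exfalso
        change 4 ≤ Nat.card (im Q A) at hA4
        have h6 : Nat.card (im Q A) ≤ 2 := h5
        omega
      · obtain ⟨-, N', C', hNB, -, -, -, hC, -⟩ := AsmAct.typC_nat hc hL hP hPL no M (hs P hP hPL ne F k M hF4) Q hF4 _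
          ⟨A, hA, rfl⟩
        have h6 := hNB.uniq h2 I.hf I.hno hNC hA4
        rw [← h6.2]
        exact hC
    · exact Or.inl (inact hc Q hP ne)) (sSup_Ps Q I.gen) hRE (fun A hA => hA.1) (by
    intro D hD
    exact ⟨_, _, hGB D (le_FFs hD)⟩)

/-- **(M4)** -/
theorem mvAct_of_parts (B : RB S) (he : E1S (S : Subgroup G)) (hs : Spl S (MZ (S : Subgroup G))) (hb : MvBig S) :
    MvAct (S : Subgroup G) := by
  intro z hz hz1
  by_contra hcon
  push Not at hcon
  apply hz1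
  have hc := B.ctx.char2
  have hL := isLoc_MZ B.ctx B.full B.data.noff
  have hgen := gen_MZ S
  have hSL : (S : Subgroup G) ≤ MZ (S : Subgroup G) := hL.le
  have hzU : z ∈ zl (S : Subgroup G) (MZ (S : Subgroup G)) := MinSimple.VModule.zc_le_zl _ _ hz
  -- it is enough that `E₁` centralises `z`
  suffices hE : E1 (S : Subgroup G) ≤ centralizer ({z} : Set G) by
    have h6 : z ∈ zc (S : Subgroup G) ⊓ centralizer (E1 (S : Subgroup G) : Set G) :=
      ⟨hz, mem_centralizer_iff.2 fun e he' => (mem_centralizer_singleton_iff.1 (hE he'))⟩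
    rwa [show zc (S : Subgroup G) ⊓ centralizer (E1 (S : Subgroup G) : Set G) = ⊥ from he, Subgroup.mem_bot] at h6
  by_cases hne : ∃ A : Subgroup G, A ≤ (S : Subgroup G) ∧ Mx (zl (S : Subgroup G) (YS (S : Subgroup G))) A
  swap
  · refine EOne.E1_le_of (D := ⊥) (by rw [Subgroup.normalizer_eq_top (⊥ : Subgroup G)]; exact le_top)
      (fun A hA hM => absurd ⟨A, hA, hM⟩ hne) |>.trans bot_le
  obtain ⟨A₀, hA₀, hM₀⟩ := hne
  obtain ⟨P₁, A₁, g₁⟩ := exists_gOne hc hL hgen ⟨A₀, hA₀.trans hSL, Mx.off hM₀⟩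
  have no := g₁.no
  have hel := FFThm.elem_zl hc S hL
  set Q := nrm_box B with hQ
  have I : Inp S (MZ (S : Subgroup G)) Q := inp_of hc hL no hgen hs Q
  obtain ⟨h1, h4, hGB, hF⟩ := I.main (RR := RRs S (MZ (S : Subgroup G)) Q) le_rfl
  have hpC := permC_inp hc hL hs I
  -- the fixed vectors of all transvections
  obtain ⟨J, iJ, jJ, N, E, R₀, Om, iO, jO, phi, F⟩ := TvFin.blocks_zl (S := S) (L := MZ (S : Subgroup G)) hSL
    (fun v hv => hel.2 v hv) no
  have hzR : z ∈ R₀ := by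
    by_contra hzR
    have hJ : Nonempty J := by
      by_contra hJ
      rw [not_nonempty_iff] at hJ
      apply hzR
      have h5 := F.sup
      rw [iSup_of_empty, bot_sup_eq] at h5
      rw [h5]
      exact hzU
    obtain ⟨P, hP, hPz, A, hA, hM, hn⟩ := TvActP.act_of B ⟨F, hJ⟩ hz hzR
    exact hPz (hcon P ⟨hP, A, hA, hM, hn⟩)
  -- the intersection of all complements
  set T : AddSubgroup Q.Mod := ⨅ D ∈ FFs (im Q '' AsmCore.EE (S : Subgroup G) (zl (S : Subgroup G) (MZ (S : Subgroup G))))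
    (RRs S (MZ (S : Subgroup G)) Q), CC (im Q '' AsmCore.EE (S : Subgroup G) (zl (S : Subgroup G) (MZ (S : Subgroup G)))) Q.Mod D
    with hT
  have memT : ∀ m : Q.Mod, m ∈ T ↔ ∀ D ∈ FFs (im Q '' AsmCore.EE (S : Subgroup G) (zl (S : Subgroup G) (MZ (S : Subgroup G))))
      (RRs S (MZ (S : Subgroup G)) Q), m ∈ CC (im Q '' AsmCore.EE (S : Subgroup G) (zl (S : Subgroup G) (MZ (S : Subgroup G)))) Q.Mod D := by
    intro m
    simp only [hT, AddSubgroup.mem_iInf]
  have hTinv : ∀ g : XH Q, ∀ m ∈ T, g • m ∈ T := by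
    intro g m hm
    rw [memT] at hm ⊢
    intro D hD
    obtain ⟨D', hD', -, h5⟩ := hpC g⁻¹ D hD
    rw [h5, inv_smul_smul]
    exact hm D' hD'
  have hzT : Q.of z hzU ∈ T := by
    rw [memT]
    intro D hD
    by_contra hnD
    obtain ⟨P, hP, hPL, ne, hPz⟩ := hb Q I hs D hD z hz hzU hnD
    exact hPz (hcon P ((act_iff hc hP).2 ne))
  set R : Subgroup G := un Q T ⊓ R₀ with hR
  have hzRR : z ∈ R := ⟨⟨_, hzT, rfl⟩, hzR⟩
  have hRn : MZ (S : Subgroup G) ≤ normalizer (R : Set G) := by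
    refine (le_inf ((AsmUn.inv_iff Q T).1 hTinv) F.Rnor).trans ?_
    exact Subgroup.inf_normalizer_le_normalizer_inf
  have hRU : R ≤ zl (S : Subgroup G) (MZ (S : Subgroup G)) := inf_le_left.trans (AsmUn.un_le Q T)
  have hE : E1 (S : Subgroup G) ≤ centralizer (R : Set G) := by
    refine EOne.E1_le_of (hRn.trans (RZ.norm_cent le_rfl)) fun A hA hM => ?_
    rcases mx_big_or hc hL hgen (hA.trans hSL) hM with ⟨t, ht, c, hcV, htv, e⟩ | ⟨m, hm, P, hg, hB4⟩
    · rw [e]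
      refine sup_le ?_ (inf_le_right.trans (centralizer_le hRU))
      rw [zpowers_le, mem_centralizer_iff]
      intro v hv
      have h5 := (F.fixR v (hRU hv)).1 hv.2 t (hSL (hA ht)) c hcV htv
      calc v * t = (t * v * t⁻¹) * t := by rw [h5]
        _ = t * v := by group
    · have hmV : m ∈ normalizer (zl (S : Subgroup G) (MZ (S : Subgroup G)) : Set G) :=
        MinSimple.VModule.le_normalizer_zl _ _ hm
      have hA' : cj m A ∈ EP (S : Subgroup G) P (zl (S : Subgroup G) (MZ (S : Subgroup G))) :=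
        ⟨⟨hg.AS, CI.mx_conj hM hmV⟩, hg.offP.ne⟩
      obtain ⟨F', i1, i2, i3, k, hF4, hk, ⟨M⟩⟩ := hB4
      have hsp := hs P hg.par hg.PL ⟨_, hA'⟩ F' k M hF4
      have h5 := (AsmAct.typC_nat hc hL hg.par hg.PL no M hsp Q hF4 _ ⟨_, hA', rfl⟩).1
      have hD : im Q (cj m A) ∈ FFs (im Q '' AsmCore.EE (S : Subgroup G) (zl (S : Subgroup G) (MZ (S : Subgroup G))))
          (RRs S (MZ (S : Subgroup G)) Q) := le_FFs ⟨h5, P, hg.par, hg.PL, _, hA', rfl⟩
      have h6 : cj m A ≤ centralizer (R : Set G) := by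
        intro a ha
        rw [mem_centralizer_iff]
        rintro _ ⟨⟨v, hv, rfl⟩, -⟩
        have h7 := (hGB _ hD).nb.C_le ((memT v).1 hv _ hD) _ (ph_mem_im Q (a := ⟨a, hSL (hg.AS ha)⟩) ha)
        rw [ph_smul, smul_eq_iff] at h7
        exact (mul_inv_eq_iff_eq_mul.1 h7).symm
      have hmR : m⁻¹ ∈ normalizer (R : Set G) := inv_mem (hRn hm)
      have h7 := ChoiceBase.cj_mono m⁻¹ h6
      rwa [ChoiceBase.cj_inv_cj, ChoiceBase.cj_centralizer, ChoiceBase.cj_eq_of_mem_normalizer hmR] at h7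
  exact hE.trans (centralizer_le (Set.singleton_subset_iff.2 hzRR))

end box

end Cfsg.Agent.Omega.NOThreeL.RRed.MvEnd

end

section


/-!
# NO-3L, box R: `C_Z(E₁) = 1` excludes blocks with a radical ((M1) of #27316)

* **`false_of_fam`** : a family of natural blocks (`AsmN.FamN`, over the atoms of `S` in `V*`) with a radical `Z D ≠ 0`
  contradicts `E1S S`: `R' = ⨆ Z D` is normalised by `Y` and centralised by all atoms.
* `FamOf S` : what the nonsplit blocks give (`NonF`);  **`spl_of_e1s`** : `E1S S` ⟹ `AsmInp.Spl S (MZ S)`.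
-/

set_option autoImplicit false
set_option linter.unusedSectionVars false

namespace Cfsg.Agent.Omega.NOThreeL.RRed.MvSpl

open Subgroup Cfsg Cfsg.Agent.ZN Cfsg.Agent.Omega.MinPar
open Cfsg.Agent.Omega.NO3S.ThmB Cfsg.Agent.Omega.NO3S.KeyRad
open Cfsg.Agent.Omega.NOThreeL.RSplit (Nrm)
open Cfsg.Agent.Omega.NOThreeL.Star (YS)
open Cfsg.Agent.Omega.NOThreeL.RRed.NS (fxd brk mem_fxd un val_mem_un smul_eq_iff)
open Cfsg.Agent.Omega.NOThreeL.RTree (RB)
open Cfsg.Agent.Omega.NOThreeL.Merge (MZ le_MZ isLoc_MZ)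
open Cfsg.Agent.Omega.NOThreeL.RRed.EOne (E1 E1S)
open Cfsg.Agent.Omega.NOThreeL.RRed.Blk
open Cfsg.Agent.Omega.NOThreeL.RRed.Blk.TypesNat (XH ph ph_smul XH_faith ph_eq ph_surj)
open Cfsg.Agent.Omega.NOThreeL.RRed.Blk.AsmN (FamN)
open Cfsg.Agent.Omega.NOThreeL.RRed.Blk.AsmCore (im ph_mem_im)
open scoped Pointwise

universe u

variable {G : Type u} [Group G] [Finite G] {S : Sylow 2 G}

/-- **`E1S` excludes a family with a radical.** -/
theorem false_of_fam (B : RB S) (he : E1S (S : Subgroup G)) {H : Subgroup G}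
    (Q : Nrm H (Wd (S : Subgroup G))) (YH : MZ (S : Subgroup G) ≤ H)
    {FF : Set (Subgroup (XH Q))} {N C L Z : Subgroup (XH Q) → AddSubgroup Q.Mod}
    (F : FamN (im Q (S : Subgroup G)) (im Q '' AsmCore.EE (S : Subgroup G) (Wd (S : Subgroup G))) FF N C L Z)
    {D : Subgroup (XH Q)} (hD : D ∈ FF) (hZ : Z D ≠ ⊥) : False := by
  have hSY := EOne.S_YS B
  have hSH : (S : Subgroup G) ≤ H := hSY.trans YH
  have h2 : ∀ v : Q.Mod, v + v = 0 := fun v => Nrm.ext (by
    rw [Nrm.val_add, Nrm.val_zero]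
    have := EOne.Vsq B _ (Q.val_mem v)
    rwa [pow_two] at this)
  have hf : ∀ x : XH Q, (∀ v : Q.Mod, x • v = v) → x = 1 := fun x hx => XH_faith Q x hx
  set T : AddSubgroup Q.Mod := ⨆ D ∈ FF, Z D with hT
  have hinv : ∀ g : XH Q, ∀ m ∈ T, g • m ∈ T := fun g m hm => F.inv_Z g hm
  set R : Subgroup G := un Q T with hR
  have hRH : H ≤ normalizer (R : Set G) := (AsmUn.inv_iff Q T).1 hinv
  have hRU : R ≤ Wd (S : Subgroup G) := AsmUn.un_le Q T
  have hR0 : R ≠ ⊥ := by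
    intro h0
    have h1 : T = ⊥ := (AsmUn.un_eq_bot Q).1 h0
    exact hZ (le_bot_iff.1 ((le_iSup₂ (f := fun D (_ : D ∈ FF) => Z D) D hD).trans h1.le))
  -- `E₁` centralises `R`
  have hE : E1 (S : Subgroup G) ≤ centralizer (R : Set G) := by
    refine EOne.E1_le_of ((YH.trans hRH).trans ?_) fun A hA hM => ?_
    · exact RZ.norm_cent le_rfl
    · intro a ha
      rw [mem_centralizer_iff]
      rintro _ ⟨m, hm, rfl⟩
      have h1 := F.EE_Z h2 hf (A := im Q A) ⟨A, ⟨hA, hM⟩, rfl⟩ hm (ph Q ⟨a, hSH (hA ha)⟩) (ph_mem_im Q ha)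
      rw [ph_smul, smul_eq_iff] at h1
      exact (mul_inv_eq_iff_eq_mul.1 h1).symm
  -- an `S`-fixed vector
  have hUS : Wd (S : Subgroup G) ≤ (S : Subgroup G) := EOne.VS B
  have hf2 : Fact (Nat.Prime 2) := ⟨Nat.prime_two⟩
  have h5 := PLocal.OffenderStep.inf_centralizer_ne_bot _ (S : Subgroup G) (S.isPGroup'.to_le (hRU.trans hUS))
    S.isPGroup' (hSH.trans hRH) hR0
  obtain ⟨z, hz1⟩ := Subgroup.ne_bot_iff_exists_ne_one.1 h5
  have hz : (z : G) ∈ zc (S : Subgroup G) :=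
    ChoiceBase.mem_zc.2 ⟨hUS (hRU z.2.1), by
      have := EOne.Vsq B _ (hRU z.2.1)
      exact this, fun y hy => mem_centralizer_iff.1 z.2.2 y hy⟩
  have h6 : (z : G) ∈ zc (S : Subgroup G) ⊓ centralizer (E1 (S : Subgroup G) : Set G) := by
    exact ⟨hz, mem_centralizer_iff.2 fun e he' => (mem_centralizer_iff.1 (hE he') _ z.2.1).symm⟩
  rw [show zc (S : Subgroup G) ⊓ centralizer (E1 (S : Subgroup G) : Set G) = ⊥ from he, Subgroup.mem_bot] at h6
  exact hz1 (Subtype.ext h6)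

/-- The family of the blocks with a radical. -/
def FamOf (S : Sylow 2 G) : Prop :=
  ¬ AsmInp.Spl S (MZ (S : Subgroup G)) →
    ∃ (H : Subgroup G) (_ : MZ (S : Subgroup G) ≤ H) (Q : Nrm H (Wd (S : Subgroup G))) (FF : Set (Subgroup (XH Q)))
      (N C L Z : Subgroup (XH Q) → AddSubgroup Q.Mod) (D : Subgroup (XH Q)),
      FamN (im Q (S : Subgroup G)) (im Q '' AsmCore.EE (S : Subgroup G) (Wd (S : Subgroup G))) FF N C L Z ∧
        D ∈ FF ∧ Z D ≠ ⊥

/-- **(M1)** -/
theorem spl_of_fam (B : RB S) (he : E1S (S : Subgroup G)) (hF : FamOf S) : AsmInp.Spl S (MZ (S : Subgroup G)) := by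
  by_contra hn
  obtain ⟨H, YH, Q, FF, N, C, L, Z, D, F, hD, hZ⟩ := hF hn
  exact false_of_fam B he Q YH F hD hZ

end Cfsg.Agent.Omega.NOThreeL.RRed.MvSpl

end

section


/-!
# NO-3L, box R: the row `noMv` is void ((M1), (M3), (M4) of #27316)

* `mvAct_of_e1s'` : `RB S`, `E1S S` ⟹ `MvAct S`, over `MvSpl.FamOf S` (M1) and `MvEnd.MvBig S` (M3n);
* **`wNoMv_of`** : `WideTree.WNoMv K (FBR E1Fr)`.
-/

set_option autoImplicit false

namespace Cfsg.Agent.Omega.NOThreeL.RRed.NoMvPlug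

open Cfsg.Agent.Omega.Frame
open Cfsg.Agent.Omega.NOThreeL.RTree (RB)
open Cfsg.Agent.Omega.NOThreeL.RRed.EOne (E1S)
open Cfsg.Agent.Omega.NOThreeL.RRed.WideTree (MvAct)
open Cfsg.Agent.Omega.NOThreeL.RRed.GlueSig (FBR)

universe u

/-- `E1S` implies `MvAct` -/
theorem mvAct_of_e1s' {G : Type u} [Group G] [Finite G] {S : Sylow 2 G} (B : RB S) (he : E1S (S : Subgroup G))
    (hF : MvSpl.FamOf S) (hb : MvEnd.MvBig S) : MvAct (S : Subgroup G) :=
  MvEnd.mvAct_of_parts B he (MvSpl.spl_of_fam B he hF) hb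

/-- **The row `noMv`.** -/
theorem wNoMv_of
    (hF : ∀ (G : Type u) [Group G] [Finite G] (S : Sylow 2 G), RB S → E1S (S : Subgroup G) → MvSpl.FamOf S)
    (hb : ∀ (G : Type u) [Group G] [Finite G] (S : Sylow 2 G), RB S → E1S (S : Subgroup G) → MvEnd.MvBig S)
    (K : Cls.{u}) : WideTree.WNoMv K (FBR EOne.E1Fr.{u}) :=
  fun G _ _ _ S h _ hm => absurd (mvAct_of_e1s' h.1.toRB h.2 (hF G S h.1.toRB h.2) (hb G S h.1.toRB h.2)) hm

end Cfsg.Agent.Omega.NOThreeL.RRed.NoMvPlug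

end

section


/-!
# NO-3L, box R: `N_G(S)` permutes the natural blocks (mixed case, input `permN₁` of `HBad`)

`FF₁ = RRs S (MZ S) Q`, `N₁ D = un Q (NN (EB S Q) Q.Mod D)`, `C₁ D = un Q (CC (EB S Q) Q.Mod D)`.

* `un_map_tau` : the image of a block under `n ∈ N_G(S)`;
* **`permN_rrs`** : `n ∈ N_G(S)`, `D ∈ FF₁` ⟹ `N₁ D`^n `= N₁ D'`, `C₁ D`^n `= C₁ D'` for some `D' ∈ FF₁`;
* `permN_rrs'` : the same for the index type `FF₁`.
-/

set_option autoImplicit false
set_option linter.unusedSectionVars false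

namespace Cfsg.Agent.Omega.NOThreeL.RRed.PermRRs

open Subgroup Cfsg Cfsg.Agent.ZN Cfsg.Agent.Omega.MinPar
open Cfsg.Agent.Omega.FFThm (NoOverM)
open Cfsg.Agent.Omega.NOThreeL.RSplit (Nrm)
open Cfsg.Agent.Omega.NOThreeL.Merge (MZ isLoc_MZ)
open Cfsg.Agent.Omega.NOThreeL.RTree (RB)
open Cfsg.Agent.Omega.NOThreeL.RRed.NS (un val_mem_un)
open Cfsg.Agent.Omega.NOThreeL.RRed.WideTree (MvAct)
open Cfsg.Agent.Omega.NOThreeL.RRed.Blk
open Cfsg.Agent.Omega.NOThreeL.RRed.Blk.TypesNat (XH ph XH_faith no_XH two_of tau val_tau sig tau_sig map_sig NB_tr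
  NB_uniq)
open Cfsg.Agent.Omega.NOThreeL.RRed.Blk.Asm
open Cfsg.Agent.Omega.NOThreeL.RRed.Blk.AsmG (RRs)
open Cfsg.Agent.Omega.NOThreeL.RRed.Blk.AsmCore (im)
open Cfsg.Agent.Omega.NOThreeL.RRed.Blk.AsmOneBlk (EB nat_fam hn_rrs)
open scoped Pointwise

universe u

section

variable {G : Type u} [Group G] {H U : Subgroup G} (Q : Nrm H U) {n : G}

/-- the image of a block -/
theorem un_map_tau (hU : n ∈ normalizer (U : Set G)) (W : AddSubgroup Q.Mod) :
    un Q (W.map (tau Q hU).toAddMonoidHom) = MulAut.conj n • un Q W := by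
  ext x
  constructor
  · rintro ⟨_, ⟨m, hm, rfl⟩, rfl⟩
    exact ⟨Q.val m, ⟨m, hm, rfl⟩, rfl⟩
  · rintro ⟨_, ⟨m, hm, rfl⟩, rfl⟩
    exact ⟨_, ⟨m, hm, rfl⟩, rfl⟩

end

variable {G : Type u} [Group G] [Finite G] {S : Sylow 2 G}

/-- **`N_G(S)` permutes the natural blocks.** -/
theorem permN_rrs (B : RB S) (mv : MvAct (S : Subgroup G))
    (no : NoOverM (zl (S : Subgroup G) (MZ (S : Subgroup G))) (MZ (S : Subgroup G)))
    (Q : Nrm (MZ (S : Subgroup G)) (zl (S : Subgroup G) (MZ (S : Subgroup G)))) {n : G}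
    (hn : n ∈ normalizer ((S : Subgroup G) : Set G)) {D : Subgroup (XH Q)} (hD : D ∈ RRs S (MZ (S : Subgroup G)) Q) :
    ∃ D' ∈ RRs S (MZ (S : Subgroup G)) Q,
      MulAut.conj n • un Q (NN (EB S Q) Q.Mod D) = un Q (NN (EB S Q) Q.Mod D') ∧
      MulAut.conj n • un Q (CC (EB S Q) Q.Mod D) = un Q (CC (EB S Q) Q.Mod D') := by
  have hL := isLoc_MZ B.ctx B.full B.data.noff
  obtain ⟨-, h4, hGB, -, -⟩ := nat_fam B mv no Q
  obtain ⟨A, hA, hAD, hA'⟩ := hn_rrs hL.le hn hD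
  subst hAD
  have hU : n ∈ normalizer (zl (S : Subgroup G) (MZ (S : Subgroup G)) : Set G) := AsmHn.nS_Wd hn
  have hM : n ∈ normalizer (MZ (S : Subgroup G) : Set G) := AsmHn.nS_MZ hn
  have h1 := NB_tr (hGB _ hD).nb (tau Q hU) (sig Q hU hM) (tau_sig Q hU hM)
  have h2 : (im Q A).map (sig Q hU hM).toMonoidHom = im Q (MulAut.conj n • A) := map_sig Q hU hM A (hA.trans hL.le)
  rw [h2] at h1
  have h3 := NB_uniq h1 (hGB _ hA').nb (two_of Q (NS.elem_Wd B)) (fun x hx => XH_faith Q x hx) (no_XH Q no) (h4 _ hA')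
  refine ⟨_, hA', ?_, ?_⟩
  · rw [← h3.1, un_map_tau]
  · rw [← h3.2, un_map_tau]

/-- **the same, indexed by `FF₁`** (`permN₁` of `hBad_mix`) -/
theorem permN_rrs' (B : RB S) (mv : MvAct (S : Subgroup G))
    (no : NoOverM (zl (S : Subgroup G) (MZ (S : Subgroup G))) (MZ (S : Subgroup G)))
    (Q : Nrm (MZ (S : Subgroup G)) (zl (S : Subgroup G) (MZ (S : Subgroup G)))) :
    ∀ n ∈ normalizer ((S : Subgroup G) : Set G), ∀ b : RRs S (MZ (S : Subgroup G)) Q,
      ∃ c : RRs S (MZ (S : Subgroup G)) Q,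
        MulAut.conj n • un Q (NN (EB S Q) Q.Mod b.1) = un Q (NN (EB S Q) Q.Mod c.1) := by
  intro n hn b
  obtain ⟨D', hD', h1, -⟩ := permN_rrs B mv no Q hn b.2
  exact ⟨⟨D', hD'⟩, h1⟩

end Cfsg.Agent.Omega.NOThreeL.RRed.PermRRs

end

section


/-!
# NO-3L, box R: letters blocks are moved by active minimal parabolics (#27316 (M3l))

`F : TvFin.Full S M V N E R₀ Om phi` (even sets of letters). `OO S V E phi oo` : the letter `oo b` of `Om b` fixed by
`S ∩ E b`; every other letter `x` is in a transposition `(x y) ∈ S ∩ E b`, `y ≠ oo b`; `S` permutes the `oo b`.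
`z ∈ C_V(S)` with components `phi b (s b)`; `D b = s b ∪ {oo b}`;
`KK` = the elements of `M ∩ C(R₀)` which act on every block as permutations fixing the letters outside `D b`;
`H = S KK`:

* `notMem_of_inv` : `oo b ∉ s b`;
* `fix_of_mem` : `h ∈ H`, `z^h` fixed by `S` ⟹ `z^h = z`;
* `tv_of_ne` : `h ∈ H`, `z^h ≠ z` ⟹ there is a transvection `t ∈ S` with `t^h ∉ S`;
* **`act_of`** : if some component of `z` is `≠ 1`, then an active `P` moves `z`.
-/

set_option autoImplicit false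
set_option linter.unusedSectionVars false

namespace Cfsg.Agent.Omega.NOThreeL.RRed.MvLet

open Subgroup Cfsg Cfsg.Agent.ZN Cfsg.Agent.Omega.MinPar
open Cfsg.Agent.Omega.KL.TwoS (Rel Lett)
open Cfsg.Agent.Omega.NOThreeL.RRed.TvFin (Full TvV)
open Cfsg.Agent.Omega.NOThreeL.RRed.Blk (Dec Co IsC)
open Cfsg.Agent.Omega.NOThreeL.RTree (RB)
open Cfsg.Agent.Omega.NOThreeL.Merge (MZ)
open Cfsg.Agent.Omega.NOThreeL.RRed.WideTree (Act)
open Cfsg.Agent.Omega.FFThm (ElemM)
open scoped Pointwise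

universe u

variable {G : Type u} [Group G]

section letters

variable {Ω : Type u} [Fintype Ω] [DecidableEq Ω] {V R T : Subgroup G} {φ : Finset Ω → G}

omit [Fintype Ω] [DecidableEq Ω] in
theorem map_one' (s : Finset Ω) : s.map (1 : Equiv.Perm Ω).toEmbedding = s := by
  have e : (1 : Equiv.Perm Ω).toEmbedding = Function.Embedding.refl Ω := by
    ext x
    simp
  rw [e, Finset.map_refl]

/-- an even `T`-invariant set of letters does not contain the only fixed letter of the 2-group `T` -/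
theorem notMem_of_inv (L : Lett V R φ) (h3 : 3 ≤ Fintype.card Ω) (hTR : T ≤ R) (hT : IsPGroup 2 T) {o : Ω}
    (ho : ∀ x, x ≠ o → ∃ t ∈ T, ∃ σ, Rel φ t σ ∧ σ x ≠ x) {s : Finset Ω} (hs : Even s.card)
    (hi : ∀ t ∈ T, ∀ σ : Equiv.Perm Ω, Rel φ t σ → s.map σ.toEmbedding = s) : o ∉ s := by
  classical
  obtain ⟨f, hf⟩ := Blk.exists_hom L h3 hTR
  let _ : MulAction T Ω := MulAction.compHom Ω f
  have : Fact (Nat.Prime 2) := ⟨Nat.prime_two⟩
  have hsm : ∀ (t : T) (x : Ω), t • x = f t x := fun _ _ => rfl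
  let X : SubMulAction T Ω :=
    { carrier := {x | x ∉ s}
      smul_mem' := by
        intro t x hx hx'
        have h1 := hi t t.2 (f t) (hf t)
        rw [← h1, hsm, Finset.mem_map] at hx'
        obtain ⟨y, hy, e⟩ := hx'
        have : y = x := (f t).injective e
        exact hx (this ▸ hy) }
  have h1 : ¬ 2 ∣ Nat.card X := by
    have e : Nat.card X = Fintype.card Ω - s.card := by
      have e1 : Nat.card X = Nat.card {x : Ω // x ∈ sᶜ} := by
        refine Nat.card_congr (Equiv.subtypeEquivRight fun x => ?_)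
        rw [Finset.mem_compl]
        rfl
      rw [e1, Nat.card_eq_fintype_card, Fintype.card_coe, Finset.card_compl]
    rw [e]
    have h4 := L.odd
    have h5 : s.card ≤ Fintype.card Ω := Finset.card_le_univ s
    have h6 : Odd (Fintype.card Ω - s.card) := Nat.Odd.sub_even h5 h4 hs
    exact h6.not_two_dvd_nat
  obtain ⟨p, hp⟩ := hT.nonempty_fixed_point_of_prime_not_dvd_card X h1
  have hpo : (p : Ω) = o := by
    by_contra hne
    obtain ⟨t, ht, σ, hσ, hx⟩ := ho _ hne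
    have h2 : σ = f ⟨t, ht⟩ := L.unique h3 hσ (hf ⟨t, ht⟩)
    apply hx
    rw [h2]
    exact congrArg Subtype.val (hp ⟨t, ht⟩)
  rw [← hpo]
  exact p.2

end letters

section full

variable {S M V : Subgroup G} {I : Type u} {N E : I → Subgroup G} {R₀ : Subgroup G} {Om : I → Type u}
    [∀ i, Fintype (Om i)] [∀ i, DecidableEq (Om i)] {phi : ∀ i, Finset (Om i) → G}

/-- The fixed letters of `S`. -/
structure OO (S V : Subgroup G) (E : I → Subgroup G) (phi : ∀ i, Finset (Om i) → G) (oo : ∀ i, Om i) : Prop where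
  fix : ∀ i, ∀ g ∈ S ⊓ E i, ∀ σ, Rel (phi i) g σ → σ (oo i) = oo i
  sw : ∀ i x, x ≠ oo i → ∃ y, y ≠ x ∧ y ≠ oo i ∧ ∃ t ∈ S ⊓ E i, Rel (phi i) t (Equiv.swap x y) ∧
    TvV V (phi i {x, y}) t
  cj : ∀ g ∈ S, ∀ (τ : Equiv.Perm I) (σ : ∀ i, Om i ≃ Om (τ i)),
    (∀ i (s : Finset (Om i)), g * phi i s * g⁻¹ = phi (τ i) (s.map (σ i).toEmbedding)) →
      ∀ i, σ i (oo i) = oo (τ i)

/-- `K` : the elements of `M ∩ C(R₀)` acting on all blocks as permutations which fix the letters outside `D` -/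
def KK (M R₀ : Subgroup G) (phi : ∀ i, Finset (Om i) → G) (D : ∀ b, Finset (Om b)) : Subgroup G where
  carrier := {k | k ∈ M ∧ k ∈ centralizer (R₀ : Set G) ∧
    ∀ b, ∃ σ : Equiv.Perm (Om b), Rel (phi b) k σ ∧ ∀ x, x ∉ D b → σ x = x}
  mul_mem' := by
    rintro a b ⟨ha, ha2, ha3⟩ ⟨hb, hb2, hb3⟩
    refine ⟨mul_mem ha hb, mul_mem ha2 hb2, fun c => ?_⟩
    obtain ⟨σ, h1, h2⟩ := ha3 c
    obtain ⟨τ, h3, h4⟩ := hb3 c
    refine ⟨σ * τ, h1.mul h3, fun x hx => ?_⟩
    rw [Equiv.Perm.mul_apply, h4 x hx, h2 x hx]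
  one_mem' := ⟨one_mem _, one_mem _, fun b => ⟨1, Rel.one, fun _ _ => rfl⟩⟩
  inv_mem' := by
    rintro a ⟨ha, ha2, ha3⟩
    refine ⟨inv_mem ha, inv_mem ha2, fun c => ?_⟩
    obtain ⟨σ, h1, h2⟩ := ha3 c
    refine ⟨σ⁻¹, h1.inv, fun x hx => ?_⟩
    rw [Equiv.Perm.inv_eq_iff_eq]
    exact (h2 x hx).symm

theorem mem_KK {D : ∀ b, Finset (Om b)} {k : G} : k ∈ KK M R₀ phi D ↔ k ∈ M ∧ k ∈ centralizer (R₀ : Set G) ∧
    ∀ b, ∃ σ : Equiv.Perm (Om b), Rel (phi b) k σ ∧ ∀ x, x ∉ D b → σ x = x := Iff.rfl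

/-- data of a fixed vector -/
structure ZS (S V : Subgroup G) (N : I → Subgroup G) (R₀ : Subgroup G) (phi : ∀ i, Finset (Om i) → G) (z : G)
    (s : ∀ b, Finset (Om b)) : Prop where
  mem : z ∈ V
  fx : ∀ g ∈ S, g * z * g⁻¹ = z
  ev : ∀ b, Even (s b).card
  co : ∀ b, IsC N R₀ b z (phi b (s b))

/-- `D b = s b ∪ {oo b}` -/
abbrev DD (oo : ∀ b, Om b) (s : ∀ b, Finset (Om b)) : ∀ b, Finset (Om b) := fun b => insert (oo b) (s b)

variable (F : Full S M V N E R₀ Om phi)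
include F

theorem conj_N {b : I} {k : G} {σ : Equiv.Perm (Om b)} (h : Rel (phi b) k σ) : MulAut.conj k • N b = N b := by
  have key : ∀ {k : G} {σ : Equiv.Perm (Om b)}, Rel (phi b) k σ → ∀ x ∈ N b, k * x * k⁻¹ ∈ N b := by
    intro k σ h x hx
    obtain ⟨s, hs, rfl⟩ := ((F.lett b).mem x).1 hx
    rw [h s hs]
    exact ((F.lett b).mem _).2 ⟨_, by rwa [Finset.card_map], rfl⟩
  apply le_antisymm
  · rintro _ ⟨x, hx, rfl⟩
    exact key h x hx
  · intro x hx
    rw [Blk.conj_smul (A := MulAut.conj k • N b) (B := N b) (g := k⁻¹) (by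
      rw [map_inv, inv_smul_smul])]
    exact key h.inv x hx

theorem conj_E {b : I} {k : G} (hk : k ∈ M) (h : MulAut.conj k • N b = N b) {x : G} (hx : x ∈ E b) :
    k * x * k⁻¹ ∈ E b := by
  obtain ⟨c, h1, h2⟩ := F.toDec.perm k hk b
  have hc : c = b := F.toDec.Ninj (by rw [← h1, h])
  subst hc
  exact (Blk.conj_smul h2).1 hx

theorem exists_s {z : G} (hz : z ∈ V) : ∃ s : ∀ b, Finset (Om b), ∀ b, Even (s b).card ∧
    IsC N R₀ b z (phi b (s b)) := by
  have h : ∀ b, ∃ s : Finset (Om b), Even s.card ∧ IsC N R₀ b z (phi b s) := by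
    intro b
    obtain ⟨n, hn⟩ := F.toDec.ex_comp b hz
    obtain ⟨s, hs, rfl⟩ := ((F.lett b).mem n).1 hn.1
    exact ⟨s, hs, hn⟩
  choose s hs using h
  exact ⟨s, hs⟩

/-- components of a fixed vector are invariant -/
theorem s_inv {z : G} {b : I} {s : Finset (Om b)} (hs : Even s.card) (hc : IsC N R₀ b z (phi b s)) {g : G}
    (hg : g ∈ M) {σ : Equiv.Perm (Om b)} (hσ : Rel (phi b) g σ) (hgz : g * z * g⁻¹ = z) :
    s.map σ.toEmbedding = s := by
  have h1 := F.toDec.comp_conj hg (conj_N F hσ) hc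
  rw [hgz, hσ s hs] at h1
  exact (F.lett b).phi_inj (by rwa [Finset.card_map]) hs (F.toDec.uniq h1 hc)

variable {z : G} {s : ∀ b, Finset (Om b)} {oo : ∀ b, Om b}

theorem oo_notMem (hO : OO S V E phi oo) (hS : IsPGroup 2 S) (hz : ZS S V N R₀ phi z s) (b : I) : oo b ∉ s b := by
  refine notMem_of_inv (F.lett b) (F.three b) (T := S ⊓ E b) inf_le_right (hS.to_le inf_le_left) (fun x hx => ?_)
    (hz.ev b) fun t ht σ hσ => s_inv F (hz.ev b) (hz.co b) (F.toDec.SL ht.1) hσ (hz.fx t ht.1)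
  obtain ⟨y, hy, -, t, ht, h1, -⟩ := hO.sw b x hx
  exact ⟨t, ht, _, h1, by rw [Equiv.swap_apply_left]; exact hy⟩

theorem sub_D {b : I} {σ : Equiv.Perm (Om b)} (h : ∀ x, x ∉ DD oo s b → σ x = x) :
    (s b).map σ.toEmbedding ⊆ DD oo s b := by
  intro y hy
  rw [Finset.mem_map] at hy
  obtain ⟨x, hx, rfl⟩ := hy
  by_contra hn
  have h1 := h _ hn
  have h2 : σ x = x := σ.injective h1
  apply hn
  rw [Equiv.toEmbedding_apply, h2]
  exact Finset.mem_insert_of_mem hx

theorem norm_KK (hO : OO S V E phi oo) (hz : ZS S V N R₀ phi z s) : S ≤ normalizer (KK M R₀ phi (DD oo s) : Set G) := by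
  have key : ∀ g ∈ S, ∀ k ∈ KK M R₀ phi (DD oo s), g * k * g⁻¹ ∈ KK M R₀ phi (DD oo s) := by
    intro g hg k hk
    obtain ⟨h1, h2, h3⟩ := mem_KK.1 hk
    have hgM := F.toDec.SL hg
    obtain ⟨τ, σ, e1, -, e3⟩ := F.letters g hgM
    refine mem_KK.2 ⟨mul_mem (mul_mem hgM h1) (inv_mem hgM), ?_, fun c => ?_⟩
    · rw [mem_centralizer_iff] at h2 ⊢
      intro r hr
      have hr' : g⁻¹ * r * g ∈ R₀ := by
        have := Blk.conj_of (F.toDec.Rnor (inv_mem hgM)) hr
        simpa using this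
      have h4 := h2 _ hr'
      calc r * (g * k * g⁻¹) = g * ((g⁻¹ * r * g) * k) * g⁻¹ := by group
        _ = g * k * g⁻¹ * r := by rw [h4]; group
    · obtain ⟨b, rfl⟩ := τ.surjective c
      obtain ⟨ρ, h5, h6⟩ := h3 b
      refine ⟨((σ b).symm.trans ρ).trans (σ b), ?_, ?_⟩
      · intro t ht
        have e4 : t = (t.map (σ b).symm.toEmbedding).map (σ b).toEmbedding := by
          rw [Finset.map_map]
          ext x
          simp
        have ht' : Even (t.map (σ b).symm.toEmbedding).card := by rwa [Finset.card_map]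
        have e5 : g⁻¹ * phi (τ b) t * g = phi b (t.map (σ b).symm.toEmbedding) := by
          have := e3 b (t.map (σ b).symm.toEmbedding)
          rw [← e4] at this
          rw [← this]; group
        calc g * k * g⁻¹ * phi (τ b) t * (g * k * g⁻¹)⁻¹ = g * (k * (g⁻¹ * phi (τ b) t * g) * k⁻¹) * g⁻¹ := by group
          _ = _ := by
            rw [e5, h5 _ ht', e3, Finset.map_map, Finset.map_map]
            rfl
      · intro x hx
        have hx' : (σ b).symm x ∉ DD oo s b := by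
          intro hm
          apply hx
          rcases Finset.mem_insert.1 hm with h7 | h7
          · have h8 : x = σ b (oo b) := by rw [← h7]; simp
            rw [h8, hO.cj g hg τ σ e3 b]
            exact Finset.mem_insert_self _ _
          · have h8 : (s b).map (σ b).toEmbedding = s (τ b) := by
              have h9 := F.toDec.comp_conj hgM (e1 b) (hz.co b)
              rw [hz.fx g hg, e3] at h9
              exact (F.lett (τ b)).phi_inj (by rw [Finset.card_map]; exact hz.ev b) (hz.ev _)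
                (F.toDec.uniq h9 (hz.co (τ b)))
            refine Finset.mem_insert_of_mem ?_
            rw [← h8, Finset.mem_map]
            exact ⟨_, h7, by simp⟩
        simp only [Equiv.trans_apply]
        rw [h6 _ hx']
        simp
  intro g hg
  rw [mem_normalizer_iff]
  intro k
  refine ⟨key g hg k, fun h => ?_⟩
  have := key g⁻¹ (inv_mem hg) _ h
  have e : g⁻¹ * (g * k * g⁻¹) * g⁻¹⁻¹ = k := by group
  rwa [e] at this

/-- `k ∈ K` with all `s b` invariant fixes `z` -/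
theorem fix_of_s [Finite I] (hz : ZS S V N R₀ phi z s) {k : G} (hk : k ∈ KK M R₀ phi (DD oo s))
    (h : ∀ b, ∀ σ : Equiv.Perm (Om b), Rel (phi b) k σ → (s b).map σ.toEmbedding = s b) : k * z * k⁻¹ = z := by
  obtain ⟨h1, h2, h3⟩ := mem_KK.1 hk
  have hS : ∀ g ∈ S, g * z = z * g := fun g hg => by
    have := hz.fx g hg
    calc g * z = (g * z * g⁻¹) * g := by group
      _ = z * g := by rw [this]
  obtain ⟨e, he, r, hr, hzr, -, -⟩ := F.toDec.fix_split hz.mem hS
  have hr1 : k * r * k⁻¹ = r := Blk.cent h2 hr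
  have hce : ∀ b, IsC N R₀ b e (phi b (s b)) := by
    intro b
    have h4 := F.toDec.comp_mul (hz.co b) (F.toDec.comp_inv (F.toDec.comp_one (F.toDec.R_le_Co b hr)))
    rw [hzr, mul_inv_cancel_right, inv_one, mul_one] at h4
    exact h4
  have he1 : k * e * k⁻¹ = e := by
    refine F.toDec.ext (F.toDec.conj_mem_B h1 he) he fun b => ⟨phi b (s b), ?_, hce b⟩
    obtain ⟨σ, hσ, -⟩ := h3 b
    have h5 := F.toDec.comp_conj h1 (conj_N F hσ) (hce b)
    rwa [hσ _ (hz.ev b), h b σ hσ] at h5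
  calc k * z * k⁻¹ = (k * e * k⁻¹) * (k * r * k⁻¹) := by rw [hzr]; group
    _ = z := by rw [he1, hr1, hzr]

/-- `k ∈ K`, `z^k ∈ C(S)` ⟹ `z^k = z` -/
theorem fix_K [Finite I] (hO : OO S V E phi oo) (hS : IsPGroup 2 S) (hz : ZS S V N R₀ phi z s) {k : G}
    (hk : k ∈ KK M R₀ phi (DD oo s)) (hkz : ∀ g ∈ S, g * (k * z * k⁻¹) * g⁻¹ = k * z * k⁻¹) : k * z * k⁻¹ = z := by
  obtain ⟨h1, h2, h3⟩ := mem_KK.1 hk
  refine fix_of_s F hz hk fun b σ hσ => ?_
  obtain ⟨σ', hσ', hD⟩ := h3 b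
  have e : σ = σ' := (F.lett b).unique (F.three b) hσ hσ'
  subst e
  have hA : (s b).map σ.toEmbedding ⊆ DD oo s b := sub_D F hD
  have hcard : ((s b).map σ.toEmbedding).card = (s b).card := Finset.card_map _
  have hev : Even ((s b).map σ.toEmbedding).card := by rw [hcard]; exact hz.ev b
  have hc := F.toDec.comp_conj h1 (conj_N F hσ) (hz.co b)
  rw [hσ _ (hz.ev b)] at hc
  have hoo : oo b ∉ (s b).map σ.toEmbedding := by
    refine notMem_of_inv (F.lett b) (F.three b) (T := S ⊓ E b) inf_le_right (hS.to_le inf_le_left) (fun x hx => ?_)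
      hev fun t ht ρ hρ => s_inv F hev hc (F.toDec.SL ht.1) hρ (hkz t ht.1)
    obtain ⟨y, hy, -, t, ht, h4, -⟩ := hO.sw b x hx
    exact ⟨t, ht, _, h4, by rw [Equiv.swap_apply_left]; exact hy⟩
  refine Finset.eq_of_subset_of_card_le (fun x hx => ?_) hcard.ge
  rcases Finset.mem_insert.1 (hA hx) with h5 | h5
  · exact absurd (h5 ▸ hx) hoo
  · exact h5

/-- `k ∈ K`, `z^k ≠ z` ⟹ some transvection `t ∈ S` has `t^k ∉ S` -/
theorem tv_K [Finite I] (hO : OO S V E phi oo) (hS : IsPGroup 2 S) (hz : ZS S V N R₀ phi z s) {k : G}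
    (hk : k ∈ KK M R₀ phi (DD oo s)) (hkz : k * z * k⁻¹ ≠ z) :
    ∃ t ∈ S, ∃ c ∈ V, TvV V c t ∧ t ∉ centralizer (V : Set G) ∧ k * t * k⁻¹ ∉ S := by
  obtain ⟨h1, h2, h3⟩ := mem_KK.1 hk
  have hb : ∃ b, ∃ σ : Equiv.Perm (Om b), Rel (phi b) k σ ∧ (s b).map σ.toEmbedding ≠ s b := by
    by_contra hcon
    push Not at hcon
    exact hkz (fix_of_s F hz hk hcon)
  obtain ⟨b, σ, hσ, hne⟩ := hb
  obtain ⟨σ', hσ', hD⟩ := h3 b
  have e : σ = σ' := (F.lett b).unique (F.three b) hσ hσ'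
  subst e
  have hA : (s b).map σ.toEmbedding ⊆ DD oo s b := sub_D F hD
  have hcard : ((s b).map σ.toEmbedding).card = (s b).card := Finset.card_map _
  have hoo : oo b ∈ (s b).map σ.toEmbedding := by
    by_contra hn
    refine hne (Finset.eq_of_subset_of_card_le (fun x hx => ?_) hcard.ge)
    rcases Finset.mem_insert.1 (hA hx) with h5 | h5
    · exact absurd (h5 ▸ hx) hn
    · exact h5
  rw [Finset.mem_map] at hoo
  obtain ⟨x, hx, hxo⟩ := hoo
  rw [Equiv.toEmbedding_apply] at hxo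
  have hxne : x ≠ oo b := fun e => oo_notMem F hO hS hz b (e ▸ hx)
  obtain ⟨y, hyx, hyo, t, ht, hR, hT⟩ := hO.sw b x hxne
  refine ⟨t, ht.1, phi b {x, y}, ?_, hT, ?_, ?_⟩
  · refine F.toDec.NU b (((F.lett b).mem _).2 ⟨{x, y}, ?_, rfl⟩)
    rw [Finset.card_pair hyx.symm]; exact even_two
  · intro hc
    have h5 : Rel (phi b) t (1 : Equiv.Perm (Om b)) := by
      intro w hw
      have h6 : phi b w ∈ V := F.toDec.NU b (((F.lett b).mem _).2 ⟨w, hw, rfl⟩)
      rw [Blk.cent hc h6, map_one']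
    have h6 := (F.lett b).unique (F.three b) hR h5
    have h7 : Equiv.swap x y x = x := by rw [h6]; rfl
    rw [Equiv.swap_apply_left] at h7
    exact hyx h7
  · intro hcon
    have h5 : k * t * k⁻¹ ∈ S ⊓ E b := mem_inf.2 ⟨hcon, conj_E F h1 (conj_N F hσ) ht.2⟩
    have h6 : Rel (phi b) (k * t * k⁻¹) (σ * Equiv.swap x y * σ⁻¹) := (hσ.mul hR).mul hσ.inv
    have h7 := hO.fix b _ h5 _ h6
    have h8 : σ⁻¹ (oo b) = x := by rw [← hxo]; simp
    rw [Equiv.Perm.mul_apply, Equiv.Perm.mul_apply, h8, Equiv.swap_apply_left, ← hxo] at h7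
    exact hyx (σ.injective h7)

/-- some `k ∈ K` moves `z` -/
theorem exists_mv (hO : OO S V E phi oo) (hS : IsPGroup 2 S) (hz : ZS S V N R₀ phi z s) {b : I} (hb : (s b).Nonempty) :
    ∃ k ∈ KK M R₀ phi (DD oo s), k * z * k⁻¹ ≠ z := by
  obtain ⟨x, hx⟩ := hb
  obtain ⟨k, hk, hR⟩ := (F.lett b).all (Equiv.swap x (oo b))
  have hkM := F.toDec.EL b hk
  refine ⟨k, mem_KK.2 ⟨hkM, F.toDec.ER b hk, fun c => ?_⟩, fun hcon => ?_⟩
  · by_cases hcb : b = c
    · subst hcb
      refine ⟨_, hR, fun y hy => ?_⟩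
      rw [Finset.mem_insert, not_or] at hy
      exact Equiv.swap_apply_of_ne_of_ne (fun e => hy.2 (e ▸ hx)) hy.1
    · refine ⟨1, fun w hw => ?_, fun _ _ => rfl⟩
      have h6 : phi c w ∈ N c := ((F.lett c).mem _).2 ⟨w, hw, rfl⟩
      rw [Blk.cent (F.toDec.EC b c hcb hk) h6, map_one']
  · have h1 := s_inv F (hz.ev b) (hz.co b) hkM hR hcon
    apply oo_notMem F hO hS hz b
    rw [← h1, Finset.mem_map]
    exact ⟨x, hx, by simp⟩

end full

/-! ### The active parabolic -/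

section act

theorem mx_of_tv [Finite G] {S : Sylow 2 G} (B : RB S) {t c : G} (ht : t ∈ (S : Subgroup G))
    (hc : c ∈ Wd (S : Subgroup G)) (hT : TvV (Wd (S : Subgroup G)) c t)
    (hn : t ∉ centralizer (Wd (S : Subgroup G) : Set G)) : Mx (Wd (S : Subgroup G)) (zpowers t) := by
  have hcm := wcomm B
  have hsq := wsq B
  generalize hV : Wd (S : Subgroup G) = V at *
  have hcc : c * c = 1 := hsq c hc
  have hc1 : c ≠ 1 := by
    rintro rfl
    apply hn
    rw [mem_centralizer_iff]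
    intro v hv
    have h1 : t * v * t⁻¹ = v := by
      rcases hT v hv with h | h
      · exact h
      · rw [h, mul_one]
    calc v * t = (t * v * t⁻¹) * t := by rw [h1]
      _ = t * v := by group
  have htc : t * c * t⁻¹ = c := by
    rcases hT c hc with h | h
    · exact h
    · rw [hcc] at h
      exact absurd (by simpa using h) hc1
  have hmul : ∀ v, t * (v * c) * t⁻¹ = (t * v * t⁻¹) * c := by
    intro v
    calc t * (v * c) * t⁻¹ = (t * v * t⁻¹) * (t * c * t⁻¹) := by group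
      _ = _ := by rw [htc]
  have ht2 : t ^ 2 ∈ centralizer (V : Set G) := by
    rw [mem_centralizer_iff]
    intro v hv
    have h1 : t * (t * v * t⁻¹) * t⁻¹ = v := by
      rcases hT v hv with h | h
      · rw [h, h]
      · rw [h, hmul, h, mul_assoc, hcc, mul_one]
    calc v * t ^ 2 = (t * (t * v * t⁻¹) * t⁻¹) * (t * t) := by rw [h1, pow_two]
      _ = (t * t) * v := by group
      _ = t ^ 2 * v := by rw [pow_two]
  obtain ⟨a, ha, hta⟩ : ∃ a ∈ V, t * a * t⁻¹ = a * c := by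
    by_contra hcon
    push Not at hcon
    apply hn
    rw [mem_centralizer_iff]
    intro v hv
    have h1 : t * v * t⁻¹ = v := (hT v hv).resolve_right (hcon v hv)
    calc v * t = (t * v * t⁻¹) * t := by rw [h1]
      _ = t * v := by group
  have hA2 : ((centralizer (V : Set G) : Subgroup G)).relIndex (zpowers t) = 2 := by
    rw [relIndex_eq_two_iff_exists_notMem_and]
    refine ⟨t, mem_zpowers t, hn, fun b hb => ?_⟩
    obtain ⟨n, rfl⟩ := mem_zpowers_iff.1 hb
    rcases Int.even_or_odd' n with ⟨m, rfl | rfl⟩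
    · right
      rw [zpow_mul]
      exact zpow_mem (by exact_mod_cast ht2) m
    · left
      have e : t ^ (2 * m + 1) * t = (t ^ (2 : ℤ)) ^ (m + 1) := by
        rw [← zpow_add_one, ← zpow_mul]; congr 1; ring
      rw [e]
      exact zpow_mem (by exact_mod_cast ht2) (m + 1)
  have hmemC : ∀ v, v ∈ centralizer (zpowers t : Set G) ↔ t * v * t⁻¹ = v := by
    intro v
    rw [mem_centralizer_iff]
    constructor
    · intro h
      rw [h t (mem_zpowers t)]; group
    · rintro h x hx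
      obtain ⟨n, rfl⟩ := mem_zpowers_iff.1 hx
      have h1 : Commute t v := by
        change t * v = v * t
        calc t * v = (t * v * t⁻¹) * t := by group
          _ = v * t := by rw [h]
      exact (h1.zpow_left n).eq
  have hV2 : ((centralizer (zpowers t : Set G) : Subgroup G)).relIndex V = 2 := by
    rw [relIndex_eq_two_iff_exists_notMem_and]
    refine ⟨a, ha, ?_, fun b hb => ?_⟩
    · rw [hmemC, hta]
      intro h
      exact hc1 (by simpa using h)
    · rw [hmemC, hmemC]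
      rcases hT b hb with h | h
      · exact Or.inr h
      · left
        calc t * (b * a) * t⁻¹ = (t * b * t⁻¹) * (t * a * t⁻¹) := by group
          _ = b * (c * a) * c := by rw [h, hta]; group
          _ = b * a := by rw [hcm c hc a ha, ← mul_assoc, mul_assoc, hcc, mul_one]
  have hcA := Cfsg.Agent.Lib.SylowNormalInf.card_inf_mul_relIndex (centralizer (V : Set G)) (zpowers t)
  have hcV := Cfsg.Agent.Lib.SylowNormalInf.card_inf_mul_relIndex (centralizer (zpowers t : Set G)) V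
  rw [hA2] at hcA
  rw [hV2] at hcV
  rw [inf_comm] at hcA hcV
  refine { sq := ?_, comm := ?_, pg := ?_, ne := ?_, exact := ?_, min := ?_ }
  · intro x hx
    obtain ⟨n, rfl⟩ := mem_zpowers_iff.1 hx
    have e : (t ^ n) ^ 2 = (t ^ 2) ^ n := by
      rw [← zpow_natCast, ← zpow_mul, ← zpow_natCast, ← zpow_mul, mul_comm]
    rw [e]
    exact zpow_mem ht2 n
  · intro x hx y hy
    obtain ⟨n, rfl⟩ := mem_zpowers_iff.1 hx
    obtain ⟨m, rfl⟩ := mem_zpowers_iff.1 hy
    have h1 : t ^ n * t ^ m = t ^ m * t ^ n := by rw [← zpow_add, ← zpow_add, add_comm]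
    have e : t ^ n * t ^ m * (t ^ n)⁻¹ * (t ^ m)⁻¹ = 1 := by rw [h1]; group
    rw [e]
    exact one_mem _
  · exact S.isPGroup'.to_le (by rwa [zpowers_le])
  · exact fun hle => hn (hle (mem_zpowers t))
  · rw [← hcA, ← hcV]; ring
  · intro D hD _ hCD
    by_cases hDC : D ≤ centralizer (V : Set G)
    · exact Or.inl hDC
    · right
      obtain ⟨d, hd, hdC⟩ := SetLike.not_le_iff_exists.1 hDC
      refine le_antisymm hD ?_
      rw [zpowers_le]
      obtain ⟨n, rfl⟩ := mem_zpowers_iff.1 (hD hd)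
      rcases Int.even_or_odd' n with ⟨m, rfl | rfl⟩
      · exfalso
        apply hdC
        rw [zpow_mul]
        exact zpow_mem (by exact_mod_cast ht2) m
      · have h1 : t ^ (2 * m) ∈ D := by
          refine hCD (mem_inf.2 ⟨zpow_mem (mem_zpowers t) _, ?_⟩)
          rw [zpow_mul]
          exact zpow_mem (by exact_mod_cast ht2) m
        have e : t = (t ^ (2 * m))⁻¹ * t ^ (2 * m + 1) := by
          rw [← zpow_neg, ← zpow_add]
          simp
        rw [e]
        exact mul_mem (inv_mem h1) hd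

theorem act_of_H [Finite G] {S : Sylow 2 G} (B : RB S) {z : G} (hz : z ∈ zc (S : Subgroup G)) {H : Subgroup G}
    (SH : (S : Subgroup G) ≤ H) (HM : H ≤ MZ (S : Subgroup G))
    (fix : ∀ h ∈ H, h * z * h⁻¹ ∈ zc (S : Subgroup G) → h * z * h⁻¹ = z) (mv : ∃ h ∈ H, h * z * h⁻¹ ≠ z)
    (tv : ∀ h ∈ H, h * z * h⁻¹ ≠ z → ∃ t ∈ (S : Subgroup G), ∃ c ∈ Wd (S : Subgroup G),
      TvV (Wd (S : Subgroup G)) c t ∧ t ∉ centralizer (Wd (S : Subgroup G) : Set G) ∧ h * t * h⁻¹ ∉ (S : Subgroup G)) :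
    ∃ P, Act (S : Subgroup G) P ∧ ¬ P ≤ centralizer ({z} : Set G) := by
  have hcz : ∀ g, g ∈ centralizer ({z} : Set G) ↔ g * z * g⁻¹ = z := by
    intro g
    rw [mem_centralizer_singleton_iff, mul_inv_eq_iff_eq_mul]
  have hL : IsLoc (S : Subgroup G) H :=
    (Merge.isLoc_MZ B.ctx B.full B.data.noff).of_le S SH HM
  obtain ⟨P, hP, hPH, hPz⟩ := hL.exists_not_le S (M := centralizer ({z} : Set G))
    (fun g hg => (hcz g).2 (fix g hg.1 (conj_zc hg.2 hz))) (by
      obtain ⟨h, hh, hm⟩ := mv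
      exact fun hle => hm ((hcz h).1 (hle hh)))
  have hPS : IsParS (S : Subgroup G) P := by
    refine ⟨hP, fun hn => hPz fun p hp => (hcz p).2 (fix p (hPH hp) ?_)⟩
    exact (mem_normalizer_iff.1 (hn hp) z).1 hz
  refine ⟨P, ⟨hPS, ?_⟩, hPz⟩
  obtain ⟨p, hp, hpz⟩ : ∃ p ∈ P, ¬ p * z * p⁻¹ = z := by
    by_contra hcon
    push Not at hcon
    exact hPz fun p hp => (hcz p).2 (hcon p hp)
  obtain ⟨t, ht, c, hc, hT, hn, hS⟩ := tv p (hPH hp) hpz
  refine ⟨zpowers t, by rwa [zpowers_le], mx_of_tv B ht hc hT hn, fun hle => hS ?_⟩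
  have h1 : t ∈ o2 P := hle (mem_zpowers t)
  have h2 : p * t * p⁻¹ ∈ o2 P := (mem_normalizer_iff.1 (le_normalizer_o2 P hp) t).1 h1
  exact hPS.isLoc.o2_le S h2

variable {I : Type u} {N E : I → Subgroup G} {R₀ : Subgroup G} {Om : I → Type u}
    [∀ i, Fintype (Om i)] [∀ i, DecidableEq (Om i)] {phi : ∀ i, Finset (Om i) → G}

/-- **(M3l)** : `z ∈ Z` with a non-trivial component in a letters block is moved by an active minimal parabolic
(given the fixed letters `oo`). -/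
theorem act_of [Finite G] [Finite I] {S : Sylow 2 G} (B : RB S)
    (F : Full (S : Subgroup G) (MZ (S : Subgroup G)) (Wd (S : Subgroup G)) N E R₀ Om phi) {oo : ∀ i, Om i}
    (hO : OO (S : Subgroup G) (Wd (S : Subgroup G)) E phi oo) {z : G} (hz : z ∈ zc (S : Subgroup G)) {b : I} {n : G}
    (hn : IsC N R₀ b z n) (hne : n ≠ 1) :
    ∃ P, Act (S : Subgroup G) P ∧ ¬ P ≤ centralizer ({z} : Set G) := by
  have hfx : ∀ g ∈ (S : Subgroup G), ∀ w ∈ zc (S : Subgroup G), g * w * g⁻¹ = w := fun g hg w hw => by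
    rw [(mem_zc.1 hw).2.1 g hg]; group
  obtain ⟨s, hs⟩ := exists_s F (zc_le_Wd _ hz)
  have hZ : ZS (S : Subgroup G) (Wd (S : Subgroup G)) N R₀ phi z s :=
    ⟨zc_le_Wd _ hz, fun g hg => hfx g hg z hz, fun b => (hs b).1, fun b => (hs b).2⟩
  have hb : (s b).Nonempty := by
    rw [Finset.nonempty_iff_ne_empty]
    intro h0
    apply hne
    rw [F.toDec.uniq hn (hZ.co b), h0, (F.lett b).phi_empty]
  have hSK := norm_KK F hO hZ
  have hmul : ∀ h ∈ (S : Subgroup G) ⊔ KK (MZ (S : Subgroup G)) R₀ phi (DD oo s), ∃ g ∈ (S : Subgroup G),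
      ∃ k ∈ KK (MZ (S : Subgroup G)) R₀ phi (DD oo s), h = g * k := fun h hh => Blk.mem_sup_of hSK hh
  refine act_of_H B hz (H := (S : Subgroup G) ⊔ KK (MZ (S : Subgroup G)) R₀ phi (DD oo s)) le_sup_left
    (sup_le F.toDec.SL fun k hk => (mem_KK.1 hk).1) ?_ ?_ ?_
  · intro h hh hhz
    obtain ⟨g, hg, k, hk, rfl⟩ := hmul h hh
    have e1 : g * k * z * (g * k)⁻¹ = g * (k * z * k⁻¹) * g⁻¹ := by group
    rw [e1] at hhz ⊢
    have e2 : k * z * k⁻¹ = g * (k * z * k⁻¹) * g⁻¹ := by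
      have := hfx g⁻¹ (inv_mem hg) _ hhz
      calc k * z * k⁻¹ = g⁻¹ * (g * (k * z * k⁻¹) * g⁻¹) * g⁻¹⁻¹ := by group
        _ = _ := this
    rw [← e2] at hhz ⊢
    exact fix_K F hO S.isPGroup' hZ hk fun g hg => hfx g hg _ hhz
  · obtain ⟨k, hk, h⟩ := exists_mv F hO S.isPGroup' hZ hb
    exact ⟨k, mem_sup_right hk, h⟩
  · intro h hh hhz
    obtain ⟨g, hg, k, hk, rfl⟩ := hmul h hh
    have hkz : k * z * k⁻¹ ≠ z := by
      intro e
      apply hhz
      calc g * k * z * (g * k)⁻¹ = g * (k * z * k⁻¹) * g⁻¹ := by group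
        _ = z := by rw [e, hfx g hg z hz]
    obtain ⟨t, ht, c, hc, hT, hn', hnS⟩ := tv_K F hO S.isPGroup' hZ hk hkz
    refine ⟨t, ht, c, hc, hT, hn', fun hcon => hnS ?_⟩
    have e : k * t * k⁻¹ = g⁻¹ * (g * k * t * (g * k)⁻¹) * g := by group
    rw [e]
    exact mul_mem (mul_mem (inv_mem hg) hcon) hg

end act

end Cfsg.Agent.Omega.NOThreeL.RRed.MvLet

end
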