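import Cfsg.Agent.Mrg.Omega.NOThreeL.RRed.HBadOf
import Cfsg.Agent.Mrg.Omega.NOThreeL.RRed.TvNorm
import Cfsg.Agent.Mrg.Omega.NOThreeL.RRed.Blk.MixDec


/-!
# Box R: `HBad` for the mixed family (natural blocks and blocks of letters), letters side discharged

* `permN_mix` : `N_G(S)` permutes the blocks of the mixed family if it permutes the `N₁ b`;
* **`hBad_mix`** : `HBad S (Sum.elim N₁ N) (Mix.OM N₁ phi)` from `Kd` for the natural blocks.
-/

set_option autoImplicit false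
set_option linter.unusedSectionVars false

namespace Cfsg.Agent.Omega.NOThreeL.RRed.HBadOf

open Subgroup Cfsg Cfsg.Agent.ZN
open Cfsg.Agent.Omega.NOThreeL.Merge (MZ)
open Cfsg.Agent.Omega.NOThreeL.RRed.Blk (Dec Co IsC EB)
open Cfsg.Agent.Omega.NOThreeL.RRed.FullSup (HBad)
open Cfsg.Agent.Omega.NOThreeL.RRed.TvFin (Full)
open Cfsg.Agent.Omega.NOThreeL.RRed.TvTr (Orb)
open Cfsg.Agent.Omega.NOThreeL.RZ.TwoC.DecE (Orbs)
open scoped Pointwise

universe u w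

variable {G : Type u} [Group G] [Finite G] {S : Sylow 2 G} {I : Type u} {N E : I → Subgroup G} {R₀ : Subgroup G}
  {Om : I → Type u} [∀ i, Fintype (Om i)] [∀ i, DecidableEq (Om i)] {phi : ∀ i, Finset (Om i) → G}
  {ι : Type w} {W : ι → Subgroup G} {κ₁ : Type u} {N₁ C₁ T₁ : κ₁ → Subgroup G} {cls₁ : κ₁ → ι} {cls : I → ι}
  (F : Full (S : Subgroup G) (MZ (S : Subgroup G)) (Wd (S : Subgroup G)) N E R₀ Om phi)
include F

/-- `N_G(S)` permutes the blocks of letters -/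
theorem permN_let {n : G} (hn : n ∈ normalizer ((S : Subgroup G) : Set G)) (b : I) :
    ∃ c, MulAut.conj n • N b = N c :=
  TvTr.perm_norm F (Blk.AsmHn.nS_MZ hn) (Blk.AsmHn.nS_Wd hn) b

theorem permN_mix (hN₁ : ∀ n ∈ normalizer ((S : Subgroup G) : Set G), ∀ b, ∃ c, MulAut.conj n • N₁ b = N₁ c) :
    ∀ n ∈ normalizer ((S : Subgroup G) : Set G), ∀ b : κ₁ ⊕ I,
      ∃ c : κ₁ ⊕ I, MulAut.conj n • Sum.elim N₁ N b = Sum.elim N₁ N c := by
  intro n hn b
  rcases b with b | b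
  · obtain ⟨c, hc⟩ := hN₁ n hn b
    exact ⟨Sum.inl c, hc⟩
  · obtain ⟨c, hc⟩ := permN_let F hn b
    exact ⟨Sum.inr c, hc⟩

variable (X : Blk.Mix (MZ (S : Subgroup G)) (Wd (S : Subgroup G)) N W N₁ C₁ T₁ cls₁ cls)
include X

/-- the letters side of `Kd` -/
theorem kd_inr (b : I) :
    Kd (S : Subgroup G) (Sum.elim N₁ N) (Sum.inr b) ((S : Subgroup G) ⊓ E b) := by
  refine kd_let F b rfl fun c hc => ?_
  refine (Blk.Mix.E_le F X b).trans (inf_le_right.trans (centralizer_le ?_))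
  exact le_iSup (fun d : {d // d ≠ Sum.inr b} => Sum.elim N₁ N d.1) ⟨c, hc⟩

/-- **`HBad` for the mixed family** -/
theorem hBad_mix [Finite κ₁] [Finite I] (sq : ∀ v ∈ Wd (S : Subgroup G), v * v = 1)
    (hN₁ : ∀ n ∈ normalizer ((S : Subgroup G) : Set G), ∀ b, ∃ c, MulAut.conj n • N₁ b = N₁ c)
    (hk : ∀ b : κ₁, ∃ A, Kd (S : Subgroup G) (Sum.elim N₁ N) (Sum.inl b) A) :
    HBad (S : Subgroup G) (Sum.elim N₁ N) (Blk.Mix.OM N₁ phi) := by
  obtain ⟨h, o, -⟩ := Blk.mix_main sq F X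
  refine hBad_of h o.one (permN_mix F hN₁) fun b => ?_
  rcases b with b | b
  · exact hk b
  · exact ⟨_, kd_inr F X b⟩

end Cfsg.Agent.Omega.NOThreeL.RRed.HBadOf
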