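import Cfsg.Agent.Mrg.Omega.NOThreeL.RRed.ClassInst
import Cfsg.Agent.Mrg.Omega.NOThreeL.RRed.WideTree


/-!
# NO-3L, box R: the class module theorem, socket form (#24537, helper241), text: helper732

* `gOne_of_act` : `A ≤ S` minimal exact on `V = zl S L`, `A ≰ O₂(P)`: `GOne S L P A`;
* `cm_of` : `Sys` gives 699's `WideTree.CM` for the set of the class modules `W_A`;
* **`cmThm : WideTree.CMThm`**.
-/

set_option autoImplicit false
set_option linter.unusedSectionVars false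

namespace Cfsg.Agent.Omega.NOThreeL.RRed.CI

open Subgroup Pointwise Cfsg Cfsg.Agent.ZN Cfsg.Agent.Omega.MinPar Cfsg.Agent.Omega.Frame
open Cfsg.Agent.Omega.FrameNOFF
open Cfsg.Agent.Omega.FFThm (ElemM OffM NoOverM ConclM)
open Cfsg.Agent.Omega.NOThreeL.Merge (MZ)
open Cfsg.Agent.ZN.ChoiceBase (cj)
open Cfsg.Agent.MinSimple.VModule (oddGen zc_le_zl)
open scoped commutatorElement

universe u

variable {G : Type u} [Group G] [Finite G] {S : Sylow 2 G} {L : Subgroup G}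

/-- `A ≤ S` minimal exact, `A ≰ O₂(P)`: `GOne` -/
theorem gOne_of_act (hc : IsCharacteristicTwoType G) (hL : IsLoc (S : Subgroup G) L)
    (hgen : L ≤ sSup {P | IsParS (S : Subgroup G) P ∧ P ≤ L}) {P A : Subgroup G}
    (hP : IsParS (S : Subgroup G) P) (hPL : P ≤ L) (hA : A ≤ (S : Subgroup G))
    (h : Mx (zl (S : Subgroup G) L) A) (hne : ¬ A ≤ o2 P) : GOne S L P A := by
  obtain ⟨P₀, A₀, h₀⟩ := exists_gOne hc hL hgen ⟨A, hA.trans hL.le, h.off⟩
  have hmov : ¬ A ≤ centralizer (zl (S : Subgroup G) P : Set G) := fun h1 =>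
    hne ((le_inf hA h1).trans (hP.inf_centralizer S hc).le)
  obtain ⟨h1, -, h3, h4, h5⟩ := exact_split hc hP hPL h₀.no h₀.comm hA h.toElemM h.exact hmov
  have hVU : zl (S : Subgroup G) P ≤ zl (S : Subgroup G) L := Star.zl_mono _ hPL
  have hF : A ⊓ centralizer (zl (S : Subgroup G) P : Set G) ≤ centralizer (zl (S : Subgroup G) L : Set G) := by
    rcases h.min _ inf_le_left h1 (inf_le_inf_left _ (centralizer_le hVU)) with h6 | h6
    · exact h6
    · exact absurd (inf_eq_left.1 h6) hmov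
  refine ⟨hP, hPL, hA, h₀.comm, h₀.no, h.off, h3, hF, h4, ?_⟩
  rw [← h5]
  exact (inf_eq_left.2 (le_centralizer_iff.1 hF)).symm

/-- **the field `gen`** : `W_i = ⟨(W_i ∩ Z)^E⟩`, `E` = the centraliser in `M₀` of the other class modules -/
theorem cm_gen (hc : IsCharacteristicTwoType G) (hL : IsLoc (S : Subgroup G) (MZ (S : Subgroup G)))
    (s : CM.Sys (S : Subgroup G) (MZ (S : Subgroup G)) (zl (S : Subgroup G) (MZ (S : Subgroup G)))
      (EE S (MZ (S : Subgroup G)))) (hmv : Mv S (MZ (S : Subgroup G)))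
    (i : {W : Subgroup G // ∃ A ∈ EE S (MZ (S : Subgroup G)),
      W = CM.WW (zl (S : Subgroup G) (MZ (S : Subgroup G))) (MZ (S : Subgroup G)) A}) :
    (i : Subgroup G) ≤ NoFF.Basic.V ((i : Subgroup G) ⊓ zc (S : Subgroup G))
      (MZ (S : Subgroup G) ⊓ centralizer {x : G | ∃ j : {W : Subgroup G // ∃ A ∈ EE S (MZ (S : Subgroup G)),
        W = CM.WW (zl (S : Subgroup G) (MZ (S : Subgroup G))) (MZ (S : Subgroup G)) A}, j ≠ i ∧
          x ∈ (j : Subgroup G)}) := by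
  obtain ⟨_, A, hA, rfl⟩ := i
  refine gen_oth hc hL s hmv hA ?_ ?_
  · rintro x ⟨⟨_, B, hB, rfl⟩, hBA, hx⟩
    exact ⟨B, hB, fun h0 => hBA (Subtype.ext h0), hx⟩
  · rintro g hg x ⟨⟨_, B, hB, rfl⟩, hBA, hx⟩
    exact ⟨⟨_, B, hB, rfl⟩, hBA, (mem_normalizer_iff.1 (s.nW B hg) x).1 hx⟩

/-- **the class modules** -/
theorem cm_of (hc : IsCharacteristicTwoType G) (hL : IsLoc (S : Subgroup G) (MZ (S : Subgroup G)))
    (s : CM.Sys (S : Subgroup G) (MZ (S : Subgroup G)) (zl (S : Subgroup G) (MZ (S : Subgroup G)))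
      (EE S (MZ (S : Subgroup G)))) (hmv : Mv S (MZ (S : Subgroup G))) :
    WideTree.CM (S : Subgroup G) (fun W : {W : Subgroup G // ∃ A ∈ EE S (MZ (S : Subgroup G)),
      W = CM.WW (zl (S : Subgroup G) (MZ (S : Subgroup G))) (MZ (S : Subgroup G)) A} => (W : Subgroup G)) := by
  classical
  set M : Subgroup G := MZ (S : Subgroup G) with hM
  set V : Subgroup G := zl (S : Subgroup G) M with hV
  have hgen : M ≤ sSup {P | IsParS (S : Subgroup G) P ∧ P ≤ M} :=
    sSup_le fun P hP => le_sSup ⟨hP, le_sSup hP⟩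
  have hne : ∀ A ∈ EE S M, CM.WW V M A ≠ ⊥ := fun A hA h0 => hA.2.ne (s.WW_eq_bot.1 h0)
  have hle : ∀ A ∈ EE S M, ∀ B ∈ EE S M, CM.WW V M A ≠ CM.WW V M B →
      A ≤ centralizer (CM.WW V M B : Set G) := by
    intro A hA B hB hAB
    have h1 : CM.WW V M B ≤ CM.CC V M A := s.le_of_ne hA hB hAB
    exact (CM.le_cl A M).trans (le_centralizer_iff.1 (h1.trans inf_le_right))
  refine
    { ne := ?_
      sup := ?_
      ind := ?_
      inv := ?_
      irr := ?_
      nS := ?_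
      one := ?_
      mvd := ?_
      off := ?_
      zero := ?_
      gen := cm_gen hc hL s hmv }
  · rintro ⟨_, A, hA, rfl⟩
    exact hne A hA
  · change (⨆ W : {W : Subgroup G // ∃ A ∈ EE S M, W = CM.WW V M A}, (W : Subgroup G)) = V
    refine le_antisymm (iSup_le ?_) ?_
    · rintro ⟨_, A, hA, rfl⟩
      exact s.WV hA
    · conv_lhs => rw [s.iSup_eq]
      refine iSup₂_le fun A hA => ?_
      exact le_iSup (fun W : {W : Subgroup G // ∃ A ∈ EE S M, W = CM.WW V M A} => (W : Subgroup G))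
        ⟨_, A, hA, rfl⟩
  · rintro ⟨_, A, hA, rfl⟩
    rw [eq_bot_iff, ← s.indep hA]
    refine inf_le_inf_left _ (iSup_le ?_)
    rintro ⟨⟨_, B, hB, rfl⟩, hBA⟩
    exact CM.Sys.le_Rest hB fun h0 => hBA (Subtype.ext h0)
  · rintro ⟨_, A, hA, rfl⟩
    exact s.nW A
  · rintro ⟨_, A, hA, rfl⟩ U hU hn hU1
    rcases s.irr hA hU hn with h1 | h1
    · exact absurd h1 hU1
    · exact h1.ge
  · rintro n hn ⟨_, A, hA, rfl⟩
    exact ⟨⟨_, _, norm_EE hn (norm_MZ hn) hA, rfl⟩, CM.conj_WW (norm_MZ hn) (norm_zl hn (norm_MZ hn)) A⟩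
  · rintro P ⟨hP, A, hAS, hMx, hAP⟩
    have hA : A ∈ EE S M := ⟨hAS, hMx⟩
    have hPM : P ≤ M := le_sSup hP
    have hodd : oddGen P ≤ CM.EA M A :=
      (odd_le_ncl hP hAS hAP).trans (NoFF.Basic.V_le fun p hp => NoFF.Basic.Z_le_V (hPM hp))
    refine ⟨⟨_, A, hA, rfl⟩, fun hcen => ?_, ?_⟩
    · -- `P` centralises `Z`
      apply hP.not_zc
      refine le_trans ?_ (centralizer_le_normalizer _)
      conv_lhs => rw [← NoFF.LinesPlug.oddGen_sup hP.le (MinSimple.Basic.not_dvd_relIndex S hP.le)]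
      refine sup_le ?_ (le_CZ S)
      have h1 : zc (S : Subgroup G) ≤ centralizer (oddGen P : Set G) := by
        intro z hz
        have hzV : z ∈ V := zc_le_zl _ _ hz
        have hzS : z ∈ centralizer ((S : Subgroup G) : Set G) :=
          mem_centralizer_iff.2 fun t ht => (mem_zc.1 hz).2.1 t ht
        obtain ⟨w, hw, c, hcc, e⟩ := s.mem_dec hA hzV
        have h2 : z ∈ V ⊓ centralizer ((S : Subgroup G) : Set G) := ⟨hzV, hzS⟩
        rw [s.fix_eq hA] at h2
        refine (sup_le ?_ ?_ : _ ≤ centralizer (oddGen P : Set G)) h2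
        · rintro x ⟨hx, hxS⟩
          have hxz : x ∈ zc (S : Subgroup G) := mem_zc_of hc hL (s.WV hA hx) hxS
          have h3 : P ≤ centralizer (zpowers x : Set G) :=
            hcen.trans (centralizer_le (by
              change zpowers x ≤ _
              rw [zpowers_le]; exact ⟨hx, hxz⟩))
          have h4 : oddGen P ≤ P := by
            conv_rhs => rw [← NoFF.LinesPlug.oddGen_sup hP.le (MinSimple.Basic.not_dvd_relIndex S hP.le)]
            exact le_sup_left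
          exact le_centralizer_iff.1 (h4.trans h3) (mem_zpowers x)
        · rintro x ⟨hx, -⟩
          exact centralizer_le hodd hx.2
      exact le_centralizer_iff.1 h1
    · rintro ⟨_, B, hB, rfl⟩ hBA g hg ho
      have h1 : CM.WW V M B ≤ CM.CC V M A := s.le_of_ne hA hB fun h0 => hBA (Subtype.ext h0.symm)
      have h2 : g ∈ oddGen P := by
        rw [MinSimple.VModule.oddGen_def]
        exact subset_closure ⟨hg, ho⟩
      exact le_centralizer_iff.1 (h1.trans inf_le_right) (hodd h2)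
  · rintro ⟨_, A, hA, rfl⟩
    refine ⟨A, hA.1, hA.2, fun h1 => hne A hA (s.WW_eq_bot_of_le hA ?_)⟩
    exact le_inf (s.WV hA) (le_centralizer_iff.1 (CM.cent_cl h1 (s.nW A)))
  · intro A hAS hMx
    refine ⟨⟨_, A, ⟨hAS, hMx⟩, rfl⟩, ?_⟩
    rintro ⟨_, B, hB, rfl⟩ hBA
    exact hle A ⟨hAS, hMx⟩ B hB fun h0 => hBA (Subtype.ext h0.symm)
  · rintro ⟨_, A, hA, rfl⟩ U hU hU1 w hw
    have h1 : NoFF.Basic.V U M ≤ CM.WW V M A := CM.cl_le (hU.trans inf_le_left) (s.nW A)
    rcases s.irr hA h1 (CM.norm_cl U M) with h2 | h2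
    · exact absurd (le_bot_iff.1 (h2 ▸ CM.le_cl U M)) hU1
    · rw [h2]; exact hw

/-- **THE CLASS MODULE THEOREM** -/
theorem cmThm : WideTree.CMThm.{u} := by
  intro G _ _ S hW hm
  have hc := hW.ctx.char2
  have hL : IsLoc (S : Subgroup G) (MZ (S : Subgroup G)) := Merge.isLoc_MZ hW.ctx hW.full hW.data.noff
  have hgen : MZ (S : Subgroup G) ≤ sSup {P | IsParS (S : Subgroup G) P ∧ P ≤ MZ (S : Subgroup G)} :=
    sSup_le fun P hP => le_sSup ⟨hP, le_sSup hP⟩
  have hmv : Mv S (MZ (S : Subgroup G)) := by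
    intro z hz hz1
    obtain ⟨P, ⟨hP, A, hA, hMx, hAP⟩, hPz⟩ := hm z hz hz1
    exact ⟨P, A, gOne_of_act hc hL hgen hP (le_sSup hP) hA hMx hAP, hPz⟩
  exact ⟨_, inferInstance, _, cm_of hc hL (sys_of hc hL hgen hmv) hmv⟩

end Cfsg.Agent.Omega.NOThreeL.RRed.CI
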