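import Cfsg.Agent.Mrg.Omega.KL.TwoZ.NF
import Cfsg.Agent.Mrg.Omega.NOThreeL.RRed.InstZ
import Cfsg.Agent.Mrg.Omega.All.Basic
import Cfsg.Agent.Lib.SL2Mat

section


/-!
# NO-3L, box R: input of the instance of 401's frame `KL.TwoZ.NF` (definition only)

`Nat1 S V` : in coordinates, `V i = F²`, `V i ∩ Z = F × 0`, one `P ∈ P*(S)` in `C_G(Z_(i+1))` acts as `SL₂(F)`; every
`R ∈ P*(S)` which moves `Z_i` centralises no element of `Z_i#`; `N_G(S)` permutes the two blocks.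
-/

set_option autoImplicit false

namespace Cfsg.Agent.Omega.NOThreeL.RRed.InstZ

open Subgroup Cfsg Cfsg.Agent.ZN Cfsg.Agent.Omega.MinPar Cfsg.Agent.Omega.Frame Cfsg.Agent.Omega.FrameNOFF
open Cfsg.Agent.Omega.Node.NO3L Cfsg.Agent.Omega.NOThreeL.Basic
open Cfsg.Agent.Omega.KL.TwoZ (NatSL ActSL)
open scoped Pointwise

universe u

variable {G : Type u} [Group G]

/-- **both blocks natural `SL₂(q_i)`-modules**, in coordinates -/
structure Nat1 [Finite G] (S : Sylow 2 G) (V : Fin 2 → Subgroup G) : Prop where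
  ex : ∀ i, ∃ (F : Type) (_ : Field F) (_ : Finite F) (e : (Fin 2 → F) → G) (P : Subgroup G),
    NatSL F e (V i) (ZZ (S : Subgroup G) V i) ∧ IsParS (S : Subgroup G) P ∧
      P ≤ centralizer (ZZ (S : Subgroup G) V (i + 1) : Set G) ∧ ActSL F e P
  mvs : ∀ i, ∀ R, IsParS (S : Subgroup G) R → ¬ R ≤ centralizer (ZZ (S : Subgroup G) V i : Set G) →
    ∀ z ∈ ZZ (S : Subgroup G) V i, z ≠ 1 → ¬ R ≤ centralizer ({z} : Set G)
  nV : ∀ n ∈ normalizer ((S : Subgroup G) : Set G), (∀ i, MulAut.conj n • V i = V i) ∨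
    ∀ i, MulAut.conj n • V i = V (i + 1)

end Cfsg.Agent.Omega.NOThreeL.RRed.InstZ

end

section


/-!
# NO-3L, box R: the instance of 401's frame `KL.TwoZ.NF` (TEXT W2, both blocks natural, no fields)

* `KZ V Z` : `{x ∈ C(Z) | [V, x] ≤ Z}`; `KZ.exists_s` : a Sylow 2-subgroup of `KZ V Z` covers `KZ V Z` modulo `C(V)`;
* `Nat1.ctr`, `Nat1.ti` : the T.I.-facts for `Z_i`;
* `Nat1.act` : every `R ∈ PP_i` acts as `SL₂(F)`;
* **`Nat1.nf`** : `KL.TwoZ.NF`.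
-/

set_option autoImplicit false
set_option linter.unusedSectionVars false
set_option linter.unusedSimpArgs false

namespace Cfsg.Agent.Omega.NOThreeL.RRed.InstZ

open Subgroup Cfsg Cfsg.Agent.ZN Cfsg.Agent.Omega.MinPar Cfsg.Agent.Omega.Frame Cfsg.Agent.Omega.FrameNOFF
open Cfsg.Agent.Omega.Node.NO3L Cfsg.Agent.Omega.NOThreeL.Basic
open Cfsg.Agent.Omega.NOThreeL.RTree (RB)
open Cfsg.Agent.Omega.KL.TwoZ (NatSL ActSL sl_fix tv tv_mulVec mulVec_two exists_sl)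
open Cfsg.Agent.Omega.OM.KTwo (ne_add_one eq_add_one add_one_add_one)
open Cfsg.Agent.ZN.ChoiceSit (Syl exists_syl syl_conj)
open Cfsg.Agent.MinSimple.MinParabolic (IsMinPar)
open Cfsg.Agent.Omega.NOThreeL.Pair (conj_eq_of_mem)
open Cfsg.Agent.Omega.NoFF.Basic (mem_conj conj_le_iff)
open scoped Pointwise Matrix

universe u

variable {G : Type u} [Group G]

/-! ### `KZ V Z` -/

/-- `{x ∈ C(Z) | [V, x] ≤ Z}` -/
def KZ (V Z : Subgroup G) : Subgroup G where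
  carrier := {x | (∀ z ∈ Z, x * z * x⁻¹ = z) ∧ ∀ v ∈ V, x * v * x⁻¹ * v⁻¹ ∈ Z}
  one_mem' := ⟨fun z _ => by simp, fun v _ => by simp⟩
  mul_mem' := by
    rintro x y ⟨hx1, hx2⟩ ⟨hy1, hy2⟩
    refine ⟨fun z hz => ?_, fun v hv => ?_⟩
    · have e : x * y * z * (x * y)⁻¹ = x * (y * z * y⁻¹) * x⁻¹ := by group
      rw [e, hy1 z hz, hx1 z hz]
    · have e : x * y * v * (x * y)⁻¹ * v⁻¹ = (x * (y * v * y⁻¹ * v⁻¹) * x⁻¹) * (x * v * x⁻¹ * v⁻¹) := by group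
      rw [e, hx1 _ (hy2 v hv)]
      exact mul_mem (hy2 v hv) (hx2 v hv)
  inv_mem' := by
    rintro x ⟨hx1, hx2⟩
    have h1 : ∀ z ∈ Z, x⁻¹ * z * x⁻¹⁻¹ = z := fun z hz => by
      conv_lhs => rw [← hx1 z hz]
      group
    refine ⟨h1, fun v hv => ?_⟩
    have h2 := h1 _ (inv_mem (hx2 v hv))
    have e : x⁻¹ * (x * v * x⁻¹ * v⁻¹)⁻¹ * x⁻¹⁻¹ = x⁻¹ * v * x⁻¹⁻¹ * v⁻¹ := by group
    rw [← e, h2]
    exact inv_mem (hx2 v hv)

theorem mem_KZ {V Z : Subgroup G} {x : G} :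
    x ∈ KZ V Z ↔ (∀ z ∈ Z, x * z * x⁻¹ = z) ∧ ∀ v ∈ V, x * v * x⁻¹ * v⁻¹ ∈ Z := Iff.rfl

section KZ

variable {V Z : Subgroup G} (hZV : Z ≤ V) (hsq : ∀ x ∈ V, x ^ 2 = 1)
include hZV hsq

theorem KZ_sq {x : G} (hx : x ∈ KZ V Z) : ∀ v ∈ V, x ^ 2 * v * (x ^ 2)⁻¹ = v := by
  intro v hv
  obtain ⟨h1, h2⟩ := mem_KZ.1 hx
  have h3 := h2 v hv
  have h4 := hsq _ (hZV h3)
  have e : x ^ 2 * v * (x ^ 2)⁻¹ = (x * (x * v * x⁻¹ * v⁻¹) * x⁻¹) * (x * v * x⁻¹ * v⁻¹) * v := by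
    rw [pow_two]; group
  rw [e, h1 _ h3, ← pow_two, h4, one_mul]

theorem KZ_comm {x y : G} (hx : x ∈ KZ V Z) (hy : y ∈ KZ V Z) :
    ∀ v ∈ V, (x * y * x⁻¹) * v * (x * y * x⁻¹)⁻¹ = y * v * y⁻¹ := by
  intro v hv
  obtain ⟨h1, h2⟩ := mem_KZ.1 hx
  obtain ⟨h3, h4⟩ := mem_KZ.1 hy
  obtain ⟨h5, h6⟩ := mem_KZ.1 ((KZ V Z).inv_mem hx)
  have hc : ∀ a ∈ V, ∀ b ∈ V, a * b = b * a := by
    intro a ha b hb
    have e1 := hsq a ha
    have e2 := hsq b hb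
    have e3 := hsq _ (mul_mem ha hb)
    have : a * b = (a * b)⁻¹ := by rw [eq_inv_iff_mul_eq_one, ← pow_two, e3]
    rw [this, mul_inv_rev]
    rw [pow_two] at e1 e2
    rw [← eq_inv_iff_mul_eq_one] at e1 e2
    rw [← e1, ← e2]
  -- `c = [x⁻¹, v]`, `d = [y, v]`
  set c := x⁻¹ * v * x⁻¹⁻¹ * v⁻¹ with hcd
  have hcZ : c ∈ Z := h6 v hv
  set d := y * v * y⁻¹ * v⁻¹ with hdd
  have hdZ : d ∈ Z := h4 v hv
  have e1 : x⁻¹ * v * x = c * v := by rw [hcd]; group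
  have e2 : y * v * y⁻¹ = d * v := by rw [hdd]; group
  have e3 : (x * y * x⁻¹) * v * (x * y * x⁻¹)⁻¹ = x * (y * (x⁻¹ * v * x) * y⁻¹) * x⁻¹ := by group
  have e4 : y * (c * v) * y⁻¹ = c * (d * v) := by
    have : y * (c * v) * y⁻¹ = (y * c * y⁻¹) * (y * v * y⁻¹) := by group
    rw [this, h3 c hcZ, e2]
  have e5 : x * (c * (d * v)) * x⁻¹ = d * (x * (c * v) * x⁻¹) := by
    have e6 : c * (d * v) = d * (c * v) := by rw [← mul_assoc, hc c (hZV hcZ) d (hZV hdZ), mul_assoc]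
    have : x * (d * (c * v)) * x⁻¹ = (x * d * x⁻¹) * (x * (c * v) * x⁻¹) := by group
    rw [e6, this, h1 d hdZ]
  have e6 : x * (c * v) * x⁻¹ = v := by rw [← e1]; group
  rw [e3, e1, e4, e5, e6, e2]

/-- an element of odd order of `KZ V Z` centralises `V` -/
theorem KZ_odd [Finite G] {x : G} (hx : x ∈ KZ V Z) (ho : Odd (orderOf x)) : ∀ v ∈ V, x * v * x⁻¹ = v := by
  obtain ⟨l, hl⟩ := ho
  have h1 : x = (x ^ 2) ^ (l + 1) := by
    rw [← pow_mul]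
    have : 2 * (l + 1) = orderOf x + 1 := by omega
    rw [this, pow_succ, pow_orderOf_eq_one, one_mul]
  have h2 : ∀ n : ℕ, ∀ v ∈ V, (x ^ 2) ^ n * v * ((x ^ 2) ^ n)⁻¹ = v := by
    intro n
    induction n with
    | zero => intro v _; simp
    | succ n ih =>
      intro v hv
      have e : (x ^ 2) ^ (n + 1) * v * ((x ^ 2) ^ (n + 1))⁻¹ =
          (x ^ 2) ^ n * (x ^ 2 * v * (x ^ 2)⁻¹) * ((x ^ 2) ^ n)⁻¹ := by
        rw [pow_succ]; group
      rw [e, KZ_sq hZV hsq hx v hv, ih v hv]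
  intro v hv
  rw [h1]
  exact h2 _ v hv

/-- **a Sylow 2-subgroup of `KZ V Z` covers it modulo `C(V)`** -/
theorem KZ_exists_s [Finite G] {T : Subgroup G} (hT : Syl T (KZ V Z)) {x : G} (hx : x ∈ KZ V Z) :
    ∃ s ∈ T, ∀ v ∈ V, x * v * x⁻¹ = s * v * s⁻¹ := by
  obtain ⟨k, m, hm, hkm⟩ := Nat.exists_eq_two_pow_mul_odd (n := orderOf x) (orderOf_pos x).ne'
  set s := x ^ m with hs
  obtain ⟨l, hl⟩ := hm
  have hsx : ∀ v ∈ V, s * v * s⁻¹ = x * v * x⁻¹ := by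
    have h2 : ∀ n : ℕ, ∀ v ∈ V, (x ^ 2) ^ n * v * ((x ^ 2) ^ n)⁻¹ = v := by
      intro n
      induction n with
      | zero => intro v _; simp
      | succ n ih =>
        intro v hv
        have e : (x ^ 2) ^ (n + 1) * v * ((x ^ 2) ^ (n + 1))⁻¹ =
            (x ^ 2) ^ n * (x ^ 2 * v * (x ^ 2)⁻¹) * ((x ^ 2) ^ n)⁻¹ := by
          rw [pow_succ]; group
        rw [e, KZ_sq hZV hsq hx v hv, ih v hv]
    intro v hv
    have e : s = x * (x ^ 2) ^ l := by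
      rw [hs, hl, ← pow_mul, pow_succ']
    have e2 : x * (x ^ 2) ^ l * v * (x * (x ^ 2) ^ l)⁻¹ = x * ((x ^ 2) ^ l * v * ((x ^ 2) ^ l)⁻¹) * x⁻¹ := by group
    rw [e, e2, h2 l v hv]
  have hs2 : IsPGroup 2 (zpowers s) := by
    have h1 : s ^ 2 ^ k = 1 := by
      rw [hs, ← pow_mul, mul_comm, ← hkm, pow_orderOf_eq_one]
    have hf : Fact (Nat.Prime 2) := ⟨Nat.prime_two⟩
    obtain ⟨n, -, hn⟩ := (Nat.dvd_prime_pow Nat.prime_two).1 (orderOf_dvd_of_pow_eq_one h1)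
    exact IsPGroup.of_card (n := n) (by rw [Nat.card_zpowers, hn])
  have hsK : s ∈ KZ V Z := pow_mem hx m
  obtain ⟨T', hT', hsT'⟩ := exists_syl hs2 (zpowers_le.2 hsK)
  obtain ⟨c, hc, hcT⟩ := syl_conj hT' hT
  refine ⟨c * s * c⁻¹, ?_, fun v hv => ?_⟩
  · rw [← hcT]
    exact ⟨s, hsT' (mem_zpowers s), rfl⟩
  · rw [KZ_comm hZV hsq hc hsK v hv, hsx v hv]

end KZ

/-! ### `R = ⟨S ^ R⟩` -/

theorem le_of_conj [Finite G] {S : Sylow 2 G} {R X : Subgroup G} (hR : IsMinPar (S : Subgroup G) R)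
    (hX : ∀ r ∈ R, ∀ t ∈ (S : Subgroup G), r * t * r⁻¹ ∈ X) : R ≤ X := by
  have hsyl := MinSimple.Basic.not_dvd_relIndex S hR.le
  set N := NoFF.Basic.V (S : Subgroup G) R with hN
  have hSN : (S : Subgroup G) ≤ N := by
    have h1 : MulAut.conj (1 : G) • (S : Subgroup G) ≤ N := NoFF.Basic.Z_le_V (one_mem R)
    rwa [map_one, one_smul] at h1
  have hNR : N ≤ R := by
    refine NoFF.Basic.V_le fun p hp x hx => ?_
    obtain ⟨y, hy, rfl⟩ := hx
    change p * y * p⁻¹ ∈ R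
    exact mul_mem (mul_mem hp (hR.le hy)) (inv_mem hp)
  have hn : R ≤ normalizer (N : Set G) := by
    have key : ∀ g ∈ R, ∀ x ∈ N, g * x * g⁻¹ ∈ N := by
      intro g hg
      have h1 : N ≤ N.comap (MulAut.conj g).toMonoidHom := by
        refine NoFF.Basic.V_le fun p hp x hx => ?_
        rw [mem_comap]
        have h2 : MulAut.conj (g * p) • (S : Subgroup G) ≤ N := NoFF.Basic.Z_le_V (mul_mem hg hp)
        apply h2
        obtain ⟨y, hy, rfl⟩ := hx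
        exact ⟨y, hy, by simp [mul_assoc]⟩
      exact fun x hx => h1 hx
    exact TC.LemZ.le_norm_of key
  have hNX : N ≤ X := by
    refine NoFF.Basic.V_le fun p hp x hx => ?_
    obtain ⟨y, hy, rfl⟩ := hx
    exact hX p hp y hy
  have hf : Fact (Nat.Prime 2) := ⟨Nat.prime_two⟩
  rcases hR.sup_eq_or_inf_le (p := 2) S.isPGroup' hsyl hNR hn with h1 | h1
  · rw [sup_eq_left.2 hSN] at h1
    rw [← h1]
    exact hNX
  · exfalso
    have h2 : (S : Subgroup G) ≤ o2 R := (le_inf le_rfl hSN).trans h1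
    have h3 : o2 R ≤ (S : Subgroup G) := MinSimple.VModule.o2_le_of_sylow S.isPGroup' hsyl
    have h4 := le_antisymm h2 h3
    apply hR.not_le
    rw [h4]
    exact MinSimple.VModule.le_normalizer_o2 R

/-! ### Subgroups of `SL₂(F)` -/

open Cfsg.Agent.Lib.SL2Mat (ent up lo)

/-- a subgroup of `SL₂(F)` which contains all `up b` and moves the point `(1, 0)` is everything -/
theorem sl_top {F : Type} [Field F] {Γ : Subgroup (Matrix.SpecialLinearGroup (Fin 2) F)}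
    (hu : ∀ b, up b ∈ Γ) {M : Matrix.SpecialLinearGroup (Fin 2) F} (hM : M ∈ Γ) (hc : ent M 1 0 ≠ 0) : Γ = ⊤ := by
  -- `lo c ∈ Γ`
  have key : ∀ M' : Matrix.SpecialLinearGroup (Fin 2) F, M' ∈ Γ → ent M' 1 0 ≠ 0 → lo (ent M' 1 0) ∈ Γ := by
    intro M' hM' hc'
    have h1 := Lib.SL2Mat.eq_up_lo_up M' hc'
    set a := up ((ent M' 0 0 - 1) / ent M' 1 0)
    set b := up ((ent M' 1 1 - 1) / ent M' 1 0)
    have h2 : lo (ent M' 1 0) = a⁻¹ * M' * b⁻¹ := by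
      rw [eq_mul_inv_iff_mul_eq, eq_inv_mul_iff_mul_eq, ← mul_assoc]
      exact h1.symm
    rw [h2]
    exact mul_mem (mul_mem (inv_mem (hu _)) hM') (inv_mem (hu _))
  set c := ent M 1 0 with hcd
  have hlc : lo c ∈ Γ := key M hM hc
  -- `w`, then all `lo b`
  have hlo : ∀ b, lo b ∈ Γ := by
    intro b
    by_cases hb : b = 0
    · rw [hb, Lib.SL2Mat.lo_zero]; exact one_mem _
    -- `w = up (-1/c) * lo c * up (-1/c)` has rows `0, -1/c` and `c, 0`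
    set w := up (-c⁻¹) * lo c * up (-c⁻¹) with hw
    have hwΓ : w ∈ Γ := mul_mem (mul_mem (hu _) hlc) (hu _)
    have w00 : ent w 0 0 = 0 := by
      rw [hw]; simp only [Lib.SL2Mat.ent_mul, Lib.SL2Mat.up_00, Lib.SL2Mat.up_01, Lib.SL2Mat.up_10,
        Lib.SL2Mat.up_11, Lib.SL2Mat.lo_00, Lib.SL2Mat.lo_01, Lib.SL2Mat.lo_10, Lib.SL2Mat.lo_11]
      field_simp; ring
    have w01 : ent w 0 1 = -c⁻¹ := by
      rw [hw]; simp only [Lib.SL2Mat.ent_mul, Lib.SL2Mat.up_00, Lib.SL2Mat.up_01, Lib.SL2Mat.up_10,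
        Lib.SL2Mat.up_11, Lib.SL2Mat.lo_00, Lib.SL2Mat.lo_01, Lib.SL2Mat.lo_10, Lib.SL2Mat.lo_11]
      field_simp; ring
    have w10 : ent w 1 0 = c := by
      rw [hw]; simp only [Lib.SL2Mat.ent_mul, Lib.SL2Mat.up_00, Lib.SL2Mat.up_01, Lib.SL2Mat.up_10,
        Lib.SL2Mat.up_11, Lib.SL2Mat.lo_00, Lib.SL2Mat.lo_01, Lib.SL2Mat.lo_10, Lib.SL2Mat.lo_11]
      ring
    have w11 : ent w 1 1 = 0 := by
      rw [hw]; simp only [Lib.SL2Mat.ent_mul, Lib.SL2Mat.up_00, Lib.SL2Mat.up_01, Lib.SL2Mat.up_10,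
        Lib.SL2Mat.up_11, Lib.SL2Mat.lo_00, Lib.SL2Mat.lo_01, Lib.SL2Mat.lo_10, Lib.SL2Mat.lo_11]
      field_simp; ring
    -- `w up(x) w⁻¹ = lo (-c² x)`
    have h1 : ∀ x, w * up x = lo (-(c ^ 2 * x)) * w := by
      intro x
      refine Lib.SL2Mat.ext_ent ?_ ?_ ?_ ?_ <;>
        simp only [Lib.SL2Mat.ent_mul, Lib.SL2Mat.up_00, Lib.SL2Mat.up_01, Lib.SL2Mat.up_10,
          Lib.SL2Mat.up_11, Lib.SL2Mat.lo_00, Lib.SL2Mat.lo_01, Lib.SL2Mat.lo_10, Lib.SL2Mat.lo_11,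
          w00, w01, w10, w11]
      · ring
      · ring
      · ring
      · field_simp
    have h2 : lo b = w * up (-(b / c ^ 2)) * w⁻¹ := by
      rw [h1, mul_inv_cancel_right]
      congr 1
      field_simp
    rw [h2]
    exact mul_mem (mul_mem hwΓ (hu _)) (inv_mem hwΓ)
  rw [eq_top_iff]
  intro x _
  obtain ⟨a, b, c', d, rfl⟩ := Lib.SL2Mat.exists_up_lo x
  exact mul_mem (mul_mem (mul_mem (hu _) (hlo _)) (hu _)) (hlo _)

/-! ### The action on `V` -/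

theorem KZ_conj {V Z : Subgroup G} {g t : G} (hV : g ∈ normalizer (V : Set G)) (hZ : g ∈ normalizer (Z : Set G))
    (ht : t ∈ KZ V Z) : g * t * g⁻¹ ∈ KZ V Z := by
  obtain ⟨h1, h2⟩ := mem_KZ.1 ht
  refine mem_KZ.2 ⟨fun z hz => ?_, fun v hv => ?_⟩
  · have h3 : g⁻¹ * z * g ∈ Z := by
      have := (mem_normalizer_iff.1 (inv_mem hZ) z).1 hz
      rwa [inv_inv] at this
    have e : g * t * g⁻¹ * z * (g * t * g⁻¹)⁻¹ = g * (t * (g⁻¹ * z * g) * t⁻¹) * g⁻¹ := by group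
    rw [e, h1 _ h3]; group
  · have h3 : g⁻¹ * v * g ∈ V := by
      have := (mem_normalizer_iff.1 (inv_mem hV) v).1 hv
      rwa [inv_inv] at this
    have e : g * t * g⁻¹ * v * (g * t * g⁻¹)⁻¹ * v⁻¹ =
        g * (t * (g⁻¹ * v * g) * t⁻¹ * (g⁻¹ * v * g)⁻¹) * g⁻¹ := by group
    rw [e]
    exact (mem_normalizer_iff.1 hZ _).1 (h2 _ h3)

/-- the elements which act on `V` as `SL₂(F)` -/
def LinS (F : Type) [Field F] (e : (Fin 2 → F) → G) : Subgroup G where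
  carrier := {g | ∃ M : Matrix.SpecialLinearGroup (Fin 2) F, ∀ v, g * e v * g⁻¹ = e (M.1 *ᵥ v)}
  one_mem' := ⟨1, fun v => by simp⟩
  mul_mem' := by
    rintro x y ⟨M, hM⟩ ⟨M', hM'⟩
    refine ⟨M * M', fun v => ?_⟩
    have e1 : x * y * e v * (x * y)⁻¹ = x * (y * e v * y⁻¹) * x⁻¹ := by group
    rw [e1, hM', hM, Matrix.mulVec_mulVec]
    rfl
  inv_mem' := by
    rintro x ⟨M, hM⟩
    refine ⟨M⁻¹, fun v => ?_⟩
    have h1 := hM ((M⁻¹).1 *ᵥ v)
    rw [Matrix.mulVec_mulVec] at h1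
    have h2 : M.1 * (M⁻¹).1 = 1 := by
      have := congrArg Subtype.val (mul_inv_cancel M)
      exact this
    rw [h2, Matrix.one_mulVec] at h1
    rw [← h1]; group

theorem mem_LinS {F : Type} [Field F] {e : (Fin 2 → F) → G} {g : G} :
    g ∈ LinS F e ↔ ∃ M : Matrix.SpecialLinearGroup (Fin 2) F, ∀ v, g * e v * g⁻¹ = e (M.1 *ᵥ v) := Iff.rfl

/-- the image of `R` in `SL₂(F)` -/
def imS {F : Type} [Field F] (e : (Fin 2 → F) → G) (R : Subgroup G) :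
    Subgroup (Matrix.SpecialLinearGroup (Fin 2) F) where
  carrier := {M | ∃ r ∈ R, ∀ v, r * e v * r⁻¹ = e (M.1 *ᵥ v)}
  one_mem' := ⟨1, one_mem _, fun v => by simp⟩
  mul_mem' := by
    rintro M M' ⟨x, hx, hM⟩ ⟨y, hy, hM'⟩
    refine ⟨x * y, mul_mem hx hy, fun v => ?_⟩
    have e1 : x * y * e v * (x * y)⁻¹ = x * (y * e v * y⁻¹) * x⁻¹ := by group
    rw [e1, hM', hM, Matrix.mulVec_mulVec]
    rfl
  inv_mem' := by
    rintro M ⟨x, hx, hM⟩
    refine ⟨x⁻¹, inv_mem hx, fun v => ?_⟩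
    have h1 := hM ((M⁻¹).1 *ᵥ v)
    rw [Matrix.mulVec_mulVec] at h1
    have h2 : M.1 * (M⁻¹).1 = 1 := by
      have := congrArg Subtype.val (mul_inv_cancel M)
      exact this
    rw [h2, Matrix.one_mulVec] at h1
    rw [← h1]; group

theorem mem_imS {F : Type} [Field F] {e : (Fin 2 → F) → G} {R : Subgroup G}
    {M : Matrix.SpecialLinearGroup (Fin 2) F} : M ∈ imS e R ↔ ∃ r ∈ R, ∀ v, r * e v * r⁻¹ = e (M.1 *ᵥ v) := Iff.rfl

theorem tmat {F : Type} [Field F] {e : (Fin 2 → F) → G} {V Z R : Subgroup G} (hN : NatSL F e V Z)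
    (hA : ActSL F e R) {t : G} (ht : t ∈ R) (htZ : ∀ z ∈ Z, t * z * t⁻¹ = z) :
    ∃ b : F, ∀ v, t * e v * t⁻¹ = e ![v 0 + b * v 1, v 1] := by
  obtain ⟨M, hM⟩ := hA.1 t ht
  refine ⟨M.1 0 1, fun v => ?_⟩
  rw [hM]
  congr 1
  refine sl_fix (hN.inj ?_) v
  rw [← hM]
  exact htZ _ (hN.mem_Z.2 rfl)

theorem mem_KZ_of_tv {F : Type} [Field F] {e : (Fin 2 → F) → G} {V Z : Subgroup G} (hN : NatSL F e V Z)
    {t : G} {b : F} (ht : ∀ v, t * e v * t⁻¹ = e ![v 0 + b * v 1, v 1]) : t ∈ KZ V Z := by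
  refine mem_KZ.2 ⟨fun z hz => ?_, fun v hv => ?_⟩
  · obtain ⟨a, rfl⟩ := (hN.pt z).1 hz
    rw [ht]
    congr 1
    ext j
    fin_cases j <;> simp
  · obtain ⟨w, rfl⟩ := (hN.mem v).1 hv
    rw [ht, ← hN.map_sub, hN.mem_Z]
    simp

/-! ### The instance -/

namespace Nat1

variable [Finite G] {S : Sylow 2 G} {V : Fin 2 → Subgroup G} (N : Nat1 S V) (s : Spl S V) (h : RB S)

include N s h

theorem S_le_KZ (i : Fin 2) : (S : Subgroup G) ≤ KZ (V i) (ZZ (S : Subgroup G) V i) := by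
  obtain ⟨F, _, _, e, P, hN, hP, -, hA⟩ := N.ex i
  intro t ht
  have h1 : ∀ z ∈ ZZ (S : Subgroup G) V i, t * z * t⁻¹ = z := by
    intro z hz
    have := mem_centralizer_iff.1 (Spl.S_le_cent V i ht) z hz
    rw [← this]; group
  obtain ⟨b, hb⟩ := tmat hN hA (hP.le ht) h1
  exact mem_KZ_of_tv hN hb

theorem sylKZ (i : Fin 2) : Syl (S : Subgroup G) (KZ (V i) (ZZ (S : Subgroup G) V i)) :=
  ⟨N.S_le_KZ s h i, S.isPGroup', fun _ _ hQ2 hQ => S.is_maximal' hQ2 hQ⟩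

theorem nrm {n : G} (hn : n ∈ normalizer ((S : Subgroup G) : Set G)) :
    (∀ i, MulAut.conj n • ZZ (S : Subgroup G) V i = ZZ (S : Subgroup G) V i ∧ MulAut.conj n • V i = V i) ∨
      ∀ i, MulAut.conj n • ZZ (S : Subgroup G) V i = ZZ (S : Subgroup G) V (i + 1) ∧
        MulAut.conj n • V i = V (i + 1) := by
  have h1 := conj_eq_of_mem (MinSimple.VModule.normalizer_le_normalizer_zc _ hn)
  rcases N.nV n hn with h2 | h2
  · left
    intro i
    refine ⟨?_, h2 i⟩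
    change MulAut.conj n • (V i ⊓ zc (S : Subgroup G)) = V i ⊓ zc (S : Subgroup G)
    rw [Subgroup.smul_inf, h1, h2 i]
  · right
    intro i
    refine ⟨?_, h2 i⟩
    change MulAut.conj n • (V i ⊓ zc (S : Subgroup G)) = V (i + 1) ⊓ zc (S : Subgroup G)
    rw [Subgroup.smul_inf, h1, h2 i]

/-- an element of `N_G(S)` which moves `x ∈ Z_i#` into `Z_i` normalises `Z_i` -/
theorem nrm_of {i : Fin 2} {n x : G} (hn : n ∈ normalizer ((S : Subgroup G) : Set G))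
    (hx : x ∈ ZZ (S : Subgroup G) V i) (hx1 : x ≠ 1) (hnx : n * x * n⁻¹ ∈ ZZ (S : Subgroup G) V i) :
    MulAut.conj n • ZZ (S : Subgroup G) V i = ZZ (S : Subgroup G) V i := by
  rcases N.nrm s h hn with h2 | h2
  · exact (h2 i).1
  · exfalso
    have h3 : n * x * n⁻¹ ∈ V (i + 1) := by
      rw [← (h2 i).2]
      exact ⟨x, hx.1, rfl⟩
    have h4 : n * x * n⁻¹ ∈ V i ⊓ V (i + 1) := ⟨hnx.1, h3⟩
    rw [s.inf_eq (ne_add_one i), mem_bot] at h4
    apply hx1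
    have e : x = n⁻¹ * (n * x * n⁻¹) * n := by group
    rw [e, h4]; group

/-- **`C_G(m) ≤ N_G(Z_i)`**, `m ∈ Z_i#` -/
theorem ctr (i : Fin 2) {m : G} (hm : m ∈ ZZ (S : Subgroup G) V i) (hm1 : m ≠ 1) :
    centralizer ({m} : Set G) ≤ normalizer (ZZ (S : Subgroup G) V i : Set G) := by
  have hSm : (S : Subgroup G) ≤ centralizer ({m} : Set G) := by
    refine (Spl.S_le_cent V i).trans (centralizer_le ?_)
    rw [Set.singleton_subset_iff]; exact hm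
  refine MinSimple.MinParabolic.le_of_forall hSm ?_ fun R hR hRm => ?_
  · rintro n ⟨hn, hnS⟩
    have h1 : n * m * n⁻¹ = m := by
      have := mem_centralizer_singleton_iff.1 hn
      rw [this]; group
    have h2 := N.nrm_of s h hnS hm hm1 (by rw [h1]; exact hm)
    rw [mem_normalizer_iff]
    intro x
    conv_rhs => rw [← h2, mem_conj]
    have e : n⁻¹ * (n * x * n⁻¹) * n = x := by group
    rw [e]
  · have hmz : (zpowers m : Subgroup G) ≤ zc (S : Subgroup G) := zpowers_le.2 hm.2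
    have hml : IsLoc (S : Subgroup G) (centralizer ({m} : Set G)) := by
      refine isLoc_of_le_normalizer (U := zpowers m) S hSm
        (S.isPGroup'.to_le (hmz.trans (MinSimple.VModule.zc_le _))) ?_ ?_
      · rw [Ne, zpowers_eq_bot]; exact hm1
      · have h1 : centralizer ({m} : Set G) ≤ centralizer (zpowers m : Set G) := by
          intro x hx
          rw [mem_centralizer_iff]
          rintro y ⟨k, rfl⟩
          have h2 : Commute x m := mem_centralizer_singleton_iff.1 hx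
          exact (h2.zpow_right k).symm.eq
        exact h1.trans (centralizer_le_normalizer _)
    have h1 : IsPar (S : Subgroup G) R := ⟨hR, (hml.of_le S hR.le hRm).o2_ne⟩
    by_cases h2 : IsParS (S : Subgroup G) R
    · by_contra h3
      refine N.mvs i R h2 (fun h4 => h3 (h4.trans (centralizer_le_normalizer _))) m hm hm1 hRm
    · exact ((par_le_CZ S h1 h2).trans (centralizer_le inf_le_right)).trans (centralizer_le_normalizer _)

/-- **T.I.** -/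
theorem ti (i : Fin 2) {g x : G} (hx : x ∈ ZZ (S : Subgroup G) V i) (hx1 : x ≠ 1)
    (hgx : g * x * g⁻¹ ∈ ZZ (S : Subgroup G) V i) : g ∈ normalizer (ZZ (S : Subgroup G) V i : Set G) := by
  obtain ⟨n, hn, h1⟩ := Cfsg.Agent.Omega.All.HOne.burnside S hx.2 hgx.2 rfl
  have h2 := N.nrm_of s h hn hx hx1 (by rw [h1]; exact hgx)
  have hnZ : n ∈ normalizer (ZZ (S : Subgroup G) V i : Set G) := by
    rw [mem_normalizer_iff]
    intro y
    conv_rhs => rw [← h2, mem_conj]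
    have e : n⁻¹ * (n * y * n⁻¹) * n = y := by group
    rw [e]
  have h3 : n⁻¹ * g ∈ centralizer ({x} : Set G) := by
    rw [mem_centralizer_singleton_iff]
    have e : n⁻¹ * g * x = n⁻¹ * (g * x * g⁻¹) * g := by group
    rw [e, ← h1]; group
  have h4 := mul_mem hnZ (N.ctr s h i hx hx1 h3)
  rwa [mul_inv_cancel_left] at h4

/-- **every `R ∈ PP_i` acts as `SL₂(F)`** -/
theorem act {i : Fin 2} {F : Type} [Field F] {e : (Fin 2 → F) → G} {P : Subgroup G}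
    (hN : NatSL F e (V i) (ZZ (S : Subgroup G) V i)) (hSP : (S : Subgroup G) ≤ P) (hA : ActSL F e P)
    {R : Subgroup G} (hR : IsMinPar (S : Subgroup G) R) (hRV : R ≤ normalizer (V i : Set G))
    (hRi : ¬ R ≤ centralizer (ZZ (S : Subgroup G) V i : Set G)) : ActSL F e R := by
  have hZV : ZZ (S : Subgroup G) V i ≤ V i := inf_le_left
  have hsq := s.sq h i
  have hPL : P ≤ LinS F e := hA.1
  have hPV : ∀ p ∈ P, ∀ v ∈ V i, p * v * p⁻¹ ∈ V i := by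
    intro p hp v hv
    obtain ⟨w, rfl⟩ := (hN.mem v).1 hv
    obtain ⟨M, hM⟩ := hA.1 p hp
    rw [hM]; exact hN.mem_V _
  have hPN : P ≤ normalizer (V i : Set G) := TC.LemZ.le_norm_of hPV
  -- (a)
  have hRL : R ≤ LinS F e := by
    refine le_of_conj hR fun r hr t ht => ?_
    set x := e ![1, 0] with hx
    have hxZ : x ∈ ZZ (S : Subgroup G) V i := hN.mem_Z.2 rfl
    have hx1 : x ≠ 1 := by
      intro h1
      have := congrFun (hN.eq_one.1 h1) 0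
      simp at this
    have h1 : r * x * r⁻¹ ∈ V i := (mem_normalizer_iff.1 (hRV hr) x).1 (hZV hxZ)
    obtain ⟨w, hw⟩ := (hN.mem _).1 h1
    have hw0 : w ≠ 0 := by
      intro h2
      rw [h2, hN.map_zero] at hw
      apply hx1
      have e1 : x = r⁻¹ * (r * x * r⁻¹) * r := by group
      rw [e1, ← hw]; group
    obtain ⟨M, hM⟩ := exists_sl hw0
    obtain ⟨p, hp, hpM⟩ := hA.2 M
    have h2 : (p * r) * x * (p * r)⁻¹ ∈ ZZ (S : Subgroup G) V i := by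
      have e1 : (p * r) * x * (p * r)⁻¹ = p * (r * x * r⁻¹) * p⁻¹ := by group
      rw [e1, ← hw, hpM, hM]
      exact hxZ
    have h3 := N.ti s h i hxZ hx1 h2
    have h4 : p * r ∈ normalizer (V i : Set G) := mul_mem (hPN hp) (hRV hr)
    have h5 := KZ_conj h4 h3 (N.S_le_KZ s h i ht)
    obtain ⟨t', ht', h6⟩ := KZ_exists_s hZV hsq (N.sylKZ s h i) h5
    obtain ⟨M', hM'⟩ := hA.1 t' (hSP ht')
    have h7 : (p * r) * t * (p * r)⁻¹ ∈ LinS F e := by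
      refine mem_LinS.2 ⟨M', fun v => ?_⟩
      rw [h6 _ (hN.mem_V v), hM']
    have e1 : r * t * r⁻¹ = p⁻¹ * ((p * r) * t * (p * r)⁻¹) * p := by group
    rw [e1]
    exact mul_mem (mul_mem (inv_mem (hPL hp)) h7) (hPL hp)
  refine ⟨fun r hr => hRL hr, ?_⟩
  -- (b)
  have hup : ∀ b, up b ∈ imS e R := by
    intro b
    obtain ⟨r, hr, hrM⟩ := hA.2 (tv b)
    simp only [tv_mulVec] at hrM
    obtain ⟨t, ht, h1⟩ := KZ_exists_s hZV hsq (N.sylKZ s h i) (mem_KZ_of_tv hN hrM)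
    refine mem_imS.2 ⟨t, hR.le ht, fun v => ?_⟩
    rw [← h1 _ (hN.mem_V v), hrM, ← tv_mulVec]
    rfl
  obtain ⟨M, hM, hM0⟩ : ∃ M ∈ imS e R, ent M 1 0 ≠ 0 := by
    by_contra hcon
    push Not at hcon
    have h1 : R ≤ normalizer (ZZ (S : Subgroup G) V i : Set G) := by
      refine TC.LemZ.le_norm_of fun r hr z hz => ?_
      obtain ⟨a, rfl⟩ := (hN.pt z).1 hz
      obtain ⟨M, hM⟩ := mem_LinS.1 (hRL hr)
      have h2 : M.1 1 0 = 0 := hcon M (mem_imS.2 ⟨r, hr, hM⟩)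
      rw [hM, hN.mem_Z, mulVec_two]
      simp [h2]
    apply hRi
    refine le_of_conj hR fun r hr t ht => ?_
    rw [mem_centralizer_iff]
    intro z hz
    have h2 : r⁻¹ * z * r ∈ ZZ (S : Subgroup G) V i := by
      have := (mem_normalizer_iff.1 (inv_mem (h1 hr)) z).1 hz
      rwa [inv_inv] at this
    have h3 := mem_centralizer_iff.1 (Spl.S_le_cent V i ht) _ h2
    have e1 : z * (r * t * r⁻¹) = r * ((r⁻¹ * z * r) * t) * r⁻¹ := by group
    rw [e1, h3]; group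
  have htop := sl_top hup hM hM0
  intro M'
  have h1 : M' ∈ imS e R := by rw [htop]; exact mem_top _
  exact h1

/-- **the instance of 401's frame** -/
theorem nf
    (hn : NonLoc (centralizer (ZZ (S : Subgroup G) V 0 : Set G)) (centralizer (ZZ (S : Subgroup G) V 1 : Set G))) :
    KL.TwoZ.NF (S : Subgroup G) V (ZZ (S : Subgroup G) V) where
  toFr := by
    refine s.fr h (fun i j _ R hR hj hi z hz hz1 => N.mvs i R (s.parS h i j hR hj hi) hi z hz hz1)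
      (fun i j hij R hR hj hi g hg ho => ?_) hn
    have hRV := (s.gf h).uni i j hij R hR hj hi j
    have h1 : R ≤ KZ (V j) (ZZ (S : Subgroup G) V j) := by
      refine le_of_conj hR fun r hr t ht => ?_
      exact KZ_conj (hRV hr) (centralizer_le_normalizer _ (hj hr)) (N.S_le_KZ s h j ht)
    have h2 := KZ_odd (inf_le_left : ZZ (S : Subgroup G) V j ≤ V j) (s.sq h j) (h1 hg) ho
    rw [mem_centralizer_iff]
    intro v hv
    have h3 := h2 v hv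
    exact (mul_inv_eq_iff_eq_mul.1 h3).symm
  sylG := ⟨le_top, S.isPGroup', fun _ _ hQ2 hQ => S.is_maximal' hQ2 hQ⟩
  ctr i m hm hm1 := N.ctr s h i hm hm1
  nrm _ hn' := N.nrm s h hn'
  nat i := by
    obtain ⟨F, hF, hF', e, P, hN, hP, -, hA⟩ := N.ex i
    refine ⟨F, hF, hF', e, hN, fun j hj R hR hRj hRi => ?_⟩
    exact N.act s h hN hP.le hA hR ((s.gf h).uni i j (Ne.symm hj) R hR hRj hRi i) hRi

end Nat1

end Cfsg.Agent.Omega.NOThreeL.RRed.InstZ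

end
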