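import Cfsg.Agent.Mrg.Omega.NOThreeL.RRed.FourTwoO
import Cfsg.Agent.Mrg.Omega.NOThreeL.RLev.Chain
import Cfsg.Agent.Mrg.Omega.SQ1.Choice
import Cfsg.Agent.Mrg.Omega.NOThreeL.RRed.FourTree
import Cfsg.Agent.Mrg.Omega.NOThreeL.RRed.AtomTv
import Cfsg.Agent.Mrg.Omega.NOThreeL.RRed.Nat1Def
import Cfsg.Agent.Mrg.Omega.NOThreeL.RRed.Blk.SplitAll
import Cfsg.Agent.Mrg.Omega.F4.Split
import Cfsg.Agent.Mrg.Omega.NOThreeL.VF.Nat
import Cfsg.Agent.Mrg.Omega.NOThreeL.RRed.ClassMod
import Cfsg.Agent.Mrg.Omega.VP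
import Cfsg.Agent.Mrg.Omega.SQT.NoThree
import Cfsg.Agent.Mrg.Omega.SQT.Main
import Cfsg.Agent.Mrg.Omega.SQT.Rank

section


/-!
# NO-3L, box R, `FourOf`: LEMMA HJ (helper33 #24413): a level which moves `V*` moves all blocks or there is no (K2)

`Dec S M V N E ⊥`; `J` a level (`Lev S J`), `J ≤ ⨆ E b`, `J ≰ C(V)`:

* `mv_trans` : `S` transitive on the blocks: `J` moves every block;
* `mv_k2` : two orbits (`TwoO`) and some (K2) in `P*(S)`: `J` moves every block;
* `best_of_AA`, `best_sub` : members of `A(S)`, and best offenders on `X ≥ V*`, are best offenders on `V*`;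
* `hypJ_trans`, **`noK2`** : for 813's `HypJ`.
-/

set_option autoImplicit false
set_option linter.unusedSectionVars false

namespace Cfsg.Agent.Omega.NOThreeL.RRed.FourNoK2

open Subgroup Cfsg Cfsg.Agent.ZN Cfsg.Agent.Omega.MinPar Cfsg.Agent.Omega.Frame Cfsg.Agent.Omega.FrameNOFF
open Cfsg.Agent.Omega.Node.NO3L Cfsg.Agent.Omega.NOThreeL.Basic Cfsg.Agent.Omega.NOThreeL.RTree
open Cfsg.Agent.Omega.NOThreeL.Merge (MZ le_MZ S_le_MZ)
open Cfsg.Agent.Omega.NO3S.Level (Lev)
open Cfsg.Agent.Omega.NO1.BestOff (Best)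
open Cfsg.Agent.Omega.FFThm (ElemM OffM NoOverM)
open Cfsg.Agent.Omega.NOThreeL.RRed.TvFin (Full)
open Cfsg.Agent.Omega.NOThreeL.RRed.FourTree
open Cfsg.Agent.Omega.NOThreeL.RRed.FourTwoO
open Cfsg.Agent.Omega.NOThreeL.RRed.Blk
open Cfsg.Agent.PLocal.ElemAbSup
open Cfsg.Agent.PLocal.ThompsonJ
open Cfsg.Agent.ZN.ChoiceBase (AA)
open Cfsg.Agent.Omega.SQ1.Bau (mem_AA_of_comm elem_comm elem_sq card_sup_comm)
open scoped Pointwise

universe u v

variable {G : Type u} [Group G]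

section mv

variable {ι : Type v} {J : Subgroup G} {N : ι → Subgroup G}

theorem cent_conj {g : G} (hg : g ∈ normalizer (J : Set G)) {b c : ι} (e : MulAut.conj g • N b = N c)
    (h : J ≤ centralizer (N b : Set G)) : J ≤ centralizer (N c : Set G) := by
  intro x hx
  refine mem_centralizer_iff.2 fun y hy => ?_
  have h1 : g⁻¹ * x * g ∈ J := by
    have := conj_of (inv_mem hg) hx
    simpa using this
  have h2 : g⁻¹ * y * g ∈ N b := by
    rw [conj_smul e]
    have e1 : g * (g⁻¹ * y * g) * g⁻¹ = y := by group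
    rw [e1]; exact hy
  have h3 := mem_centralizer_iff.1 (h h1) _ h2
  calc y * x = g * ((g⁻¹ * y * g) * (g⁻¹ * x * g)) * g⁻¹ := by group
    _ = x * y := by rw [h3]; group

variable [Finite ι] [Finite G] {S : Sylow 2 G} {M V : Subgroup G} {E : ι → Subgroup G}

theorem exists_mv_blk (D : Dec (S : Subgroup G) M V N E ⊥) (hJ : ¬ J ≤ centralizer (V : Set G)) :
    ∃ b, ¬ J ≤ centralizer (N b : Set G) := by
  by_contra hcon
  push Not at hcon
  apply hJ
  rw [← D.sup, sup_bot_eq, le_centralizer_iff]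
  refine iSup_le fun b => ?_
  rw [← le_centralizer_iff]
  exact hcon b

/-- `S` transitive on the blocks -/
theorem mv_trans (D : Dec (S : Subgroup G) M V N E ⊥) (hJS : (S : Subgroup G) ≤ normalizer (J : Set G))
    (hJ : ¬ J ≤ centralizer (V : Set G)) (htr : ∀ b c, ∃ s ∈ (S : Subgroup G), MulAut.conj s • N b = N c) (b : ι) :
    ¬ J ≤ centralizer (N b : Set G) := by
  obtain ⟨c, hc⟩ := exists_mv_blk D hJ
  intro h
  obtain ⟨s, hs, e⟩ := htr b c
  exact hc (cent_conj (hJS hs) e h)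

variable {z : ι → G} {O : Fin 2 → Set ι} {v : Fin 2 → G}

/-- a (K2) which leaves `O i` invariant fixes `v i` -/
theorem fix_of_inv (t : TwoO S M V N E ⊥ z O v) {i : Fin 2} {r : G} (hr : r ∈ M)
    (hn : r ∈ normalizer (((S : Subgroup G) ⊓ ⨆ b, E b : Subgroup G) : Set G))
    (hi : ∀ b c, MulAut.conj r • N b = N c → (b ∈ O i ↔ c ∈ O i)) : r * v i * r⁻¹ = v i := by
  have hVN := t.VN i
  have h0 : r * v i * r⁻¹ ∈ ⨆ b, N b := by
    have h1 : MulAut.conj r • (⨆ b, N b) ≤ ⨆ b, N b := by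
      rw [show MulAut.conj r • (⨆ b, N b) = ⨆ b, MulAut.conj r • N b from Subgroup.map_iSup _ _]
      refine iSup_le fun b => ?_
      obtain ⟨c, hc, _⟩ := t.dec.perm r hr b
      rw [hc]; exact le_iSup N c
    exact h1 ((conj_smul rfl).1 (hVN (t.vV i)))
  refine t.dec.ext h0 (hVN (t.vV i)) fun c => ?_
  obtain ⟨b, hb, _⟩ := t.dec.ex_pre hr c
  by_cases hc : c ∈ O i
  · have hbi : b ∈ O i := (hi b c hb).2 hc
    have h1 := t.dec.comp_conj hr hb (t.comp i hbi)
    rw [t.dec.k2 t.one hr hn hb] at h1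
    exact ⟨_, h1, t.comp i hc⟩
  · have hbi : b ∉ O i := fun h => hc ((hi b c hb).1 h)
    have h1 := t.dec.comp_conj hr hb (t.comp' i hbi)
    rw [mul_one, mul_inv_cancel] at h1
    exact ⟨_, h1, t.comp' i hc⟩

/-- two orbits, `R` is (K2), normalises `J` and moves `v 0` or `v 1` -/
theorem mv_two (t : TwoO S M V N E ⊥ z O v) (hJS : (S : Subgroup G) ≤ normalizer (J : Set G))
    (hJ : ¬ J ≤ centralizer (V : Set G)) {R : Subgroup G} (hRM : R ≤ M)
    (hRJ : R ≤ normalizer (J : Set G)) (hn : R ≤ normalizer (((S : Subgroup G) ⊓ ⨆ b, E b : Subgroup G) : Set G))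
    (hR : ¬ ∀ r ∈ R, ∀ i, r * v i * r⁻¹ = v i) (b : ι) : ¬ J ≤ centralizer (N b : Set G) := by
  intro hb
  apply hR
  have f2 : ∀ k : Fin 2, k = 0 ∨ k = 1 := by decide
  -- an orbit is moved or not
  have horb : ∀ i, ∀ b ∈ O i, ∀ c ∈ O i, J ≤ centralizer (N b : Set G) → J ≤ centralizer (N c : Set G) := by
    intro i b hb c hc h
    obtain ⟨s, hs, e⟩ := (t.orb i).tr b hb c hc
    exact cent_conj (hJS hs) e h
  obtain ⟨d, hd⟩ := exists_mv_blk t.dec hJ
  -- `O i` is the set of the blocks which are moved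
  have key : ∃ i j : Fin 2, i ≠ j ∧ (∀ c, c ∈ O i ↔ ¬ J ≤ centralizer (N c : Set G)) := by
    have h1 : ∀ i j : Fin 2, i ≠ j → d ∈ O i → ∃ i j : Fin 2, i ≠ j ∧
        (∀ c, c ∈ O i ↔ ¬ J ≤ centralizer (N c : Set G)) := by
      intro i j hij hdi
      refine ⟨i, j, hij, fun c => ⟨fun hc h => hd (horb i c hc d hdi h), fun hc => ?_⟩⟩
      by_contra hci
      have hcj : c ∈ O j := (t.mem_or hij c).resolve_left hci
      have hbj : b ∈ O j := (t.mem_or hij b).resolve_left fun hbi => hd (horb i b hbi d hdi hb)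
      exact hc (horb j b hbj c hcj hb)
    rcases t.cov d with h | h
    · exact h1 0 1 (by decide) h
    · exact h1 1 0 (by decide) h
  obtain ⟨i, j, hij, hO⟩ := key
  have hinv : ∀ r ∈ R, ∀ b c, MulAut.conj r • N b = N c → (b ∈ O i ↔ c ∈ O i) := by
    intro r hr b c e
    rw [hO, hO, not_iff_not]
    refine ⟨cent_conj (hRJ hr) e, fun h => ?_⟩
    exact cent_conj (inv_mem (hRJ hr)) (t.dec.inv_smul_N e) h
  have hinvj : ∀ r ∈ R, ∀ b c, MulAut.conj r • N b = N c → (b ∈ O j ↔ c ∈ O j) := by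
    intro r hr b c e
    have h1 : ∀ b, b ∈ O j ↔ b ∉ O i := fun b =>
      ⟨fun h1 h2 => t.notMem hij h2 h1, fun h1 => (t.mem_or hij b).resolve_left h1⟩
    rw [h1, h1, not_iff_not]
    exact hinv r hr b c e
  intro r hr k
  rcases fin_ne hij with ⟨rfl, rfl⟩ | ⟨rfl, rfl⟩
  · rcases f2 k with rfl | rfl
    · exact fix_of_inv t (hRM hr) (hn hr) (hinv r hr)
    · exact fix_of_inv t (hRM hr) (hn hr) (hinvj r hr)
  · rcases f2 k with rfl | rfl
    · exact fix_of_inv t (hRM hr) (hn hr) (hinvj r hr)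
    · exact fix_of_inv t (hRM hr) (hn hr) (hinv r hr)

end mv

section best

variable [Finite G] {S V X A : Subgroup G}

/-- `A ∈ A(S)` is a best offender on every elementary abelian `V ≤ S` -/
theorem best_of_AA (hV : IsElementaryAbelian 2 V) (hVS : V ≤ S) (hA : A ∈ AA S) : Best V A where
  sq := fun a ha => by rw [elem_sq hA.1 a ha]; exact one_mem _
  comm := fun a ha b hb => by
    have h := elem_comm hA.1 a ha b hb
    have e : a * b * a⁻¹ * b⁻¹ = 1 := by rw [h]; group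
    rw [e]; exact one_mem _
  max := fun Y hY _ => by
    have hc : ∀ a ∈ Y, ∀ b ∈ V ⊓ centralizer (Y : Set G), a * b = b * a := fun a ha b hb =>
      mem_centralizer_iff.1 (mem_inf.1 hb).2 a ha
    have h1 : IsElementaryAbelian 2 (Y ⊔ (V ⊓ centralizer (Y : Set G)) : Subgroup G) :=
      isElementaryAbelian_sup (isElementaryAbelian_mono hA.1 hY) (isElementaryAbelian_mono hV inf_le_left)
        fun b hb => mem_centralizer_iff.2 fun a ha => hc a ha b hb
    have h2 := hA.2.2 _ h1 (sup_le (hY.trans hA.2.1) (inf_le_left.trans hVS))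
    have h3 := card_sup_comm hc
    have h4 : Nat.card ↥(Y ⊓ (V ⊓ centralizer (Y : Set G)) : Subgroup G) ≤ Nat.card ↥(V ⊓ centralizer (A : Set G)) := by
      refine Subgroup.card_le_of_le ?_
      rintro x ⟨hx1, hx2⟩
      exact ⟨hx2.1, mem_centralizer_iff.2 fun a ha => elem_comm hA.1 a ha x (hY hx1)⟩
    rw [← h3]
    exact Nat.mul_le_mul h2 h4

/-- a best offender on `X ≥ V` is a best offender on `V`, if there are no over-offenders on `V` -/
theorem best_sub (hb : Best X A) (hVX : V ≤ X) (hno : NoOverM V S) (hA : A ≤ S)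
    (hne : ¬ A ≤ centralizer (V : Set G)) : Best V A where
  toElemM := (hb.offM hVX hne).toElemM
  max := fun Y hY _ => by
    have h1 := hb.offM hVX hne
    have h2 := hno Y (hY.trans hA) ⟨fun a ha => h1.sq a (hY ha), fun a ha b hb => h1.comm a (hY ha) b (hY hb)⟩
    have h3 : Nat.card ↥(Y ⊓ centralizer (V : Set G) : Subgroup G) ≤ Nat.card ↥(A ⊓ centralizer (V : Set G) : Subgroup G) :=
      Subgroup.card_le_of_le (inf_le_inf_right _ hY)
    exact h2.trans ((Nat.mul_le_mul_left _ h3).trans h1.le)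

end best

section main

variable [Finite G] {S : Sylow 2 G} {I : Type u} [Finite I] {N E : I → Subgroup G} {Om : I → Type u}
  [∀ i, Fintype (Om i)] [∀ i, DecidableEq (Om i)] {phi : ∀ i, Finset (Om i) → G}

/-- Some level moves `V*`. -/
def LevMv (S : Subgroup G) : Prop :=
  (¬ jj S ≤ centralizer (Wd S : Set G)) ∨ ∃ K X, LevX S K X ∧ ¬ nxtX S X ≤ centralizer (Wd S : Set G)

/-- Best offenders of `S` on `V*` lie in `⨆ E b`. -/
def BestE (S : Subgroup G) (E : I → Subgroup G) : Prop :=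
  ∀ A : Subgroup G, A ≤ S → Best (Wd S) A → A ≤ ⨆ b, E b

theorem cS_le (hB : Bks S N E ⊥ Om phi) :
    (S : Subgroup G) ⊓ centralizer (Wd (S : Subgroup G) : Set G) ≤ ⨆ b, E b := by
  obtain ⟨b⟩ := hB.nonempty
  exact (inf_le_inf_right _ hB.SL).trans ((hB.CE b).trans (le_iSup E b))

theorem noOver (B : RB S) (hr : RZ.RR (S : Subgroup G) = ⊥) : NoOverM (Wd (S : Subgroup G)) (S : Subgroup G) := by
  obtain ⟨P, A, hg⟩ := exists_gOne_rr B hr
  intro A hA hE
  exact hg.no A (hA.trans (S_le_MZ B.ctx B.full)) hE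

theorem elem_Wd (B : RB S) : IsElementaryAbelian 2 (Wd (S : Subgroup G)) :=
  isElementaryAbelian_iff.2 ⟨wcomm B, fun x hx => by rw [pow_two]; exact wsq B x hx⟩

theorem jj_le_E (B : RB S) (hbest : BestE (S : Subgroup G) E) : jj (S : Subgroup G) ≤ ⨆ b, E b := by
  rw [ChoiceBase.jj_eq]
  exact sSup_le fun A hA => hbest A hA.2.1 (best_of_AA (elem_Wd B) (WS B) hA)

theorem nxtX_le_E (B : RB S) (hr : RZ.RR (S : Subgroup G) = ⊥) (hB : Bks S N E ⊥ Om phi) (hbest : BestE (S : Subgroup G) E) {X : Subgroup G}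
    (hX : Wd (S : Subgroup G) ≤ X) : nxtX (S : Subgroup G) X ≤ ⨆ b, E b := by
  refine sup_le ((inf_le_inf_left _ (centralizer_le hX)).trans (cS_le hB)) (sSup_le ?_)
  rintro A ⟨hA, hb⟩
  by_cases hne : A ≤ centralizer (Wd (S : Subgroup G) : Set G)
  · exact (le_inf hA hne).trans (cS_le hB)
  · exact hbest A hA (best_sub hb hX (noOver B hr) hA hne)

theorem levX_next {K X : Subgroup G} (h : LevX (S : Subgroup G) K X) : Lev (S : Subgroup G) (nxtX (S : Subgroup G) X) :=
  RLev.nextX h.toLev h.Xle h.Xn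

/-- **`S` transitive on the blocks: (J).** -/
theorem hypJ_trans (hB : Bks S N E ⊥ Om phi) (hlev : LevMv (S : Subgroup G))
    (htr : ∀ b c, ∃ s ∈ (S : Subgroup G), MulAut.conj s • N b = N c) : HypJ (S : Subgroup G) N := by
  rcases hlev with h | ⟨K, X, h1, h2⟩
  · exact Or.inl fun b => mv_trans hB.toDec (Lev.zero _).S_norm h htr b
  · exact Or.inr ⟨K, X, h1, fun b => mv_trans hB.toDec (levX_next h1).S_norm h2 htr b⟩

/-- a level in `⨆ E b` is normalised by the (K2) in `P*(S)` -/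
theorem norm_k2 {J R : Subgroup G} (hJ : Lev (S : Subgroup G) J) (hJE : J ≤ ⨆ b, E b)
    (hR : IsParS (S : Subgroup G) R)
    (hn : R ≤ normalizer (((S : Subgroup G) ⊓ ⨆ b, E b : Subgroup G) : Set G)) : R ≤ normalizer (J : Set G) := by
  refine hJ.le_norm_of_o2 ((le_inf hJ.le hJE).trans ?_) (hR.isLoc.o2_le S)
  exact MinSimple.VModule.le_o2 (inf_le_left.trans hR.le) (S.isPGroup'.to_le inf_le_left) hn

/-- **LEMMA HJ: no (K2) if (J) fails.** -/
theorem noK2 (h : Four S) (hB : Bks S N E ⊥ Om phi) (hlev : LevMv (S : Subgroup G))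
    (hbest : BestE (S : Subgroup G) E) (hj : ¬ HypJ (S : Subgroup G) N) :
    ∀ R, IsParS (S : Subgroup G) R → ¬ R ≤ normalizer (((S : Subgroup G) ⊓ ⨆ b, E b : Subgroup G) : Set G) := by
  intro R hR hn
  rcases cases_bks h hB with ⟨-, z, O, v, t⟩ | ⟨h1, -⟩ | ⟨-, htr⟩
  · apply hj
    have hmv : ¬ ∀ r ∈ R, ∀ i, r * v i * r⁻¹ = v i := by
      intro hfix
      apply hR.not_zc
      have hc : ∀ i, R ≤ centralizer ({v i} : Set G) := fun i => TwoO.le_cent_iff.2 fun r hr => hfix r hr i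
      refine le_trans ?_ (centralizer_le_normalizer _)
      intro r hr
      refine mem_centralizer_iff.2 fun x hx => ?_
      have h0 := mem_centralizer_singleton_iff.1 (hc 0 hr)
      have h1 := mem_centralizer_singleton_iff.1 (hc 1 hr)
      rcases (t.zS h.toRB x).1 hx with rfl | rfl | rfl | rfl
      · simp
      · exact h0.symm
      · exact h1.symm
      · calc v 0 * v 1 * r = v 0 * (v 1 * r) := by group
          _ = (v 0 * r) * v 1 := by rw [← h1]; group
          _ = r * (v 0 * v 1) := by rw [← h0]; group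
    rcases hlev with h1 | ⟨K, X, h1, h2⟩
    · have hJ := Lev.zero (S : Subgroup G)
      exact Or.inl fun b => mv_two t hJ.S_norm h1 (le_MZ hR) (norm_k2 hJ (jj_le_E h.toRB hbest) hR hn) hn hmv b
    · have hJ := levX_next h1
      exact Or.inr ⟨K, X, h1, fun b => mv_two t hJ.S_norm h2 (le_MZ hR)
        (norm_k2 hJ (nxtX_le_E h.toRB h.rr hB hbest h1.VX) hR hn) hn hmv b⟩
  · exact h1 rfl
  · exact hj (hypJ_trans hB hlev htr)

end main

end Cfsg.Agent.Omega.NOThreeL.RRed.FourNoK2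

end

section


/-!
# NO-3L, box R, `FourOf`: two blocks with three letters give `|V_P| = 8` for all `P ∈ P*(S)`

* `exists_y` : some `y ∈ S ∩ E c` moves `N c`, `c` in the `M`-orbit of `b`;
* `norm_of` : two blocks, `|C_V(S)| ≥ 4`: `M` normalises both;
* `card_eight` : `|⟨Z^P⟩| = 8`;
* **`not_two`** : excluded by `Four.n8`.
-/

set_option autoImplicit false
set_option linter.unusedSectionVars false

namespace Cfsg.Agent.Omega.NOThreeL.RRed.FourThree

open Subgroup Cfsg Cfsg.Agent.ZN Cfsg.Agent.Omega.MinPar Cfsg.Agent.Omega.Frame Cfsg.Agent.Omega.FrameNOFF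
open Cfsg.Agent.Omega.NOThreeL.Merge (MZ le_MZ S_le_MZ isLoc_MZ zl_MZ_comm zl_MZ_isPGroup)
open Cfsg.Agent.ZN.ChoiceSit (Syl exists_syl syl_conj syl_not_dvd)
open Cfsg.Agent.Omega.NOThreeL.RRed.TvFin (Full)
open Cfsg.Agent.Omega.NOThreeL.RRed.Blk (Dec Co IsC mem_sup_of conj_of conj_smul cent)
open Cfsg.Agent.Omega.NOThreeL.RRed.FourTree
open Cfsg.Agent.Omega.KL.TwoS (Rel Lett)
open Cfsg.Agent.Omega.NoFF.Basic (mem_conj conj_le_iff conj_conj)
open Cfsg.Agent.Omega.NOThreeL.Pair (conj_eq_of_mem)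
open Cfsg.Agent.MinSimple.VModule (oddGen oddGen_def)
open scoped Pointwise

universe u

variable {G : Type u} [Group G]

section abs

theorem norm_iff {W : Subgroup G} {g : G} : g ∈ normalizer (W : Set G) ↔ MulAut.conj g • W = W :=
  ⟨fun h => conj_eq_of_mem h, fun h => mem_normalizer_iff.2 fun _ => conj_smul h⟩

theorem swap_pow {Ω : Type*} [DecidableEq Ω] (a b : Ω) {m : ℕ} (hm : Odd m) :
    Equiv.swap a b ^ m = Equiv.swap a b := by
  obtain ⟨l, rfl⟩ := hm
  rw [pow_succ, pow_mul, pow_two, Equiv.swap_mul_self, one_pow, one_mul]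

theorem card_le_four {Ω : Type u} [Fintype Ω] [DecidableEq Ω] {V R : Subgroup G} {φ : Finset Ω → G} (L : Lett V R φ)
    (h3 : Fintype.card Ω = 3) : Nat.card V ≤ 4 := by
  have hev : ∀ a : Ω, Even (Finset.univ.erase a).card := fun a => by
    rw [Finset.card_erase_of_mem (Finset.mem_univ a), Finset.card_univ, h3]; exact even_two
  let f : Option Ω → V := fun o => match o with
    | none => 1
    | some a => ⟨φ (Finset.univ.erase a), (L.mem _).2 ⟨_, hev a, rfl⟩⟩
  have hf : Function.Surjective f := by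
    rintro ⟨v, hv⟩
    obtain ⟨s, hs, rfl⟩ := (L.mem v).1 hv
    have h4 : s.card ≤ 3 := by rw [← h3]; exact Finset.card_le_univ s
    have h5 : s.card = 0 ∨ s.card = 2 := by
      obtain ⟨k, hk⟩ := hs
      omega
    rcases h5 with h5 | h5
    · refine ⟨none, Subtype.ext ?_⟩
      change (1 : G) = φ s
      rw [Finset.card_eq_zero.1 h5, L.phi_empty]
    · have h6 : sᶜ.card = 1 := by rw [Finset.card_compl, h3, h5]
      obtain ⟨a, ha⟩ := Finset.card_eq_one.1 h6
      refine ⟨some a, Subtype.ext ?_⟩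
      change φ (Finset.univ.erase a) = φ s
      congr 1
      ext x
      have h7 : x ∈ sᶜ ↔ x = a := by rw [ha, Finset.mem_singleton]
      rw [Finset.mem_compl] at h7
      simp only [Finset.mem_erase, Finset.mem_univ, and_true]
      tauto
  have h6 := Nat.card_le_card_of_surjective f hf
  rwa [Nat.card_eq_fintype_card (α := Option Ω), Fintype.card_option, h3] at h6

theorem card_cent_le [Finite G] {W : Subgroup G} (hW : Nat.card W ≤ 4) {y : G} (hy : y ∉ centralizer (W : Set G)) :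
    Nat.card (W ⊓ centralizer ({y} : Set G) : Subgroup G) ≤ 2 := by
  obtain ⟨k, hk⟩ := card_dvd_of_le (inf_le_left : W ⊓ centralizer ({y} : Set G) ≤ W)
  have h1 : 0 < Nat.card W := Nat.card_pos
  have h2 : k ≠ 0 := by rintro rfl; omega
  have h3 : k ≠ 1 := by
    rintro rfl
    rw [mul_one] at hk
    have h4 := eq_of_le_of_card_ge (inf_le_left : W ⊓ centralizer ({y} : Set G) ≤ W) hk.le
    apply hy
    rw [mem_centralizer_iff]
    intro w hw
    have h5 : w ∈ W ⊓ centralizer ({y} : Set G) := by rw [h4]; exact hw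
    exact (mem_centralizer_singleton_iff.1 h5.2)
  have h4 : 2 ≤ k := by omega
  have h5 := Nat.mul_le_mul_left (Nat.card (W ⊓ centralizer ({y} : Set G) : Subgroup G)) h4
  omega

theorem card_sup_le [Finite G] {A B : Subgroup G} (h : A ≤ normalizer (B : Set G)) :
    Nat.card (A ⊔ B : Subgroup G) ≤ Nat.card A * Nat.card B := by
  rw [← Nat.card_prod]
  refine Nat.card_le_card_of_surjective
    (fun p : A × B => (⟨p.1 * p.2, mul_mem (mem_sup_left p.1.2) (mem_sup_right p.2.2)⟩ : (A ⊔ B : Subgroup G))) ?_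
  rintro ⟨x, hx⟩
  obtain ⟨a, ha, b, hb, rfl⟩ := mem_sup_of h hx
  exact ⟨(⟨a, ha⟩, ⟨b, hb⟩), rfl⟩

end abs

section full

variable [Finite G] {S : Sylow 2 G} {M V : Subgroup G} {I : Type u} {N E : I → Subgroup G} {Om : I → Type u}
  [∀ i, Fintype (Om i)] [∀ i, DecidableEq (Om i)] {phi : ∀ i, Finset (Om i) → G}
  (F : Full (S : Subgroup G) M V N E ⊥ Om phi)

include F

theorem sylM : Syl (S : Subgroup G) M :=
  ⟨F.SL, S.isPGroup', fun _ _ hQ hSQ => S.is_maximal' hQ hSQ⟩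

/-- some `y ∈ S ∩ E c` moves `N c`, `c` in the `M`-orbit of `b` -/
theorem exists_y (b : I) : ∃ g ∈ M, ∃ c, MulAut.conj g • N b = N c ∧
    ∃ y ∈ (S : Subgroup G) ⊓ E c, y ∉ centralizer (N c : Set G) := by
  have h3 := F.three b
  obtain ⟨a, a', ha⟩ : ∃ a a' : Om b, a ≠ a' := by
    have : Nontrivial (Om b) := Fintype.one_lt_card_iff_nontrivial.1 (by omega)
    exact exists_pair_ne _
  obtain ⟨x, hxE, hx, -⟩ := F.swap b a a' ha
  obtain ⟨k, m, hm, hkm⟩ := Nat.exists_eq_two_pow_mul_odd (n := orderOf x) (orderOf_pos x).ne'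
  have hxm : Rel (phi b) (x ^ m) (Equiv.swap a a') := by
    have h1 := hx.pow m
    rwa [swap_pow a a' hm] at h1
  have h2 : IsPGroup 2 (zpowers (x ^ m)) := by
    have h1 : (x ^ m) ^ 2 ^ k = 1 := by
      rw [← pow_mul, mul_comm, ← hkm, pow_orderOf_eq_one]
    obtain ⟨n, -, hn⟩ := (Nat.dvd_prime_pow Nat.prime_two).1 (orderOf_dvd_of_pow_eq_one h1)
    exact IsPGroup.of_card (n := n) (by rw [Nat.card_zpowers, hn])
  have hxM : x ^ m ∈ M := F.EL b (pow_mem hxE m)
  obtain ⟨S', hS', hxS'⟩ := exists_syl h2 (zpowers_le.2 hxM)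
  obtain ⟨g, hg, hgS⟩ := syl_conj hS' (sylM F)
  obtain ⟨c, hc1, hc2⟩ := F.perm g hg b
  refine ⟨g, hg, c, hc1, g * x ^ m * g⁻¹, ⟨?_, (conj_smul hc2).1 (pow_mem hxE m)⟩, fun hcon => ?_⟩
  · rw [← hgS]
    exact ⟨x ^ m, hxS' (mem_zpowers _), rfl⟩
  · -- `x ^ m` centralises `N b`
    have h4 : Rel (phi b) (x ^ m) (1 : Equiv.Perm (Om b)) := by
      intro s hs
      have h5 : phi b s ∈ N b := ((F.lett b).mem _).2 ⟨s, hs, rfl⟩
      have h6 := cent hcon ((conj_smul hc1).1 h5)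
      have e : (1 : Equiv.Perm (Om b)).toEmbedding = Function.Embedding.refl (Om b) := by
        ext y
        simp
      rw [e, Finset.map_refl]
      have h7 : g * (x ^ m * phi b s * (x ^ m)⁻¹) * g⁻¹ = g * phi b s * g⁻¹ := by
        rw [← h6]; group
      exact mul_left_cancel (mul_right_cancel h7)
    have h5 := (F.lett b).unique h3 hxm h4
    exact ha (Equiv.swap_eq_one_iff.1 h5)

variable {i j : I} (hij : i ≠ j) (hI : ∀ b, b = i ∨ b = j)

include hij hI

theorem perm_two {g : G} (hg : g ∈ M) : (MulAut.conj g • N i = N i ∧ MulAut.conj g • N j = N j) ∨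
    (MulAut.conj g • N i = N j ∧ MulAut.conj g • N j = N i) := by
  obtain ⟨c, hc, -⟩ := F.perm g hg i
  obtain ⟨d, hd, -⟩ := F.perm g hg j
  have hcd : c ≠ d := by
    rintro rfl
    apply hij
    apply F.toDec.Ninj
    exact smul_left_cancel _ (hc.trans hd.symm)
  rcases hI c with rfl | rfl
  · rcases hI d with rfl | rfl
    · exact absurd rfl hcd
    · exact Or.inl ⟨hc, hd⟩
  · rcases hI d with rfl | rfl
    · exact Or.inr ⟨hc, hd⟩
    · exact absurd rfl hcd

theorem sq_norm {g : G} (hg : g ∈ M) : g ^ 2 ∈ normalizer (N i : Set G) ∧ g ^ 2 ∈ normalizer (N j : Set G) := by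
  rw [norm_iff, norm_iff, pow_two, ← conj_conj, ← conj_conj]
  rcases perm_two F hij hI hg with ⟨h1, h2⟩ | ⟨h1, h2⟩
  · rw [h1, h1, h2, h2]
    exact ⟨rfl, rfl⟩
  · rw [h1, h2, h1]
    exact ⟨rfl, rfl⟩

/-- `S` normalises both blocks ⟹ `M` normalises both -/
theorem norm_of (hS : (S : Subgroup G) ≤ normalizer (N i : Set G)) (b : I) : M ≤ normalizer (N b : Set G) := by
  have hj : (S : Subgroup G) ≤ normalizer (N j : Set G) := by
    intro s hs
    rcases perm_two F hij hI (F.SL hs) with ⟨-, h2⟩ | ⟨h1, -⟩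
    · exact norm_iff.2 h2
    · exfalso
      apply hij
      apply F.toDec.Ninj
      rw [← h1]
      exact (norm_iff.1 (hS hs)).symm
  have key : ∀ b, (S : Subgroup G) ≤ normalizer (N b : Set G) → (∀ g ∈ M, g ^ 2 ∈ normalizer (N b : Set G)) →
      M ≤ normalizer (N b : Set G) := by
    intro b hSb hsq
    rw [← KL.Star.Core.oddGen_sup F.SL (syl_not_dvd (sylM F))]
    refine sup_le ?_ hSb
    rw [oddGen_def, closure_le]
    rintro g ⟨hgM, hgo⟩
    obtain ⟨l, hl⟩ := hgo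
    have h1 : g = (g ^ 2) ^ (l + 1) := by
      rw [← pow_mul]
      have e : 2 * (l + 1) = (2 * l + 1) + 1 := by ring
      rw [e, pow_succ, ← hl, pow_orderOf_eq_one, one_mul]
    rw [h1]
    exact pow_mem (hsq g hgM) _
  rcases hI b with rfl | rfl
  · exact key _ hS fun g hg => (sq_norm F hij hI hg).1
  · exact key _ hj fun g hg => (sq_norm F hij hI hg).2

theorem Co_i : Co N ⊥ i = N j := by
  unfold Co
  rw [sup_bot_eq]
  refine le_antisymm (iSup_le fun d => ?_) (le_iSup (fun d : {d // d ≠ i} => N d) ⟨j, hij.symm⟩)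
  rcases hI d with h | h
  · exact absurd h d.2
  · rw [h]

omit hI in
/-- the components of an element centralised by `g` are centralised by `g` -/
theorem comp_fix {b : I} {g z n : G} (hg : g ∈ M) (hgb : g ∈ normalizer (N b : Set G)) (hz : g * z * g⁻¹ = z)
    (hn : IsC N ⊥ b z n) : g * n * g⁻¹ = n := by
  have h1 := F.toDec.comp_conj hg (norm_iff.1 hgb) hn
  rw [hz] at h1
  exact F.toDec.uniq h1 hn

/-- an element with trivial components is trivial -/
theorem eq_one_of {z : G} (h1 : IsC N ⊥ i z 1) (h2 : IsC N ⊥ j z 1) : z = 1 := by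
  have h3 : z ∈ Co N ⊥ i := by have := h1.2; rwa [inv_one, one_mul] at this
  rw [Co_i F hij hI] at h3
  exact F.toDec.uniq (F.toDec.comp_self h3) h2

/-- a swap in `S` : `|C_V(S)| ≤ 2` -/
theorem card_le_two (h3 : ∀ b, Fintype.card (Om b) = 3) {s : G} (hs : s ∈ (S : Subgroup G))
    (hsN : ¬ s ∈ normalizer (N i : Set G)) {Z : Subgroup G} (hZ : Z ≤ V) (hZS : Z ≤ centralizer ((S : Subgroup G) : Set G)) :
    Nat.card Z ≤ 2 := by
  obtain ⟨h1, h2⟩ : MulAut.conj s • N i = N j ∧ MulAut.conj s • N j = N i := by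
    rcases perm_two F hij hI (F.SL hs) with h | h
    · exact absurd (norm_iff.2 h.1) hsN
    · exact h
  obtain ⟨g, -, c, -, y, ⟨hyS, hyE⟩, hy⟩ := exists_y F i
  have hc2 := card_cent_le (card_le_four (F.lett c) (h3 c)) hy
  refine le_trans ?_ hc2
  have hZs : ∀ z ∈ Z, ∀ t ∈ (S : Subgroup G), t * z * t⁻¹ = z := fun z hz t ht => by
    rw [mem_centralizer_iff.1 (hZS hz) t ht, mul_inv_cancel_right]
  have hdis : ∀ z ∈ Z, z ∈ Co N ⊥ c → z = 1 := by
    intro z hz hzc
    have hzs := hZs z hz s hs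
    rcases hI c with rfl | rfl
    · have h5 := F.toDec.comp_one hzc
      have h6 := F.toDec.comp_conj (F.SL hs) h1 h5
      rw [hzs, mul_one, mul_inv_cancel] at h6
      exact eq_one_of F hij hI h5 h6
    · have h5 := F.toDec.comp_one hzc
      have h6 := F.toDec.comp_conj (F.SL hs) h2 h5
      rw [hzs, mul_one, mul_inv_cancel] at h6
      exact eq_one_of F hij hI h6 h5
  have hex : ∀ z : Z, ∃ n : (N c ⊓ centralizer ({y} : Set G) : Subgroup G), IsC N ⊥ c (z : G) n := by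
    rintro ⟨z, hz⟩
    obtain ⟨n, hn⟩ := F.toDec.ex_comp c (hZ hz)
    have h5 := comp_fix F hij (F.SL hyS) (F.EN c hyE) (hZs z hz y hyS) hn
    exact ⟨⟨n, hn.1, mem_centralizer_singleton_iff.2 (mul_inv_eq_iff_eq_mul.1 h5).symm⟩, hn⟩
  choose f hf using hex
  refine Nat.card_le_card_of_injective f fun z z' e => ?_
  have h5 := hf z
  have h6 := hf z'
  rw [← e] at h6
  have h7 : (z : G)⁻¹ * z' ∈ Co N ⊥ c := by
    have e2 : (z : G)⁻¹ * z' = ((f z : G)⁻¹ * z)⁻¹ * ((f z : G)⁻¹ * z') := by group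
    rw [e2]
    exact mul_mem (inv_mem h5.2) h6.2
  have h8 := hdis _ (Z.mul_mem (Z.inv_mem z.2) z'.2) h7
  exact Subtype.ext (inv_mul_eq_one.1 h8)

/-- `M` normalises both blocks : `|V_P| ≤ 8` -/
theorem card_le_eight (h3 : ∀ b, Fintype.card (Om b) = 3) (hM : ∀ b, M ≤ normalizer (N b : Set G)) {P : Subgroup G}
    (hSP : (S : Subgroup G) ≤ P) (hPM : P ≤ M) (hZ : zc (S : Subgroup G) ≤ V)
    (hne : zc (S : Subgroup G) ⊓ centralizer (P : Set G) ≠ ⊥) : Nat.card (zl (S : Subgroup G) P) ≤ 8 := by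
  obtain ⟨z, hz, hz1⟩ : ∃ z ∈ zc (S : Subgroup G) ⊓ centralizer (P : Set G), z ≠ 1 := by
    by_contra hcon
    push Not at hcon
    exact hne (eq_bot_iff.2 fun x hx => mem_bot.2 (hcon x hx))
  have hzP : ∀ p ∈ P, p * z * p⁻¹ = z := fun p hp => by
    rw [mem_centralizer_iff.1 hz.2 p hp, mul_inv_cancel_right]
  -- a component `≠ 1`
  obtain ⟨b, n, hn, hn1⟩ : ∃ b, ∃ n, IsC N ⊥ b z n ∧ n ≠ 1 := by
    by_contra hcon
    push Not at hcon
    obtain ⟨n, hn⟩ := F.toDec.ex_comp i (hZ hz.1)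
    obtain ⟨m, hm⟩ := F.toDec.ex_comp j (hZ hz.1)
    rw [hcon i n hn] at hn
    rw [hcon j m hm] at hm
    exact hz1 (eq_one_of F hij hI hn hm)
  have hnP : ∀ p ∈ P, p * n * p⁻¹ = n := fun p hp => comp_fix F hij (hPM hp) (hM b (hPM hp)) (hzP p hp) hn
  obtain ⟨g, hg, c, hc, y, ⟨hyS, hyE⟩, hy⟩ := exists_y F b
  have hcb : c = b := F.toDec.Ninj (by rw [← hc]; exact norm_iff.1 (hM b hg))
  subst hcb
  set C : Subgroup G := N c ⊓ centralizer ({y} : Set G) with hC
  have hC2 : Nat.card C ≤ 2 := card_cent_le (card_le_four (F.lett c) (h3 c)) hy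
  have hnC : n ∈ C := ⟨hn.1, mem_centralizer_singleton_iff.2 (mul_inv_eq_iff_eq_mul.1 (hnP y (hSP hyS))).symm⟩
  -- `C = {1, n}`
  have hCz : C ≤ zpowers n := by
    have h5 : zpowers n ≤ C := zpowers_le.2 hnC
    have h6 : 2 ≤ Nat.card (zpowers n) := by
      have h7 : Nat.card (zpowers n) ≠ 1 := fun h => hn1 (by
        rw [Subgroup.card_eq_one] at h
        exact zpowers_eq_bot.1 h)
      have h8 : 0 < Nat.card (zpowers n) := Nat.card_pos
      omega
    exact (eq_of_le_of_card_ge h5 (hC2.trans h6)).ge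
  have hCP : P ≤ centralizer (C : Set G) := by
    have h5 : zpowers n ≤ centralizer (P : Set G) := by
      rw [zpowers_le, mem_centralizer_iff]
      exact fun p hp => mul_inv_eq_iff_eq_mul.1 (hnP p hp)
    exact NoFF.Basic.comm_symm (hCz.trans h5)
  -- `P` normalises `C Co`
  have hCo : ∀ p ∈ P, ∀ x ∈ Co N ⊥ c, p * x * p⁻¹ ∈ Co N ⊥ c := by
    intro p hp x hx
    obtain ⟨d, hd, -, h5⟩ := F.toDec.perm' (hPM hp) c
    have hdc : d = c := F.toDec.Ninj (by rw [← hd]; exact norm_iff.1 (hM c (hPM hp)))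
    subst hdc
    exact h5 x hx
  have hCoU := F.toDec.CoU c
  have hCU : C ≤ V := inf_le_left.trans (F.toDec.NU c)
  have hCn : C ≤ normalizer (Co N ⊥ c : Set G) := F.toDec.nor hCU hCoU
  have hPn : P ≤ normalizer ((C ⊔ Co N ⊥ c : Subgroup G) : Set G) := by
    refine TC.LemZ.le_norm_of fun p hp x hx => ?_
    obtain ⟨a, ha, w, hw, rfl⟩ := mem_sup_of hCn hx
    have e : p * (a * w) * p⁻¹ = (p * a * p⁻¹) * (p * w * p⁻¹) := by group
    rw [e, cent (hCP hp) ha]
    exact mul_mem (mem_sup_left ha) (mem_sup_right (hCo p hp w hw))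
  have hZC : zc (S : Subgroup G) ≤ C ⊔ Co N ⊥ c := by
    intro x hx
    obtain ⟨m, hm⟩ := F.toDec.ex_comp c (hZ hx)
    have h5 : y * x * y⁻¹ = x := by
      rw [(MinSimple.VModule.mem_zc.1 hx).2.1 y hyS, mul_inv_cancel_right]
    have h6 := comp_fix F hij (F.SL hyS) (F.EN c hyE) h5 hm
    have e : x = m * (m⁻¹ * x) := by group
    rw [e]
    exact mul_mem (mem_sup_left ⟨hm.1, mem_centralizer_singleton_iff.2 (mul_inv_eq_iff_eq_mul.1 h6).symm⟩)
      (mem_sup_right hm.2)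
  have h5 : zl (S : Subgroup G) P ≤ C ⊔ Co N ⊥ c := MinSimple.VModule.zl_le hZC hPn
  have h6 : Nat.card (Co N ⊥ c) ≤ 4 := by
    rcases hI c with rfl | rfl
    · rw [Co_i F hij hI]
      exact card_le_four (F.lett j) (h3 j)
    · rw [Co_i F hij.symm fun b => (hI b).symm]
      exact card_le_four (F.lett i) (h3 i)
  calc Nat.card (zl (S : Subgroup G) P) ≤ Nat.card (C ⊔ Co N ⊥ c : Subgroup G) := card_le_of_le h5
    _ ≤ Nat.card C * Nat.card (Co N ⊥ c) := card_sup_le hCn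
    _ ≤ 2 * 4 := Nat.mul_le_mul hC2 h6
    _ = 8 := rfl

end full

/-- **Two blocks with three letters do not occur in `FourOf`.** -/
theorem not_two [Finite G] {S : Sylow 2 G} {I : Type u} [Fintype I] {N E : I → Subgroup G} {Om : I → Type u}
    [∀ i, Fintype (Om i)] [∀ i, DecidableEq (Om i)] {phi : ∀ i, Finset (Om i) → G} (h : Four S)
    (hB : Bks S N E ⊥ Om phi) : ¬ (Fintype.card I = 2 ∧ ∀ b, Fintype.card (Om b) = 3) := by
  classical
  rintro ⟨h2, h3⟩
  have F := hB.toFull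
  obtain ⟨i, j, hij, hu⟩ := Finset.card_eq_two.1 ((Finset.card_univ (α := I)).trans h2)
  have hI : ∀ b, b = i ∨ b = j := fun b => by
    have h4 := Finset.mem_univ b
    rw [hu, Finset.mem_insert, Finset.mem_singleton] at h4
    exact h4
  obtain ⟨P, hP, hP8⟩ := h.n8
  have hZ : zc (S : Subgroup G) ≤ Wd (S : Subgroup G) := MinSimple.VModule.zc_le_zl _ _
  have hSN : (S : Subgroup G) ≤ normalizer (N i : Set G) := by
    by_contra hcon
    obtain ⟨s, hs, hsN⟩ := SetLike.not_le_iff_exists.1 hcon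
    have h5 := card_le_two F hij hI h3 hs hsN hZ (MinSimple.VModule.zc_le_centralizer _)
    have h6 := h.z4
    omega
  have hM := norm_of F hij hI hSN
  have hne : zc (S : Subgroup G) ⊓ centralizer (P : Set G) ≠ ⊥ := by
    intro h0
    have h5 := h.thin P hP
    rw [h0, card_bot, h.z4] at h5
    omega
  have h8 := card_le_eight F hij hI h3 hM hP.le (le_MZ hP) hZ hne
  obtain ⟨k, hk⟩ := card_dvd_of_le (MinSimple.VModule.zc_le_zl (S : Subgroup G) P)
  rw [h.z4] at hk
  have h1 : k ≠ 1 := by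
    rintro rfl
    apply hP.not_zc
    have h5 := eq_of_le_of_card_ge (MinSimple.VModule.zc_le_zl (S : Subgroup G) P) (by rw [hk, h.z4])
    rw [h5]
    exact MinSimple.VModule.le_normalizer_zl _ _
  have h0 : 0 < Nat.card (zl (S : Subgroup G) P) := Nat.card_pos
  omega

end Cfsg.Agent.Omega.NOThreeL.RRed.FourThree

end

section


/-!
# NO-3L, box R, `FourOf`: the plug of the socket `FourTwo` (`R₀ = 1`, not (J))

* `FourLeft K B` : the left case: two orbits of natural blocks (three letters), at least three blocks, no (K2), `J(O)`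
  moves every block, `O = O₂(C_G(Z))`;
* `bestE_of` : best offenders on `V*` lie in `⨆ E b` (930's `TvExa`);
* **`fourTwo_of`** : `FourLeft` and `LevMv` (some level moves `V*`: 319 / 492) imply `FourTwo`.
-/

set_option autoImplicit false
set_option linter.unusedSectionVars false

namespace Cfsg.Agent.Omega.NOThreeL.RRed.FourTwoP

open Subgroup Cfsg Cfsg.Agent.ZN Cfsg.Agent.Omega.MinPar Cfsg.Agent.Omega.Frame Cfsg.Agent.Omega.FrameNOFF
open Cfsg.Agent.Omega.Node.NO3L Cfsg.Agent.Omega.NOThreeL.Basic Cfsg.Agent.Omega.NOThreeL.RTree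
open Cfsg.Agent.Omega.NOThreeL.Merge (MZ le_MZ S_le_MZ)
open Cfsg.Agent.Omega.NOThreeL.RRed.FourTree
open Cfsg.Agent.Omega.NOThreeL.RTreeF Cfsg.Agent.Omega.NOThreeL.RRed.GlueSig
open Cfsg.Agent.Omega.NOThreeL.RRed.FourTwoO
open Cfsg.Agent.Omega.NOThreeL.RRed.FourNoK2
open Cfsg.Agent.Omega.NOThreeL.RRed.Blk
open scoped Pointwise

universe u

section abs

variable {G : Type u} [Group G] [Finite G] {S : Sylow 2 G} {I : Type u} [Finite I] {N E : I → Subgroup G}
  {Om : I → Type u} [∀ i, Fintype (Om i)] [∀ i, DecidableEq (Om i)] {phi : ∀ i, Finset (Om i) → G} {z : I → G}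
  {O : Fin 2 → Set I} {v : Fin 2 → G}

theorem o2_le_S (S : Sylow 2 G) : o2 (centralizer (zc (S : Subgroup G) : Set G)) ≤ (S : Subgroup G) := by
  refine MinSimple.VModule.o2_le_of_sylow S.isPGroup' (MinSimple.Basic.not_dvd_relIndex S ?_)
  exact MinSimple.VModule.le_centralizer_zc _

/-- the blocks of an orbit are all moved -/
theorem mv_orb (t : TwoO S (MZ (S : Subgroup G)) (Wd (S : Subgroup G)) N E ⊥ z O v) {i : Fin 2}
    (h : ∃ A, KL.TwoS.Mx (o2 (centralizer (zc (S : Subgroup G) : Set G))) A ∧ ¬ A ≤ centralizer (VO N O i : Set G))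
    {b : I} (hb : b ∈ O i) :
    ∃ A, KL.TwoS.Mx (o2 (centralizer (zc (S : Subgroup G) : Set G))) A ∧ ¬ A ≤ centralizer (N b : Set G) := by
  obtain ⟨A, hA, hne⟩ := h
  obtain ⟨c, hc, hcA⟩ : ∃ c ∈ O i, ¬ A ≤ centralizer (N c : Set G) := by
    by_contra hcon
    push Not at hcon
    apply hne
    rw [le_centralizer_iff]
    refine iSup₂_le fun c hc => ?_
    rw [← le_centralizer_iff]
    exact hcon c hc
  obtain ⟨s, hs, e⟩ := (t.orb i).tr c hc b hb
  have hsC : s ∈ centralizer (zc (S : Subgroup G) : Set G) := MinSimple.VModule.le_centralizer_zc _ hs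
  have hsO : s ∈ normalizer (o2 (centralizer (zc (S : Subgroup G) : Set G)) : Set G) :=
    MinSimple.VModule.le_normalizer_o2 _ hsC
  have hO := smul_of_mem hsO
  have hcard : Nat.card (MulAut.conj s • A : Subgroup G) = Nat.card A :=
    Nat.card_congr (Subgroup.equivSMul (MulAut.conj s) A).toEquiv.symm
  refine ⟨MulAut.conj s • A, ⟨?_, ?_, ?_⟩, fun h1 => hcA ?_⟩
  · rw [← hO]
    exact Subgroup.pointwise_smul_le_pointwise_smul_iff.2 hA.le
  · rintro _ ⟨a, ha, rfl⟩
    change (s * a * s⁻¹) ^ 2 = 1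
    have e1 : (s * a * s⁻¹) ^ 2 = s * a ^ 2 * s⁻¹ := by rw [pow_two, pow_two]; group
    rw [e1, hA.sq a ha]; group
  · intro B hB hB2
    rw [hcard]
    exact hA.max B hB hB2
  · intro a ha
    refine mem_centralizer_iff.2 fun y hy => ?_
    have h2 : s * a * s⁻¹ ∈ MulAut.conj s • A := ⟨a, ha, rfl⟩
    have h3 : s * y * s⁻¹ ∈ N b := (conj_smul e).1 hy
    have h4 := mem_centralizer_iff.1 (h1 h2) _ h3
    calc y * a = s⁻¹ * ((s * y * s⁻¹) * (s * a * s⁻¹)) * s := by group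
      _ = a * y := by rw [h4]; group

/-- **all blocks have three letters** -/
theorem three_of (h : Four S) (hB : Bks S N E ⊥ Om phi)
    (t : TwoO S (MZ (S : Subgroup G)) (Wd (S : Subgroup G)) N E ⊥ z O v)
    (hVO : ∀ i, VO N O i ≤ o2 (centralizer (zc (S : Subgroup G) : Set G)))
    (hmv : ∀ i, ∃ A, KL.TwoS.Mx (o2 (centralizer (zc (S : Subgroup G) : Set G))) A ∧ ¬ A ≤ centralizer (VO N O i : Set G))
    (b : I) : Fintype.card (Om b) = 3 := by
  have key : ∀ i j : Fin 2, i ≠ j → b ∈ O i → Fintype.card (Om b) = 3 := by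
    intro i j hij hb
    obtain ⟨A, hA, hne⟩ := mv_orb t (hmv i) hb
    have hT2 : IsPGroup 2 ((S : Subgroup G) ⊓ E b : Subgroup G) := S.isPGroup'.to_le inf_le_left
    obtain ⟨p, hp, -⟩ := exists_ctr (hB.lett b) (hB.three b) inf_le_right hT2 (z := z b) (t.one.fix b)
    have hZ : ∀ g, g ∈ centralizer ({v i} : Set G) → g ∈ centralizer ({v j} : Set G) →
        g ∈ centralizer (zc (S : Subgroup G) : Set G) := by
      intro g h1 h2
      have h1' := mem_centralizer_singleton_iff.1 h1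
      have h2' := mem_centralizer_singleton_iff.1 h2
      refine mem_centralizer_iff.2 fun x hx => ?_
      have e0 : v 0 * g = g * v 0 ∧ v 1 * g = g * v 1 := by
        rcases fin_ne hij with ⟨rfl, rfl⟩ | ⟨rfl, rfl⟩
        · exact ⟨h1'.symm, h2'.symm⟩
        · exact ⟨h2'.symm, h1'.symm⟩
      rcases (t.zS h.toRB x).1 hx with rfl | rfl | rfl | rfl
      · simp
      · exact e0.1
      · exact e0.2
      · calc v 0 * v 1 * g = v 0 * (v 1 * g) := by group
          _ = (v 0 * g) * v 1 := by rw [e0.2]; group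
          _ = g * (v 0 * v 1) := by rw [e0.1]; group
    have D : LeftLett.At (MZ (S : Subgroup G)) (Wd (S : Subgroup G)) N E ⊥ phi b p (v i)
        (o2 (centralizer (zc (S : Subgroup G) : Set G))) := by
      refine { comp := ?_, two := MinSimple.VModule.o2_isPGroup _, OM := ?_, Oe := ?_, nO := ?_ }
      · rw [← hp]; exact t.comp i hb
      · exact (o2_le_S S).trans (S_le_MZ h.toRB.ctx h.toRB.full)
      · exact (o2_le_S S).trans (TwoO.le_cent_iff.2 (t.vS i))
      · intro g hg hgv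
        refine MinSimple.VModule.le_normalizer_o2 _ (hZ g hgv ?_)
        exact (centralizer_le (Set.singleton_subset_iff.2 (t.vV j))) (t.E_cent (t.notMem hij hb) hg)
    refine LeftLett.card_eq_three_mx hB.toFull D hA ?_ (fun x hx => ?_) hne
    · exact (le_iSup₂_of_le b hb le_rfl).trans (hVO i)
    · rw [pow_two]; exact wsq h.toRB x hx
  rcases t.cov b with hb | hb
  · exact key 0 1 (by decide) hb
  · exact key 1 0 (by decide) hb

/-- `V i ≤ O₂(C_G(Z))` -/
theorem VO_le (B : RB S) (T : TwoV (S : Subgroup G) (VO N O) v) (i : Fin 2) :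
    VO N O i ≤ o2 (centralizer (zc (S : Subgroup G) : Set G)) := by
  have h1 : VO N O i ≤ o2 (centralizer ({v i} : Set G)) := (T.fr B).VQ i
  have h2 : o2 (centralizer ({v i} : Set G)) ≤ (S : Subgroup G) :=
    MinSimple.VModule.o2_le_of_sylow S.isPGroup' (MinSimple.Basic.not_dvd_relIndex S (T.le_C i))
  refine h1.trans (MinSimple.VModule.le_o2 (h2.trans (MinSimple.VModule.le_centralizer_zc _))
    (MinSimple.VModule.o2_isPGroup _) ?_)
  exact (T.CZ_le i).trans (MinSimple.VModule.le_normalizer_o2 _)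

/-- best offenders on `V*` lie in `⨆ E b` -/
theorem bestE_of (h : Four S) (hF : ¬ Fld S) (hB : Bks S N E ⊥ Om phi) : BestE (S : Subgroup G) E := by
  intro A hA hb
  obtain ⟨P, A₀, hg⟩ := exists_gOne_rr h.toRB h.rr
  refine (TvExa.best_le_E h.toRB.ctx.char2 (Merge.isLoc_MZ h.toRB.ctx h.toRB.full h.toRB.data.noff) (gen_MZ S) hF
    hB.toFull hg.no hA hb).trans (sup_le inf_le_right ?_)
  exact (inf_le_inf_right _ hA).trans (cS_le hB)

/-- **LEMMA HJ**, `¬ Fld` -/
theorem noK2' (h : Four S) (hF : ¬ Fld S) (hB : Bks S N E ⊥ Om phi) (hlev : LevMv (S : Subgroup G))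
    (hj : ¬ HypJ (S : Subgroup G) N) :
    ∀ R, IsParS (S : Subgroup G) R → ¬ R ≤ normalizer (((S : Subgroup G) ⊓ ⨆ b, E b : Subgroup G) : Set G) :=
  noK2 h hB hlev (bestE_of h hF hB) hj

/-- at least three blocks -/
theorem three_blks [Fintype I] [DecidableEq I] (h : Four S) (hB : Bks S N E ⊥ Om phi)
    (t : TwoO S (MZ (S : Subgroup G)) (Wd (S : Subgroup G)) N E ⊥ z O v)
    (h3 : ∀ b, Fintype.card (Om b) = 3) : ∀ i j : I, ∃ k, k ≠ i ∧ k ≠ j := by
  have h1 : Fintype.card I ≠ 2 := fun h2 => FourThree.not_two h hB ⟨h2, h3⟩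
  obtain ⟨b, hb⟩ := (t.orb 0).ne
  obtain ⟨c, hc⟩ := (t.orb 1).ne
  have hbc : b ≠ c := fun e => t.dis b hb (e ▸ hc)
  have h2 : 2 ≤ Fintype.card I := by
    rw [← Finset.card_pair hbc]
    exact Finset.card_le_univ _
  intro i j
  by_contra hcon
  push Not at hcon
  have h4 : (Finset.univ : Finset I) ⊆ {i, j} := by
    intro k _
    by_cases hk : k = i
    · simp [hk]
    · simp [hcon k hk]
  have h5 := Finset.card_le_card h4
  rw [Finset.card_univ] at h5
  have h6 : ({i, j} : Finset I).card ≤ 2 := Finset.card_le_two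
  omega

end abs

section plug

variable (K : Cls.{u}) (B : Fr.{u})

/-- **The left case.** -/
def FourLeft : Prop :=
  ∀ (G : Type u) [Group G] [Finite G], K G → ∀ (S : Sylow 2 G), B G S → Four S → ¬ Fld S →
    ∀ (I : Type u) [Fintype I] [DecidableEq I] (N E : I → Subgroup G) (Om : I → Type u)
      [∀ i, Fintype (Om i)] [∀ i, DecidableEq (Om i)] (phi : ∀ i, Finset (Om i) → G), Bks S N E ⊥ Om phi →
      (∀ R, IsParS (S : Subgroup G) R → ¬ R ≤ normalizer (((S : Subgroup G) ⊓ ⨆ b, E b : Subgroup G) : Set G)) →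
      ∀ (z : I → G) (O : Fin 2 → Set I) (v : Fin 2 → G),
        TwoO S (MZ (S : Subgroup G)) (Wd (S : Subgroup G)) N E ⊥ z O v →
        (∀ b, Fintype.card (Om b) = 3) → (∀ i j : I, ∃ k, k ≠ i ∧ k ≠ j) →
        (∀ b, ∃ A, KL.TwoS.Mx (o2 (centralizer (zc (S : Subgroup G) : Set G))) A ∧ ¬ A ≤ centralizer (N b : Set G)) →
        IsKnownSimple' G

variable {K B}

/-- **`FourTwo` from its leaves.** -/
theorem fourTwo_of (hML : ML.Final.MLK.{u, u}) (hE : ML.Ex.Two.Ext.{u, u})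
    (hlev : ∀ (G : Type u) [Group G] [Finite G] (S : Sylow 2 G), B G S → Four S → LevMv (S : Subgroup G))
    (hL : FourLeft K B) : FourTwo K B := by
  intro G _ _ hK S hBS h hF I _ _ N E Om _ _ phi hB hj
  have hno := noK2' h hF hB (hlev G S hBS h) hj
  rcases cases_bks h hB with ⟨-, z, O, v, t⟩ | ⟨h1, -⟩ | ⟨-, htr⟩
  · have T := twoV h.toRB t hno
    have hr := T.rest h.toRB hML hE
    have hmv : ∀ i, ∃ A, KL.TwoS.Mx (o2 (centralizer (zc (S : Subgroup G) : Set G))) A ∧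
        ¬ A ≤ centralizer (VO N O i : Set G) := fun i => (hr i).2.2
    have h3 := three_of h hB t (VO_le h.toRB T) hmv
    refine hL G hK S hBS h hF I N E Om phi hB hno z O v t h3 (three_blks h hB t h3) fun b => ?_
    rcases t.cov b with hb | hb
    · exact mv_orb t (hmv 0) hb
    · exact mv_orb t (hmv 1) hb
  · exact absurd rfl h1
  · exact absurd (hypJ_trans hB (hlev G S hBS h) htr) hj

end plug

end Cfsg.Agent.Omega.NOThreeL.RRed.FourTwoP

end

section


/-!
# NO-3L, box R: one natural block (the `P`-local part of `InstZ.Nat1`, #25082)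

`P ∈ P*(S)` with the conclusion of the FF theorem, `V_P = W × C_(V_P)(O²(P))`, `|W| = |W ∩ Z|²`.

* `Nt.k_one`, `Nt.pt` : natural modules: one block, `W ∩ Z` is the line;
* `Nt.act` : `S` acts on `W` as the group of upper unitriangular matrices, `P` as `SL₂(F)`;
* `not_sym` : `V_P / C_(V_P)(O²(P))` is not a sum of even-subset modules;
* **`exists_nat`** : coordinates `NatSL F e W (W ∩ Z)`, `ActSL F e P`.
-/

set_option autoImplicit false
set_option linter.unusedSectionVars false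

namespace Cfsg.Agent.Omega.NOThreeL.RRed.Nat1Par

open Subgroup Cfsg Cfsg.Agent.ZN Cfsg.Agent.Omega.MinPar
open Cfsg.Agent.Omega.FFThm (NatKM SymKM NatK SymK ActsSL ActsSym ConclM)
open Cfsg.Agent.Omega.FrameFF (cv)
open Cfsg.Agent.Omega.NatPair (ap)
open Cfsg.Agent.Omega.KL.TwoZ (NatSL ActSL)
open Cfsg.Agent.Omega.NOThreeL.VF.Nat (ap_up_0 ap_up_1 ext2')
open Cfsg.Agent.Lib.SL2Mat
open scoped Pointwise

universe u

variable {G : Type u} [Group G]

/-- `W` is a `P`-invariant complement of `D` in the abelian group `V`. -/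
structure Cp (P V D W : Subgroup G) : Prop where
  le : W ≤ V
  nor : P ≤ normalizer (W : Set G)
  inf : W ⊓ D = ⊥
  sup : V ≤ W ⊔ D
  ab : ∀ x ∈ V, ∀ y ∈ V, x * y = y * x
  DV : D ≤ V

namespace Cp

variable {P V D W : Subgroup G} (c : Cp P V D W)
include c

theorem dec {v : G} (hv : v ∈ V) : ∃ w ∈ W, ∃ d ∈ D, v = w * d := by
  have h1 : D ≤ normalizer (W : Set G) := fun d hd => by
    rw [mem_normalizer_iff]
    intro x
    constructor
    · intro hx
      rw [c.ab d (c.DV hd) x (c.le hx), mul_inv_cancel_right]; exact hx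
    · intro hx
      have h2 := c.ab d (c.DV hd) _ (c.le hx)
      have h3 : x = d * x * d⁻¹ := by
        have e : d * (d * x * d⁻¹) = d * x := by rw [h2]; group
        exact (mul_left_cancel e).symm
      rw [h3]; exact hx
  have h2 : v ∈ ((W ⊔ D : Subgroup G) : Set G) := c.sup hv
  rw [coe_mul_of_right_le_normalizer_left _ _ h1] at h2
  obtain ⟨w, hw, d, hd, e⟩ := h2
  exact ⟨w, hw, d, hd, e.symm⟩

theorem cj {g w : G} (hg : g ∈ P) (hw : w ∈ W) : g * w * g⁻¹ ∈ W := (mem_normalizer_iff.1 (c.nor hg) w).1 hw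

end Cp

/-! ### Natural modules -/

section nat

variable {F : Type} [Field F] {T P V D W : Subgroup G} {k : ℕ}

theorem e_one (M : NatK F T P V D k) : M.e 1 = 0 := by
  have h := M.mul 1 (one_mem _) 1 (one_mem _)
  rw [one_mul] at h
  exact left_eq_add.1 h

theorem e_inv (M : NatK F T P V D k) {v : G} (hv : v ∈ V) : M.e v⁻¹ = - M.e v := by
  have h := M.mul v⁻¹ (inv_mem hv) v hv
  rw [inv_mul_cancel, e_one] at h
  exact eq_neg_of_add_eq_zero_left h.symm

theorem e_inj (M : NatK F T P V D k) (c : Cp P V D W) {v w : G} (hv : v ∈ W) (hw : w ∈ W) (h : M.e v = M.e w) :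
    v = w := by
  have h1 : M.e (v⁻¹ * w) = 0 := by
    rw [M.mul _ (V.inv_mem (c.le hv)) _ (c.le hw), e_inv M (c.le hv), h, neg_add_cancel]
  have h2 := (M.ker _ (V.mul_mem (V.inv_mem (c.le hv)) (c.le hw))).1 h1
  have h3 : v⁻¹ * w ∈ W ⊓ D := ⟨W.mul_mem (W.inv_mem hv) hw, h2⟩
  rw [c.inf, mem_bot] at h3
  exact inv_mul_eq_one.1 h3

theorem e_surj (M : NatK F T P V D k) (c : Cp P V D W) (x : Fin k → Fin 2 → F) : ∃ w ∈ W, M.e w = x := by
  obtain ⟨v, hv, hx⟩ := M.surj x
  obtain ⟨w, hw, d, hd, rfl⟩ := c.dec hv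
  refine ⟨w, hw, ?_⟩
  rw [M.mul w (c.le hw) d (c.DV hd), (M.ker d (c.DV hd)).2 hd, add_zero] at hx
  exact hx

theorem card_W (M : NatK F T P V D k) (c : Cp P V D W) [Finite F] : Nat.card W = Nat.card F ^ (2 * k) := by
  have e1 : W ≃ (Fin k → Fin 2 → F) := Equiv.ofBijective (fun w => M.e w.1)
    ⟨fun v w h => Subtype.ext (e_inj M c v.2 w.2 h), fun x => by
      obtain ⟨w, hw, e⟩ := e_surj M c x
      exact ⟨⟨w, hw⟩, e⟩⟩
  rw [Nat.card_congr e1, Nat.card_fun, Nat.card_fun, Nat.card_eq_fintype_card (α := Fin 2),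
    Nat.card_eq_fintype_card (α := Fin k), Fintype.card_fin, Fintype.card_fin, ← pow_mul]

/-- the coordinates of a `T`-fixed vector -/
theorem fixed_line (M : NatK F T P V D k) {z : G} (hz : z ∈ V) (hT : ∀ t ∈ T, t * z = z * t) (i : Fin k) :
    M.e z i 1 = 0 := by
  obtain ⟨t, ht, h1, -⟩ := M.unip fun _ => 1
  have h2 := congrFun (h1 z hz i) 0
  rw [hT t ht, mul_inv_cancel_right, ap_up_0, one_mul] at h2
  exact left_eq_add.1 h2

/-- `Z` : the `T`-fixed vectors of `W`; `|W| = |Z|²` -/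
theorem all_line (M : NatK F T P V D k) (c : Cp P V D W) [Finite F] {Z : Subgroup G} (hZW : Z ≤ W)
    (hT : ∀ z ∈ Z, ∀ t ∈ T, t * z = z * t) (hc : Nat.card W = Nat.card Z * Nat.card Z) (a : Fin k → F) :
    ∃ z ∈ Z, ∀ i, M.e z i = ![a i, 0] := by
  let f : Z → (Fin k → F) := fun z i => M.e z.1 i 0
  have hf : Function.Injective f := by
    intro z z' h
    refine Subtype.ext (e_inj M c (hZW z.2) (hZW z'.2) ?_)
    funext i
    refine ext2' (congrFun h i) ?_
    rw [fixed_line M (c.le (hZW z.2)) (hT _ z.2) i, fixed_line M (c.le (hZW z'.2)) (hT _ z'.2) i]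
  have hfin : Finite Z := Finite.of_injective f hf
  have hcard : Nat.card Z = Nat.card (Fin k → F) := by
    rw [Nat.card_fun, Nat.card_eq_fintype_card (α := Fin k), Fintype.card_fin]
    rw [card_W M c, two_mul, pow_add] at hc
    exact (Nat.mul_self_inj.1 hc).symm
  have hb : Function.Bijective f := (Nat.bijective_iff_injective_and_card f).2 ⟨hf, hcard⟩
  obtain ⟨z, hz⟩ := hb.2 a
  refine ⟨z, z.2, fun i => ext2' ?_ ?_⟩
  · exact congrFun hz i
  · exact fixed_line M (c.le (hZW z.2)) (hT _ z.2) i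

/-- **one block** -/
theorem k_one (M : NatK F T P V D k) (c : Cp P V D W) [Finite F] (hk : 0 < k) {Z : Subgroup G} (hZW : Z ≤ W)
    (hT : ∀ z ∈ Z, ∀ t ∈ T, t * z = z * t) (hc : Nat.card W = Nat.card Z * Nat.card Z) : k = 1 := by
  classical
  by_contra hne
  have h2 : 2 ≤ k := by omega
  let i : Fin k := ⟨0, by omega⟩
  let j : Fin k := ⟨1, by omega⟩
  have hij : j ≠ i := by
    intro h
    have := congrArg Fin.val h
    simp [i, j] at this
  obtain ⟨t, ht, h1⟩ := M.trans i j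
  obtain ⟨z, hz, hez⟩ := all_line M c hZW hT hc (Pi.single i 1)
  have h3 := h1 z (c.le (hZW hz))
  rw [hT z hz t ht, mul_inv_cancel_right] at h3
  have h4 : M.e z j = 0 := by
    rw [hez, Pi.single_eq_of_ne hij]
    exact ext2' rfl rfl
  have h5 := h3.1 h4
  rw [hez, Pi.single_eq_same] at h5
  exact one_ne_zero (congrFun h5 0)

/-! #### One block -/

/-- `g` acts on `W` as `A ∈ SL₂(F)` -/
def AcW (M : NatK F T P V D 1) (W : Subgroup G) (g : G) (A : Matrix.SpecialLinearGroup (Fin 2) F) : Prop :=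
  ∀ w ∈ W, M.e (g * w * g⁻¹) 0 = ap A (M.e w 0)

theorem ap_eq_mulVec (A : Matrix.SpecialLinearGroup (Fin 2) F) (x : Fin 2 → F) : ap A x = Matrix.mulVec A.1 x := by
  rw [Cfsg.Agent.Omega.KL.TwoZ.mulVec_two]
  rfl

theorem eq_up_of_fix {A : Matrix.SpecialLinearGroup (Fin 2) F} (h : ap A ![1, 0] = ![1, 0]) (v : Fin 2 → F) :
    ap A v = ![v 0 + A.1 0 1 * v 1, v 1] := by
  rw [ap_eq_mulVec] at h ⊢
  exact Cfsg.Agent.Omega.KL.TwoZ.sl_fix h v

variable [Finite G] [Finite F] [CharP F 2]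

/-- **`T` acts as the group of upper unitriangular matrices.** -/
theorem act_T (M : NatK F T P V D 1) (c : Cp P V D W) (hTP : T ≤ P) (hT2 : IsPGroup 2 T) {Z : Subgroup G}
    (hZW : Z ≤ W) (hT : ∀ z ∈ Z, ∀ t ∈ T, t * z = z * t) (hl : ∀ a : F, ∃ z ∈ Z, M.e z 0 = ![a, 0]) {t : G}
    (ht : t ∈ T) : ∃ b : F, AcW M W t (up b) := by
  have htP := hTP ht
  have hfix : ∀ z ∈ Z, t * z * t⁻¹ = z := fun z hz => by rw [hT z hz t ht, mul_inv_cancel_right]
  have mulW : ∀ v ∈ W, ∀ w ∈ W, M.e (v * w) 0 = M.e v 0 + M.e w 0 := fun v hv w hw => by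
    rw [M.mul v (c.le hv) w (c.le hw)]; rfl
  -- conjugates of the lifts
  have hnorm : ∀ A : Matrix.SpecialLinearGroup (Fin 2) F, ∃ h ∈ P, AcW M W h A ∧
      ∃ B : Matrix.SpecialLinearGroup (Fin 2) F, AcW M W (t * h * t⁻¹) B := by
    intro A
    obtain ⟨h, hh, hact, -⟩ := M.lift fun _ => A
    obtain ⟨B, hB⟩ := M.norm t htP h hh (fun _ => A) fun v hv i => hact v hv i
    exact ⟨h, hh, fun w hw => hact w (c.le hw) 0, B 0, fun w hw => hB w (c.le hw) 0⟩
  -- the second coordinate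
  have key : ∀ b : F, ∃ b' : F, ∀ w ∈ W, b' * M.e (t * w * t⁻¹) 0 1 = b * M.e w 0 1 := by
    intro b
    obtain ⟨h, hh, hA, B, hB⟩ := hnorm (up b)
    have hthP : t * h * t⁻¹ ∈ P := mul_mem (mul_mem htP hh) (inv_mem htP)
    have hline : ∀ a : F, ap B ![a, 0] = ![a, 0] := by
      intro a
      obtain ⟨z, hz, hez⟩ := hl a
      have hzW := hZW hz
      have h1 := hB z hzW
      have h2 : h * z * h⁻¹ = z := by
        refine e_inj M c (c.cj hh hzW) hzW ?_
        funext i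
        rw [Subsingleton.elim i 0, hA z hzW, hez]
        refine ext2' ?_ ?_
        · rw [ap_up_0]; simp
        · rw [ap_up_1]
      have h3 : t * h * t⁻¹ * z * (t * h * t⁻¹)⁻¹ = z := by
        have e1 : t⁻¹ * z * t = z := by
          have h4 := hfix z hz
          have e2 : t⁻¹ * (t * z * t⁻¹) * t = z := by group
          rw [h4] at e2; exact e2
        calc t * h * t⁻¹ * z * (t * h * t⁻¹)⁻¹ = t * (h * (t⁻¹ * z * t) * h⁻¹) * t⁻¹ := by group
          _ = z := by rw [e1, h2, hfix z hz]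
      rw [h3, hez] at h1
      exact h1.symm
    refine ⟨B.1 0 1, fun w hw => ?_⟩
    have htw := c.cj htP hw
    -- `h w h⁻¹ = w z`
    obtain ⟨z, hz, hez⟩ := hl (b * M.e w 0 1)
    have hzW := hZW hz
    have h1 : h * w * h⁻¹ = w * z := by
      refine e_inj M c (c.cj hh hw) (mul_mem hw hzW) ?_
      funext i
      rw [Subsingleton.elim i 0, hA w hw, mulW w hw z hzW, hez]
      refine ext2' ?_ ?_
      · rw [ap_up_0]; rfl
      · rw [ap_up_1]; simp
    have h2 := hB (t * w * t⁻¹) htw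
    have h3 : t * h * t⁻¹ * (t * w * t⁻¹) * (t * h * t⁻¹)⁻¹ = (t * w * t⁻¹) * z := by
      calc t * h * t⁻¹ * (t * w * t⁻¹) * (t * h * t⁻¹)⁻¹ = t * (h * w * h⁻¹) * t⁻¹ := by group
        _ = (t * w * t⁻¹) * (t * z * t⁻¹) := by rw [h1]; group
        _ = _ := by rw [hfix z hz]
    rw [h3, mulW _ htw z hzW, hez, eq_up_of_fix (hline 1)] at h2
    have h4 := congrFun h2 0
    simp only [Pi.add_apply, Matrix.cons_val_zero] at h4
    exact (add_left_cancel h4).symm
  obtain ⟨w₁, hw₁, hew₁⟩ := e_surj M c fun _ => ![0, 1]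
  have hew₁' : M.e w₁ 0 = ![0, 1] := congrFun hew₁ 0
  set γ : F := M.e (t * w₁ * t⁻¹) 0 1 with hγ
  have hγ0 : γ ≠ 0 := by
    obtain ⟨b', hb'⟩ := key 1
    have h1 := hb' w₁ hw₁
    rw [hew₁', ← hγ] at h1
    intro h0
    rw [h0, mul_zero] at h1
    simp at h1
  have hsec : ∀ w ∈ W, M.e (t * w * t⁻¹) 0 1 = γ * M.e w 0 1 := by
    intro w hw
    obtain ⟨b', hb'⟩ := key 1
    have h1 := hb' w₁ hw₁
    rw [hew₁', ← hγ] at h1
    have h2 := hb' w hw
    have h3 : b' = γ⁻¹ := by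
      simp only [Matrix.cons_val_one, Matrix.cons_val_fin_one, mul_one] at h1
      exact eq_inv_of_mul_eq_one_left h1
    rw [h3, one_mul] at h2
    rw [← h2, mul_inv_cancel_left₀ hγ0]
  -- `γ = 1`
  have hpow : ∀ n : ℕ, ∀ w ∈ W, M.e (t ^ n * w * (t ^ n)⁻¹) 0 1 = γ ^ n * M.e w 0 1 := by
    intro n
    induction n with
    | zero => intro w _; simp
    | succ n ih =>
      intro w hw
      have e1 : t ^ (n + 1) * w * (t ^ (n + 1))⁻¹ = t * (t ^ n * w * (t ^ n)⁻¹) * t⁻¹ := by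
        rw [pow_succ']; group
      rw [e1, hsec _ (c.cj (pow_mem htP n) hw), ih w hw, pow_succ']
      ring
  have hγ1 : γ = 1 := by
    obtain ⟨m, hm⟩ := hT2 ⟨t, ht⟩
    have hm' : t ^ 2 ^ m = 1 := congrArg Subtype.val hm
    have h1 := hpow (2 ^ m) w₁ hw₁
    rw [hm', hew₁'] at h1
    simp only [one_mul, inv_one, mul_one, hew₁', Matrix.cons_val_one, Matrix.cons_val_fin_one] at h1
    have hp : Fact (Nat.Prime 2) := ⟨Nat.prime_two⟩
    have h2 : (γ - 1) ^ 2 ^ m = 0 := by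
      rw [sub_pow_char_pow, ← h1, one_pow, sub_self]
    exact sub_eq_zero.1 (pow_eq_zero_iff (by positivity) |>.1 h2)
  rw [hγ1] at hsec
  -- the first coordinate
  set b : F := M.e (t * w₁ * t⁻¹) 0 0 with hb
  -- additive part
  have hadd : ∀ w ∈ W, ∀ w' ∈ W, M.e w 0 1 = M.e w' 0 1 →
      M.e (t * w * t⁻¹) 0 0 - M.e w 0 0 = M.e (t * w' * t⁻¹) 0 0 - M.e w' 0 0 := by
    intro w hw w' hw' h1
    obtain ⟨z, hz, hez⟩ := hl (M.e w' 0 0 - M.e w 0 0)
    have hzW := hZW hz
    have h2 : w' = w * z := by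
      refine e_inj M c hw' (mul_mem hw hzW) ?_
      funext i
      rw [Subsingleton.elim i 0, mulW w hw z hzW, hez]
      refine ext2' ?_ ?_
      · simp
      · simp [h1]
    have h3 : t * w' * t⁻¹ = (t * w * t⁻¹) * z := by
      rw [h2]
      calc t * (w * z) * t⁻¹ = (t * w * t⁻¹) * (t * z * t⁻¹) := by group
        _ = _ := by rw [hfix z hz]
    rw [h3, mulW _ (c.cj htP hw) z hzW, hez]
    simp only [Pi.add_apply, Matrix.cons_val_zero]
    ring
  have hlin : ∀ x : F, ∀ w ∈ W, M.e w 0 1 = x → M.e (t * w * t⁻¹) 0 0 - M.e w 0 0 = b * x := by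
    obtain ⟨h, hh, hA, B, hB⟩ := hnorm (lo 1)
    -- for every `x`
    have main : ∀ x : F, ∃ w ∈ W, M.e w 0 1 = x ∧
        ap B ![x, 0] = ![x + (M.e (t * w * t⁻¹) 0 0 - M.e w 0 0), x] := by
      intro x
      obtain ⟨z, hz, hez⟩ := hl x
      have hzW := hZW hz
      refine ⟨h * z * h⁻¹, c.cj hh hzW, ?_, ?_⟩
      · rw [hA z hzW, hez, NatPair.ap_one', lo_10, lo_11]
        simp
      · have h1 := hB z hzW
        have h3 : t * h * t⁻¹ * z * (t * h * t⁻¹)⁻¹ = t * (h * z * h⁻¹) * t⁻¹ := by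
          have e1 : t⁻¹ * z * t = z := by
            have h4 := hfix z hz
            have e2 : t⁻¹ * (t * z * t⁻¹) * t = z := by group
            rw [h4] at e2; exact e2
          calc t * h * t⁻¹ * z * (t * h * t⁻¹)⁻¹ = t * (h * (t⁻¹ * z * t) * h⁻¹) * t⁻¹ := by group
            _ = _ := by rw [e1]
        rw [h3, hez] at h1
        rw [← h1]
        have h5 : M.e (h * z * h⁻¹) 0 = ![x, x] := by
          rw [hA z hzW, hez]
          refine ext2' ?_ ?_
          · rw [NatPair.ap_zero', lo_00, lo_01]; simp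
          · rw [NatPair.ap_one', lo_10, lo_11]; simp
        refine ext2' ?_ ?_
        · rw [h5]; simp
        · rw [hsec _ (c.cj hh hzW), h5]; simp
    intro x w hw hx
    obtain ⟨w', hw', hx', h1⟩ := main x
    rw [hadd w hw w' hw' (hx.trans hx'.symm)]
    obtain ⟨w'', hw'', hx'', h2⟩ := main 1
    have h3 : ap B ![x, 0] = x • ap B ![1, 0] := by
      have e1 : (![x, 0] : Fin 2 → F) = x • ![1, 0] := by
        refine ext2' ?_ ?_ <;> simp
      rw [e1, NatPair.ap_smul]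
    have h4 : M.e (t * w'' * t⁻¹) 0 0 - M.e w'' 0 0 = b := by
      rw [hadd w'' hw'' w₁ hw₁ (by rw [hx'', hew₁']; simp), ← hb, hew₁']
      simp
    rw [h1, h2, h4] at h3
    have h5 := congrFun h3 0
    simp only [Matrix.cons_val_zero, Pi.smul_apply, smul_eq_mul] at h5
    have h6 : x + (M.e (t * w' * t⁻¹) 0 0 - M.e w' 0 0) = x + b * x := by rw [h5]; ring
    exact add_left_cancel h6
  refine ⟨b, fun w hw => ext2' ?_ ?_⟩
  · rw [ap_up_0]
    have h1 := hlin _ w hw rfl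
    rw [← h1]; ring
  · rw [ap_up_1, hsec w hw, one_mul]

/-- **`P` acts as `SL₂(F)`.** -/
theorem act_P (M : NatK F T P V D 1) (c : Cp P V D W) (hTP : T ≤ P) (hT2 : IsPGroup 2 T) {Z : Subgroup G}
    (hZW : Z ≤ W) (hT : ∀ z ∈ Z, ∀ t ∈ T, t * z = z * t) (hl : ∀ a : F, ∃ z ∈ Z, M.e z 0 = ![a, 0]) {g : G}
    (hg : g ∈ P) : ∃ A, AcW M W g A := by
  let K : Subgroup G :=
    { carrier := {g | g ∈ P ∧ ∃ A, AcW M W g A}
      mul_mem' := by
        rintro x y ⟨hx, A, hA⟩ ⟨hy, B, hB⟩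
        refine ⟨mul_mem hx hy, A * B, fun w hw => ?_⟩
        have e1 : x * y * w * (x * y)⁻¹ = x * (y * w * y⁻¹) * x⁻¹ := by group
        rw [e1, hA _ (c.cj hy hw), hB w hw, NatPair.ap_mul]
      one_mem' := ⟨one_mem _, 1, fun w _ => by rw [NatPair.ap_one]; simp⟩
      inv_mem' := by
        rintro x ⟨hx, A, hA⟩
        refine ⟨inv_mem hx, A⁻¹, fun w hw => ?_⟩
        have h1 := hA _ (c.cj (inv_mem hx) hw)
        have e1 : x * (x⁻¹ * w * x⁻¹⁻¹) * x⁻¹ = w := by group
        rw [e1] at h1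
        rw [h1, ← NatPair.ap_mul, inv_mul_cancel, NatPair.ap_one] }
  have h1 : P ≤ K := by
    refine M.gen K ?_ ?_
    · intro t ht
      obtain ⟨b, hb⟩ := act_T M c hTP hT2 hZW hT hl ht
      exact ⟨hTP ht, up b, hb⟩
    · intro h hh A hA
      exact ⟨hh, A 0, fun w hw => hA.1 w (c.le hw) 0⟩
  exact (h1 hg).2

/-- **The coordinates.** -/
theorem natSL (M : NatK F T P V D 1) (c : Cp P V D W) (hTP : T ≤ P) (hT2 : IsPGroup 2 T) {Z : Subgroup G}
    (hZW : Z ≤ W) (hT : ∀ z ∈ Z, ∀ t ∈ T, t * z = z * t) (hl : ∀ a : F, ∃ z ∈ Z, M.e z 0 = ![a, 0]) :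
    ∃ e : (Fin 2 → F) → G, NatSL F e W Z ∧ ActSL F e P := by
  have hex : ∀ v : Fin 2 → F, ∃ w ∈ W, M.e w 0 = v := fun v => by
    obtain ⟨w, hw, h⟩ := e_surj M c fun _ => v
    exact ⟨w, hw, congrFun h 0⟩
  have inj : ∀ v ∈ W, ∀ w ∈ W, M.e v 0 = M.e w 0 → v = w := fun v hv w hw h =>
    e_inj M c hv hw (funext fun i => by rw [Subsingleton.elim i 0]; exact h)
  have mulW : ∀ v ∈ W, ∀ w ∈ W, M.e (v * w) 0 = M.e v 0 + M.e w 0 := fun v hv w hw => by
    rw [M.mul v (c.le hv) w (c.le hw)]; rfl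
  choose e heW he using hex
  have heq : ∀ w ∈ W, e (M.e w 0) = w := fun w hw => inj _ (heW _) _ hw (he _)
  have hconj : ∀ g ∈ P, ∀ A, AcW M W g A → ∀ v, g * e v * g⁻¹ = e (Matrix.mulVec A.1 v) := by
    intro g hg A hA v
    refine inj _ (c.cj hg (heW v)) _ (heW _) ?_
    rw [hA _ (heW v), he, he, ap_eq_mulVec]
  refine ⟨e, ⟨fun v w => ?_, fun v w h => ?_, fun x => ⟨fun hx => ⟨M.e x 0, heq x hx⟩, ?_⟩,
    fun x => ⟨fun hx => ⟨M.e x 0 0, ?_⟩, ?_⟩⟩, ⟨fun r hr => ?_, fun A => ?_⟩⟩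
  · exact inj _ (heW _) _ (mul_mem (heW v) (heW w)) (by rw [mulW _ (heW v) _ (heW w), he, he, he])
  · rw [← he v, ← he w, h]
  · rintro ⟨v, rfl⟩
    exact heW v
  · have h1 : M.e x 0 = ![M.e x 0 0, 0] := ext2' (by simp) (by
      rw [fixed_line M (c.le (hZW hx)) (hT x hx) 0]; simp)
    rw [← h1]
    exact heq x (hZW hx)
  · rintro ⟨a, rfl⟩
    obtain ⟨z, hz, hez⟩ := hl a
    rw [← hez, heq z (hZW hz)]
    exact hz
  · obtain ⟨A, hA⟩ := act_P M c hTP hT2 hZW hT hl hr
    exact ⟨A, hconj r hr A hA⟩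
  · obtain ⟨g, hg, hA, -⟩ := M.lift fun _ => A
    exact ⟨g, hg, hconj g hg A fun w hw => hA w (c.le hw) 0⟩

end nat

/-! ### Even-subset modules -/

section sym

variable {T P V D W : Subgroup G} {k m : ℕ}

theorem not_sym [Finite G] (M : SymK T P V D k m) (c : Cp P V D W) (hk : 0 < k) (hm : 2 ≤ m)
    (hPV : P ≤ normalizer (V : Set G)) (hTP : T ≤ P) (hT2 : ¬ 2 ∣ T.relIndex P) {Z : Subgroup G} (hZW : Z ≤ W)
    (hT : ∀ z ∈ Z, ∀ t ∈ T, t * z = z * t) (hc : Nat.card W = Nat.card Z * Nat.card Z) : False := by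
  classical
  have e_one : M.e 1 = 0 := by
    have h := M.mul 1 (one_mem _) 1 (one_mem _)
    rw [one_mul] at h
    exact left_eq_add.1 h
  have inj : ∀ v ∈ W, ∀ w ∈ W, M.e v = M.e w → v = w := by
    intro v hv w hw h
    have h0 : M.e v⁻¹ = - M.e v := by
      have h := M.mul v⁻¹ (inv_mem (c.le hv)) v (c.le hv)
      rw [inv_mul_cancel, e_one] at h
      exact eq_neg_of_add_eq_zero_left h.symm
    have h1 : M.e (v⁻¹ * w) = 0 := by
      rw [M.mul _ (V.inv_mem (c.le hv)) _ (c.le hw), h0, h, neg_add_cancel]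
    have h2 := (M.ker _ (V.mul_mem (V.inv_mem (c.le hv)) (c.le hw))).1 h1
    have h3 : v⁻¹ * w ∈ W ⊓ D := ⟨W.mul_mem (W.inv_mem hv) hw, h2⟩
    rw [c.inf, mem_bot] at h3
    exact inv_mul_eq_one.1 h3
  -- `|Z| ≤ 2^k`
  have hZ : Nat.card Z ≤ 2 ^ k := by
    let f : Z → (Fin k → Bool) := fun z i => decide (M.e z.1 i = 0)
    have hf : Function.Injective f := by
      intro z z' h
      refine Subtype.ext (inj _ (hZW z.2) _ (hZW z'.2) ?_)
      funext i
      have h1 := congrFun h i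
      have c1 := IId.SwCv.Spl.fixed_cases M hPV hTP hT2 (by omega) i (c.le (hZW z.2)) (fun t ht => hT _ z.2 t ht)
      have c2 := IId.SwCv.Spl.fixed_cases M hPV hTP hT2 (by omega) i (c.le (hZW z'.2)) (fun t ht => hT _ z'.2 t ht)
      by_cases h0 : M.e z.1 i = 0
      · have h2 : M.e z'.1 i = 0 := by
          have : f z i = true := decide_eq_true h0
          rw [h1] at this
          exact of_decide_eq_true this
        rw [h0, h2]
      · have h2 : M.e z'.1 i ≠ 0 := by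
          have : f z i = false := decide_eq_false h0
          rw [h1] at this
          exact of_decide_eq_false this
        rw [c1.resolve_left h0, c2.resolve_left h2]
    have h1 := Nat.card_le_card_of_injective f hf
    rw [Nat.card_fun, Nat.card_eq_fintype_card (α := Fin k), Nat.card_eq_fintype_card (α := Bool), Fintype.card_fin,
      Fintype.card_bool] at h1
    exact h1
  -- `|W| ≥ 2^(2^m k)`
  have hW : 2 ^ (2 ^ m * k) ≤ Nat.card W := by
    have hex : ∀ y : Fin k → Fin (2 ^ m) → ZMod 2, ∃ w : W,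
        M.e w = fun i => Fin.cons (∑ x, y i x) (y i) := by
      intro y
      obtain ⟨v, hv, hev⟩ := M.surj (fun i => Fin.cons (∑ x, y i x) (y i)) fun i => by
        rw [Fin.sum_univ_succ, Fin.cons_zero]
        simp only [Fin.cons_succ]
        exact CharTwo.add_self_eq_zero _
      obtain ⟨w, hw, d, hd, rfl⟩ := c.dec hv
      refine ⟨⟨w, hw⟩, ?_⟩
      rw [M.mul w (c.le hw) d (c.DV hd), (M.ker d (c.DV hd)).2 hd, add_zero] at hev
      exact hev
    choose g hg using hex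
    have hg' : Function.Injective g := by
      intro y y' h
      have h1 := hg y
      rw [h, hg y'] at h1
      funext i x
      have h2 := congrFun (congrFun h1 i) x.succ
      simpa using h2.symm
    have h1 := Nat.card_le_card_of_injective g hg'
    rw [Nat.card_fun, Nat.card_fun, Nat.card_eq_fintype_card (α := Fin k), Nat.card_eq_fintype_card (α := Fin (2 ^ m)),
      Fintype.card_fin, Fintype.card_fin, Nat.card_eq_fintype_card (α := ZMod 2), ZMod.card, ← pow_mul] at h1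
    exact h1
  have h1 : Nat.card Z * Nat.card Z ≤ 2 ^ k * 2 ^ k := Nat.mul_le_mul hZ hZ
  rw [← hc, ← pow_add] at h1
  have h2 := (Nat.pow_le_pow_iff_right (by norm_num : 1 < 2)).1 (hW.trans h1)
  have h3 : 2 ^ 2 ≤ 2 ^ m := Nat.pow_le_pow_right (by norm_num) hm
  have h4 : 2 ^ 2 * k ≤ 2 ^ m * k := Nat.mul_le_mul_right _ h3
  omega

end sym

/-! ### `P ∈ P*(S)` -/

/-- **The `P`-local part of `Nat1`.** -/
theorem exists_nat [Finite G] (hG : IsCharacteristicTwoType G) {S : Sylow 2 G} {P W : Subgroup G}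
    (hP : IsParS (S : Subgroup G) P) (hcon : ConclM (S : Subgroup G) P)
    (hsp : RTreeA.SplitBy (S : Subgroup G) P (cv (S : Subgroup G) P) W)
    (hc : Nat.card W = Nat.card ↥(W ⊓ zc (S : Subgroup G)) * Nat.card ↥(W ⊓ zc (S : Subgroup G))) :
    ∃ (F : Type) (_ : Field F) (_ : Finite F) (e : (Fin 2 → F) → G),
      NatSL F e W (W ⊓ zc (S : Subgroup G)) ∧ ActSL F e P := by
  have hVc : ∀ x ∈ zl (S : Subgroup G) P, ∀ y ∈ zl (S : Subgroup G) P, x * y = y * x := fun x hx y hy =>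
    MinSimple.VModule.zc_comm _ _ (hP.isLoc.zl_le S hG hx) _ (hP.isLoc.zl_le S hG hy)
  have c : Cp P (zl (S : Subgroup G) P) (cv (S : Subgroup G) P) W :=
    ⟨hsp.1, hsp.2.1, hsp.2.2.1, hsp.2.2.2, hVc, inf_le_left⟩
  have hfix : ∀ z ∈ W ⊓ zc (S : Subgroup G), ∀ t ∈ (S : Subgroup G), t * z = z * t := fun z hz t ht =>
    (MinSimple.VModule.mem_zc.1 hz.2).2.1 t ht
  rcases hcon with ⟨F, _, _, _, k, hk, ⟨M⟩⟩ | ⟨k, m, hk, hm, ⟨M⟩⟩
  · have h1 := k_one M.toNatK c hk inf_le_left hfix hc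
    subst h1
    obtain ⟨e, he⟩ := natSL M.toNatK c hP.le S.isPGroup' inf_le_left hfix (fun a => by
      obtain ⟨z, hz, h⟩ := all_line M.toNatK c inf_le_left hfix hc fun _ => a
      exact ⟨z, hz, h 0⟩)
    exact ⟨F, inferInstance, inferInstance, e, he⟩
  · exact (not_sym M.toSymK c hk hm (MinSimple.VModule.le_normalizer_zl _ _) hP.le
      (MinSimple.Basic.not_dvd_relIndex S hP.le) inf_le_left hfix hc).elim

end Cfsg.Agent.Omega.NOThreeL.RRed.Nat1Par

end

section


/-!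
# NO-3L, box R: `InstZ.Nat1` from the `P`-local data (#25082)

* **`nat1_of`** : for each `i` one `P ∈ P*(S)` in `C_G(Z_(i+1))` with `V_P = V i × C_(V_P)(O²(P))`, `|V i| = |Z_i|²`, every
  `R ∈ P*(S)` which moves `Z_i` has `V i ∩ C_(V_R)(O²(R)) = 1`: then `Nat1 S V`;
* `splitBy_of` : `SplitBy` from `V i ≤ V_P`, `V i ∩ C(O²(P)) = 1`, `P` normalises `V i`, `Z = Z_i C_Z(P)`.
-/

set_option autoImplicit false
set_option linter.unusedSectionVars false

namespace Cfsg.Agent.Omega.NOThreeL.RRed.Nat1Of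

open Subgroup Cfsg Cfsg.Agent.ZN Cfsg.Agent.Omega.MinPar
open Cfsg.Agent.Omega.FFThm (ConclM)
open Cfsg.Agent.Omega.FrameFF (cv)
open Cfsg.Agent.Omega.KL.TwoZ (NatSL ActSL)
open Cfsg.Agent.Omega.NOThreeL.RRed.InstZ (Nat1 ZZ)
open Cfsg.Agent.Omega.NOThreeL.RTreeA (SplitBy)
open Cfsg.Agent.MinSimple.VModule (zc_le_zl oddGen)
open scoped Pointwise

universe u

variable {G : Type u} [Group G]

/-- `C_Z(P) ≤ C_(V_P)(O²(P))` -/
theorem mem_cv_of [Finite G] {S R : Subgroup G} {z : G} (hz : z ∈ zc S) (hR : R ≤ centralizer ({z} : Set G)) :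
    z ∈ cv S R := by
  refine mem_inf.2 ⟨zc_le_zl S R hz, mem_centralizer_iff.2 fun x hx => ?_⟩
  have h1 : oddGen R ≤ centralizer ({z} : Set G) := by
    rw [MinSimple.VModule.oddGen_def, closure_le]
    rintro g ⟨hg, -⟩
    exact hR hg
  exact (mem_centralizer_singleton_iff.1 (h1 hx))

/-- `Z = (W ∩ Z) C_Z(P)` and `W ∩ C_(V_P)(O²(P)) = 1` give the splitting. -/
theorem splitBy_of [Finite G] {S P W : Subgroup G} (h1 : W ≤ zl S P) (h2 : P ≤ normalizer (W : Set G))
    (h3 : W ⊓ cv S P = ⊥)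
    (h4 : ∀ z ∈ zc S, ∃ w ∈ W, ∃ y ∈ zc S, P ≤ centralizer ({y} : Set G) ∧ z = w * y) :
    SplitBy S P (cv S P) W := by
  refine ⟨h1, h2, h3, ?_⟩
  have hn : P ≤ normalizer ((W ⊔ cv S P : Subgroup G) : Set G) := by
    have h5 : P ≤ normalizer (cv S P : Set G) := by
      intro g hg
      rw [mem_normalizer_iff]
      intro x
      constructor
      · intro hx
        exact RRed.Blk.SplitTwo.conj_cv hg hx
      · intro hx
        have h6 := RRed.Blk.SplitTwo.conj_cv (S := S) (P := P) (inv_mem hg) hx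
        have e : g⁻¹ * (g * x * g⁻¹) * g⁻¹⁻¹ = x := by group
        rwa [e] at h6
    exact RRed.CM.norm_sup h2 h5
  refine MinSimple.VModule.zl_le (fun z hz => ?_) hn
  obtain ⟨w, hw, y, hy, hP, rfl⟩ := h4 z hz
  exact mul_mem (mem_sup_left hw) (mem_sup_right (mem_cv_of hy hP))

/-- **`Nat1` from the `P`-local data.** -/
theorem nat1_of [Finite G] (hG : IsCharacteristicTwoType G) {S : Sylow 2 G} {V : Fin 2 → Subgroup G}
    (hex : ∀ i, ∃ P, IsParS (S : Subgroup G) P ∧ P ≤ centralizer (ZZ (S : Subgroup G) V (i + 1) : Set G) ∧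
      ConclM (S : Subgroup G) P ∧ SplitBy (S : Subgroup G) P (cv (S : Subgroup G) P) (V i))
    (hc : ∀ i, Nat.card (V i) = Nat.card ↥(ZZ (S : Subgroup G) V i) * Nat.card ↥(ZZ (S : Subgroup G) V i))
    (hmv : ∀ i, ∀ R, IsParS (S : Subgroup G) R → ¬ R ≤ centralizer (ZZ (S : Subgroup G) V i : Set G) →
      V i ⊓ cv (S : Subgroup G) R = ⊥)
    (nV : ∀ n ∈ normalizer ((S : Subgroup G) : Set G), (∀ i, MulAut.conj n • V i = V i) ∨
      ∀ i, MulAut.conj n • V i = V (i + 1)) : Nat1 S V where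
  ex i := by
    obtain ⟨P, hP, hPC, hcon, hsp⟩ := hex i
    obtain ⟨F, i1, i2, e, h1, h2⟩ := Nat1Par.exists_nat hG hP hcon hsp (hc i)
    exact ⟨F, i1, i2, e, P, h1, hP, hPC, h2⟩
  mvs i R hR hRn z hz hz1 hRz := by
    have h1 : z ∈ V i ⊓ cv (S : Subgroup G) R := ⟨hz.1, mem_cv_of hz.2 hRz⟩
    rw [hmv i R hR hRn, mem_bot] at h1
    exact hz1 h1
  nV := nV

end Cfsg.Agent.Omega.NOThreeL.RRed.Nat1Of

end

section


/-!
# Project SQT: the socket `FourOf` over `QK` (cut of helper673)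

`RR S = 1`, `|Z| = 4`, `m_3(G) ≤ 2`.  `Dec.small` (949): at most two blocks, of at most five letters if there are two,
of at most seven letters if there is one.

* `no_k2` : two `S`-orbits of blocks (so two blocks): there is no (K2) in `P*(S)`;
* **`seven`** : `R₀ = 1` implies that there is one block, and it has seven letters;
* **`fourQ`** : `FourOf QK B` from `FourFld` (fields), `FourSeven` (one block of seven letters) and `FourRest`
  (`R₀ ≠ 1`); the sockets `FourJ`, `FourTwo` are not needed.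
-/

set_option autoImplicit false
set_option linter.unusedSectionVars false

namespace Cfsg.Agent.Omega.SQT.FourQ

open Subgroup Cfsg Cfsg.Agent.ZN Cfsg.Agent.Omega.MinPar Cfsg.Agent.Omega.Frame Cfsg.Agent.Omega.FrameNOFF
open Cfsg.Agent.Omega.Node.NO3L Cfsg.Agent.Omega.NOThreeL.Basic Cfsg.Agent.Omega.NOThreeL.RTree
open Cfsg.Agent.Omega.NOThreeL.Merge (MZ)
open Cfsg.Agent.Omega.KL.TwoS (Rel Lett)
open Cfsg.Agent.Omega.NOThreeL.RRed
open Cfsg.Agent.Omega.NOThreeL.RTreeF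
open Cfsg.Agent.Omega.NOThreeL.RRed.FourTree
open Cfsg.Agent.Omega.NOThreeL.RRed.Blk
open Cfsg.Agent.Omega.NOThreeL.RRed.GlueSig (FourOf Fr)
open Cfsg.Agent.Omega.SQT.Main (QK)
open Cfsg.Agent.MinSimple.VModule (oddGen)
open scoped Pointwise

universe u

section perm

variable {G : Type u} [Group G] {I : Type u} {S L U R₀ : Subgroup G} {N E : I → Subgroup G}

/-- at most two blocks: squares fix the blocks -/
theorem sq_fix (D : Dec S L U N E R₀) (h2 : ∀ a b c : I, a ≠ b → a ≠ c → b ≠ c → False) {g : G} (hg : g ∈ L)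
    (b : I) : MulAut.conj (g * g) • N b = N b := by
  obtain ⟨c, hc, -⟩ := D.perm g hg b
  obtain ⟨d, hd, -⟩ := D.perm g hg c
  have e : MulAut.conj (g * g) • N b = N d := by rw [map_mul, mul_smul, hc, hd]
  by_cases hcb : c = b
  · subst hcb
    rw [e, ← hd, hc]
  · by_cases hdb : d = b
    · rw [e, hdb]
    · have hdc : d ≠ c := by
        rintro rfl
        exact hcb (D.Ninj (smul_left_cancel _ (hc.trans hd.symm))).symm
      exact (h2 b c d (Ne.symm hcb) (Ne.symm hdb) (Ne.symm hdc)).elim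

/-- at most two blocks: elements of odd order fix the blocks -/
theorem odd_fix (D : Dec S L U N E R₀) (h2 : ∀ a b c : I, a ≠ b → a ≠ c → b ≠ c → False) {g : G} (hg : g ∈ L)
    (ho : Odd (orderOf g)) (b : I) : MulAut.conj g • N b = N b := by
  obtain ⟨j, hj⟩ := ho
  have h1 : (g * g) ^ (j + 1) = g := by
    rw [← pow_two, ← pow_mul, show 2 * (j + 1) = orderOf g + 1 by omega, pow_succ, pow_orderOf_eq_one, one_mul]
  have h3 : MulAut.conj (g * g) ∈ MulAction.stabilizer (MulAut G) (N b) :=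
    MulAction.mem_stabilizer_iff.2 (sq_fix D h2 hg b)
  have h4 := pow_mem h3 (j + 1)
  rw [← map_pow, h1] at h4
  exact MulAction.mem_stabilizer_iff.1 h4

end perm

section two

variable {G : Type u} [Group G] [Finite G] {S : Sylow 2 G} {I : Type u} [Finite I] {N E : I → Subgroup G}
  {z : I → G} {O : Fin 2 → Set I} {v : Fin 2 → G}

/-- two orbits, at most two blocks: every orbit consists of one block -/
theorem orb_one (t : TwoO S (MZ (S : Subgroup G)) (Wd (S : Subgroup G)) N E ⊥ z O v)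
    (h2 : ∀ a b c : I, a ≠ b → a ≠ c → b ≠ c → False) {i : Fin 2} {b c : I} (hb : b ∈ O i) (hc : c ∈ O i) :
    c = b := by
  by_contra hne
  obtain ⟨d, hd⟩ := (t.orb (i + 1)).ne
  have hij : i ≠ i + 1 := OM.KTwo.ne_add_one i
  exact h2 c b d hne (fun e => t.notMem hij hc (e ▸ hd)) fun e => t.notMem hij hb (e ▸ hd)

/-- then `v i = z b` -/
theorem v_eq (t : TwoO S (MZ (S : Subgroup G)) (Wd (S : Subgroup G)) N E ⊥ z O v)
    (h2 : ∀ a b c : I, a ≠ b → a ≠ c → b ≠ c → False) {i : Fin 2} {b : I} (hb : b ∈ O i) : v i = z b := by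
  have h1 : v i ∈ N b := by
    have h3 : (⨆ c ∈ O i, N c) ≤ N b := iSup₂_le fun c hc => by rw [orb_one t h2 hb hc]
    exact h3 (t.vV i)
  exact t.dec.uniq (t.dec.comp_self h1) (t.comp i hb)

/-- **Two orbits of blocks, at most two blocks: no (K2) in `P*(S)`.** -/
theorem no_k2 (h : Four S) (t : TwoO S (MZ (S : Subgroup G)) (Wd (S : Subgroup G)) N E ⊥ z O v)
    (h2 : ∀ a b c : I, a ≠ b → a ≠ c → b ≠ c → False) (R : Subgroup G) (hR : IsParS (S : Subgroup G) R) :
    ¬ R ≤ normalizer (((S : Subgroup G) ⊓ ⨆ b, E b : Subgroup G) : Set G) := by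
  intro hn
  have hfix : ∀ i : Fin 2, R ≤ centralizer ({v i} : Set G) := by
    intro i
    obtain ⟨b, hb⟩ := (t.orb i).ne
    rw [← NoFF.LinesPlug.oddGen_sup hR.le (MinSimple.Basic.not_dvd_relIndex S hR.le)]
    refine sup_le ?_ (TwoO.le_cent_iff.2 (t.vS i))
    rw [MinSimple.VModule.oddGen_def, closure_le]
    rintro g ⟨hg, ho⟩
    have h1 := t.dec.k2 t.one (NOThreeL.Merge.le_MZ hR hg) (hn hg) (odd_fix t.dec h2 (NOThreeL.Merge.le_MZ hR hg) ho b)
    rw [← v_eq t h2 hb] at h1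
    rw [SetLike.mem_coe, mem_centralizer_singleton_iff]
    calc g * v i = (g * v i * g⁻¹) * g := by group
      _ = v i * g := by rw [h1]
  have hne : v 0 ≠ v 1 := by
    obtain ⟨b, hb⟩ := (t.orb 0).ne
    intro e
    have h1 := t.comp 0 hb
    rw [e] at h1
    exact t.one.z1 b (t.dec.uniq h1 (t.comp' 1 (t.dis b hb)))
  refine hR.not_zc (le_trans (fun r hr => ?_) (centralizer_le_normalizer _))
  have h0 := mem_centralizer_singleton_iff.1 (hfix 0 hr)
  have h1 := mem_centralizer_singleton_iff.1 (hfix 1 hr)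
  refine mem_centralizer_iff.2 fun w hw => ?_
  rcases four_of h.z4 (FourTwoO.v_zc h.toRB t 0) (FourTwoO.v_zc h.toRB t 1) (t.v1 0) (t.v1 1) hne
    (wsq h.toRB _ (t.VU 1 (t.vV 1))) hw with rfl | rfl | rfl | rfl
  · rw [one_mul, mul_one]
  · exact h0.symm
  · exact h1.symm
  · rw [mul_assoc, ← h1, ← mul_assoc, ← h0, mul_assoc]

end two

section main

variable {G : Type u} [Group G] [Finite G] {S : Sylow 2 G} {I : Type u} [Fintype I] {N E : I → Subgroup G}
  {Om : I → Type u} [∀ i, Fintype (Om i)] [∀ i, DecidableEq (Om i)] {phi : ∀ i, Finset (Om i) → G}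

/-- **`R₀ = 1`, `m_3(G) ≤ 2`: there is one block, and it has seven letters.** -/
theorem seven (hML : ML.Final.MLK.{u, u}) (hE : ML.Ex.Two.Ext.{u, u}) (hr : PRankLE 3 2 G) (h : Four S)
    (hB : Bks S N E ⊥ Om phi) : (∀ a b : I, a = b) ∧ ∀ b, Fintype.card (Om b) = 7 := by
  classical
  obtain ⟨h3, h5, h7⟩ := NoThree.small hr hB.toDec (fun b => hB.lett b) fun b => hB.three b
  rcases FourTwoO.cases_bks h hB with ⟨-, z, O, v, t⟩ | ⟨hne, -⟩ | ⟨-, ht⟩
  · exfalso
    have hno := no_k2 h t h3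
    have hc3 : ∀ b, Fintype.card (Om b) = 3 := by
      intro b
      have hlt : ¬ 4 ≤ Fintype.card (Om b) := by
        intro h4
        rcases t.cov b with hb | hb
        · exact FourTwoO.false_of_big h hML hE hB hno t hb (fun c hc => orb_one t h3 hb hc) h4
        · exact FourTwoO.false_of_big h hML hE hB hno t hb (fun c hc => orb_one t h3 hb hc) h4
      rcases h7 b with e | e | e
      · exact e
      · omega
      · omega
    refine FourThree.not_two h hB ⟨?_, hc3⟩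
    obtain ⟨b, hb⟩ := (t.orb 0).ne
    obtain ⟨c, hc⟩ := (t.orb 1).ne
    have hbc : b ≠ c := fun e => t.dis b hb (e ▸ hc)
    have huniv : (Finset.univ : Finset I) = {b, c} := by
      ext d
      simp only [Finset.mem_univ, Finset.mem_insert, Finset.mem_singleton, true_iff]
      by_contra hcon
      rw [not_or] at hcon
      exact h3 d b c hcon.1 hcon.2 hbc
    rw [← Finset.card_univ, huniv, Finset.card_pair hbc]
  · exact absurd rfl hne
  · have h4 : Nat.card (Wd (S : Subgroup G) ⊓ centralizer ((S : Subgroup G) : Set G) : Subgroup G) = 4 := by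
      rw [FourTwoO.zc_eq h.toRB]
      exact h.z4
    have hall : ∀ b, Fintype.card (Om b) = 7 := by
      intro b
      rcases h7 b with e | e | e
      · have := FourRank.card_le_two hB.toFull (b := b) (m := 1) le_rfl (by rw [e]; norm_num) fun c => ht c b
        omega
      · have := FourRank.card_le_two hB.toFull (b := b) (m := 2) (by norm_num) (by rw [e]; norm_num)
          fun c => ht c b
        omega
      · exact e
    refine ⟨fun a b => ?_, hall⟩
    by_contra hab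
    have := hall a
    rcases h5 a b hab with e | e <;> omega

end main

section sockets

/-- `R₀ = 1`, one block, seven letters: `V* = 2^6`, `M₀` induces `S₇`, `Z = ⟨12, 3456⟩`. -/
def FourSeven (K : Cls.{u}) (B : Fr.{u}) : Prop :=
  ∀ (G : Type u) [Group G] [Finite G], K G → ∀ (S : Sylow 2 G), B G S → Four S → ¬ Fld S →
    ∀ (I : Type u) [Fintype I] [DecidableEq I] (N E : I → Subgroup G) (Om : I → Type u)
      [∀ i, Fintype (Om i)] [∀ i, DecidableEq (Om i)] (phi : ∀ i, Finset (Om i) → G), Bks S N E ⊥ Om phi →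
      (∀ a b : I, a = b) → (∀ b, Fintype.card (Om b) = 7) → IsKnownSimple' G

/-- **`FourOf` over `QK`** -/
theorem fourQ (hML : ML.Final.MLK.{u, u}) (hE : ML.Ex.Two.Ext.{u, u}) {B : Fr.{u}}
    (hb : ∀ (G : Type u) [Group G] [Finite G] (S : Sylow 2 G), B G S → RB S)
    (hf : FourFld QK B) (h7 : FourSeven QK B) (h0 : FourRest QK B) : FourOf QK B :=
  fourOf_of hb hf
    (fun G _ _ hq S hB h hF I _ _ N E Om _ _ phi hBk _ => by
      obtain ⟨h1, h2⟩ := seven hML hE (Multi.three hq) h hBk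
      exact h7 G hq S hB h hF I N E Om phi hBk h1 h2)
    (fun G _ _ hq S hB h hF I _ _ N E Om _ _ phi hBk _ => by
      obtain ⟨h1, h2⟩ := seven hML hE (Multi.three hq) h hBk
      exact h7 G hq S hB h hF I N E Om phi hBk h1 h2)
    h0

end sockets

end Cfsg.Agent.Omega.SQT.FourQ

end
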