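import Cfsg.Agent.Mrg.Omega.NOThreeL.RRed.Blk.Side
import Cfsg.Agent.Mrg.Omega.NOThreeL.RRed.TvFin
import Cfsg.Agent.Mrg.Omega.NOThreeL.RWide.OffPerm
import Cfsg.Agent.Mrg.Omega.NOThreeL.RWide.PermBIn

section


/-!
# Box R, `|Z| = 4`, two orbits of four-group blocks, left case: the instance of `PIn` (helper449's piece (PI))

`TvFin.Full S (MZ S) (Wd S) N E ⊥ Om phi`, `|Om b| = 3`, `TwoO S (MZ S) (Wd S) N E ⊥ z O v`, `N_G(S)` permutes the
`N b`, `P ∈ P*(S)` fixes `v j` and moves `v i`, `J(O₂(C_G(Z)))` moves `V_i`: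

* **`pin_of_two`** : `PIn S (C_G(Z)) P (F_{C(v j)}) (fun b : O i => N b) (fun b => ⟨z b⟩)`.
-/

set_option autoImplicit false
set_option linter.unusedSectionVars false

namespace Cfsg.Agent.Omega.NOThreeL.RRed.FourPIn

open Subgroup Cfsg Cfsg.Agent.ZN Cfsg.Agent.ZN.ChoiceBase
open Cfsg.Agent.Omega.MinPar Cfsg.Agent.Omega.Frame Cfsg.Agent.Omega.FrameNOFF
open Cfsg.Agent.Omega.Node.NO3L Cfsg.Agent.Omega.NOThreeL.Basic Cfsg.Agent.Omega.NOThreeL.RTree
open Cfsg.Agent.Omega.NOThreeL.Merge (MZ)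
open Cfsg.Agent.Omega.NOThreeL.RRed.Blk
open Cfsg.Agent.Omega.KL.TwoS (Rel Lett)
open Cfsg.Agent.Omega.NOThreeL.RWide (PIn RootOn FB)
open scoped Pointwise

universe u v w

variable {G : Type u} [Group G]

theorem mem_zp {z w : G} (hz : z * z = 1) (hw : w ∈ zpowers z) : w = 1 ∨ w = z := by
  obtain ⟨k, rfl⟩ := mem_zpowers_iff.1 hw
  rcases Int.even_or_odd' k with ⟨m, rfl | rfl⟩
  · left
    rw [zpow_mul, zpow_two, hz, one_zpow]
  · right
    rw [zpow_add, zpow_mul, zpow_two, hz, one_zpow, one_mul, zpow_one]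

theorem card_zp {z : G} (hz : z * z = 1) (hz1 : z ≠ 1) : Nat.card (zpowers z) = 2 := by
  rw [Nat.card_zpowers]
  exact orderOf_eq_prime (by rw [pow_two]; exact hz) hz1

theorem fin3 : ∀ s : Finset (Fin 3), Even s.card → s ≠ ∅ → ∃ n : Finset (Fin 3), Even n.card ∧ n ≠ ∅ ∧ n ≠ s ∧
    ∀ t : Finset (Fin 3), Even t.card → t = ∅ ∨ t = s ∨ t = n ∨ t = symmDiff n s := by
  decide

theorem three {Ω : Type w} [Fintype Ω] [DecidableEq Ω] (h3 : Fintype.card Ω = 3) (s : Finset Ω) (hs : Even s.card)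
    (hs0 : s ≠ ∅) : ∃ n : Finset Ω, Even n.card ∧ n ≠ ∅ ∧ n ≠ s ∧
      ∀ t : Finset Ω, Even t.card → t = ∅ ∨ t = s ∨ t = n ∨ t = symmDiff n s := by
  let e : Ω ≃ Fin 3 := Fintype.equivFinOfCardEq h3
  obtain ⟨n, h1, h2, h4, h5⟩ := fin3 (s.map e.toEmbedding) (by rwa [Finset.card_map]) (by simpa using hs0)
  have hn : (n.map e.symm.toEmbedding).map e.toEmbedding = n := by
    rw [Finset.map_map]
    simp
  refine ⟨n.map e.symm.toEmbedding, by rwa [Finset.card_map], by simpa using h2, fun h => h4 ?_, fun t ht => ?_⟩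
  · rw [← h, hn]
  · rcases h5 (t.map e.toEmbedding) (by rwa [Finset.card_map]) with h | h | h | h
    · left; simpa using h
    · right; left; exact Finset.map_injective _ h
    · right; right; left
      refine Finset.map_injective e.toEmbedding ?_
      rw [hn]; exact h
    · right; right; right
      refine Finset.map_injective e.toEmbedding ?_
      rw [h, Finset.map_eq_image _ (symmDiff _ _), Finset.image_symmDiff _ _ e.toEmbedding.injective,
        ← Finset.map_eq_image, ← Finset.map_eq_image, hn]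

theorem four_of_lett {Ω : Type w} [Fintype Ω] [DecidableEq Ω] {V R : Subgroup G} {φ : Finset Ω → G}
    (L : Lett V R φ) (h3 : Fintype.card Ω = 3) {z : G} (hz : z ∈ V) (hz1 : z ≠ 1) :
    ∃ n ∈ V, n ≠ 1 ∧ n ≠ z ∧ ∀ x ∈ V, x = 1 ∨ x = z ∨ x = n ∨ x = n * z := by
  obtain ⟨s, hs, rfl⟩ := (L.mem z).1 hz
  have hs0 : s ≠ ∅ := by
    rintro rfl
    exact hz1 L.phi_empty
  obtain ⟨n, h1, h2, h4, h5⟩ := three h3 s hs hs0
  refine ⟨φ n, (L.mem _).2 ⟨n, h1, rfl⟩, fun h => h2 (L.inj n h1 h), fun h => h4 (L.phi_inj h1 hs h), fun x hx => ?_⟩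
  obtain ⟨t, ht, rfl⟩ := (L.mem x).1 hx
  rcases h5 t ht with rfl | rfl | rfl | rfl
  · exact Or.inl L.phi_empty
  · exact Or.inr (Or.inl rfl)
  · exact Or.inr (Or.inr (Or.inl rfl))
  · exact Or.inr (Or.inr (Or.inr (L.mul n s)))

theorem card_four {V : Subgroup G} {z : G} (hz : z ∈ V) (hz1 : z ≠ 1)
    (h : ∃ n ∈ V, n ≠ 1 ∧ n ≠ z ∧ ∀ x ∈ V, x = 1 ∨ x = z ∨ x = n ∨ x = n * z) (hsq : ∀ x ∈ V, x * x = 1) :
    Nat.card V = 4 := by
  classical
  obtain ⟨n, hn, hn1, hnz, hall⟩ := h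
  have hnz1 : n * z ≠ 1 := by
    intro e
    apply hnz
    calc n = n * (z * z) := by rw [hsq z hz, mul_one]
      _ = (n * z) * z := by group
      _ = z := by rw [e, one_mul]
  have e1 : (V : Set G) = (({1, z, n, n * z} : Finset G) : Set G) := by
    ext x
    simp only [SetLike.mem_coe, Finset.coe_insert, Finset.coe_singleton, Set.mem_insert_iff, Set.mem_singleton_iff]
    constructor
    · exact hall x
    · rintro (rfl | rfl | rfl | rfl)
      · exact one_mem _
      · exact hz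
      · exact hn
      · exact mul_mem hn hz
  have e2 : Nat.card V = (V : Set G).ncard := rfl
  rw [e2, e1, Set.ncard_coe_finset]
  rw [Finset.card_insert_of_notMem, Finset.card_insert_of_notMem, Finset.card_insert_of_notMem, Finset.card_singleton]
  · rw [Finset.mem_singleton]
    intro e
    exact hz1 (mul_eq_left.1 e.symm)
  · rw [Finset.mem_insert, Finset.mem_singleton]
    rintro (e | e)
    · exact hnz e.symm
    · exact hn1 (mul_eq_right.1 e.symm)
  · rw [Finset.mem_insert, Finset.mem_insert, Finset.mem_singleton]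
    rintro (e | e | e)
    · exact hz1 e.symm
    · exact hn1 e.symm
    · exact hnz1 e.symm

section dec

variable {ι : Type v} {S L U : Subgroup G} {N E : ι → Subgroup G}

/-- components of conjugates, for an element which permutes the blocks -/
theorem comp_conj (h : Dec S L U N E ⊥) {g : G} (hp : ∀ b, ∃ c, MulAut.conj g • N b = N c) {b c : ι}
    (hbc : MulAut.conj g • N b = N c) {x n : G} (hn : IsC N ⊥ b x n) :
    IsC N ⊥ c (g * x * g⁻¹) (g * n * g⁻¹) := by
  have key : MulAut.conj g • Blk.Co N ⊥ b ≤ Blk.Co N ⊥ c := by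
    unfold Blk.Co
    rw [smul_sup]
    refine sup_le ?_ ?_
    · rw [show MulAut.conj g • (⨆ d : {d // d ≠ b}, N d) = ⨆ d : {d // d ≠ b}, MulAut.conj g • N d from
        Subgroup.map_iSup _ _]
      refine iSup_le fun d => ?_
      obtain ⟨e, he⟩ := hp d
      rw [he]
      refine h.N_le_Co fun hec => ?_
      rw [hec, ← hbc] at he
      exact d.2 (h.Ninj (smul_left_cancel _ he))
    · rw [smul_bot]; exact bot_le
  refine ⟨(conj_smul hbc).1 hn.1, ?_⟩
  have e1 : (g * n * g⁻¹)⁻¹ * (g * x * g⁻¹) = g * (n⁻¹ * x) * g⁻¹ := by group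
  rw [e1]
  exact key ((conj_smul rfl).1 hn.2)

theorem ind (h : Dec S L U N E ⊥) : iSupIndep N := by
  intro b
  rw [disjoint_iff]
  have h1 := h.ind b
  rw [sup_bot_eq] at h1
  rwa [iSup_subtype'] 

end dec

section main

variable [Finite G] {ι : Type v} [Finite ι] {S : Sylow 2 G} {N E : ι → Subgroup G} {z : ι → G} {O : Fin 2 → Set ι}
  {v : Fin 2 → G}

theorem VO_eq (N : ι → Subgroup G) (O : Fin 2 → Set ι) (i : Fin 2) :
    VO N O i = ⨆ b : {b // b ∈ O i}, N b := by
  unfold VO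
  rw [iSup_subtype']

/-- An element which fixes `v i` and permutes the blocks permutes the pairs `(N b, z b)`, `b ∈ O i`. -/
theorem conj_z {U L : Subgroup G} (t : TwoO S L U N E ⊥ z O v) {g : G}
    (hp : ∀ b, ∃ c, MulAut.conj g • N b = N c) {i : Fin 2} (hg : g * v i * g⁻¹ = v i) {b : ι} (hb : b ∈ O i) {c : ι}
    (hc : MulAut.conj g • N b = N c) : c ∈ O i ∧ g * z b * g⁻¹ = z c := by
  have h1 := comp_conj t.dec hp hc (t.comp i hb)
  rw [hg] at h1
  have h2 : c ∈ O i := by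
    by_contra h3
    exact t.one.z1 b (conj_eq_one_iff.1 (t.dec.uniq h1 (t.comp' i h3)))
  exact ⟨h2, t.dec.uniq h1 (t.comp i h2)⟩

theorem conj_zp {z w g : G} (h : g * z * g⁻¹ = w) : cj g (zpowers z) = zpowers w := by
  have h1 : cj g (zpowers z) = zpowers (MulAut.conj g z) := by
    rw [← MulEquiv.coe_toMonoidHom]
    exact MonoidHom.map_zpowers _ _
  rw [h1, MulAut.conj_apply, h]

theorem isLong_cent {x : G} (hx : x ∈ zc (S : Subgroup G)) (hx1 : x ≠ 1) :
    IsLong (S : Subgroup G) (centralizer ({x} : Set G)) where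
  loc := by
    refine isLoc_of_le_normalizer S (fun s hs => mem_centralizer_singleton_iff.2 ((ChoiceBase.mem_zc.1 hx).2.2 s hs))
      (U := zpowers x) ?_ ?_ ?_
    · refine S.isPGroup'.to_le ?_
      rw [zpowers_le]; exact (ChoiceBase.mem_zc.1 hx).1
    · rw [Ne, zpowers_eq_bot]; exact hx1
    · refine le_trans ?_ (centralizer_le_normalizer _)
      intro g hg
      refine mem_centralizer_iff.2 fun y hy => ?_
      obtain ⟨k, rfl⟩ := mem_zpowers_iff.1 hy
      have e : Commute x g := (mem_centralizer_singleton_iff.1 hg).symm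
      exact (e.zpow_left k).eq
  cz := centralizer_le (Set.singleton_subset_iff.2 hx)

/-- `S`-fixed elements of `⨆ ⟨z b⟩` -/
theorem exists_vec {L : Subgroup G} (t : TwoO S L (Wd (S : Subgroup G)) N E ⊥ z O v) (hWS : Wd (S : Subgroup G) ≤ S)
    (i : Fin 2) : v i ∈ ⨆ b : {b // b ∈ O i}, zpowers (z b) := by
  have hf : Fact (Nat.Prime 2) := ⟨Nat.prime_two⟩
  have hT : (⨆ b : {b // b ∈ O i}, zpowers (z b)) ≤ ⨆ b ∈ O i, N b := by
    rw [iSup_subtype']
    exact iSup_mono fun b => zpowers_le.2 (t.one.zN b)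
  have hTW : (⨆ b : {b // b ∈ O i}, zpowers (z b)) ≤ Wd (S : Subgroup G) := hT.trans (t.VU i)
  have hn : (S : Subgroup G) ≤ normalizer ((⨆ b : {b // b ∈ O i}, zpowers (z b) : Subgroup G) : Set G) := by
    have h1 : ∀ s ∈ (S : Subgroup G), MulAut.conj s • (⨆ b : {b // b ∈ O i}, zpowers (z b)) ≤
        ⨆ b : {b // b ∈ O i}, zpowers (z b) := by
      intro s hs
      rw [show MulAut.conj s • (⨆ b : {b // b ∈ O i}, zpowers (z b)) =
        ⨆ b : {b // b ∈ O i}, MulAut.conj s • zpowers (z b) from Subgroup.map_iSup _ _]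
      refine iSup_le fun b => ?_
      obtain ⟨c, hc, _⟩ := t.dec.perm s (t.dec.SL hs) b
      obtain ⟨h2, h3⟩ := conj_z t (fun b => (t.dec.perm s (t.dec.SL hs) b).imp fun _ h => h.1) (t.vS i s hs) b.2 hc
      have h4 : MulAut.conj s • zpowers (z b) = zpowers (z c) := conj_zp h3
      rw [h4]
      exact le_iSup (fun b : {b // b ∈ O i} => zpowers (z b)) ⟨c, h2⟩
    exact le_norm_of fun s hs x hx => h1 s hs ((conj_smul rfl).1 hx)
  have hne : (⨆ b : {b // b ∈ O i}, zpowers (z b)) ≠ ⊥ := by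
    obtain ⟨b, hb⟩ := (t.orb i).ne
    intro h0
    have h1 : z b ∈ ⨆ b : {b // b ∈ O i}, zpowers (z b) :=
      (le_iSup (fun b : {b // b ∈ O i} => zpowers (z b)) ⟨b, hb⟩) (mem_zpowers _)
    rw [h0] at h1
    exact t.one.z1 b (mem_bot.1 h1)
  have h1 := PLocal.OffenderStep.inf_centralizer_ne_bot _ (S : Subgroup G) (S.isPGroup'.to_le (hTW.trans hWS))
    S.isPGroup' hn hne
  obtain ⟨c, hc1⟩ := Subgroup.ne_bot_iff_exists_ne_one.1 h1
  have hc1' : (c : G) ≠ 1 := fun h0 => hc1 (Subtype.ext h0)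
  have hcS : ∀ s ∈ (S : Subgroup G), s * (c : G) * s⁻¹ = c := fun s hs => by
    rw [mem_centralizer_iff.1 c.2.2 s hs, mul_inv_cancel_right]
  have hcV : (c : G) ∈ ⨆ b ∈ O i, N b := hT c.2.1
  obtain ⟨h2, h3⟩ := t.dec.comp_z t.one (t.orb i) hcV hc1' hcS
  have h4 : (c : G) = v i := t.dec.ext (t.VN i hcV) (t.VN i (t.vV i)) fun b => by
    by_cases hb : b ∈ O i
    · exact ⟨_, h2 b hb, t.comp i hb⟩
    · exact ⟨_, h3 b hb, t.comp' i hb⟩
  rw [← h4]
  exact c.2.1

end main

section pin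

variable [Finite G] {ι : Type u} [Finite ι] {S : Sylow 2 G} {N E : ι → Subgroup G} {z : ι → G} {O : Fin 2 → Set ι}
  {v : Fin 2 → G} {Om : ι → Type u} [∀ i, Fintype (Om i)] [∀ i, DecidableEq (Om i)] {phi : ∀ i, Finset (Om i) → G}

/-- best offenders of `S` on `V_i` -/
theorem fb (B : RB S) (F : TvFin.Full (S : Subgroup G) (MZ (S : Subgroup G)) (Wd (S : Subgroup G)) N E ⊥ Om phi)
    (t : TwoO S (MZ (S : Subgroup G)) (Wd (S : Subgroup G)) N E ⊥ z O v) (h3 : ∀ b, Fintype.card (Om b) = 3)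
    (i : Fin 2) {A : Subgroup G} (hA : A ≤ S)
    (hb : IsBestOffenderOn 2 (⨆ b : {b // b ∈ O i}, N b) A) :
    FB A (fun b : {b // b ∈ O i} => N b) (fun b => z b) where
  ab x hx y hy := by
    have h1 : (⨆ b : {b // b ∈ O i}, N b) ≤ Wd (S : Subgroup G) := by
      rw [← VO_eq]; exact t.VU i
    exact t.dec.ucomm (h1 hx) (h1 hy)
  ind := (ind t.dec).comp Subtype.val_injective
  zN b := t.one.zN b
  z1 b := t.one.z1 b
  sq b n hn := wsq B n (t.dec.NU b hn)
  four b := four_of_lett (F.lett b) (h3 b) (t.one.zN b) (t.one.z1 b)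
  perm f hf b := by
    obtain ⟨c, hc, _⟩ := t.dec.perm f (t.dec.SL (hA hf)) b
    exact ⟨⟨c, (t.orb i).inv f (hA hf) b b.2 c hc⟩, hc⟩
  fix f hf b hfb := by
    have hz : f * z b * f⁻¹ = z b :=
      (conj_z t (fun b => (t.dec.perm f (t.dec.SL (hA hf)) b).imp fun _ h => h.1) (t.vS i f (hA hf)) b.2 hfb).2
    refine ⟨hz, fun n hn => ?_⟩
    obtain ⟨m, hm, hm1, hmz, hall⟩ := four_of_lett (F.lett b) (h3 b) (t.one.zN b) (t.one.z1 b)
    have hzz := wsq B _ (t.dec.NU b (t.one.zN b))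
    have hfn : f * n * f⁻¹ ∈ N b := (conj_smul (show MulAut.conj f • N b = N b from hfb)).1 hn
    have hinj : ∀ x y : G, f * x * f⁻¹ = f * y * f⁻¹ → x = y := fun x y h => mul_left_cancel (mul_right_cancel h)
    rcases hall n hn with rfl | rfl | hn' | hn'
    · left; group
    · left; exact hz
    · rcases hall _ hfn with h | h | h | h
      · exact absurd (conj_eq_one_iff.1 h) (by rw [hn']; exact hm1)
      · exact absurd (hinj _ _ (h.trans hz.symm)) (by rw [hn']; exact hmz)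
      · left; rw [h, hn']
      · right; rw [h, hn']
    · rcases hall _ hfn with h | h | h | h
      · refine absurd (conj_eq_one_iff.1 h) (fun e => hmz ?_)
        rw [hn'] at e
        calc m = (m * z b) * z b := by rw [mul_assoc, hzz, mul_one]
          _ = z b := by rw [e, one_mul]
      · refine absurd (hinj _ _ (h.trans hz.symm)) (fun e => hm1 ?_)
        rw [hn'] at e
        exact mul_eq_right.1 e
      · right; rw [h, hn', mul_assoc, hzz, mul_one]
      · left; rw [h, hn']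
  best := hb

/-- **The instance of `PIn`.** -/
theorem pin_of_two (B : RB S)
    (F : TvFin.Full (S : Subgroup G) (MZ (S : Subgroup G)) (Wd (S : Subgroup G)) N E ⊥ Om phi)
    (t : TwoO S (MZ (S : Subgroup G)) (Wd (S : Subgroup G)) N E ⊥ z O v) (h3 : ∀ b, Fintype.card (Om b) = 3)
    (permN : ∀ g ∈ normalizer ((S : Subgroup G) : Set G), ∀ b, ∃ c, MulAut.conj g • N b = N c) {i j : Fin 2}
    (hij : i ≠ j) {P : Subgroup G} (hP : IsParS (S : Subgroup G) P) (hj : P ≤ centralizer ({v j} : Set G))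
    (hi : ¬ P ≤ centralizer ({v i} : Set G))
    (mov : ∃ A ∈ AA (o2 (centralizer (zc (S : Subgroup G) : Set G))), ¬ A ≤ centralizer (VO N O i : Set G)) :
    PIn S (centralizer (zc (S : Subgroup G) : Set G)) P (FH (S : Subgroup G) (centralizer ({v j} : Set G)))
      (fun b : {b // b ∈ O i} => N b) (fun b => zpowers (z b)) := by
  have hS1 : (S : Subgroup G) ≠ ⊥ := B.ctx.sylow_ne_bot S
  have hv : ∀ k, v k ∈ zc (S : Subgroup G) := fun k => zc_of_fix B (t.VU k (t.vV k)) (t.vS k)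
  have hlong := isLong_cent (hv j) (t.v1 j)
  have hCS : o2 (CZ (S : Subgroup G)) ≤ (S : Subgroup G) := (isLoc_centralizer_zc S hS1).o2_le S
  have hj' := TwoO.le_cent_iff.1 hj
  have hi' : ∃ r ∈ P, r * v i * r⁻¹ ≠ v i := by
    by_contra hcon; push Not at hcon; exact hi (TwoO.le_cent_iff.2 hcon)
  have hmin := hP.toIsMinPar
  have huni := t.uni hij (le_MZ hP) hmin hj' hi' i
  have hVP : VO N O i ≤ zl (S : Subgroup G) P := by
    refine le_trans (t.irr hij (le_MZ hP) hmin hj' hi' (W := VO N O i ⊓ zl (S : Subgroup G) P) inf_le_left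
      (le_norm_of fun r hr x hx => mem_inf.2 ⟨conj_of (huni hr) hx.1,
      conj_of (Cfsg.Agent.MinSimple.VModule.le_normalizer_zl _ _ hr) hx.2⟩) ?_) inf_le_right
    intro h
    have h2 : v i ∈ VO N O i ⊓ zl (S : Subgroup G) P :=
      mem_inf.2 ⟨t.vV i, Cfsg.Agent.MinSimple.VModule.zc_le_zl _ _ (hv i)⟩
    rw [h, mem_bot] at h2
    exact t.v1 i h2
  have hNV : ∀ b : {b // b ∈ O i}, N b ≤ VO N O i := fun b => le_iSup₂_of_le (f := fun b (_ : b ∈ O i) => N b) b.1 b.2 le_rfl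
  have hW : ∀ b : {b // b ∈ O i}, N b ≤ WP (S : Subgroup G) := fun b =>
    (hNV b).trans (hVP.trans (zl_le_WP hP))
  have hWQ : WP (S : Subgroup G) ≤ o2 (CZ (S : Subgroup G)) := WP_le_Q B.data
  have hab := NotA.FH_comm B.ctx.char2 B.data B.notA hlong
  refine
    { SD := le_CZ S
      VO := fun b => (hW b).trans hWQ
      sq := fun b x hx => wsq B x (t.dec.NU b hx)
      noff := fun x hx b c y hy w hw => ?_
      ind := (ind t.dec).comp Subtype.val_injective
      ZV := fun b => zpowers_le.2 (t.one.zN b)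
      Zne := fun b => by rw [Ne, zpowers_eq_bot]; exact t.one.z1 b
      card := fun b => ?_
      perm := fun s hs b => ?_
      trans := fun b c => (t.orb i).tr b b.2 c c.2
      root := fun b g hg hc => ?_
      ffp := fun A hA hb b => (fb B F t h3 i hA hb).rootOn b
      mov := ?_
      Pmin := hmin
      PV := ?_
      irr := fun U hU hPU hne => ?_
      PN := hj.trans (le_normalizer_FH _ _)
      DN := (centralizer_le (Set.singleton_subset_iff.2 (hv j))).trans (le_normalizer_FH _ _)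
      VN := fun b => (hW b).trans (WP_le_FH _ _)
      NO := (NotA.FH_le_o2 B.data B.notA hlong).trans (hlong.o2_le S)
      Nsq := fun n hn => by
        have := NotA.FH_sq B.ctx.char2 B.data B.notA hlong n hn
        rwa [pow_two] at this
      Nab := fun m hm n hn => mem_centralizer_iff.1 (hab hn) m hm
      vec := ⟨v i, exists_vec t (WS B) i, fun x hx => (mem_centralizer_iff.1 hx _ (hv i)).symm, fun b hb => ?_⟩ }
  · -- noff
    have h1 : y ∈ FH (S : Subgroup G) (centralizer ({v j} : Set G)) := WP_le_FH _ _ (hW b hy)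
    have h2 : w ∈ WP (S : Subgroup G) := by
      rw [← conj_WP hx]
      obtain ⟨y, hy, rfl⟩ := hw
      exact ⟨y, hW c hy, rfl⟩
    exact mem_centralizer_iff.1 (hab (WP_le_FH _ _ h2)) y h1
  · -- card
    rw [card_zp (wsq B _ (t.dec.NU b (t.one.zN b))) (t.one.z1 b),
      card_four (t.one.zN b) (t.one.z1 b) (four_of_lett (F.lett b) (h3 b) (t.one.zN b) (t.one.z1 b))
        fun x hx => wsq B x (t.dec.NU b hx)]
    norm_num
  · -- perm
    obtain ⟨c, hc⟩ := permN s hs.1 b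
    have h1 : s * v i * s⁻¹ = v i := by
      rw [← mem_centralizer_iff.1 hs.2 _ (hv i), mul_inv_cancel_right]
    obtain ⟨h2, h4⟩ := conj_z t (permN s hs.1) h1 b.2 hc
    exact ⟨⟨c, h2⟩, hc, conj_zp h4⟩
  · -- root
    have hzz := wsq B _ (t.dec.NU b (t.one.zN b))
    by_cases h : ∀ x ∈ N b, g * x = x * g
    · exact Or.inl h
    · right
      push Not at h
      obtain ⟨x, hx, hgx⟩ := h
      intro y hy
      rcases mem_zp hzz hy with rfl | rfl
      · exact ⟨1, one_mem _, by group⟩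
      · refine ⟨x, hx, (mem_zp hzz (hc x hx)).resolve_left fun e => hgx ?_⟩
        exact mul_inv_eq_iff_eq_mul.1 (mul_inv_eq_one.1 e)
  · -- mov
    rw [← VO_eq]; exact mov
  · rw [← VO_eq]; exact huni
  · rw [← VO_eq] at hU ⊢
    exact le_antisymm hU (t.irr hij (le_MZ hP) hmin hj' hi' hU hPU hne)
  · -- vec
    have h1 : (⨆ (c : {b // b ∈ O i}) (_ : c ≠ b), N c) ≤ Blk.Co N ⊥ b := iSup₂_le fun c hc =>
      t.dec.N_le_Co fun e => hc (Subtype.ext e)
    exact t.one.z1 b (t.dec.uniq (t.comp i b.2) (t.dec.comp_one (h1 hb)))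

end pin

end Cfsg.Agent.Omega.NOThreeL.RRed.FourPIn

end

section


/-!
# Box R, `|Z| = 4`, two orbits of four-group blocks, left case: `C_G(Z)` permutes the points `z b`

THEOREM PERM+ (helper278: `RWide.PIn.permD`) for the instance `FourPIn.pin_of_two`.
-/

set_option autoImplicit false
set_option linter.unusedSectionVars false

namespace Cfsg.Agent.Omega.NOThreeL.RRed.FourPIn

open Subgroup Cfsg Cfsg.Agent.ZN Cfsg.Agent.ZN.ChoiceBase
open Cfsg.Agent.Omega.MinPar Cfsg.Agent.Omega.Frame Cfsg.Agent.Omega.FrameNOFF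
open Cfsg.Agent.Omega.Node.NO3L Cfsg.Agent.Omega.NOThreeL.Basic Cfsg.Agent.Omega.NOThreeL.RTree
open Cfsg.Agent.Omega.NOThreeL.Merge (MZ)
open Cfsg.Agent.Omega.NOThreeL.RRed.Blk
open Cfsg.Agent.Omega.NOThreeL.RWide (conj_mem_cj)
open scoped Pointwise

universe u

variable {G : Type u} [Group G] [Finite G] {ι : Type u} [Finite ι] {S : Sylow 2 G} {N E : ι → Subgroup G} {z : ι → G}
  {O : Fin 2 → Set ι} {v : Fin 2 → G} {Om : ι → Type u} [∀ i, Fintype (Om i)] [∀ i, DecidableEq (Om i)]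
  {phi : ∀ i, Finset (Om i) → G}

/-- **`C_G(Z)` permutes the points `z b`, `b ∈ O i`.** -/
theorem permD_two (B : RB S)
    (F : TvFin.Full (S : Subgroup G) (MZ (S : Subgroup G)) (Wd (S : Subgroup G)) N E ⊥ Om phi)
    (t : TwoO S (MZ (S : Subgroup G)) (Wd (S : Subgroup G)) N E ⊥ z O v) (h3 : ∀ b, Fintype.card (Om b) = 3)
    (permN : ∀ g ∈ normalizer ((S : Subgroup G) : Set G), ∀ b, ∃ c, MulAut.conj g • N b = N c) {i j : Fin 2}
    (hij : i ≠ j) {P : Subgroup G} (hP : IsParS (S : Subgroup G) P) (hj : P ≤ centralizer ({v j} : Set G))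
    (hi : ¬ P ≤ centralizer ({v i} : Set G))
    (mov : ∃ A ∈ AA (o2 (centralizer (zc (S : Subgroup G) : Set G))), ¬ A ≤ centralizer (VO N O i : Set G)) :
    ∀ x ∈ centralizer (zc (S : Subgroup G) : Set G), ∀ b ∈ O i, ∃ c ∈ O i, x * z b * x⁻¹ = z c := by
  intro x hx b hb
  obtain ⟨c, hc⟩ := (pin_of_two B F t h3 permN hij hP hj hi mov).permD x hx ⟨b, hb⟩
  refine ⟨c, c.2, (mem_zp (wsq B _ (t.dec.NU c (t.one.zN c))) ?_).resolve_left
    fun e => t.one.z1 b (conj_eq_one_iff.1 e)⟩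
  have h1 : x * z b * x⁻¹ ∈ cj x (zpowers (z b)) := conj_mem_cj (mem_zpowers _)
  rw [hc] at h1
  exact h1

end Cfsg.Agent.Omega.NOThreeL.RRed.FourPIn

end
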