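import Cfsg.Agent.Mrg.Omega.NOThreeL.RRed.FourTree
import Cfsg.Agent.Mrg.Omega.NOThreeL.RRed.TvFin
import Cfsg.Agent.Mrg.Omega.NOThreeL.RRed.Blk.Orbit
import Cfsg.Agent.Mrg.Omega.NOThreeL.RRed.Blk.Side
import Cfsg.Agent.Mrg.Omega.NOThreeL.RRed.Blk.OneOf

section


/-!
# NO-3L, box R, `FourOf`: two orbits of blocks (piece (T2) of `FourTree`)

* `Full.inn`, `Full.letts` : the hypotheses of `Blk.Dec.cases` from 930's `TvFin.Full`;
* `cases_full`, **`cases_bks`** : `|Z| = 4` : the three cases;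
* `TwoO.k1_fix` : a minimal parabolic `R ≤ L` with `R = (R ⊓ ⨆ E b) S` fixes `v 0` or `v 1`; `TwoO.k1_norm`;
* **`TwoO.twoV`** : no K2 : `TwoV S (VO N O) v`; `TwoO.ex`, `TwoO.nl`;
* `TwoO.lett_one` : the letters of an orbit consisting of one block, for `TwoV.false_of_lett`;
* `TwoO.false_of_big` : an orbit consisting of one block with at least 5 letters: contradiction.
-/

set_option autoImplicit false
set_option linter.unusedSectionVars false

namespace Cfsg.Agent.Omega.NOThreeL.RRed.FourTwoO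

open Subgroup Cfsg Cfsg.Agent.ZN Cfsg.Agent.Omega.MinPar Cfsg.Agent.Omega.Frame Cfsg.Agent.Omega.FrameNOFF
open Cfsg.Agent.Omega.Node.NO3L Cfsg.Agent.Omega.NOThreeL.Basic Cfsg.Agent.Omega.NOThreeL.RTree
open Cfsg.Agent.Omega.NOThreeL.Merge (MZ le_MZ S_le_MZ)
open Cfsg.Agent.MinSimple.MinParabolic (IsMinPar)
open Cfsg.Agent.Omega.KL.TwoS (Rel Lett)
open Cfsg.Agent.Omega.NOThreeL.RRed.TvFin (Full)
open Cfsg.Agent.Omega.NOThreeL.RRed.FourTree
open Cfsg.Agent.Omega.NOThreeL.RRed.Blk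
open scoped Pointwise

universe u v

variable {G : Type u} [Group G]

section full

variable {S M V : Subgroup G} {I : Type u} {N E : I → Subgroup G} {R₀ : Subgroup G} {Om : I → Type u}
  [∀ i, Fintype (Om i)] [∀ i, DecidableEq (Om i)] {phi : ∀ i, Finset (Om i) → G}

theorem inn (F : Full S M V N E R₀ Om phi) : Inn M N E := fun _ _ hg hN => F.inner hg hN

theorem letts (F : Full S M V N E R₀ Om phi) : Letts.{u, u, u} N E := fun b =>
  ⟨Om b, inferInstance, inferInstance, phi b, F.three b, F.lett b⟩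

end full

section fin

variable [Finite G] {S : Sylow 2 G}

/-- `Z = C_{V*}(S)` -/
theorem zc_eq (B : RB S) : Wd (S : Subgroup G) ⊓ centralizer ((S : Subgroup G) : Set G) = zc (S : Subgroup G) := by
  refine le_antisymm (fun x hx => zc_of_fix B hx.1 fun s hs => ?_) fun x hx => mem_inf.2 ⟨zc_le_Wd _ hx, ?_⟩
  · have := mem_centralizer_iff.1 hx.2 s hs
    rw [this]; group
  · exact mem_centralizer_iff.2 fun s hs => ((mem_zc.1 hx).2.1 s hs)

variable {I : Type u} [Finite I] {N E : I → Subgroup G} {R₀ : Subgroup G} {Om : I → Type u}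
  [∀ i, Fintype (Om i)] [∀ i, DecidableEq (Om i)] {phi : ∀ i, Finset (Om i) → G}

/-- **The three cases.** -/
theorem cases_bks (h : Four S) (hB : Bks S N E R₀ Om phi) :
    (R₀ = ⊥ ∧ ∃ z O v, TwoO S (MZ (S : Subgroup G)) (Wd (S : Subgroup G)) N E R₀ z O v) ∨
    (R₀ ≠ ⊥ ∧ (∀ b c, ∃ s ∈ (S : Subgroup G), MulAut.conj s • N b = N c) ∧
      ∃ z, One (S : Subgroup G) (MZ (S : Subgroup G)) (Wd (S : Subgroup G)) N E z) ∨
    (R₀ = ⊥ ∧ ∀ b c, ∃ s ∈ (S : Subgroup G), MulAut.conj s • N b = N c) := by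
  obtain ⟨b₀⟩ := hB.nonempty
  refine hB.toDec.cases (inn hB.toFull) (letts hB.toFull) (WS h.toRB) (wsq h.toRB) ?_ b₀
  rw [zc_eq h.toRB]
  exact h.z4

end fin

section two

variable {ι : Type v} [Finite ι] [Finite G] {S : Sylow 2 G} {L U : Subgroup G} {N E : ι → Subgroup G}
  {R₀ : Subgroup G} {z : ι → G} {O : Fin 2 → Set ι} {v : Fin 2 → G} (t : TwoO S L U N E R₀ z O v)
include t

/-- `X = ⨆ b ∈ O i, E b` -/
theorem norm_X (i : Fin 2) {R : Subgroup G} (hk : (R ⊓ ⨆ b, E b) ⊔ (S : Subgroup G) = R) :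
    R ≤ normalizer ((⨆ b ∈ O i, E b : Subgroup G) : Set G) := by
  rw [← hk]
  refine sup_le ?_ ?_
  · refine inf_le_right.trans (le_norm_of fun e he x hx => ?_)
    have h1 : MulAut.conj e • (⨆ b ∈ O i, E b) ≤ ⨆ b ∈ O i, E b := by
      rw [show MulAut.conj e • (⨆ b ∈ O i, E b) = ⨆ b, MulAut.conj e • (⨆ _ : b ∈ O i, E b) from
        Subgroup.map_iSup _ _]
      refine iSup_le fun c => ?_
      rw [show MulAut.conj e • (⨆ _ : c ∈ O i, E c) = ⨆ _ : c ∈ O i, MulAut.conj e • E c from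
        Subgroup.map_iSup _ _]
      refine iSup_le fun hc => ?_
      rw [smul_of_mem (t.dec.E_normal c he)]
      exact le_iSup₂_of_le c hc le_rfl
    exact h1 ((conj_smul rfl).1 hx)
  · refine le_norm_of fun s hs x hx => ?_
    have h1 : MulAut.conj s • (⨆ b ∈ O i, E b) ≤ ⨆ b ∈ O i, E b := by
      rw [show MulAut.conj s • (⨆ b ∈ O i, E b) = ⨆ b, MulAut.conj s • (⨆ _ : b ∈ O i, E b) from
        Subgroup.map_iSup _ _]
      refine iSup_le fun c => ?_
      rw [show MulAut.conj s • (⨆ _ : c ∈ O i, E c) = ⨆ _ : c ∈ O i, MulAut.conj s • E c from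
        Subgroup.map_iSup _ _]
      refine iSup_le fun hc => ?_
      obtain ⟨d, hd, hd2⟩ := t.dec.perm s (t.dec.SL hs) c
      rw [hd2]
      exact le_iSup₂_of_le d ((t.orb i).inv s hs c hc d hd) le_rfl
    exact h1 ((conj_smul rfl).1 hx)

/-- a (K1) minimal parabolic moving `v i` is `(R ⊓ X) S`, `X = ⨆ b ∈ O i, E b`. -/
theorem k1_eq (i : Fin 2) {R : Subgroup G} (hRL : R ≤ L) (hR : IsMinPar (S : Subgroup G) R)
    (hk : (R ⊓ ⨆ b, E b) ⊔ (S : Subgroup G) = R) (hi : ∃ r ∈ R, r * v i * r⁻¹ ≠ v i) :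
    (R ⊓ ⨆ b ∈ O i, E b) ⊔ (S : Subgroup G) = R := by
  refine (dich hR (norm_X t i hk)).resolve_left fun h1 => ?_
  -- some `e ∈ R ⊓ E₀` moves `v i`
  obtain ⟨e, he, hev⟩ : ∃ e ∈ R ⊓ ⨆ b, E b, e * v i * e⁻¹ ≠ v i := by
    by_contra hcon
    push Not at hcon
    obtain ⟨r, hr, hri⟩ := hi
    have h1 : R ≤ centralizer ({v i} : Set G) := by
      rw [← hk]
      refine sup_le (fun e he => ?_) fun s hs => ?_
      · rw [mem_centralizer_singleton_iff]
        have := hcon e he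
        calc e * v i = (e * v i * e⁻¹) * e := by group
          _ = v i * e := by rw [this]
      · rw [mem_centralizer_singleton_iff]
        have := t.vS i s hs
        calc s * v i = (s * v i * s⁻¹) * s := by group
          _ = v i * s := by rw [this]
    apply hri
    rw [mem_centralizer_singleton_iff.1 (h1 hr)]
    group
  obtain ⟨b, hbi, hbz⟩ : ∃ b ∈ O i, e * z b * e⁻¹ ≠ z b := by
    by_contra hcon
    push Not at hcon
    apply hev
    have hVN := t.VN i
    have h0 : e * v i * e⁻¹ ∈ ⨆ b, N b := by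
      have h1 : MulAut.conj e • (⨆ b, N b) ≤ ⨆ b, N b := by
        rw [show MulAut.conj e • (⨆ b, N b) = ⨆ b, MulAut.conj e • N b from Subgroup.map_iSup _ _]
        refine iSup_le fun b => ?_
        rw [t.dec.E0_smul he.2 b]; exact le_iSup N b
      exact h1 ((conj_smul rfl).1 (hVN (t.vV i)))
    refine t.dec.ext h0 (hVN (t.vV i)) fun c => ?_
    by_cases hc : c ∈ O i
    · have h1 := t.dec.comp_E0 he.2 (t.comp i hc)
      rw [hcon c hc] at h1
      exact ⟨_, h1, t.comp i hc⟩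
    · have h1 := t.dec.comp_E0 he.2 (t.comp' i hc)
      rw [mul_one, mul_inv_cancel] at h1
      exact ⟨_, h1, t.comp' i hc⟩
  have hb0 := t.dec.k1 t.one hR.le ⟨e, he, hbz⟩
  have hb : E b ≤ R ⊔ (L ⊓ centralizer (U : Set G)) := hb0.trans (sup_le_sup_right inf_le_left _)
  have hbE : E b ≤ ⨆ c ∈ O i, E c := le_iSup₂_of_le b hbi le_rfl
  have hCn : R ≤ normalizer ((L ⊓ centralizer (U : Set G) : Subgroup G) : Set G) := hRL.trans t.dec.C_normal
  have key : ∀ e ∈ E b, ∀ x ∈ ((S : Subgroup G) ⊓ E b) ⊔ (L ⊓ centralizer (U : Set G)),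
      e * x * e⁻¹ ∈ ((S : Subgroup G) ⊓ E b) ⊔ (L ⊓ centralizer (U : Set G)) := by
    intro e he x hx
    obtain ⟨r, hr, c, hc, rfl⟩ := mem_sup_of hCn (hb he)
    have hcx : c * x * c⁻¹ ∈ ((S : Subgroup G) ⊓ E b) ⊔ (L ⊓ centralizer (U : Set G)) :=
      mul_mem (mul_mem (mem_sup_right hc) hx) (inv_mem (mem_sup_right hc))
    have hrE : r ∈ E b := by
      have e1 : r = (r * c) * c⁻¹ := by group
      rw [e1]; exact mul_mem he (inv_mem (t.dec.CE b hc))
    have e2 : r * c * x * (r * c)⁻¹ = r * (c * x * c⁻¹) * r⁻¹ := by group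
    rw [e2]
    have hn : r ∈ normalizer ((((S : Subgroup G) ⊓ E b) ⊔ (L ⊓ centralizer (U : Set G)) : Subgroup G) : Set G) := by
      have h3 : (zpowers r) ≤ normalizer ((((S : Subgroup G) ⊓ E b) ⊔ (L ⊓ centralizer (U : Set G)) :
          Subgroup G) : Set G) := by
        refine le_norm_of fun a ha y hy => ?_
        have haR : a ∈ R := (zpowers_le.2 hr) ha
        have haE : a ∈ E b := (zpowers_le.2 hrE) ha
        have hSn : (S : Subgroup G) ⊓ E b ≤ normalizer ((L ⊓ centralizer (U : Set G) : Subgroup G) : Set G) :=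
          inf_le_left.trans (hR.le.trans hCn)
        obtain ⟨s, hs, d, hd, rfl⟩ := mem_sup_of hSn hy
        have e3 : a * (s * d) * a⁻¹ = (a * s * a⁻¹) * (a * d * a⁻¹) := by group
        rw [e3]
        refine mul_mem (mem_sup_left ?_) (mem_sup_right (conj_of (hCn haR) hd))
        refine mem_inf.2 ⟨?_, mul_mem (mul_mem haE hs.2) (inv_mem haE)⟩
        exact (conj_of (h1 haR) (mem_inf.2 ⟨hs.1, hbE hs.2⟩)).1
      exact h3 (mem_zpowers r)
    exact conj_of hn hcx
  have h4 := t.one.gen b _ (sup_le inf_le_right (t.dec.CE b)) le_sup_left le_sup_right (le_norm_of key)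
  obtain ⟨e, he, hez⟩ := t.one.mv b
  have hSn : (S : Subgroup G) ⊓ E b ≤ normalizer ((L ⊓ centralizer (U : Set G) : Subgroup G) : Set G) :=
    inf_le_left.trans (hR.le.trans hCn)
  obtain ⟨s, hs, c, hc, rfl⟩ := mem_sup_of hSn (h4 he)
  apply hez
  have e5 : s * c * z b * (s * c)⁻¹ = s * (c * z b * c⁻¹) * s⁻¹ := by group
  rw [e5, cent hc.2 (t.dec.NU b (t.one.zN b))]
  exact t.one.zS b s hs

/-- **a (K1) minimal parabolic fixes `v 0` or `v 1`** -/
theorem k1_fix {i j : Fin 2} (hij : i ≠ j) {R : Subgroup G} (hRL : R ≤ L) (hR : IsMinPar (S : Subgroup G) R)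
    (hk : (R ⊓ ⨆ b, E b) ⊔ (S : Subgroup G) = R) (hi : ¬ R ≤ centralizer ({v i} : Set G)) :
    R ≤ centralizer ({v j} : Set G) := by
  have h1 : ∃ r ∈ R, r * v i * r⁻¹ ≠ v i := by
    by_contra hcon; push Not at hcon; exact hi (TwoO.le_cent_iff.2 hcon)
  rw [← k1_eq t i hRL hR hk h1]
  have h2 : (⨆ b ∈ O i, E b) ≤ centralizer ({v j} : Set G) := iSup₂_le fun b hb =>
    (t.E_cent (t.notMem hij hb)).trans (centralizer_le (Set.singleton_subset_iff.2 (t.vV j)))
  exact sup_le (inf_le_right.trans h2) (TwoO.le_cent_iff.2 (t.vS j))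

/-- a (K1) minimal parabolic normalises `V 0`, `V 1` -/
theorem k1_norm {R : Subgroup G} (hk : (R ⊓ ⨆ b, E b) ⊔ (S : Subgroup G) = R) (i : Fin 2) :
    R ≤ normalizer (VO N O i : Set G) := by
  rw [← hk]
  exact sup_le (inf_le_right.trans (iSup_le fun b => t.E_V b i)) (t.S_V i)

end two

section plug

variable {ι : Type v} [Finite ι] [Finite G] {S : Sylow 2 G} {N E : ι → Subgroup G} {z : ι → G} {O : Fin 2 → Set ι}
  {v : Fin 2 → G}

theorem fin_ne {i j : Fin 2} (hij : i ≠ j) : (i = 0 ∧ j = 1) ∨ (i = 1 ∧ j = 0) := by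
  have h2 : ∀ a b : Fin 2, a ≠ b → (a = 0 ∧ b = 1) ∨ (a = 1 ∧ b = 0) := by decide
  exact h2 i j hij

variable (B : RB S) (t : TwoO S (MZ (S : Subgroup G)) (Wd (S : Subgroup G)) N E ⊥ z O v)
  (hno : ∀ R, IsParS (S : Subgroup G) R → ¬ R ≤ normalizer (((S : Subgroup G) ⊓ ⨆ b, E b : Subgroup G) : Set G))

include t

theorem k1_of {R : Subgroup G} (hR : IsParS (S : Subgroup G) R)
    (hn : ¬ R ≤ normalizer (((S : Subgroup G) ⊓ ⨆ b, E b : Subgroup G) : Set G)) :
    (R ⊓ ⨆ b, E b) ⊔ (S : Subgroup G) = R :=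
  (dich hR.toIsMinPar ((le_MZ hR).trans t.dec.iSup_normal)).resolve_left hn

include B

theorem v_zc (i : Fin 2) : v i ∈ zc (S : Subgroup G) := zc_of_fix B (t.VU i (t.vV i)) (t.vS i)

/-- some `R ∈ P*(S)` moves `v i` -/
theorem exists_mv (i : Fin 2) : ∃ R, IsParS (S : Subgroup G) R ∧ ¬ R ≤ centralizer ({v i} : Set G) := by
  by_contra hcon
  push Not at hcon
  have hU : IsPGroup 2 (zpowers (v i)) := by
    refine S.isPGroup'.to_le ?_
    rw [zpowers_le]; exact zc_le _ (v_zc B t i)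
  have hn : ∀ {H : Subgroup G}, H ≤ centralizer ({v i} : Set G) → H ≤ normalizer ((zpowers (v i) : Subgroup G) : Set G) := by
    intro H hH
    refine hH.trans (le_trans ?_ (centralizer_le_normalizer _))
    intro g hg
    refine mem_centralizer_iff.2 fun x hx => ?_
    obtain ⟨k, rfl⟩ := mem_zpowers_iff.1 hx
    have e : Commute (v i) g := (mem_centralizer_singleton_iff.1 hg).symm
    exact (e.zpow_left k).eq
  have h1 := Merge.nonLoc_MZ B.ctx B.full (zpowers (v i)) hU (hn (sSup_le fun R hR => hcon R hR))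
    (hn (centralizer_le (Set.singleton_subset_iff.2 (v_zc B t i))))
  exact t.v1 i (zpowers_eq_bot.1 h1)

include hno

theorem cen {R : Subgroup G} (hR : IsParS (S : Subgroup G) R) :
    R ≤ centralizer ({v 0} : Set G) ∨ R ≤ centralizer ({v 1} : Set G) := by
  by_cases h0 : R ≤ centralizer ({v 0} : Set G)
  · exact Or.inl h0
  · exact Or.inr (k1_fix t (by decide) (le_MZ hR) hR.toIsMinPar (k1_of t hR (hno R hR)) h0)

theorem ex {i j : Fin 2} (hij : i ≠ j) : ∃ R, IsParS (S : Subgroup G) R ∧ R ≤ centralizer ({v j} : Set G) ∧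
    ¬ R ≤ centralizer ({v i} : Set G) := by
  obtain ⟨R, hR, h1⟩ := exists_mv B t i
  refine ⟨R, hR, ?_, h1⟩
  rcases fin_ne hij with ⟨rfl, rfl⟩ | ⟨rfl, rfl⟩
  · exact (cen B t hno hR).resolve_left h1
  · exact (cen B t hno hR).resolve_right h1

/-- `⟨C_G(v 0), C_G(v 1)⟩` is nonlocal -/
theorem nl : NonLoc (centralizer ({v 0} : Set G)) (centralizer ({v 1} : Set G)) := by
  intro U hU h0 h1
  refine Merge.nonLoc_MZ B.ctx B.full U hU (sSup_le fun R hR => ?_)
    ((centralizer_le (Set.singleton_subset_iff.2 (v_zc B t 0))).trans h0)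
  rcases cen B t hno hR with h | h
  · exact h.trans h0
  · exact h.trans h1

/-- **Two orbits of rank one blocks, no (K2) in `P*(S)`: the frame `KL.TwoS.Fr`.** -/
theorem fr : KL.TwoS.Fr (S : Subgroup G) (VO N O) v := t.fr B (fun _ _ hij => ex B t hno hij) (nl B t hno)

/-- **909's `TwoV`** -/
theorem twoV : TwoV (S : Subgroup G) (VO N O) v := by
  have c2 := t.core2 B (fun _ _ hij => ex B t hno hij) (nl B t hno)
  exact
    { mem := t.vV
      ne := t.v1
      zS := t.zS B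
      VP := fun i => by
        rcases Fin.exists_fin_two.1 ⟨i, rfl⟩ with h | h
        · exact c2.V_le_zl (j := 1) (by rw [h]; decide)
        · exact c2.V_le_zl (j := 0) (by rw [h]; decide)
      cen := fun R hR => cen B t hno hR
      nrm := fun R hR i => k1_norm t (k1_of t hR (hno R hR)) i
      odd := c2.odd
      irr := c2.irr
      same := c2.same }

end plug

section one

variable {I : Type u} [Finite I] [Finite G] {S : Sylow 2 G} {M V : Subgroup G} {N E : I → Subgroup G}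
  {R₀ : Subgroup G} {Om : I → Type u} [∀ i, Fintype (Om i)] [∀ i, DecidableEq (Om i)]
  {phi : ∀ i, Finset (Om i) → G} {z : I → G} {O : Fin 2 → Set I} {v : Fin 2 → G}

/-- **The letters of an orbit consisting of one block.** -/
theorem lett_one (F : Full (S : Subgroup G) M V N E R₀ Om phi) (t : TwoO S M V N E R₀ z O v) {i : Fin 2} {b : I}
    (hb : b ∈ O i) (h1 : ∀ c ∈ O i, c = b) :
    Lett (VO N O i) (E b ⊔ (S : Subgroup G)) (phi b) ∧ (∀ j, i ≠ j → E b ⊔ (S : Subgroup G) ≤ centralizer ({v j} : Set G)) ∧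
      ∃ p, v i = phi b (Finset.univ.erase p) := by
  have hV : VO N O i = N b := le_antisymm (iSup₂_le fun c hc => by rw [h1 c hc]) (le_iSup₂_of_le b hb le_rfl)
  have hL := F.lett b
  have hSN : (S : Subgroup G) ≤ normalizer (N b : Set G) := by rw [← hV]; exact t.S_V i
  refine ⟨?_, fun j hij => ?_, ?_⟩
  · rw [hV]
    refine
      { odd := hL.odd
        mul := hL.mul
        inj := hL.inj
        mem := hL.mem
        act := fun g hg => ?_
        all := fun σ => ?_ }
    · have hgN : g ∈ normalizer (N b : Set G) := (sup_le (F.EN b) hSN) hg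
      exact F.rel_of_fix ((sup_le (F.EL b) F.SL) hg) (smul_of_mem hgN)
    · obtain ⟨g, hg, h2⟩ := hL.all σ
      exact ⟨g, mem_sup_left hg, h2⟩
  · refine sup_le ((t.E_cent (t.notMem hij hb)).trans (centralizer_le (Set.singleton_subset_iff.2 (t.vV j)))) ?_
    exact TwoO.le_cent_iff.2 (t.vS j)
  · have hv : v i = z b := by
      have h2 := t.comp i hb
      have h3 : v i ∈ N b := by rw [← hV]; exact t.vV i
      exact t.dec.uniq (t.dec.comp_self h3) h2
    have hT2 : IsPGroup 2 ((S : Subgroup G) ⊓ E b : Subgroup G) := S.isPGroup'.to_le inf_le_left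
    obtain ⟨p, hp, -⟩ := exists_ctr hL (F.three b) inf_le_right hT2 (z := z b) (t.one.fix b)
    exact ⟨p, by rw [hv, hp]⟩

/-- **An orbit consisting of one block with at least 4 (5) letters: contradiction.** -/
theorem false_of_big (h : Four S) (hML : ML.Final.MLK.{u, u}) (hE : ML.Ex.Two.Ext.{u, u})
    (hB : Bks S N E ⊥ Om phi)
    (hno : ∀ R, IsParS (S : Subgroup G) R → ¬ R ≤ normalizer (((S : Subgroup G) ⊓ ⨆ b, E b : Subgroup G) : Set G))
    (t : TwoO S (MZ (S : Subgroup G)) (Wd (S : Subgroup G)) N E ⊥ z O v) {i : Fin 2} {b : I} (hb : b ∈ O i)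
    (h1 : ∀ c ∈ O i, c = b) (h4 : 4 ≤ Fintype.card (Om b)) : False := by
  obtain ⟨hl, hc, p, hp⟩ := lett_one hB.toFull t hb h1
  exact (twoV h.toRB t hno).false_of_lett h.toRB hML hE hl h4 le_sup_right (hc (i + 1) (OM.KTwo.ne_add_one i)) hp

end one

end Cfsg.Agent.Omega.NOThreeL.RRed.FourTwoO

end

section


/-!
# NO-3L, box R, `FourOf`, the left case: `𝒜(O₂(C_G(Z)))` and the blocks

`F : Full S M U N E R₀ Om phi`, `One S M U N E z`; `O ≤ S`, `U ≤ O`, every `A ∈ 𝒜(O)` is generated by elements which act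
on `U` as transvections (930's `gen_tv`):

* `le_E0`, `z_fix`, `z_perm` : `A ≤ ⨆ b, E b`, `A` centralises all `z b`; `S` permutes the `z b`;
* `exists_tv` : `A` moves `N b`: some `t ∈ A` is a transposition on `N b`;
* `card_lett` : `|Om b| = 3` if some such `A ≤ O` moves `N b` and `E b ⊓ C(z b)` normalises `O`; `card_N`;
* **`exists_pure`** : some `A' ∈ 𝒜(O)` moves `N b` and centralises `N c`, `c ≠ b`.
-/

set_option autoImplicit false
set_option linter.unusedSectionVars false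

namespace Cfsg.Agent.Omega.NOThreeL.RRed.FourLeft

open Subgroup Cfsg Cfsg.Agent.ZN
open Cfsg.Agent.Omega.FFThm (ElemM OffM NoOverM)
open Cfsg.Agent.Omega.KL.TwoS (Rel Lett relIndex_le_of_sup relIndex_card comm_of_sq)
open Cfsg.Agent.Omega.NOThreeL.RRed.TvFin (Full TvV)
open Cfsg.Agent.Omega.NOThreeL.RRed.Blk
open Cfsg.Agent.Omega.NoFF.Basic (comm_symm comm_mono)
open Cfsg.Agent.Omega.NoFF.ThmJFam (card_sup_inf)
open scoped Pointwise

universe u

variable {G : Type u} [Group G]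

/-- `|V| = 4` for three letters -/
theorem card_N [Finite G] {Ω : Type u} [Fintype Ω] [DecidableEq Ω] {V R : Subgroup G} {φ : Finset Ω → G}
    (L : Lett V R φ) (h3 : Fintype.card Ω = 3) : Nat.card V = 4 := by
  have hsurj : ∀ x ∈ V, x = 1 ∨ ∃ a, x = φ (Finset.univ.erase a) := by
    intro x hx
    obtain ⟨s, hs, rfl⟩ := (L.mem x).1 hx
    have h4 : s.card ≤ 3 := by rw [← h3]; exact Finset.card_le_univ s
    have h5 : s.card = 0 ∨ s.card = 2 := by
      obtain ⟨k, hk⟩ := hs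
      omega
    rcases h5 with h5 | h5
    · left
      rw [Finset.card_eq_zero.1 h5, L.phi_empty]
    · have h6 : sᶜ.card = 1 := by rw [Finset.card_compl, h3, h5]
      obtain ⟨a, ha⟩ := Finset.card_eq_one.1 h6
      refine Or.inr ⟨a, ?_⟩
      congr 1
      ext x
      have h7 : x ∈ sᶜ ↔ x = a := by rw [ha, Finset.mem_singleton]
      rw [Finset.mem_compl] at h7
      simp only [Finset.mem_erase, Finset.mem_univ, and_true]
      tauto
  let f : Option Ω → V := fun o => match o with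
    | none => 1
    | some a => ⟨φ (Finset.univ.erase a), (L.mem _).2 ⟨_, L.even_erase a, rfl⟩⟩
  have hf : Function.Bijective f := by
    constructor
    · intro o o' h
      have h' : (f o : G) = f o' := congrArg Subtype.val h
      cases o with
      | none =>
        cases o' with
        | none => rfl
        | some a => exact absurd (show φ (Finset.univ.erase a) = 1 from h'.symm) (erase_ne_one L (by omega) a)
      | some a =>
        cases o' with
        | none => exact absurd (show φ (Finset.univ.erase a) = 1 from h') (erase_ne_one L (by omega) a)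
        | some b =>
          have h1 := L.phi_inj (L.even_erase a) (L.even_erase b) h'
          have h2 : a = b := by
            by_contra hab
            have h3 : a ∈ Finset.univ.erase b := Finset.mem_erase.2 ⟨hab, Finset.mem_univ a⟩
            rw [← h1] at h3
            exact (Finset.mem_erase.1 h3).1 rfl
          rw [h2]
    · rintro ⟨v, hv⟩
      rcases hsurj v hv with h | ⟨a, h⟩
      · exact ⟨none, Subtype.ext h.symm⟩
      · exact ⟨some a, Subtype.ext h.symm⟩
  rw [← Nat.card_congr (Equiv.ofBijective f hf), Nat.card_eq_fintype_card, Fintype.card_option, h3]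

/-- a four-group: two elements outside `{1, z}` differ by `z` at most -/
theorem four_or [Finite G] {V : Subgroup G} (h4 : Nat.card V = 4) (sq : ∀ x ∈ V, x * x = 1) {z w y : G} (hz : z ∈ V)
    (hz1 : z ≠ 1) (hw : w ∈ V) (hw1 : w ≠ 1) (hwz : w ≠ z) (hy : y ∈ V) :
    y = 1 ∨ y = z ∨ y = w ∨ y = w * z := by
  have hfin : Finite V := inferInstance
  have _ := Fintype.ofFinite V
  classical
  by_contra hcon
  push Not at hcon
  obtain ⟨h1, h2, h3, h5⟩ := hcon
  have hwz' : w * z ∈ V := mul_mem hw hz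
  let s : Finset V := {1, ⟨z, hz⟩, ⟨w, hw⟩, ⟨w * z, hwz'⟩, ⟨y, hy⟩}
  have e1 : (1 : V) ≠ ⟨z, hz⟩ := fun e => hz1 (congrArg Subtype.val e).symm
  have e2 : (1 : V) ≠ ⟨w, hw⟩ := fun e => hw1 (congrArg Subtype.val e).symm
  have e3 : (1 : V) ≠ ⟨w * z, hwz'⟩ := fun e => by
    have e' : w * z = 1 := (congrArg Subtype.val e).symm
    apply hwz
    calc w = w * z * z⁻¹ := by group
      _ = z⁻¹ := by rw [e', one_mul]
      _ = z := inv_eq_of_mul_eq_one_right (sq z hz)
  have e4 : (1 : V) ≠ ⟨y, hy⟩ := fun e => h1 (congrArg Subtype.val e).symm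
  have e5 : (⟨z, hz⟩ : V) ≠ ⟨w, hw⟩ := fun e => hwz (congrArg Subtype.val e).symm
  have e6 : (⟨z, hz⟩ : V) ≠ ⟨w * z, hwz'⟩ := fun e => by
    have e' : z = w * z := congrArg Subtype.val e
    exact hw1 (right_eq_mul.1 e')
  have e7 : (⟨z, hz⟩ : V) ≠ ⟨y, hy⟩ := fun e => h2 (congrArg Subtype.val e).symm
  have e8 : (⟨w, hw⟩ : V) ≠ ⟨w * z, hwz'⟩ := fun e => by
    have e' : w = w * z := congrArg Subtype.val e
    exact hz1 (left_eq_mul.1 e')
  have e9 : (⟨w, hw⟩ : V) ≠ ⟨y, hy⟩ := fun e => h3 (congrArg Subtype.val e).symm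
  have e10 : (⟨w * z, hwz'⟩ : V) ≠ ⟨y, hy⟩ := fun e => h5 (congrArg Subtype.val e).symm
  have hc : s.card = 5 := by
    simp only [s]
    rw [Finset.card_insert_of_notMem, Finset.card_insert_of_notMem, Finset.card_insert_of_notMem,
      Finset.card_insert_of_notMem, Finset.card_singleton]
    · simpa using e10
    · simp only [Finset.mem_insert, Finset.mem_singleton, not_or]
      exact ⟨e8, e9⟩
    · simp only [Finset.mem_insert, Finset.mem_singleton, not_or]
      exact ⟨e5, e6, e7⟩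
    · simp only [Finset.mem_insert, Finset.mem_singleton, not_or]
      exact ⟨e1, e2, e3, e4⟩
  have h6 := Finset.card_le_univ s
  rw [hc, ← Nat.card_eq_fintype_card, h4] at h6
  omega

section full

variable [Finite G] {S : Sylow 2 G} {M U : Subgroup G} {I : Type u} {N E : I → Subgroup G} {R₀ : Subgroup G}
  {Om : I → Type u} [∀ i, Fintype (Om i)] [∀ i, DecidableEq (Om i)] {phi : ∀ i, Finset (Om i) → G} {z : I → G}

theorem mem_E0 (F : Full (S : Subgroup G) M U N E R₀ Om phi) (hI : Nonempty I) {t c : G} (ht : t ∈ M) (hc : c ∈ U)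
    (h : TvV U c t) : t ∈ ⨆ b, E b := by
  by_cases hne : t ∈ centralizer (U : Set G)
  · obtain ⟨b⟩ := hI
    exact (le_iSup E b) (F.CE b ⟨ht, hne⟩)
  · obtain ⟨i, hi, -⟩ := F.tvs t ht c hc h hne
    exact (le_iSup E i) hi

theorem le_E0 (F : Full (S : Subgroup G) M U N E R₀ Om phi) (hI : Nonempty I) {A : Subgroup G} (hA : A ≤ M)
    (hg : A ≤ closure {t | t ∈ A ∧ ∃ c ∈ U, TvV U c t}) : A ≤ ⨆ b, E b := by
  refine hg.trans ((closure_le _).2 ?_)
  rintro t ⟨ht, c, hc, h⟩
  exact mem_E0 F hI (hA ht) hc h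

theorem z_fix' (D : Dec (S : Subgroup G) M U N E R₀) (hin : Inn M N E) (o : One (S : Subgroup G) M U N E z) {s : G}
    (hs : s ∈ (S : Subgroup G)) {b : I} (hb : MulAut.conj s • N b = N b) : s * z b * s⁻¹ = z b := by
  obtain ⟨t, ht, h⟩ := D.act_S hin hs hb
  rw [h _ (o.zN b)]
  exact o.zS b t ht

theorem z_fix (D : Dec (S : Subgroup G) M U N E R₀) (hin : Inn M N E) (o : One (S : Subgroup G) M U N E z) {s : G}
    (hs : s ∈ (S : Subgroup G)) (hs0 : s ∈ ⨆ b, E b) (b : I) : s * z b * s⁻¹ = z b :=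
  z_fix' D hin o hs (D.E0_smul hs0 b)

/-- `S` permutes the `z b` -/
theorem z_perm (D : Dec (S : Subgroup G) M U N E R₀) (o : One (S : Subgroup G) M U N E z) {s : G}
    (hs : s ∈ (S : Subgroup G)) {b c : I} (hb : MulAut.conj s • N b = N c) : s * z b * s⁻¹ = z c := by
  have h1 : s * z b * s⁻¹ ∈ N c := (conj_smul hb).1 (o.zN b)
  refine (o.fix c _ h1 fun u hu => ?_).resolve_left fun e => o.z1 b (conj_eq_one_iff.1 e)
  have hE := D.E_of_N (D.SL hs) hb
  have h2 : s⁻¹ * u * s ∈ E b := by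
    have h3 : s * (s⁻¹ * u * s) * s⁻¹ ∈ E c := by
      have e : s * (s⁻¹ * u * s) * s⁻¹ = u := by group
      rw [e]; exact hu.2
    exact (conj_smul hE).2 h3
  have h4 : s⁻¹ * u * s ∈ (S : Subgroup G) ⊓ E b :=
    ⟨(S : Subgroup G).mul_mem ((S : Subgroup G).mul_mem ((S : Subgroup G).inv_mem hs) hu.1) hs, h2⟩
  have h5 := o.zS b _ h4
  calc u * (s * z b * s⁻¹) * u⁻¹ = s * ((s⁻¹ * u * s) * z b * (s⁻¹ * u * s)⁻¹) * s⁻¹ := by group
    _ = s * z b * s⁻¹ := by rw [h5]

/-- `A` moves `N b`: some `t ∈ A` is a transvection which moves `N b` -/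
theorem exists_tv (F : Full (S : Subgroup G) M U N E R₀ Om phi) {A : Subgroup G} (hA : A ≤ M)
    (hg : A ≤ closure {t | t ∈ A ∧ ∃ c ∈ U, TvV U c t}) {b : I} (hb : ¬ A ≤ centralizer (N b : Set G)) :
    ∃ t ∈ A, t ∈ E b ∧ t ∉ centralizer (N b : Set G) ∧ ∃ p q : Om b, p ≠ q ∧ Rel (phi b) t (Equiv.swap p q) := by
  obtain ⟨t, ⟨ht, c, hc, htv⟩, htb⟩ : ∃ t ∈ {t | t ∈ A ∧ ∃ c ∈ U, TvV U c t}, t ∉ centralizer (N b : Set G) := by
    by_contra hcon
    push Not at hcon
    exact hb (hg.trans ((closure_le _).2 hcon))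
  have hne : t ∉ centralizer (U : Set G) := fun h => htb (centralizer_le (F.NU b) h)
  obtain ⟨i, hi, p, q, hpq, -, hrel⟩ := F.tvs t (hA ht) c hc htv hne
  by_cases hib : i = b
  · subst hib
    exact ⟨t, ht, hi, htb, p, q, hpq, hrel⟩
  · exact absurd (F.EC i b hib hi) htb

/-- **three letters** -/
theorem card_lett (F : Full (S : Subgroup G) M U N E R₀ Om phi) (o : One (S : Subgroup G) M U N E z) {O : Subgroup G}
    (OS : O ≤ (S : Subgroup G)) {b : I} (hn : ∀ g ∈ E b, g * z b = z b * g → g ∈ normalizer (O : Set G)) {t : G}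
    (ht : t ∈ O) (htE : t ∈ E b) {p q : Om b} (hpq : p ≠ q) (hrel : Rel (phi b) t (Equiv.swap p q)) :
    Fintype.card (Om b) = 3 := by
  classical
  by_contra h3
  have h4 : 4 ≤ Fintype.card (Om b) := by
    have := F.three b
    omega
  have hT2 : IsPGroup 2 ((S : Subgroup G) ⊓ E b : Subgroup G) := S.isPGroup'.to_le inf_le_left
  obtain ⟨r, hr, -⟩ := exists_ctr (F.lett b) (F.three b) inf_le_right hT2 (z := z b) (o.fix b)
  obtain ⟨c, hc⟩ : ∃ c, c ∉ ({p, q, r} : Finset (Om b)) := by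
    by_contra hcon
    push Not at hcon
    have h5 : Fintype.card (Om b) ≤ ({p, q, r} : Finset (Om b)).card := by
      rw [← Finset.card_univ]
      exact Finset.card_le_card fun x _ => hcon x
    have h6 := (Finset.card_le_three (a := p) (b := q) (c := r))
    omega
  simp only [Finset.mem_insert, Finset.mem_singleton, not_or] at hc
  have hO' : IsPGroup 2 (O ⊓ centralizer ({z b} : Set G) : Subgroup G) :=
    S.isPGroup'.to_le (inf_le_left.trans OS)
  have htz : t * z b = z b * t := by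
    have h5 := o.zS b t ⟨OS ht, htE⟩
    exact mul_inv_eq_iff_eq_mul.1 h5
  have h7 := (F.lett b).semi (O := O ⊓ centralizer ({z b} : Set G)) (p := r) (F.three b) hO'
    (by rw [← hr]; exact inf_le_right)
    (by
      intro g hg hgz
      rw [← hr] at hgz
      have h8 := hn g hg (mem_centralizer_singleton_iff.1 hgz)
      have h9 : g ∈ normalizer ((centralizer ({z b} : Set G) : Subgroup G) : Set G) := le_normalizer hgz
      rw [mem_normalizer_iff] at h8 h9 ⊢
      intro x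
      exact ⟨fun hx => ⟨(h8 x).1 hx.1, (h9 x).1 hx.2⟩, fun hx => ⟨(h8 x).2 hx.1, (h9 x).2 hx.2⟩⟩)
    (g := t) ⟨ht, mem_centralizer_singleton_iff.2 htz⟩ hrel (c := c) hc.2.2
    (Equiv.swap_apply_of_ne_of_ne hc.1 hc.2.1)
  exact hpq (Equiv.swap_eq_one_iff.1 h7)

/-- `E b` centralises `∏_{c ≠ b} N c` -/
theorem E_cent_Co (D : Dec (S : Subgroup G) M U N E R₀) (b : I) : E b ≤ centralizer (Co N R₀ b : Set G) := by
  rw [le_centralizer_iff]
  refine sup_le (iSup_le fun c => ?_) ?_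
  · rw [← le_centralizer_iff]; exact D.EC b c (Ne.symm c.2)
  · rw [← le_centralizer_iff]; exact D.ER b

/-- `|N b| = 4`: `A` acts on `N b` as a group of order at most 2 -/
theorem act_or (o : One (S : Subgroup G) M U N E z) {b : I} (sqN : ∀ x ∈ N b, x * x = 1) (h4 : Nat.card (N b) = 4)
    {t a : G} (hnt : t ∈ normalizer (N b : Set G)) (hna : a ∈ normalizer (N b : Set G)) (htz : t * z b * t⁻¹ = z b)
    (haz : a * z b * a⁻¹ = z b) (htb : t ∉ centralizer (N b : Set G)) :
    a ∈ centralizer (N b : Set G) ∨ t⁻¹ * a ∈ centralizer (N b : Set G) := by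
  obtain ⟨w, hw, hwt⟩ : ∃ w ∈ N b, t * w * t⁻¹ ≠ w := by
    by_contra hcon
    push Not at hcon
    exact htb (mem_centralizer_iff.2 fun w hw => (mul_inv_eq_iff_eq_mul.1 (hcon w hw)).symm)
  have hw1 : w ≠ 1 := by
    rintro rfl
    exact hwt (by group)
  have hwz : w ≠ z b := by
    rintro rfl
    exact hwt htz
  have hor := fun {y : G} (hy : y ∈ N b) => four_or h4 sqN (o.zN b) (o.z1 b) hw hw1 hwz hy
  -- the image of `w`
  have him : ∀ g ∈ normalizer (N b : Set G), g * z b * g⁻¹ = z b → g * w * g⁻¹ = w ∨ g * w * g⁻¹ = w * z b := by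
    intro g hg hgz
    rcases hor (conj_of hg hw) with h | h | h | h
    · exact absurd (conj_eq_one_iff.1 h) hw1
    · rw [← hgz] at h
      exact absurd (mul_left_cancel (mul_right_cancel h)) hwz
    · exact Or.inl h
    · exact Or.inr h
  have hcent : ∀ g, g * z b * g⁻¹ = z b → g * w * g⁻¹ = w → g ∈ centralizer (N b : Set G) := by
    intro g hgz hgw
    refine mem_centralizer_iff.2 fun y hy => ?_
    have h1 : g * y * g⁻¹ = y := by
      rcases hor hy with rfl | rfl | rfl | rfl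
      · group
      · exact hgz
      · exact hgw
      · calc g * (w * z b) * g⁻¹ = (g * w * g⁻¹) * (g * z b * g⁻¹) := by group
          _ = w * z b := by rw [hgz, hgw]
    exact (mul_inv_eq_iff_eq_mul.1 h1).symm
  have ht' := (him t hnt htz).resolve_left hwt
  rcases him a hna haz with h | h
  · exact Or.inl (hcent a haz h)
  · right
    have hti : t⁻¹ * z b * t = z b := by
      calc t⁻¹ * z b * t = t⁻¹ * (t * z b * t⁻¹) * t := by rw [htz]
        _ = z b := by group
    have htw : t⁻¹ * (w * z b) * t = w := by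
      rw [← ht']; group
    refine hcent _ ?_ ?_
    · calc t⁻¹ * a * z b * (t⁻¹ * a)⁻¹ = t⁻¹ * (a * z b * a⁻¹) * t := by group
        _ = z b := by rw [haz, hti]
    · calc t⁻¹ * a * w * (t⁻¹ * a)⁻¹ = t⁻¹ * (a * w * a⁻¹) * t := by group
        _ = w := by rw [h, htw]

/-- **a pure member of `𝒜(O)`** -/
theorem exists_pure (D : Dec (S : Subgroup G) M U N E R₀) (hin : Inn M N E) (o : One (S : Subgroup G) M U N E z)
    {O A : Subgroup G} (OS : O ≤ (S : Subgroup G)) (UO : U ≤ O)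
    (sq : ∀ x ∈ U, x ^ 2 = 1) (no : NoOverM U (S : Subgroup G)) (hA : KL.TwoS.Mx O A) (hA0 : A ≤ ⨆ b, E b) {b : I}
    (h4 : Nat.card (N b) = 4) {t : G} (ht : t ∈ A) (htE : t ∈ E b) (htb : t ∉ centralizer (N b : Set G)) :
    ∃ A', KL.TwoS.Mx O A' ∧ ¬ A' ≤ centralizer (N b : Set G) ∧ (∀ c, c ≠ b → A' ≤ centralizer (N c : Set G)) ∧
      A' ≤ A ⊔ U := by
  have hAS : A ≤ (S : Subgroup G) := hA.le.trans OS
  set X : Subgroup G := Co N R₀ b with hX
  have XU : X ≤ U := D.CoU b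
  have NX : N b ⊓ X = ⊥ := D.ind b
  have NXU : N b ⊔ X = U := D.sup_Co b
  have htX : t ∈ centralizer (X : Set G) := E_cent_Co D b htE
  have hAc : A ≤ centralizer (A : Set G) := hA.comm
  set Ab : Subgroup G := A ⊓ centralizer (N b : Set G) with hAb
  have sqN : ∀ x ∈ N b, x * x = 1 := fun x hx => by rw [← pow_two]; exact sq x (D.NU b hx)
  -- `A = A_b C_A(X)`
  have hsup : A ≤ Ab ⊔ (A ⊓ centralizer (X : Set G)) := by
    intro a ha
    rcases act_or o sqN h4 (D.EN b htE) (D.E0N b (hA0 ha)) (z_fix D hin o (hAS ht) (hA0 ht) b)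
      (z_fix D hin o (hAS ha) (hA0 ha) b) htb with h | h
    · exact mem_sup_left ⟨ha, h⟩
    · have e : a = t * (t⁻¹ * a) := by group
      rw [e]
      exact mul_mem (mem_sup_right ⟨ht, htX⟩) (mem_sup_left ⟨A.mul_mem (A.inv_mem ht) ha, h⟩)
  have i1 : (centralizer (X : Set G)).relIndex A ≤ (centralizer (X : Set G)).relIndex Ab :=
    relIndex_le_of_sup inf_le_left hAc hsup
  -- (NO) for `A_b`
  have hE : ElemM U Ab :=
    ⟨fun a ha => by rw [hA.sq a ha.1]; exact one_mem _, fun a ha c hc => by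
      have h1 := mem_centralizer_iff.1 (hAc ha.1) c hc.1
      have e : a * c * a⁻¹ * c⁻¹ = 1 := by rw [← h1]; group
      rw [e]; exact one_mem _⟩
  have n1 := no Ab (inf_le_left.trans hAS) hE
  have hNc : N b ≤ centralizer (Ab : Set G) := le_centralizer_iff.1 inf_le_right
  have c1 := card_sup_inf (A := N b) (B := X ⊓ centralizer (Ab : Set G))
    (comm_mono D.ab (D.NU b) (inf_le_left.trans XU))
  have c2 : N b ⊓ (X ⊓ centralizer (Ab : Set G)) = ⊥ := by
    rw [← inf_assoc, NX, bot_inf_eq]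
  rw [c2, card_bot, mul_one] at c1
  have c3 := card_sup_inf (A := N b) (B := X) (comm_mono D.ab (D.NU b) XU)
  rw [NX, card_bot, mul_one, NXU] at c3
  have c4 : Nat.card (N b ⊔ (X ⊓ centralizer (Ab : Set G)) : Subgroup G) ≤
      Nat.card (U ⊓ centralizer (Ab : Set G) : Subgroup G) :=
    Subgroup.card_le_of_le (sup_le (le_inf (D.NU b) hNc) (inf_le_inf_right _ XU))
  have c5 : Nat.card (Ab ⊓ centralizer (U : Set G) : Subgroup G) ≤
      Nat.card (Ab ⊓ centralizer (X : Set G) : Subgroup G) :=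
    Subgroup.card_le_of_le (inf_le_inf_left _ (centralizer_le XU))
  have r1 := relIndex_card (A := Ab) (C := centralizer (X : Set G))
  have r2 := relIndex_card (A := X) (C := centralizer (Ab : Set G))
  have i2 : (centralizer (X : Set G)).relIndex Ab ≤ (centralizer (Ab : Set G)).relIndex X := by
    set p := Nat.card (N b)
    set xc := Nat.card (X ⊓ centralizer (Ab : Set G) : Subgroup G)
    set ac := Nat.card (Ab ⊓ centralizer (X : Set G) : Subgroup G)
    set r := (centralizer (X : Set G)).relIndex Ab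
    set r' := (centralizer (Ab : Set G)).relIndex X
    have pp : 0 < p := Nat.card_pos
    have px : 0 < xc := Nat.card_pos
    have pa : 0 < ac := Nat.card_pos
    have k : (p * xc * ac) * r ≤ (p * xc * ac) * r' := by
      calc (p * xc * ac) * r = (ac * r) * (p * xc) := by ring
        _ = Nat.card Ab * Nat.card (N b ⊔ (X ⊓ centralizer (Ab : Set G)) : Subgroup G) := by rw [← r1, c1]
        _ ≤ Nat.card Ab * Nat.card (U ⊓ centralizer (Ab : Set G) : Subgroup G) := Nat.mul_le_mul_left _ c4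
        _ ≤ Nat.card U * Nat.card (Ab ⊓ centralizer (U : Set G) : Subgroup G) := n1
        _ ≤ Nat.card U * ac := Nat.mul_le_mul_left _ c5
        _ = (p * xc * ac) * r' := by rw [c3, r2]; ring
    exact Nat.le_of_mul_le_mul_left k (Nat.mul_pos (Nat.mul_pos pp px) pa)
  have i3 : (centralizer (Ab : Set G)).relIndex X ≤ (centralizer (A : Set G)).relIndex X :=
    relIndex_le_of_le_left (centralizer_le (show (Ab : Set G) ⊆ A from fun x hx => hx.1))
      Subgroup.index_ne_zero_of_finite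
  have hXsq : ∀ x ∈ X, x ^ 2 = 1 := fun x hx => sq x (XU hx)
  refine ⟨A ⊓ centralizer (X : Set G) ⊔ X, hA.sup (XU.trans UO) hXsq ((i1.trans i2).trans i3), fun h => ?_,
    fun c hc => ?_, sup_le (inf_le_left.trans le_sup_left) (XU.trans le_sup_right)⟩
  · exact htb (h (mem_sup_left ⟨ht, htX⟩))
  · have h1 : N c ≤ X := D.N_le_Co hc
    exact sup_le (inf_le_right.trans (centralizer_le h1)) (comm_mono D.ab XU (D.NU c))

end full

end Cfsg.Agent.Omega.NOThreeL.RRed.FourLeft

end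

section


/-!
# NO-3L, box R, the socket `FourOf`: the rank count (L2)

* `exists_ctr_of_card` : `n = 2 ^ m + 1` letters: a Sylow 2-subgroup fixes one letter and is transitive on the others;
* `card_le_two` : `R₀ = 1`, `S` transitive on the blocks, `n = 2 ^ m + 1`: `|C_V(S)| ≤ 2`;
* **`three_le`** : `R₀ = 1`, `|C_V(S)| = 4`, not two blocks of three letters: there are at least three pairs of letters;
* `hypJ_of_tran` : `S` transitive on the blocks and one block is moved at some level: `HypJ`.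
-/

set_option autoImplicit false
set_option linter.unusedSectionVars false

namespace Cfsg.Agent.Omega.NOThreeL.RRed.FourRank

open Subgroup Cfsg Cfsg.Agent.ZN Cfsg.Agent.Omega.MinPar
open Cfsg.Agent.Omega.KL.TwoS (Rel Lett even_symmDiff)
open Cfsg.Agent.Omega.NOThreeL.Merge (MZ le_MZ S_le_MZ)
open Cfsg.Agent.Omega.NOThreeL.RRed.Blk
open Cfsg.Agent.Omega.NOThreeL.RRed.FourTree
open Cfsg.Agent.Omega.NO1.BestOff (Best)
open scoped Pointwise

universe u w

section perm

variable {Ω : Type w} [Fintype Ω] [DecidableEq Ω]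

/-- a permutation of order `2 ^ m` which fixes `p` only and is transitive on the other `2 ^ m` letters -/
theorem exists_cyc {m : ℕ} (hm : 1 ≤ m) (hc : Fintype.card Ω = 2 ^ m + 1) (p : Ω) :
    ∃ σ : Equiv.Perm Ω, σ ^ 2 ^ m = 1 ∧ (∀ a, σ a = a ↔ a = p) ∧ ∀ a b, a ≠ p → b ≠ p → ∃ k : ℕ, (σ ^ k) a = b := by
  have h2 : 1 < 2 ^ m := Nat.one_lt_two_pow (by omega)
  have hne : NeZero (2 ^ m) := ⟨by omega⟩
  have hcard : Fintype.card {x : Ω // x ≠ p} = Fintype.card (ZMod (2 ^ m)) := by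
    rw [Fintype.card_subtype_compl, Fintype.card_subtype_eq, hc, ZMod.card]
    omega
  let e : {x : Ω // x ≠ p} ≃ ZMod (2 ^ m) := Fintype.equivOfCardEq hcard
  let f : Equiv.Perm {x : Ω // x ≠ p} := e.trans ((Equiv.addRight (1 : ZMod (2 ^ m))).trans e.symm)
  have hf1 : ∀ x, f x = e.symm (e x + 1) := fun x => rfl
  have hf : ∀ (k : ℕ) (x), (f ^ k) x = e.symm (e x + (k : ZMod (2 ^ m))) := by
    intro k
    induction k with
    | zero => intro x; simp
    | succ k ih =>
      intro x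
      rw [pow_succ', Equiv.Perm.mul_apply, ih, hf1, Equiv.apply_symm_apply]
      congr 1
      push_cast
      ring
  have h0 : Fact (1 < 2 ^ m) := ⟨h2⟩
  have key : ∀ (k : ℕ) (a) (ha : a ≠ p), ((Equiv.Perm.ofSubtype f) ^ k) a = ((f ^ k) ⟨a, ha⟩ : Ω) := by
    intro k a ha
    rw [← map_pow, Equiv.Perm.ofSubtype_apply_of_mem (f ^ k) ha]
  have keyp : ∀ (k : ℕ), ((Equiv.Perm.ofSubtype f) ^ k) p = p := by
    intro k
    rw [← map_pow, Equiv.Perm.ofSubtype_apply_of_not_mem (f ^ k) (by simp)]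
  refine ⟨Equiv.Perm.ofSubtype f, ?_, ?_, ?_⟩
  · ext a
    rw [Equiv.Perm.one_apply]
    by_cases ha : a = p
    · rw [ha, keyp]
    · rw [key _ a ha, hf, ZMod.natCast_self, add_zero, Equiv.symm_apply_apply]
  · intro a
    constructor
    · intro h
      by_contra ha
      have h1 := key 1 a ha
      rw [pow_one, pow_one, h, hf1] at h1
      have h3 : (⟨a, ha⟩ : {x : Ω // x ≠ p}) = e.symm (e ⟨a, ha⟩ + 1) := Subtype.ext h1
      have h4 := congrArg e h3
      rw [Equiv.apply_symm_apply, left_eq_add] at h4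
      exact one_ne_zero h4
    · rintro rfl
      have := keyp 1
      rwa [pow_one] at this
  · intro a b ha hb
    refine ⟨(e ⟨b, hb⟩ - e ⟨a, ha⟩).val, ?_⟩
    rw [key _ a ha, hf, ZMod.natCast_zmod_val, add_sub_cancel, Equiv.symm_apply_apply]

end perm

section letters

variable {G : Type u} [Group G] {Ω : Type w} [Fintype Ω] [DecidableEq Ω] {V R T : Subgroup G} {φ : Finset Ω → G}

/-- a permutation of order `2 ^ m` is induced by a 2-element -/
theorem exists_two_of [Finite G] {r : G} {σ : Equiv.Perm Ω} {m : ℕ} (hr : Rel φ r σ) (hσ : σ ^ 2 ^ m = 1) :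
    ∃ r' ∈ zpowers r, IsPGroup 2 (zpowers r') ∧ Rel φ r' σ := by
  obtain ⟨k, n, hn, hrn⟩ := Nat.exists_eq_two_pow_mul_odd (orderOf_pos r).ne'
  have hcop : Nat.Coprime n (2 ^ m) := Nat.Coprime.pow_right m (Nat.coprime_two_right.2 hn)
  obtain ⟨j, hj⟩ : ∃ j : ℕ, σ ^ (n * j) = σ := by
    rcases Nat.eq_zero_or_pos m with rfl | hm
    · rw [pow_zero, pow_one] at hσ
      exact ⟨0, by rw [hσ, one_pow]⟩
    · obtain ⟨j, -, hj⟩ := Nat.exists_mul_mod_eq_one_of_coprime hcop (Nat.one_lt_two_pow (by omega))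
      refine ⟨j, ?_⟩
      rw [← Nat.div_add_mod (n * j) (2 ^ m), hj, pow_add, pow_mul, hσ, one_pow, one_mul, pow_one]
  refine ⟨(r ^ n) ^ j, pow_mem (pow_mem (mem_zpowers r) n) j, ?_, ?_⟩
  · intro x
    refine ⟨k, ?_⟩
    obtain ⟨x, hx⟩ := x
    obtain ⟨i, rfl⟩ := mem_zpowers_iff.1 hx
    apply Subtype.ext
    show (((r ^ n) ^ j) ^ i) ^ 2 ^ k = 1
    have h1 : ((r ^ n) ^ j) ^ 2 ^ k = 1 := by
      rw [← pow_mul, ← pow_mul, show n * (j * 2 ^ k) = (2 ^ k * n) * j by ring, ← hrn, pow_mul, pow_orderOf_eq_one,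
        one_pow]
    rw [← zpow_natCast, ← zpow_mul, mul_comm i, zpow_mul, zpow_natCast, h1, one_zpow]
  · have h1 := (hr.pow n).pow j
    rwa [← pow_mul σ, hj] at h1

variable (L : Lett V R φ) (h3 : 3 ≤ Fintype.card Ω)

include L h3

/-- `n = 2 ^ m + 1`: `T` fixes a letter and is transitive on the others -/
theorem exists_ctr_of_card [Finite G] {m : ℕ} (hm : 1 ≤ m) (hc : Fintype.card Ω = 2 ^ m + 1) (hTR : T ≤ R)
    (hT : IsPGroup 2 T) (hsyl : ∀ Q : Subgroup G, Q ≤ R → IsPGroup 2 Q → ∃ e ∈ R, ∀ q ∈ Q, e * q * e⁻¹ ∈ T) :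
    ∃ p, Ctr T φ p := by
  obtain ⟨p, hp⟩ := exists_fix L h3 hTR hT
  obtain ⟨p0⟩ : Nonempty Ω := Fintype.card_pos_iff.1 (by omega)
  obtain ⟨σ, h1, h2, h4⟩ := exists_cyc hm hc p0
  obtain ⟨r, hr, hrel⟩ := L.all σ
  obtain ⟨r', hr', hp2, hrel'⟩ := exists_two_of hrel h1
  have hle : zpowers r' ≤ R := by
    rw [zpowers_le]
    exact (zpowers_le.2 hr) hr'
  obtain ⟨e, he, h5⟩ := hsyl _ hle hp2
  obtain ⟨τ, hτ⟩ := L.act e he
  have ht : e * r' * e⁻¹ ∈ T := h5 r' (mem_zpowers r')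
  have hrt : Rel φ (e * r' * e⁻¹) (τ * σ * τ⁻¹) := (hτ.mul hrel').mul hτ.inv
  have h6 : (τ * σ * τ⁻¹) p = p := hp _ ht _ hrt
  have h7 : τ⁻¹ p = p0 := by
    rw [← h2]
    have h8 : τ (σ (τ⁻¹ p)) = p := h6
    rw [Equiv.Perm.eq_inv_iff_eq]
    exact h8
  refine ⟨p, hp, fun a b ha hb => ?_⟩
  have hne : ∀ c, c ≠ p → τ⁻¹ c ≠ p0 := by
    intro c hc' h
    exact hc' ((τ⁻¹).injective (h.trans h7.symm))
  obtain ⟨k, hk⟩ := h4 (τ⁻¹ a) (τ⁻¹ b) (hne a ha) (hne b hb)
  refine ⟨(e * r' * e⁻¹) ^ k, pow_mem ht k, (τ * σ * τ⁻¹) ^ k, hrt.pow k, ?_⟩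
  rw [conj_pow, Equiv.Perm.mul_apply, Equiv.Perm.mul_apply, hk]
  exact τ.apply_symm_apply b

omit h3 in
/-- then `C_V(T) ≤ {1, z}` -/
theorem fix_of_ctr {p : Ω} (hc : Ctr T φ p) {x : G} (hx : x ∈ V) (hf : ∀ t ∈ T, t * x * t⁻¹ = x) :
    x = 1 ∨ x = φ (Finset.univ.erase p) := by
  obtain ⟨s, hs, rfl⟩ := (L.mem x).1 hx
  have hmap : ∀ t ∈ T, ∀ σ : Equiv.Perm Ω, Rel φ t σ → s.map σ.toEmbedding = s := by
    intro t ht σ hσ
    apply L.phi_inj (by rwa [Finset.card_map]) hs
    rw [← hσ s hs, hf t ht]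
  by_cases h : ∃ a ∈ s, a ≠ p
  · right
    obtain ⟨a, ha, hap⟩ := h
    have h1 : ∀ b, b ≠ p → b ∈ s := by
      intro b hb
      obtain ⟨t, ht, σ, hσ, rfl⟩ := hc.tran a b hap hb
      rw [← hmap t ht σ hσ]
      exact Finset.mem_map_of_mem _ ha
    congr 1
    ext b
    rw [Finset.mem_erase]
    refine ⟨fun hb => ⟨?_, Finset.mem_univ b⟩, fun hb => h1 b hb.1⟩
    rintro rfl
    have h2 : s = Finset.univ := by
      rw [Finset.eq_univ_iff_forall]
      intro c
      by_cases hcb : c = b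
      · rw [hcb]; exact hb
      · exact h1 c hcb
    rw [h2, Finset.card_univ] at hs
    exact (Nat.not_even_iff_odd.2 L.odd) hs
  · left
    push Not at h
    have h1 : s.card ≤ 1 := Finset.card_le_one.2 fun a ha b hb => (h a ha).trans (h b hb).symm
    have h2 : s.card = 0 := by
      obtain ⟨k, hk⟩ := hs
      omega
    rw [Finset.card_eq_zero.1 h2, L.phi_empty]

end letters

section full

variable {G : Type u} [Group G] [Finite G] {S : Sylow 2 G} {M V : Subgroup G} {I : Type u} {N E : I → Subgroup G}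
  {R₀ : Subgroup G} {Om : I → Type u} [∀ i, Fintype (Om i)] [∀ i, DecidableEq (Om i)] {phi : ∀ i, Finset (Om i) → G}

/-- a block with `2 ^ m + 1` letters has at most one vector `≠ 1` fixed by `S ∩ E b` -/
theorem exists_z (F : TvFin.Full (S : Subgroup G) M V N E R₀ Om phi) {b : I} {m : ℕ} (hm : 1 ≤ m)
    (hc : Fintype.card (Om b) = 2 ^ m + 1) :
    ∃ z : G, ∀ x ∈ N b, (∀ s ∈ (S : Subgroup G) ⊓ E b, s * x * s⁻¹ = x) → x = 1 ∨ x = z := by
  have hD := F.toDec
  obtain ⟨p, hp⟩ := exists_ctr_of_card (F.lett b) (F.three b) hm hc (T := (S : Subgroup G) ⊓ E b) inf_le_right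
    (S.isPGroup'.to_le inf_le_left) fun Q hQ h2 =>
      exists_conj_sub S hD.SL (iSup_le hD.EL) hD.iSup_normal (le_iSup E b) (hD.E_normal b) hQ h2
  exact ⟨_, fun x hx hf => fix_of_ctr (F.lett b) hp hx hf⟩

variable [Finite I]

/-- `S` transitive on the blocks, `2 ^ m + 1` letters: `|C_V(S)| ≤ 2` -/
theorem card_le_two (F : TvFin.Full (S : Subgroup G) M V N E ⊥ Om phi) {b : I} {m : ℕ} (hm : 1 ≤ m)
    (hc : Fintype.card (Om b) = 2 ^ m + 1)
    (ht : ∀ c, ∃ s ∈ (S : Subgroup G), MulAut.conj s • N c = N b) :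
    Nat.card (V ⊓ centralizer ((S : Subgroup G) : Set G) : Subgroup G) ≤ 2 := by
  classical
  have hD := F.toDec
  obtain ⟨z, hz⟩ := exists_z F hm hc
  have hV : V = ⨆ c, N c := by rw [← hD.sup, sup_bot_eq]
  have hfix : ∀ x ∈ V ⊓ centralizer ((S : Subgroup G) : Set G), ∀ s ∈ (S : Subgroup G), s * x * s⁻¹ = x := by
    intro x hx s hs
    rw [mem_centralizer_iff.1 hx.2 s hs, mul_inv_cancel_right]
  -- the component
  choose f hf using fun x : (V ⊓ centralizer ((S : Subgroup G) : Set G) : Subgroup G) => hD.ex_comp b x.2.1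
  have hfS : ∀ x, ∀ s ∈ (S : Subgroup G), MulAut.conj s • N b = N b → s * f x * s⁻¹ = f x := by
    intro x s hs hsb
    have h1 := hD.comp_conj (hD.SL hs) hsb (hf x)
    rw [hfix _ x.2 s hs] at h1
    exact hD.uniq h1 (hf x)
  have hf2 : ∀ x, f x = 1 ∨ f x = z := fun x => hz _ (hf x).1 fun s hs => hfS x s hs.1 (smul_of_mem (hD.EN b hs.2))
  have hinj : Function.Injective f := by
    intro x y hxy
    apply Subtype.ext
    have hxV := x.2.1
    have hyV := y.2.1
    apply hD.ext (by rw [← hV]; exact hxV) (by rw [← hV]; exact hyV)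
    intro c
    obtain ⟨n, hn⟩ := hD.ex_comp c hxV
    obtain ⟨n', hn'⟩ := hD.ex_comp c hyV
    obtain ⟨s, hs, hsc⟩ := ht c
    have h1 := hD.comp_conj (hD.SL hs) hsc hn
    have h2 := hD.comp_conj (hD.SL hs) hsc hn'
    rw [hfix _ x.2 s hs] at h1
    rw [hfix _ y.2 s hs] at h2
    have h3 := hD.uniq h1 (hf x)
    have h4 := hD.uniq h2 (hf y)
    have h5 : n = n' := by
      have h6 : s * n * s⁻¹ = s * n' * s⁻¹ := by rw [h3, h4, hxy]
      exact mul_left_cancel (mul_right_cancel h6)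
    exact ⟨n, hn, by rw [h5]; exact hn'⟩
  have h6 : Function.Injective fun x => decide (f x = 1) := by
    intro x y hxy
    apply hinj
    have h7 : (f x = 1) ↔ (f y = 1) := by simpa using hxy
    rcases hf2 x with h | h
    · rw [h, h7.1 h]
    · rcases hf2 y with h' | h'
      · rw [h', h7.2 h']
      · rw [h, h']
  calc Nat.card (V ⊓ centralizer ((S : Subgroup G) : Set G) : Subgroup G) ≤ Nat.card Bool :=
        Nat.card_le_card_of_injective _ h6
    _ = 2 := by simp

end full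

section count

variable {G : Type u} [Group G] [Finite G] {S : Sylow 2 G} {M V : Subgroup G} {I : Type u} [Fintype I]
  {N E : I → Subgroup G} {Om : I → Type u} [∀ i, Fintype (Om i)] [∀ i, DecidableEq (Om i)]
  {phi : ∀ i, Finset (Om i) → G}

/-- **The rank count.** `|C_V(S)| = 4`, not two blocks of three letters: at least three pairs of letters. -/
theorem three_le (F : TvFin.Full (S : Subgroup G) M V N E ⊥ Om phi)
    (h4 : 4 ≤ Nat.card (V ⊓ centralizer ((S : Subgroup G) : Set G) : Subgroup G))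
    (h2 : ¬ (Fintype.card I = 2 ∧ ∀ b, Fintype.card (Om b) = 3)) :
    3 ≤ ∑ b, (Fintype.card (Om b) - 1) / 2 := by
  classical
  by_contra hlt
  push Not at hlt
  have hD := F.toDec
  have h1 : ∀ b, 1 ≤ (Fintype.card (Om b) - 1) / 2 := by
    intro b
    have := F.three b
    omega
  have h3 : Fintype.card I ≤ ∑ b, (Fintype.card (Om b) - 1) / 2 := by
    calc Fintype.card I = ∑ _b : I, 1 := by simp
      _ ≤ _ := Finset.sum_le_sum fun b _ => h1 b
  have hle : ∀ b, (Fintype.card (Om b) - 1) / 2 ≤ ∑ b, (Fintype.card (Om b) - 1) / 2 := fun b =>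
    Finset.single_le_sum (f := fun b => (Fintype.card (Om b) - 1) / 2) (fun _ _ => Nat.zero_le _) (Finset.mem_univ b)
  have hcI : Fintype.card I = 0 ∨ Fintype.card I = 1 ∨ Fintype.card I = 2 := by omega
  rcases hcI with hI | hI | hI
  · have hE : IsEmpty I := Fintype.card_eq_zero_iff.1 hI
    have hV : V = ⊥ := by rw [← hD.sup, sup_bot_eq, iSup_of_empty]
    rw [hV, bot_inf_eq, card_bot] at h4
    omega
  · obtain ⟨b, hb⟩ := Fintype.card_eq_one_iff.1 hI
    have h5 := hle b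
    have h6 := F.three b
    have h7 := (F.lett b).odd
    obtain ⟨k, hk⟩ := h7
    have h8 : Fintype.card (Om b) = 2 ^ 1 + 1 ∨ Fintype.card (Om b) = 2 ^ 2 + 1 := by
      norm_num
      omega
    have ht : ∀ c, ∃ s ∈ (S : Subgroup G), MulAut.conj s • N c = N b := by
      intro c
      refine ⟨1, one_mem _, ?_⟩
      rw [hb c, map_one, one_smul]
    rcases h8 with h8 | h8
    · have := card_le_two F le_rfl h8 ht
      omega
    · have := card_le_two F (by norm_num : 1 ≤ 2) h8 ht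
      omega
  · apply h2
    refine ⟨hI, fun b => ?_⟩
    have h5 := F.three b
    have h6 : ∑ c ∈ Finset.univ.erase b, (Fintype.card (Om c) - 1) / 2 + (Fintype.card (Om b) - 1) / 2 =
        ∑ c, (Fintype.card (Om c) - 1) / 2 := Finset.sum_erase_add _ _ (Finset.mem_univ b)
    have h7 : 1 ≤ ∑ c ∈ Finset.univ.erase b, (Fintype.card (Om c) - 1) / 2 := by
      have h8 : (Finset.univ.erase b).card = 1 := by
        rw [Finset.card_erase_of_mem (Finset.mem_univ b), Finset.card_univ, hI]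
      calc 1 = ∑ _c ∈ Finset.univ.erase b, 1 := by simp [h8]
        _ ≤ _ := Finset.sum_le_sum fun c _ => h1 c
    obtain ⟨k, hk⟩ := (F.lett b).odd
    omega

end count

section tree

variable {G : Type u} [Group G] [Finite G] {S : Sylow 2 G} {I : Type u} {N E : I → Subgroup G}
  {Om : I → Type u} [∀ i, Fintype (Om i)] [∀ i, DecidableEq (Om i)] {phi : ∀ i, Finset (Om i) → G}

/-- `|Z| = 4`: at least three pairs of letters, or two blocks of three letters. -/
theorem three_le_four [Fintype I] (h : Four S) (hB : Bks S N E ⊥ Om phi)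
    (h2 : ¬ (Fintype.card I = 2 ∧ ∀ b, Fintype.card (Om b) = 3)) :
    3 ≤ ∑ b, (Fintype.card (Om b) - 1) / 2 := by
  refine three_le hB.toFull ?_ h2
  rw [← h.z4]
  refine Subgroup.card_le_of_le (le_inf (MinSimple.VModule.zc_le_zl _ _) ?_)
  exact fun z hz => mem_centralizer_iff.2 fun s hs => (MinSimple.VModule.mem_zc.1 hz).2.1 s hs

/-- a subgroup which is normal in `S` moves all blocks of an `S`-orbit or none -/
theorem moves_of_tran (ht : ∀ b c, ∃ s ∈ (S : Subgroup G), MulAut.conj s • N b = N c) {J : Subgroup G}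
    (hJ : (S : Subgroup G) ≤ normalizer (J : Set G)) {b : I} (hb : ¬ J ≤ centralizer (N b : Set G)) (c : I) :
    ¬ J ≤ centralizer (N c : Set G) := by
  intro hc
  apply hb
  obtain ⟨s, hs, hsb⟩ := ht b c
  intro j hj
  rw [mem_centralizer_iff]
  intro x hx
  have h1 : s * x * s⁻¹ ∈ N c := (conj_smul hsb).1 hx
  have h2 : s * j * s⁻¹ ∈ J := (mem_normalizer_iff.1 (hJ hs) j).1 hj
  have h3 := mem_centralizer_iff.1 (hc h2) _ h1
  have h4 : s * (x * j) * s⁻¹ = s * (j * x) * s⁻¹ := by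
    calc s * (x * j) * s⁻¹ = (s * x * s⁻¹) * (s * j * s⁻¹) := by group
      _ = (s * j * s⁻¹) * (s * x * s⁻¹) := h3
      _ = _ := by group
  exact mul_left_cancel (mul_right_cancel h4)

end tree

end Cfsg.Agent.Omega.NOThreeL.RRed.FourRank

end
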