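import Cfsg.Agent.Mrg.Omega.NOThreeL.RRed.InstZ
import Cfsg.Agent.Omega.NOThreeL.RShape.Lines
import Cfsg.Agent.Mrg.Omega.KL.TwoZ.Line

section


/-!
# NO-3L, box R: two natural blocks with field automorphisms (definitions; helper19)

* `LD S V W l` : the per-type facts about the block `V`, the other block `W` and the line `l ≤ V`;
* `LD.flg` : `S` acts on `l` as in LEMMA LINES;
* `NatF S V l` : the data of the instance of 853's frame `KL.TwoZ.Line.LFr`;
* `NatF.perm` : `C_G(Z) ≤ N(l 0 l 1)` ⟹ `C_G(Z) ≤ (C_G(Z) ∩ C(l 0 l 1)) S`.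
-/

set_option autoImplicit false
set_option linter.unusedSectionVars false

namespace Cfsg.Agent.Omega.NOThreeL.RRed.InstL

open Subgroup Cfsg Cfsg.Agent.ZN Cfsg.Agent.Omega.MinPar Cfsg.Agent.Omega.Frame Cfsg.Agent.Omega.FrameNOFF
open Cfsg.Agent.Omega.Node.NO3L Cfsg.Agent.Omega.NOThreeL.Basic
open Cfsg.Agent.Omega.NOThreeL.Merge (MZ)
open Cfsg.Agent.Omega.NOThreeL.RTree (RB)
open Cfsg.Agent.ZN.ChoiceSit (Syl)
open Cfsg.Agent.MinSimple.MinParabolic (IsMinPar)
open Cfsg.Agent.Omega.NOThreeL.RRed.InstZ (ZZ Spl GF)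
open Cfsg.Agent.Omega.NOThreeL.RShape.Lines (FLG le_sup_lines)
open scoped Pointwise

universe u

variable {G : Type u} [Group G]

/-- **the facts about one natural block `V`** (`W` the other block, `l` the line) -/
structure LD (S V W l : Subgroup G) : Prop where
  lV : l ≤ V
  Sl : S ≤ normalizer (l : Set G)
  /-- the `S`-fixed vectors lie in the line -/
  fix : ∀ v ∈ V, v ∈ centralizer (S : Set G) → v ∈ l
  cyc : ∃ t ∈ S, ∀ s ∈ S, ∃ n : ℤ, ∀ v ∈ l, s * v * s⁻¹ = t ^ n * v * (t ^ n)⁻¹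
  trV : ∀ v ∈ V, ∃ h ∈ centralizer (W : Set G), h ∈ normalizer (V : Set G) ∧ h * v * h⁻¹ ∈ V ⊓ zc S
  tor : ∀ v ∈ l, ∃ h ∈ centralizer (W : Set G), h ∈ normalizer (V : Set G) ∧
    h ∈ normalizer (l : Set G) ∧ h * v * h⁻¹ ∈ V ⊓ zc S
  root : ∀ x ∈ V, ∀ y ∈ S, y ∈ centralizer (l : Set G) → x * y * x⁻¹ * y⁻¹ ∈ l
  reg : ∀ y ∈ S, y ∈ centralizer (l : Set G) → ∀ v ∈ V, v ∉ l → y * v = v * y → y ∈ centralizer (V : Set G)
  cardV : Nat.card V = Nat.card l * Nat.card l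

/-- a 2-group which acts on `l` as a cyclic group -/
theorem flg_of_cyc [Finite G] {S l : Subgroup G} (hS : S ≤ normalizer (l : Set G))
    (cyc : ∃ t ∈ S, ∀ s ∈ S, ∃ n : ℤ, ∀ v ∈ l, s * v * s⁻¹ = t ^ n * v * (t ^ n)⁻¹) : FLG S l := by
  obtain ⟨t, ht, hc⟩ := cyc
  have inv : ∀ g ∈ S, ∀ y ∈ l, g * y * g⁻¹ ∈ l := fun g hg y hy => (mem_normalizer_iff.1 (hS hg) y).1 hy
  -- the automorphism induced by `t`
  let τ : MulAut l := RShape.Lines.rho S l hS ⟨t, ht⟩
  have hτ : ∀ (n : ℤ) (y : l), (((τ ^ n : MulAut l) y : l) : G) = t ^ n * y * (t ^ n)⁻¹ := by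
    intro n y
    have e : (τ ^ n : MulAut l) = RShape.Lines.rho S l hS (⟨t, ht⟩ ^ n) := (map_zpow (RShape.Lines.rho S l hS) _ _).symm
    rw [e, RShape.Lines.rho_apply]
    simp
  refine ⟨inv, fun g hg h hh y hy => ?_, fun g hg h hh hg2 hh2 hg1 hh1 y hy => ?_⟩
  · obtain ⟨n, hn⟩ := hc g hg
    obtain ⟨m, hm⟩ := hc h hh
    rw [hn _ (inv h hh y hy), hm y hy, hm _ (inv g hg y hy), hn y hy]
    have e1 : t ^ n * (t ^ m * y * (t ^ m)⁻¹) * (t ^ n)⁻¹ = (t ^ n * t ^ m) * y * (t ^ n * t ^ m)⁻¹ := by group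
    have e2 : t ^ m * (t ^ n * y * (t ^ n)⁻¹) * (t ^ m)⁻¹ = (t ^ m * t ^ n) * y * (t ^ m * t ^ n)⁻¹ := by group
    rw [e1, e2, ← zpow_add, ← zpow_add, add_comm]
  · obtain ⟨n, hn⟩ := hc g hg
    obtain ⟨m, hm⟩ := hc h hh
    -- `τ ^ n`, `τ ^ m` are involutions
    have key : ∀ (k : ℤ) (x : G), x ∈ S → (∀ v ∈ l, x * v * x⁻¹ = t ^ k * v * (t ^ k)⁻¹) →
        (∀ y ∈ l, x * (x * y * x⁻¹) * x⁻¹ = y) → (∃ y ∈ l, x * y * x⁻¹ ≠ y) →
        τ ^ (2 * k) = 1 ∧ τ ^ k ≠ 1 := by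
      intro k x hx hk h2 h1
      constructor
      · ext y
        rw [two_mul, zpow_add]
        have e1 := hτ k y
        have e2 := hτ k ((τ ^ k : MulAut l) y)
        have e3 : (((τ ^ k * τ ^ k : MulAut l) y : l) : G) = t ^ k * ((τ ^ k : MulAut l) y : l) * (t ^ k)⁻¹ := e2
        rw [e3, e1, ← hk y y.2, ← hk _ (inv x hx y y.2), h2 y y.2]
        rfl
      · intro hc1
        obtain ⟨y, hy, hne⟩ := h1
        apply hne
        have e1 := hτ k ⟨y, hy⟩
        rw [hc1] at e1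
        rw [hk y hy]
        exact e1.symm
    obtain ⟨a1, a2⟩ := key n g hg hn hg2 hg1
    obtain ⟨b1, b2⟩ := key m h hh hm hh2 hh1
    have d1 := orderOf_dvd_iff_zpow_eq_one.2 a1
    have d2 := orderOf_dvd_iff_zpow_eq_one.2 b1
    have d3 : ¬ (orderOf τ : ℤ) ∣ n := fun hc1 => a2 (orderOf_dvd_iff_zpow_eq_one.1 hc1)
    have d4 : ¬ (orderOf τ : ℤ) ∣ m := fun hc1 => b2 (orderOf_dvd_iff_zpow_eq_one.1 hc1)
    obtain ⟨a, ha⟩ := d1
    obtain ⟨b, hb⟩ := d2
    have oa : Odd a := by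
      by_contra hne
      rw [Int.not_odd_iff_even] at hne
      obtain ⟨c, hc'⟩ := hne
      apply d3
      refine ⟨c, ?_⟩
      have : 2 * n = 2 * (orderOf τ * c) := by rw [ha, hc']; ring
      linarith
    have ob : Odd b := by
      by_contra hne
      rw [Int.not_odd_iff_even] at hne
      obtain ⟨c, hc'⟩ := hne
      apply d4
      refine ⟨c, ?_⟩
      have : 2 * m = 2 * (orderOf τ * c) := by rw [hb, hc']; ring
      linarith
    have d5 : (orderOf τ : ℤ) ∣ n - m := by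
      obtain ⟨c, hc'⟩ := oa.sub_odd ob
      refine ⟨c, ?_⟩
      have : 2 * (n - m) = 2 * (orderOf τ * c) := by
        calc 2 * (n - m) = orderOf τ * a - orderOf τ * b := by rw [← ha, ← hb]; ring
          _ = orderOf τ * (a - b) := by ring
          _ = 2 * (orderOf τ * c) := by rw [hc']; ring
      linarith
    have d6 : τ ^ n = τ ^ m := by
      have h1 := orderOf_dvd_iff_zpow_eq_one.1 d5
      rw [zpow_sub, mul_inv_eq_one] at h1
      exact h1
    have e1 := hτ n ⟨y, hy⟩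
    have e2 := hτ m ⟨y, hy⟩
    rw [d6] at e1
    rw [hn y hy, hm y hy]
    exact e1.symm.trans e2

theorem LD.flg [Finite G] {S V W l : Subgroup G} (h : LD S V W l) : FLG S l := flg_of_cyc h.Sl h.cyc

end Cfsg.Agent.Omega.NOThreeL.RRed.InstL

end

section


/-!
# NO-3L, box R: the instance of 853's frame `KL.TwoZ.Line.LFr` (two natural blocks with field automorphisms; helper19)

* `NatF S V l` : the data; **`NatF.lfr`** : `LFr S V (ZZ S V) l`.
-/

set_option autoImplicit false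
set_option linter.unusedSectionVars false

namespace Cfsg.Agent.Omega.NOThreeL.RRed.InstL

open Subgroup Cfsg Cfsg.Agent.ZN Cfsg.Agent.Omega.MinPar Cfsg.Agent.Omega.Frame Cfsg.Agent.Omega.FrameNOFF
open Cfsg.Agent.Omega.Node.NO3L Cfsg.Agent.Omega.NOThreeL.Basic
open Cfsg.Agent.Omega.NOThreeL.Merge (MZ)
open Cfsg.Agent.Omega.NOThreeL.RTree (RB)
open Cfsg.Agent.ZN.ChoiceSit (Syl)
open Cfsg.Agent.MinSimple.MinParabolic (IsMinPar)
open Cfsg.Agent.Omega.NOThreeL.RRed.InstZ (ZZ Spl GF)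
open Cfsg.Agent.Omega.NOThreeL.RShape.Lines (FLG le_sup_lines)
open Cfsg.Agent.Omega.OM.KTwo (exists_mul_of_mem_sup)
open scoped Pointwise

universe u

variable {G : Type u} [Group G]

/-- **two natural blocks with field automorphisms**: the data of the instance -/
structure NatF [Finite G] (S : Sylow 2 G) (V l : Fin 2 → Subgroup G) : Prop where
  nM : ∀ i, MZ (S : Subgroup G) ≤ normalizer (V i : Set G)
  nS : ∀ n ∈ normalizer ((S : Subgroup G) : Set G), (∀ j, MulAut.conj n • l j = l j ∧ MulAut.conj n • V j = V j) ∨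
    ∀ j, MulAut.conj n • l j = l (j + 1) ∧ MulAut.conj n • V j = V (j + 1)
  ld : ∀ i, LD (S : Subgroup G) (V i) (V (i + 1)) (l i)
  act : ∀ R, IsParS (S : Subgroup G) R → (∀ k, R ≤ normalizer (l k : Set G)) ∨
    ∃ i, (∀ z ∈ ZZ (S : Subgroup G) V i, z ≠ 1 → ¬ R ≤ centralizer ({z} : Set G)) ∧
      ∀ g ∈ R, Odd (orderOf g) → g ∈ centralizer (V (i + 1) : Set G)
  gal : ∀ R, IsParS (S : Subgroup G) R → (∀ k, R ≤ normalizer (l k : Set G)) → ∀ i,
    ∀ z ∈ ZZ (S : Subgroup G) V i, z ≠ 1 → R ≤ centralizer ({z} : Set G) →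
      R ≤ centralizer (ZZ (S : Subgroup G) V i : Set G)

namespace NatF

variable [Finite G] {S : Sylow 2 G} {V l : Fin 2 → Subgroup G} (N : NatF S V l)
include N

theorem Sl (i : Fin 2) : (S : Subgroup G) ≤ normalizer (l i : Set G) := (N.ld i).Sl

theorem comm_l (s : Spl S V) (h : RB S) {i j : Fin 2} : l i ≤ centralizer (l j : Set G) :=
  (N.ld i).lV.trans ((s.comm h i j).trans (centralizer_le (N.ld j).lV))

/-- `C_G(Z)` normalises both lines as soon as it normalises their product (LEMMA LINES). -/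
theorem perm (s : Spl S V) (h : RB S)
    (zj : centralizer (zc (S : Subgroup G) : Set G) ≤ normalizer ((l 0 ⊔ l 1 : Subgroup G) : Set G)) (i : Fin 2) :
    centralizer (zc (S : Subgroup G) : Set G) ≤ normalizer (l i : Set G) := by
  set C : Subgroup G := centralizer (zc (S : Subgroup G) : Set G) with hC
  have hSC : (S : Subgroup G) ≤ C := MinSimple.VModule.le_centralizer_zc _
  have h0V : ∀ k, l k ≤ V k := fun k => (N.ld k).lV
  have hVS := s.V_le_S h
  have hY2 : IsPGroup 2 ↥(l 0 ⊔ l 1) := S.isPGroup'.to_le (sup_le ((h0V 0).trans (hVS 0)) ((h0V 1).trans (hVS 1)))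
  have hYc : ∀ x ∈ l 0 ⊔ l 1, ∀ y ∈ l 0 ⊔ l 1, x * y = y * x := by
    have h1 : (l 0 ⊔ l 1 : Subgroup G) ≤ centralizer ((l 0 ⊔ l 1 : Subgroup G) : Set G) :=
      sup_le (NoFF.Basic.comm_symm (sup_le (N.comm_l s h) (N.comm_l s h)))
        (NoFF.Basic.comm_symm (sup_le (N.comm_l s h) (N.comm_l s h)))
    exact fun x hx y hy => (mem_centralizer_iff.1 (h1 hy) x hx)
  have hfix : ∀ y ∈ l 0 ⊔ l 1, (∀ t ∈ (S : Subgroup G), t * y * t⁻¹ = y) → ∀ c ∈ C, c * y * c⁻¹ = y := by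
    intro y hy hyS c hc
    have hyZ : y ∈ zc (S : Subgroup G) := by
      refine mem_zc.2 ⟨(sup_le ((h0V 0).trans (hVS 0)) ((h0V 1).trans (hVS 1))) hy, fun t ht => ?_, ?_⟩
      · have h1 := hyS t ht
        calc t * y = (t * y * t⁻¹) * t := by group
          _ = y * t := by rw [h1]
      · have h1 : y ∈ zl (S : Subgroup G) (MZ (S : Subgroup G)) := by
          rw [← s.sup]
          exact sup_le_sup (h0V 0) (h0V 1) hy
        exact Star.zl_sq h.ctx.char2 h.data.noff y h1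
    have h2 := mem_centralizer_iff.1 hc y hyZ
    rw [← h2, mul_inv_cancel_right]
  have hdis : l 0 ⊓ l 1 = ⊥ := by
    rw [eq_bot_iff, ← s.dis]
    exact inf_le_inf (h0V 0) (h0V 1)
  have hSylC : Syl (S : Subgroup G) C := ⟨hSC, S.isPGroup', fun Q _ hQ2 hQ => S.is_maximal' hQ2 hQ⟩
  have h1 := le_sup_lines hSylC hY2 hYc zj rfl hdis (N.ld 0).flg (N.ld 1).flg hfix
  refine h1.trans (sup_le ?_ (N.Sl i))
  refine (inf_le_right.trans (centralizer_le ?_)).trans (centralizer_le_normalizer _)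
  have h2 : l i ≤ l 0 ⊔ l 1 := by
    rcases Fin.exists_fin_two.1 ⟨i, rfl⟩ with e | e
    · rw [e]; exact le_sup_left
    · rw [e]; exact le_sup_right
  exact h2

omit N in
/-- a local mover is in `P*(S)` -/
theorem parS_of {R : Subgroup G} (hR : IsMinPar (S : Subgroup G) R) (ho : o2 R ≠ ⊥)
    (hm : ¬ R ≤ centralizer (zc (S : Subgroup G) : Set G)) : IsParS (S : Subgroup G) R := by
  by_contra h3
  exact hm (par_le_CZ S ⟨hR, ho⟩ h3)

omit N in
theorem o2_ne_of {z : G} (hz : z ∈ zc (S : Subgroup G)) (hz1 : z ≠ 1) {R : Subgroup G}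
    (hSR : (S : Subgroup G) ≤ R) (hRz : R ≤ centralizer ({z} : Set G)) : o2 R ≠ ⊥ := by
  have h0 : zpowers z ≤ zc (S : Subgroup G) := by rw [zpowers_le]; exact hz
  have h1 : zpowers z ≤ o2 R := by
    refine MinSimple.VModule.le_o2 ((h0.trans (zc_le _)).trans hSR) (S.isPGroup'.to_le (h0.trans (zc_le _))) ?_
    refine hRz.trans (le_trans ?_ (centralizer_le_normalizer _))
    intro x hx
    rw [mem_centralizer_singleton_iff] at hx
    rw [mem_centralizer_iff]
    rintro _ ⟨k, rfl⟩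
    exact ((show Commute x z from hx).zpow_right k).symm
  intro hc
  rw [hc, le_bot_iff, zpowers_eq_bot] at h1
  exact hz1 h1

theorem ZZ_le (i : Fin 2) : ZZ (S : Subgroup G) V i ≤ l i := fun v hv =>
  (N.ld i).fix v hv.1 (MinSimple.VModule.zc_le_centralizer _ hv.2)

/-- **the frame of two natural blocks with field automorphisms** -/
theorem lfr (h : RB S) (s : Spl S V)
    (zj : centralizer (zc (S : Subgroup G) : Set G) ≤ normalizer ((l 0 ⊔ l 1 : Subgroup G) : Set G))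
    (hn : NonLoc (centralizer (ZZ (S : Subgroup G) V 0 : Set G)) (centralizer (ZZ (S : Subgroup G) V 1 : Set G))) :
    KL.TwoZ.Line.LFr S V (ZZ (S : Subgroup G) V) l where
  char2 := (s.gf h).char2
  sqV := (s.gf h).sqV
  Zl := N.ZZ_le
  lV i := (N.ld i).lV
  ne := (s.gf h).ne
  zT := (s.gf h).zT
  lZ i v hv hvS := by
    refine mem_inf.2 ⟨(N.ld i).lV hv, mem_zc.2 ⟨s.V_le_S h i ((N.ld i).lV hv), fun t ht => ?_, ?_⟩⟩
    · have h1 := mem_centralizer_iff.1 hvS t ht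
      exact h1
    · exact s.sq h i v ((N.ld i).lV hv)
  com := (s.gf h).comm 0 1
  dis := s.dis
  nV := s.nS
  nS := N.nS
  perm := N.perm s h zj
  cyc i := (N.ld i).cyc
  uni R hR ho hm := by
    have h1 := parS_of hR ho hm
    refine ⟨fun k => (NOThreeL.Merge.le_MZ h1).trans (N.nM k), N.act R h1⟩
  gal R hR hl i z hz hz1 hRz := by
    by_cases hm : R ≤ centralizer (zc (S : Subgroup G) : Set G)
    · exact hm.trans (centralizer_le inf_le_right)
    · exact N.gal R (parS_of hR (o2_ne_of hz.2 hz1 hR.le hRz) hm) hl i z hz hz1 hRz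
  trV i := (N.ld i).trV
  tor i := (N.ld i).tor
  VQ := (s.gf h).VQ
  VC := (s.gf h).VC
  VN := (s.gf h).VN
  root i := (N.ld i).root
  reg i := (N.ld i).reg
  cardV i := (N.ld i).cardV
  nonloc := hn

end NatF

end Cfsg.Agent.Omega.NOThreeL.RRed.InstL

end
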