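import Cfsg.Agent.Mrg.Omega.NOThreeL.RRed.InstLDef
import Cfsg.Agent.Mrg.Omega.NOThreeL.RRed.NatS
import Cfsg.Agent.Mrg.Omega.KL.TwoZ.LineW


/-!
# NO-3L, box R: from 640's coordinates `NatS` to `LD`; the frame `LFrW` (helper19)

* **`ld_of_natS`** : `NatS F S P V W l → LD S V W l`;
* `torZ_of_natS`, `torU_of_natS`; **`lfrw_of`** : `LFr` + `NatS` for both types + `bf` give 853's `LFrW`;
* `zj_of_perm` : `C(Z) ≤ N(l i)` for both `i` gives `C(Z) ≤ N(l 0 l 1)`.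
-/

set_option autoImplicit false
set_option linter.unusedSectionVars false
set_option linter.unusedVariables false

namespace Cfsg.Agent.Omega.NOThreeL.RRed.InstL

open Subgroup Cfsg Cfsg.Agent.ZN Cfsg.Agent.Omega.MinPar
open Cfsg.Agent.Omega.NOThreeL.RRed.InstZ (ZZ Spl GF)
open Cfsg.Agent.MinSimple.VModule (oddGen)
open Cfsg.Agent.Omega.NOThreeL.Pair (conj_eq_of_mem)
open scoped Pointwise

universe u

variable {G : Type u} [Group G]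

section one

variable [Finite G] {F : Type} [Field F] [Finite F] [CharP F 2] {S : Sylow 2 G} {P V W l : Subgroup G}
  (N : NatS F (S : Subgroup G) P V W l)
include N

theorem exists_fixed (hVS : V ≤ (S : Subgroup G)) (sq : ∀ x ∈ V, x ^ 2 = 1) :
    ∃ z ∈ V, z ≠ 1 ∧ z ∈ centralizer ((S : Subgroup G) : Set G) ∧ z ∈ zc (S : Subgroup G) := by
  have hne : V ≠ ⊥ := by
    intro h
    obtain ⟨v, hv, hv1⟩ := N.surj ![1, 0]
    rw [h, mem_bot] at hv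
    rw [hv, N.e_one] at hv1
    have := congrFun hv1 0
    simp at this
  have h1 := PLocal.OffenderStep.inf_centralizer_ne_bot V (S : Subgroup G) (S.isPGroup'.to_le hVS) S.isPGroup'
    (N.SP.trans N.nV) hne
  obtain ⟨⟨z, hz⟩, hz1⟩ := (Subgroup.ne_bot_iff_exists_ne_one).1 h1
  have hz1' : z ≠ 1 := fun h => hz1 (Subtype.ext h)
  refine ⟨z, hz.1, hz1', hz.2, mem_zc.2 ⟨hVS hz.1, fun t ht => ?_, sq z hz.1⟩⟩
  exact mem_centralizer_iff.1 hz.2 t ht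

/-- **`LD` from the coordinates** -/
theorem ld_of_natS (hVS : V ≤ (S : Subgroup G)) (sq : ∀ x ∈ V, x ^ 2 = 1) : LD (S : Subgroup G) V W l := by
  obtain ⟨z, hz, hz1, hzS, hzc⟩ := exists_fixed N hVS sq
  refine ⟨N.lV, N.Sl, fun v hv hvS => N.fixed_le hv hvS, N.cyc, fun v hv => ?_, fun v hv => ?_, N.root, N.reg, N.cardV⟩
  · obtain ⟨h, h1, h2, h3 | h3⟩ := N.trV hz hz1 hzS v hv
    · exact ⟨h, h1, h2, by rw [h3]; exact one_mem _⟩
    · exact ⟨h, h1, h2, by rw [h3]; exact mem_inf.2 ⟨hz, hzc⟩⟩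
  · by_cases hv1 : v = 1
    · exact ⟨1, one_mem _, one_mem _, one_mem _, by rw [hv1]; simp⟩
    · obtain ⟨h, hh, hhl, h3⟩ := N.tor_one hz hz1 hzS hv hv1
      exact ⟨h, N.odd_le hh, N.nV (N.oddGen_le hh), hhl, by rw [h3]; exact mem_inf.2 ⟨hz, hzc⟩⟩

theorem torZ_of_natS (hVS : V ≤ (S : Subgroup G)) (sq : ∀ x ∈ V, x ^ 2 = 1) :
    ∀ x ∈ l, x ≠ 1 → ∀ y ∈ l, y ≠ 1 → ∃ h : G, h ∈ centralizer (W : Set G) ∧
      MulAut.conj h • l = l ∧ MulAut.conj h • V = V ∧ h * x * h⁻¹ = y := by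
  intro x hx hx1 y hy hy1
  obtain ⟨z, hz, hz1, hzS, hzc⟩ := exists_fixed N hVS sq
  obtain ⟨h, hh, hhl, h3⟩ := N.tor hz hz1 hzS hx hx1 hy hy1
  exact ⟨h, N.odd_le hh, conj_eq_of_mem hhl, conj_eq_of_mem (N.nV (N.oddGen_le hh)), h3⟩

theorem torU_of_natS (hVS : V ≤ (S : Subgroup G)) (sq : ∀ x ∈ V, x ^ 2 = 1) :
    ∀ x ∈ V, x ∉ l → ∀ y ∈ V, y ∉ l → ∃ h : G, h ∈ centralizer (W : Set G) ∧
      MulAut.conj h • l = l ∧ MulAut.conj h • V = V ∧ y⁻¹ * (h * x * h⁻¹) ∈ l := by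
  intro x hx hxl y hy hyl
  obtain ⟨h, hh, hhl, h3⟩ := N.torU sq hx hxl hy hyl
  exact ⟨h, N.odd_le hh, conj_eq_of_mem hhl, conj_eq_of_mem (N.nV (N.oddGen_le hh)), h3⟩

end one

/-- **`LFrW`** from `LFr`, the coordinates and `bf` -/
theorem lfrw_of [Finite G] {S : Sylow 2 G} {V Z l : Fin 2 → Subgroup G} (D : KL.TwoZ.Line.LFr S V Z l)
    (hN : ∀ i, ∃ (F : Type) (_ : Field F) (_ : Finite F) (_ : CharP F 2) (P : Subgroup G),
      Nonempty (NatS F (S : Subgroup G) P (V i) (V (i + 1)) (l i)))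
    (bf : ∀ n ∈ o2 (centralizer (zc (S : Subgroup G) : Set G)), n ^ 2 = 1 →
      (∀ b ∈ KL.TwoZ.Line.BB S l, b * n = n * b) → n ∈ l 0 ⊔ l 1) : KL.TwoZ.Line.LFrW S V Z l where
  toLFr := D
  torZ i := by
    obtain ⟨F, _, _, _, P, ⟨N⟩⟩ := hN i
    exact torZ_of_natS N ((D.VQ i).trans (D.Q_le_S i)) (D.sqV i)
  torU i := by
    obtain ⟨F, _, _, _, P, ⟨N⟩⟩ := hN i
    exact torU_of_natS N ((D.VQ i).trans (D.Q_le_S i)) (D.sqV i)
  bf := bf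

/-- both lines are normalised ⟹ their product is -/
theorem zj_of_perm {C : Subgroup G} {l : Fin 2 → Subgroup G} (h : ∀ c ∈ C, ∀ i, c ∈ normalizer (l i : Set G)) :
    C ≤ normalizer ((l 0 ⊔ l 1 : Subgroup G) : Set G) := by
  have key : ∀ c ∈ C, MulAut.conj c • (l 0 ⊔ l 1 : Subgroup G) = l 0 ⊔ l 1 := by
    intro c hc
    rw [Subgroup.smul_sup, conj_eq_of_mem (h c hc 0), conj_eq_of_mem (h c hc 1)]
  intro c hc
  exact ZN.ChoiceBase.mem_normalizer_iff_cj.2 (key c hc)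

end Cfsg.Agent.Omega.NOThreeL.RRed.InstL
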