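import Cfsg.Agent.Mrg.Omega.NOThreeL.RRed.Blk.Tr
import Cfsg.Agent.Mrg.Omega.NOThreeL.RWide.LemM
import Cfsg.Agent.Mrg.Omega.NOThreeL.JQ
import Cfsg.Agent.Mrg.Omega.NOThreeL.RZ.LowR
import Cfsg.Agent.Mrg.Omega.TC.No
import Cfsg.Agent.Mrg.Omega.ML.LieTwF4
import Cfsg.Agent.Mrg.Omega.NO3S.SN2.BAOff

section


/-!
# Box R, `t ≥ 2` classes: the pair of full-support vectors (#25809 (2), #26343, #26368), helper863

* `mx_long` : `R` long: `𝒜(O₂(R)) ⊆ 𝒜(O₂(C_G(Z)))`;  `isLong_pair` : `C_G(z) ∩ C_G(e)` is long;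
* `exists_full` : an `S`-fixed vector of `∏_{Om} N b` with components in given sets `O b`;
* `exists_pair` : `z` of full support in `Om`, `e` of full support in the complement: `L ∩ C(z) ∩ C(e)` moves the blocks
  like `L`;
* `orb_of_irr` : `L` is transitive on the blocks of an irreducible class;
* **`all_of`** : if some `A ∈ 𝒜(O₂(C(z) ∩ C(e)))` moves `∏_{Om} N b`, and `L` is transitive on `Om`, then every `N b`,
  `b ∈ Om`, is moved by a member of `𝒜(O₂(C_G(Z)))`.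
-/

set_option autoImplicit false
set_option linter.unusedSectionVars false

namespace Cfsg.Agent.Omega.NOThreeL.RRed.LeftPair

open Subgroup Cfsg Cfsg.Agent.Omega.MinPar Cfsg.Agent.Omega.Frame Cfsg.Agent.Omega.FrameNOFF
open Cfsg.Agent.ZN (zc zl o2)
open Cfsg.Agent.Omega.Node.NO3L
open Cfsg.Agent.Omega.NoFF.ThmJQ (MxIn exists_mxIn)
open Cfsg.Agent.Omega.ML.Final (MLK)
open Cfsg.Agent.Omega.KL.TwoS (Mx)
open Cfsg.Agent.Omega.NoFF.Basic (comm_symm comm_mono)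
open Cfsg.Agent.Omega.NOThreeL.RRed.Blk
open Cfsg.Agent.MinSimple.VModule (zc_le mem_zc le_normalizer_o2 o2_isPGroup o2_le le_o2)
open scoped Pointwise

universe u v

variable {G : Type u} [Group G]

section long

variable [Finite G] {S : Sylow 2 G}

/-- `𝒜(O₂(R)) ⊆ 𝒜(O₂(C_G(Z)))` for a long group `R` -/
theorem mx_long (ml : MLK.{u, u}) (hG : Ctx G) {R A : Subgroup G} (hR : IsLong (S : Subgroup G) R)
    (hA : Mx (o2 R) A) : Mx (o2 (CZ (S : Subgroup G))) A := by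
  obtain ⟨B, hB⟩ := exists_mxIn (o2 (CZ (S : Subgroup G)))
  have kg : ∀ R : Subgroup G, IsLoc (S : Subgroup G) R → IsKGroup R := fun R h =>
    ML.GNN.kgroup_of_isLoc hG hG.not_isPGroup h
  have h1 := Sigma.swap_mx hG.char2 ml kg hR hB
  have h2 := hA.max _ (sup_le (hR.zl_le_o2 hG.char2 S) (Sigma.inf_le hG.char2 hR hB.2.1)) fun b hb => h1.1 b hb
  exact ⟨hA.le.trans (hR.o2_le S), hA.sq, fun C hC hC2 => (h1.2.2 C hC2 hC).trans h2⟩

/-- `C_G(z) ∩ C_G(e)` is long for `z, e ∈ Z`, `z ≠ 1` -/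
theorem isLong_pair {z e : G} (hz : z ∈ zc (S : Subgroup G)) (he : e ∈ zc (S : Subgroup G)) (h1 : z ≠ 1) :
    IsLong (S : Subgroup G) (centralizer ({z} : Set G) ⊓ centralizer ({e} : Set G)) := by
  have hS : ∀ {x : G}, x ∈ zc (S : Subgroup G) → (S : Subgroup G) ≤ centralizer ({x} : Set G) := fun {x} hx s hs => by
    rw [mem_centralizer_singleton_iff]
    exact (mem_zc.1 hx).2.1 s hs
  exact ⟨(RZ.LowR.isLoc_cent hz h1).of_le S (le_inf (hS hz) (hS he)) inf_le_left,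
    le_inf (centralizer_le (Set.singleton_subset_iff.2 hz)) (centralizer_le (Set.singleton_subset_iff.2 he))⟩

end long

section blocks

variable {ι : Type v} {S L U : Subgroup G} {N E : ι → Subgroup G} {R₀ : Subgroup G}

/-- the `E b`, `b ∈ Om`, fix all blocks -/
theorem conj_of_mem (h : Dec S L U N E R₀) (Om : Set ι) {a : G} (ha : a ∈ ⨆ b : Om, E b) (c : ι) :
    MulAut.conj a • N c = N c := by
  have h1 : (⨆ b : Om, E b) ≤ normalizer (N c : Set G) := iSup_le fun b => by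
    by_cases hbc : (b : ι) = c
    · rw [← hbc]; exact h.EN b
    · exact (h.EC b c hbc).trans (centralizer_le_normalizer _)
  exact RWide.LemM.smul_of_nor (h1 ha)

theorem norm_iSup_E [Finite G] (h : Dec S L U N E R₀) (Om : Set ι)
    (inv : ∀ g ∈ L, ∀ b c, MulAut.conj g • N b = N c → b ∈ Om → c ∈ Om) :
    L ≤ normalizer ((⨆ b : Om, E b : Subgroup G) : Set G) := by
  have key : ∀ g ∈ L, MulAut.conj g • (⨆ b : Om, E b : Subgroup G) ≤ ⨆ b : Om, E b := by
    intro g hg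
    rw [show MulAut.conj g • (⨆ b : Om, E b : Subgroup G) = ⨆ b : Om, MulAut.conj g • E b from Subgroup.map_iSup _ _]
    refine iSup_le fun b => ?_
    obtain ⟨c, hc, hc'⟩ := h.perm g hg b
    rw [hc']
    exact le_iSup (fun b : Om => E b) ⟨c, inv g hg b c hc b.2⟩
  intro g hg
  rw [mem_normalizer_iff]
  refine fun x => ⟨fun hx => key g hg ((conj_smul rfl).1 hx), fun hx => ?_⟩
  have h1 := key g⁻¹ (inv_mem hg) ((conj_smul rfl).1 hx)
  have e : g⁻¹ * (g * x * g⁻¹) * g⁻¹⁻¹ = x := by group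
  rwa [e] at h1

/-- **`L ∩ C(z) ∩ C(e)` moves the blocks like `L`.** -/
theorem exists_pair [Finite G] (h : Dec S L U N E R₀) (Om : Set ι)
    (inv : ∀ g ∈ L, ∀ b c, MulAut.conj g • N b = N c → b ∈ Om → c ∈ Om)
    {z e : G} (zN : z ∈ ⨆ b : Om, N b)
    (hz : L ≤ (⨆ b : Om, E b) ⊔ (L ⊓ centralizer ({z} : Set G)))
    (he : L ≤ (⨆ b : (Omᶜ : Set ι), E b) ⊔ (L ⊓ centralizer ({e} : Set G))) {g : G} (hg : g ∈ L) :
    ∃ k ∈ L, k ∈ centralizer ({z} : Set G) ∧ k ∈ centralizer ({e} : Set G) ∧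
      ∀ b, MulAut.conj k • N b = MulAut.conj g • N b := by
  have inv' : ∀ g ∈ L, ∀ b c, MulAut.conj g • N b = N c → b ∈ Omᶜ → c ∈ Omᶜ := fun g hg b c hbc hb hc =>
    hb (inv g⁻¹ (inv_mem hg) c b (by rw [← hbc, map_inv, inv_smul_smul]) hc)
  have hg1 := hz hg
  rw [sup_comm] at hg1
  obtain ⟨k, hk, a, ha, e1⟩ := mem_sup_of (inf_le_left.trans (norm_iSup_E h Om inv)) hg1
  have hk1 := he hk.1
  rw [sup_comm] at hk1
  obtain ⟨m, hm, a', ha', e2⟩ := mem_sup_of (inf_le_left.trans (norm_iSup_E h Omᶜ inv')) hk1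
  have hm1 : m = k * a'⁻¹ := by rw [e2]; group
  have ha'z : a' ∈ centralizer ({z} : Set G) := by
    have h1 : (⨆ b : (Omᶜ : Set ι), E b) ≤ centralizer ((⨆ b : Om, N b : Subgroup G) : Set G) :=
      iSup_le fun b => by
        refine comm_symm (iSup_le fun c => ?_)
        exact comm_symm (h.EC b c fun hbc => b.2 (by rw [hbc]; exact c.2))
    rw [mem_centralizer_singleton_iff]
    exact (mem_centralizer_iff.1 (h1 ha') z zN).symm
  refine ⟨m, hm.1, ?_, hm.2, fun b => ?_⟩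
  · rw [hm1]
    exact mul_mem hk.2 (inv_mem ha'z)
  · have h1 : MulAut.conj g • N b = MulAut.conj k • N b := by
      rw [e1, map_mul, mul_smul, conj_of_mem h Om ha]
    have h2 : MulAut.conj k • N b = MulAut.conj m • N b := by
      rw [e2, map_mul, mul_smul, conj_of_mem h Omᶜ ha']
    rw [h1, h2]

/-- **an `S`-fixed vector of `∏_{Om} N b` with components in the `O b`** -/
theorem exists_full [Finite ι] (h : Dec S L U N E R₀) (Om : Set ι)
    (inv : ∀ g ∈ L, ∀ b c, MulAut.conj g • N b = N c → b ∈ Om → c ∈ Om) (O : ι → Set G) (hON : ∀ b, O b ⊆ N b)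
    (hO : ∀ b, ∃ x ∈ O b, ∀ s ∈ S, MulAut.conj s • N b = N b → s * x * s⁻¹ = x)
    (hc : ∀ g ∈ L, ∀ b c, MulAut.conj g • N b = N c → ∀ x ∈ O b, g * x * g⁻¹ ∈ O c) :
    ∃ z ∈ ⨆ b : Om, N b, (∀ s ∈ S, s * z = z * s) ∧ ∀ b ∈ Om, ∃ n ∈ O b, IsC N R₀ b z n := by
  classical
  obtain ⟨f, hf1, hf2⟩ := h.exists_equi O hO fun s hs => hc s (h.SL hs)
  have := Fintype.ofFinite ι
  -- the vector
  have key : ∀ s : Finset ι, (∀ b ∈ s, b ∈ Om) → ∃ z ∈ ⨆ b : Om, N b, (∀ b ∈ s, IsC N R₀ b z (f b)) ∧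
      ∀ b ∉ s, IsC N R₀ b z 1 := by
    intro s
    induction s using Finset.induction_on with
    | empty => exact fun _ => ⟨1, one_mem _, fun b hb => absurd hb (Finset.notMem_empty b), fun b _ => h.comp_one (one_mem _)⟩
    | insert b s hb ih =>
      intro hs
      obtain ⟨e, he, h1, h2⟩ := ih fun c hc => hs c (Finset.mem_insert_of_mem hc)
      refine ⟨f b * e, mul_mem (le_iSup (fun b : Om => N b) ⟨b, hs b (Finset.mem_insert_self _ _)⟩ (hON b (hf1 b))) he,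
        fun c hc => ?_, fun c hc => ?_⟩
      · rcases Finset.mem_insert.1 hc with rfl | hc
        · have := h.comp_mul (h.comp_self (hON _ (hf1 c))) (h2 c hb)
          rwa [mul_one] at this
        · have hne : b ≠ c := fun e => hb (e ▸ hc)
          have := h.comp_mul (h.comp_ne hne (hON _ (hf1 b))) (h1 c hc)
          rwa [one_mul] at this
      · rw [Finset.mem_insert, not_or] at hc
        have := h.comp_mul (h.comp_ne (Ne.symm hc.1) (hON _ (hf1 b))) (h2 c hc.2)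
        rwa [one_mul] at this
  obtain ⟨z, hz, h1, h2⟩ := key (Finset.univ.filter (· ∈ Om)) (by simp)
  have hzN : z ∈ ⨆ b, N b := (iSup_le fun b : Om => le_iSup N b.1) hz
  refine ⟨z, hz, fun s hs => ?_, fun b hb => ⟨f b, hf1 b, h1 b (by simpa using hb)⟩⟩
  have hsL := h.SL hs
  have h3 : s * z * s⁻¹ = z := by
    refine h.ext (h.conj_mem_B hsL hzN) hzN fun c => ?_
    obtain ⟨b, hb⟩ := h.exists_pre hsL c
    by_cases hcO : c ∈ Om
    · have hbO : b ∈ Om := inv s⁻¹ (inv_mem hsL) c b (by rw [← hb, map_inv, inv_smul_smul]) hcO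
      refine ⟨f c, ?_, h1 c (by simpa using hcO)⟩
      have h4 := h.comp_conj hsL hb (h1 b (by simpa using hbO))
      rwa [hf2 s hs b c hb] at h4
    · have hbO : b ∉ Om := fun hbO => hcO (inv s hsL b c hb hbO)
      refine ⟨1, ?_, h2 c (by simpa using hcO)⟩
      have h4 := h.comp_conj hsL hb (h2 b (by simpa using hbO))
      simpa using h4
  calc s * z = (s * z * s⁻¹) * s := by group
    _ = z * s := by rw [h3]

/-- `L` is transitive on the blocks of an irreducible class -/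
theorem orb_of_irr [Finite G] [Finite ι] (h : Dec S L U N E R₀) (Om : Set ι)
    (irr : ∀ X : Subgroup G, X ≤ ⨆ b : Om, N b → L ≤ normalizer (X : Set G) → X ≠ ⊥ → (⨆ b : Om, N b) ≤ X)
    (inv : ∀ g ∈ L, ∀ b c, MulAut.conj g • N b = N c → b ∈ Om → c ∈ Om) {b c : ι} (hb : b ∈ Om) (hc : c ∈ Om) :
    ∃ g ∈ L, MulAut.conj g • N b = N c := by
  set T : Set ι := {d | ∃ g ∈ L, MulAut.conj g • N b = N d} with hT
  have hbT : b ∈ T := ⟨1, one_mem _, by rw [map_one, one_smul]⟩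
  have hTO : ∀ d ∈ T, d ∈ Om := fun d ⟨g, hg, hd⟩ => inv g hg b d hd hb
  have hX1 : (⨆ d : T, N d) ≤ ⨆ d : Om, N d := iSup_le fun d => le_iSup (fun d : Om => N d) ⟨d, hTO d d.2⟩
  have key : ∀ g ∈ L, MulAut.conj g • (⨆ d : T, N d : Subgroup G) ≤ ⨆ d : T, N d := by
    intro g hg
    rw [show MulAut.conj g • (⨆ d : T, N d : Subgroup G) = ⨆ d : T, MulAut.conj g • N d from Subgroup.map_iSup _ _]
    refine iSup_le fun d => ?_
    obtain ⟨x, hx, hx'⟩ := h.perm g hg d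
    rw [hx]
    obtain ⟨y, hy, hy'⟩ := d.2
    exact le_iSup (fun d : T => N d) ⟨x, g * y, mul_mem hg hy, by rw [map_mul, mul_smul, hy', hx]⟩
  have hX2 : L ≤ normalizer ((⨆ d : T, N d : Subgroup G) : Set G) := by
    intro g hg
    rw [mem_normalizer_iff]
    refine fun x => ⟨fun hx => key g hg ((conj_smul rfl).1 hx), fun hx => ?_⟩
    have h1 := key g⁻¹ (inv_mem hg) ((conj_smul rfl).1 hx)
    have e : g⁻¹ * (g * x * g⁻¹) * g⁻¹⁻¹ = x := by group
    rwa [e] at h1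
  have hX3 : (⨆ d : T, N d : Subgroup G) ≠ ⊥ := fun e => h.ne b
    (le_bot_iff.1 ((le_iSup (fun d : T => N d) ⟨b, hbT⟩).trans e.le))
  have h1 := irr _ hX1 hX2 hX3
  by_contra hcT
  have h2 : N c ≤ Co N R₀ c := ((le_iSup (fun d : Om => N d) ⟨c, hc⟩).trans h1).trans
    (iSup_le fun d => h.N_le_Co fun e => hcT (by rw [← e]; exact d.2))
  refine h.ne c (le_bot_iff.1 ?_)
  rw [← (h.ind c : N c ⊓ Co N R₀ c = ⊥)]
  exact le_inf le_rfl h2

end blocks

/-- **Every block of the class is moved by a member of `𝒜(O₂(C_G(Z)))`.** -/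
theorem all_of [Finite G] {S : Sylow 2 G} (ml : MLK.{u, u}) (hG : Ctx G) {ι : Type v} {L U : Subgroup G}
    {N E : ι → Subgroup G} {R₀ : Subgroup G} (h : Dec (S : Subgroup G) L U N E R₀) (Om : Set ι)
    (inv : ∀ g ∈ L, ∀ b c, MulAut.conj g • N b = N c → b ∈ Om → c ∈ Om)
    (orb : ∀ b ∈ Om, ∀ c ∈ Om, ∃ g ∈ L, MulAut.conj g • N b = N c) {z e : G}
    (hzz : z ∈ zc (S : Subgroup G)) (hez : e ∈ zc (S : Subgroup G)) (z1 : z ≠ 1) (zN : z ∈ ⨆ b : Om, N b)
    (hz : L ≤ (⨆ b : Om, E b) ⊔ (L ⊓ centralizer ({z} : Set G)))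
    (he : L ≤ (⨆ b : (Omᶜ : Set ι), E b) ⊔ (L ⊓ centralizer ({e} : Set G))) {A : Subgroup G}
    (hA : Mx (o2 (centralizer ({z} : Set G) ⊓ centralizer ({e} : Set G))) A)
    (mv : ¬ A ≤ centralizer ((⨆ b : Om, N b : Subgroup G) : Set G)) :
    ∀ b ∈ Om, ∃ A : Subgroup G, Mx (o2 (CZ (S : Subgroup G))) A ∧ ¬ A ≤ centralizer (N b : Set G) := by
  obtain ⟨c, hc⟩ : ∃ c : Om, ¬ A ≤ centralizer (N c : Set G) := by
    by_contra hcon
    push Not at hcon
    exact mv (comm_symm (iSup_le fun c => comm_symm (hcon c)))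
  intro b hb
  obtain ⟨g, hg, hgb⟩ := orb c c.2 b hb
  obtain ⟨k, hk, hkz, hke, hkb⟩ := exists_pair h Om inv zN hz he hg
  have hkD : k ∈ centralizer ({z} : Set G) ⊓ centralizer ({e} : Set G) := mem_inf.2 ⟨hkz, hke⟩
  refine ⟨MulAut.conj k • A, mx_long ml hG (isLong_pair hzz hez z1) (hA.conj ?_), fun h1 => hc ?_⟩
  · rintro _ ⟨a, ha, rfl⟩
    exact conj_of (le_normalizer_o2 _ hkD) (hA.le ha)
  · intro a ha
    rw [mem_centralizer_iff]
    intro n hn
    have h2 : k * a * k⁻¹ ∈ MulAut.conj k • A := (conj_smul rfl).1 ha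
    have h3 : k * n * k⁻¹ ∈ N b := by
      rw [← hgb, ← hkb]
      exact (conj_smul rfl).1 hn
    have h4 := mem_centralizer_iff.1 (h1 h2) _ h3
    have e1 : k * n * k⁻¹ * (k * a * k⁻¹) = k * (n * a) * k⁻¹ := by group
    have e2 : k * a * k⁻¹ * (k * n * k⁻¹) = k * (a * n) * k⁻¹ := by group
    rw [e1, e2] at h4
    exact mul_left_cancel (mul_right_cancel h4)

end Cfsg.Agent.Omega.NOThreeL.RRed.LeftPair

end

section


/-!
# NO-3L, box R: pure members of `𝒜(O)` (helper258)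

`O ≥ N b` el. ab., every `A ∈ 𝒜(O)` acts on `N b` trivially or as the full root group with line `l b` (`RootOn`).

* `root_cen` : `N ⊓ C(A) = l` if `A` moves `N`; `relIndex_left`, `relIndex_right` : the two indices are `|l|`;
* `cut` : `C_A(N c) N c ∈ 𝒜(O)` moves `N b`;
* **`exists_pure`** : some `A ∈ 𝒜(O)` moves `N b` and centralises all other `N c`.
-/

set_option autoImplicit false
set_option linter.unusedSectionVars false

namespace Cfsg.Agent.Omega.NOThreeL.RRed.UPure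

open Subgroup Cfsg Cfsg.Agent.Omega.NOThreeL.RWide
open Cfsg.Agent.Omega.KL.TwoS (Mx)
open Cfsg.Agent.Omega.TC.LemZ (card_eq)

universe u v

variable {G : Type u} [Group G] [Finite G] {O A V Z : Subgroup G}

/-- `v ∈ V \ Z` exists -/
theorem exists_not (hZV : Z ≤ V) (hc : Nat.card V = Nat.card Z ^ 2) (hne : Z ≠ ⊥) : ∃ v ∈ V, v ∉ Z := by
  by_contra hcon
  push Not at hcon
  have h1 : V = Z := le_antisymm hcon hZV
  rw [h1] at hc
  have h2 : 1 < Nat.card Z := (Subgroup.one_lt_card_iff_ne_bot _).2 hne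
  nlinarith

theorem root_cen (hr : RootOn A V Z) (hZV : Z ≤ V) (hZ : Z ≠ ⊥) (hm : ¬ A ≤ centralizer (V : Set G)) :
    V ⊓ centralizer (A : Set G) = Z := by
  refine le_antisymm ?_ (le_inf hZV fun z hz => mem_centralizer_iff.2 fun a ha => hr.fixZ a ha z hz)
  rintro v ⟨hv, hvA⟩
  by_contra hvZ
  rcases hr.full with h1 | h1
  · exact hm h1
  · obtain ⟨z, hz⟩ := Subgroup.ne_bot_iff_exists_ne_one.1 hZ
    obtain ⟨f, hf, h2⟩ := (h1 v hv hvZ).1 z z.2
    have h3 := mem_centralizer_iff.1 hvA f hf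
    apply hz
    apply Subtype.ext
    rw [← h2, h3]
    simp

theorem relIndex_left (hr : RootOn A V Z) (hZV : Z ≤ V) (hV : V ≤ centralizer (V : Set G)) (hZ : Z ≠ ⊥)
    (hc : Nat.card V = Nat.card Z ^ 2) (hm : ¬ A ≤ centralizer (V : Set G)) :
    (centralizer (V : Set G)).relIndex A = Nat.card Z := by
  obtain ⟨v, hv, hvZ⟩ := exists_not hZV hc hZ
  rcases hr.full with h1 | h1
  · exact absurd h1 hm
  obtain ⟨h2, h3⟩ := h1 v hv hvZ
  have hmul : ∀ f g : A, (f * g : A).1 * v * (f * g : A).1⁻¹ * v⁻¹ =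
      (f.1 * v * f.1⁻¹ * v⁻¹) * (g.1 * v * g.1⁻¹ * v⁻¹) := by
    intro f g
    have e1 := hr.comm f f.2 v hv
    have e2 := hr.comm g g.2 v hv
    have e3 := hr.fixZ f f.2 _ e2
    have e4 : (g.1 * v * g.1⁻¹ * v⁻¹) * (f.1 * v * f.1⁻¹ * v⁻¹) =
      (f.1 * v * f.1⁻¹ * v⁻¹) * (g.1 * v * g.1⁻¹ * v⁻¹) := (mem_centralizer_iff.1 (hV (hZV e1)) _ (hZV e2))
    rw [← e4, Subgroup.coe_mul]
    calc f.1 * g.1 * v * (f.1 * g.1)⁻¹ * v⁻¹ = (f.1 * (g.1 * v * g.1⁻¹ * v⁻¹)) * (v * f.1⁻¹ * v⁻¹) := by group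
      _ = ((g.1 * v * g.1⁻¹ * v⁻¹) * f.1) * (v * f.1⁻¹ * v⁻¹) := by rw [e3]
      _ = _ := by group
  let φ : A →* G := MonoidHom.mk' (fun f => f.1 * v * f.1⁻¹ * v⁻¹) hmul
  have hran : φ.range = Z := by
    apply le_antisymm
    · rintro _ ⟨f, rfl⟩
      exact hr.comm f f.2 v hv
    · intro z hz
      obtain ⟨f, hf, e⟩ := h2 z hz
      exact ⟨⟨f, hf⟩, e⟩
  have hker : φ.ker = (centralizer (V : Set G)).subgroupOf A := by
    ext f
    rw [MonoidHom.mem_ker, mem_subgroupOf]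
    constructor
    · intro h4
      have h5 : f.1 * v * f.1⁻¹ * v⁻¹ = 1 := h4
      exact h3 f f.2 (by
        have h6 : f.1 * v * f.1⁻¹ = v := mul_inv_eq_one.1 h5
        calc f.1 * v = (f.1 * v * f.1⁻¹) * f.1 := by group
          _ = v * f.1 := by rw [h6])
    · intro h4
      have h5 := mem_centralizer_iff.1 h4 v hv
      show f.1 * v * f.1⁻¹ * v⁻¹ = 1
      rw [← h5]
      simp
  rw [relIndex, ← hker, Subgroup.index_ker, hran]

theorem relIndex_right (hr : RootOn A V Z) (hZV : Z ≤ V) (hZ : Z ≠ ⊥)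
    (hc : Nat.card V = Nat.card Z ^ 2) (hm : ¬ A ≤ centralizer (V : Set G)) :
    (centralizer (A : Set G)).relIndex V = Nat.card Z := by
  have h1 := card_eq V (centralizer (A : Set G))
  rw [root_cen hr hZV hZ hm, hc, pow_two] at h1
  exact (Nat.eq_of_mul_eq_mul_left Nat.card_pos h1).symm

section fam

variable {ι : Type v} {N l : ι → Subgroup G}

/-- the frame: `N b ≤ O` with line `l b` -/
structure Fam (O : Subgroup G) (N l : ι → Subgroup G) : Prop where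
  NO : ∀ b, N b ≤ O
  sq : ∀ b, ∀ v ∈ N b, v ^ 2 = 1
  com : ∀ b c, N b ≤ centralizer (N c : Set G)
  dis : ∀ b c, b ≠ c → N b ⊓ N c = ⊥
  lN : ∀ b, l b ≤ N b
  lne : ∀ b, l b ≠ ⊥
  card : ∀ b, Nat.card (N b) = Nat.card (l b) ^ 2
  root : ∀ A : Subgroup G, Mx O A → ∀ b, RootOn A (N b) (l b)

theorem Fam.cut (h : Fam O N l) (hA : Mx O A) {b c : ι} (hbc : b ≠ c) (hmb : ¬ A ≤ centralizer (N b : Set G))
    (hmc : ¬ A ≤ centralizer (N c : Set G)) : Mx O (A ⊓ centralizer (N c : Set G) ⊔ N c) ∧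
      ¬ A ⊓ centralizer (N c : Set G) ⊔ N c ≤ centralizer (N b : Set G) := by
  have h1 : Mx O (A ⊓ centralizer (N c : Set G) ⊔ N c) := by
    refine hA.sup (h.NO c) (h.sq c) ?_
    rw [relIndex_left (h.root A hA c) (h.lN c) (h.com c c) (h.lne c) (h.card c) hmc,
      relIndex_right (h.root A hA c) (h.lN c) (h.lne c) (h.card c) hmc]
  refine ⟨h1, fun h2 => hmb ?_⟩
  have h3 : N b ≤ A ⊓ centralizer (N c : Set G) ⊔ N c :=
    h1.le_of_comm (h.NO b) (h.sq b) (fun v hv => mem_centralizer_iff.2 fun a ha =>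
      (mem_centralizer_iff.1 (h2 ha) v hv).symm)
  intro a ha
  refine mem_centralizer_iff.2 fun v hv => ?_
  have h4 : A ⊓ centralizer (N c : Set G) ≤ normalizer (N c : Set G) :=
    inf_le_right.trans (centralizer_le_normalizer _)
  have h5 : v ∈ ((A ⊓ centralizer (N c : Set G) ⊔ N c : Subgroup G) : Set G) := h3 hv
  rw [coe_mul_of_left_le_normalizer_right _ _ h4] at h5
  obtain ⟨x, hx, w, hw, e⟩ := h5
  have e' : x * w = v := e
  have hax : a * x = x * a := (mem_centralizer_iff.1 (hA.comm hx.1) a ha)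
  -- `[a, v] = x [a, w] x⁻¹`
  have hv1 : a * v * a⁻¹ * v⁻¹ ∈ N b := (h.lN b) ((h.root A hA b).comm a ha v hv)
  have hw1 : a * w * a⁻¹ * w⁻¹ ∈ N c := (h.lN c) ((h.root A hA c).comm a ha w hw)
  have e1 : a * v * a⁻¹ * v⁻¹ = a * w * a⁻¹ * w⁻¹ := by
    have hxw := mem_centralizer_iff.1 hx.2 _ hw1
    calc a * v * a⁻¹ * v⁻¹ = (a * x) * w * a⁻¹ * w⁻¹ * x⁻¹ := by rw [← e']; group
      _ = x * (a * w * a⁻¹ * w⁻¹) * x⁻¹ := by rw [hax]; group
      _ = a * w * a⁻¹ * w⁻¹ := by rw [← hxw]; group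
  have h6 : a * v * a⁻¹ * v⁻¹ ∈ N b ⊓ N c := ⟨hv1, e1 ▸ hw1⟩
  rw [h.dis b c hbc] at h6
  have h7 : a * v * a⁻¹ = v := mul_inv_eq_one.1 (mem_bot.1 h6)
  calc v * a = (a * v * a⁻¹) * a := by rw [h7]
    _ = a * v := by group

/-- **pure members of `𝒜(O)`** -/
theorem Fam.exists_pure [Finite ι] (h : Fam O N l) {b : ι} (hm : ∃ A, Mx O A ∧ ¬ A ≤ centralizer (N b : Set G)) :
    ∃ A, Mx O A ∧ ¬ A ≤ centralizer (N b : Set G) ∧ ∀ c, c ≠ b → A ≤ centralizer (N c : Set G) := by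
  classical
  have key : ∀ n : ℕ, ∀ A, Mx O A → ¬ A ≤ centralizer (N b : Set G) →
      Set.ncard {c | ¬ A ≤ centralizer (N c : Set G)} ≤ n →
      ∃ A, Mx O A ∧ ¬ A ≤ centralizer (N b : Set G) ∧ ∀ c, c ≠ b → A ≤ centralizer (N c : Set G) := by
    intro n
    induction n with
    | zero =>
      intro A hA hmb hn
      exfalso
      have h1 : {c | ¬ A ≤ centralizer (N c : Set G)} = ∅ :=
        (Set.ncard_eq_zero (Set.toFinite _)).1 (Nat.le_zero.1 hn)
      have h2 : b ∈ {c | ¬ A ≤ centralizer (N c : Set G)} := hmb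
      rw [h1] at h2
      exact h2
    | succ n ih =>
      intro A hA hmb hn
      by_cases hall : ∀ c, c ≠ b → A ≤ centralizer (N c : Set G)
      · exact ⟨A, hA, hmb, hall⟩
      · push Not at hall
        obtain ⟨c, hc, hmc⟩ := hall
        obtain ⟨h1, h2⟩ := h.cut hA (Ne.symm hc) hmb hmc
        refine ih _ h1 h2 ?_
        have h3 : {d | ¬ A ⊓ centralizer (N c : Set G) ⊔ N c ≤ centralizer (N d : Set G)} ⊂
            {d | ¬ A ≤ centralizer (N d : Set G)} := by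
          refine ⟨fun d hd hd' => hd (sup_le (inf_le_left.trans hd') (h.com c d)), fun h4 => ?_⟩
          exact h4 (show c ∈ {d | ¬ A ≤ centralizer (N d : Set G)} from hmc) (sup_le inf_le_right (h.com c c))
        have h4 := Set.ncard_lt_ncard h3 (Set.toFinite _)
        omega
  obtain ⟨A, hA, hmb⟩ := hm
  exact key _ A hA hmb le_rfl

end fam

end Cfsg.Agent.Omega.NOThreeL.RRed.UPure

end
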