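import Cfsg.Agent.Mrg.Omega.NOThreeL.RRed.WLeftBase
import Mathlib

section


/-!
# Box R: natural blocks with `q = 4` permuted transitively by `S` are impossible (`|Z| ≥ 4`)

helper51 #27490; helper223's `four_false` (T3 of #26256) for any number of blocks.

* `eq_one_of` : an `S`-fixed vector is determined by one component;
* `cent_line` : `P ∩ N(N b)` centralises the line `l b` if `P` fixes some `v ∈ Z`, `v ≠ 1`;
* **`one_four'`**, **`one_four`**.
-/

set_option autoImplicit false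
set_option linter.unusedSectionVars false

namespace Cfsg.Agent.Omega.NOThreeL.RRed.OneFour

open Subgroup Cfsg Cfsg.Agent.ZN Cfsg.Agent.Omega.MinPar Cfsg.Agent.Omega.Frame Cfsg.Agent.Omega.FrameNOFF
open Cfsg.Agent.Omega.Node.NO3L Cfsg.Agent.Omega.NOThreeL.Basic Cfsg.Agent.Omega.NOThreeL.RTree
open Cfsg.Agent.Omega.NOThreeL.Merge (MZ)
open Cfsg.Agent.Omega.NOThreeL.RRed.WideTree
open Cfsg.Agent.Omega.NOThreeL.RRed.Blk
open Cfsg.Agent.Omega.NOThreeL.RRed.OneTwoFour (conj_into smul_eq_iff core)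
open Cfsg.Agent.ZN.ChoiceBase (cj mem_cj mem_normalizer_iff_cj card_cj isPGroup_cj)
open scoped Pointwise

universe u

variable {G : Type u} [Group G] [Finite G] {S : Sylow 2 G} {ι : Type u} {N E D l : ι → Subgroup G} {q : ι → ℕ} {b : ι}

section orb

variable [Finite ι] (h : NBs (S : Subgroup G) N E D l q)
  (tr : ∀ a b, ∃ s ∈ (S : Subgroup G), MulAut.conj s • N a = N b)
include h tr

theorem eq_one_of {x : G} (hS : ∀ s ∈ (S : Subgroup G), s * x * s⁻¹ = x) (hx : x ∈ Wd (S : Subgroup G))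
    (h1 : IsC N ⊥ b x 1) : x = 1 := by
  have h3 := h.dec.mem_R hx fun d => by
    obtain ⟨s, hs, e⟩ := tr b d
    have h2 := h.dec.comp_conj (h.dec.SL hs) e h1
    rwa [hS s hs, mul_one, mul_inv_cancel] at h2
  rwa [mem_bot] at h3

/-- `P ⊓ N(N b)` centralises the line `l b` if `P` fixes some `v ∈ Z`, `v ≠ 1`, `q b = 4`, `|Z| ≥ 4`. -/
theorem cent_line (B : RB S) (hq : q b = 4) (hZ : 4 ≤ Nat.card (zc (S : Subgroup G))) {P : Subgroup G}
    (hP : IsParS (S : Subgroup G) P) {v : G} (hv : v ∈ zc (S : Subgroup G)) (hv1 : v ≠ 1)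
    (hvP : ∀ g ∈ P, g * v * g⁻¹ = v) :
    (∀ z ∈ zc (S : Subgroup G), ∀ n, IsC N ⊥ b z n → n ∈ l b) ∧
      ∀ g ∈ P, MulAut.conj g • N b = N b → ∀ x ∈ l b, g * x = x * g := by
  classical
  have hSM : (S : Subgroup G) ≤ MZ (S : Subgroup G) := SM B
  have hPM : P ≤ MZ (S : Subgroup G) := le_MZ hP
  have hSP : (S : Subgroup G) ≤ P := hP.isLoc.le
  have hzS : ∀ z ∈ zc (S : Subgroup G), ∀ s ∈ (S : Subgroup G), s * z * s⁻¹ = z := fun z hz s hs => by
    rw [(mem_zc.1 hz).2.1 s hs, mul_inv_cancel_right]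
  obtain ⟨F, _, _, _, e, hF, hN⟩ := h.nat b
  have hEn : ∀ g ∈ D b, MulAut.conj g • N b = N b := fun g hg =>
    smul_eq_iff.2 (h.dec.EN b (h.DE b hg))
  have hnN : ∀ {g : G}, MulAut.conj g • N b = N b → ∀ x ∈ N b, g * x * g⁻¹ ∈ N b := fun hg x hx =>
    (conj_smul hg).1 hx
  have hchar : ∀ x : F, x + x = 0 := fun x => CharTwo.add_self_eq_zero x
  have he1 : e 1 = 0 := by
    have := hN.mul 1 (one_mem _) 1 (one_mem _)
    rw [one_mul] at this
    exact left_eq_add.1 this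
  have hN2 : ∀ x ∈ N b, x * x = 1 := fun x hx => hN.inj _ (mul_mem hx hx) (by
    rw [hN.mul x hx x hx]
    funext i
    exact hchar _)
  have hinv : ∀ x ∈ N b, x⁻¹ = x := fun x hx => inv_eq_of_mul_eq_one_right (hN2 x hx)
  have hein : ∀ x ∈ N b, ∀ y ∈ N b, e x = e y → x = y := fun x hx y hy hxy => by
    have h1 : x * y = 1 := hN.inj _ (mul_mem hx hy) (by
      rw [hN.mul x hx y hy, hxy]
      funext i
      exact hchar _)
    rw [eq_comm, ← hinv x hx]
    exact (eq_inv_of_mul_eq_one_right h1)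
  have hlN : l b ≤ N b := fun x hx => ((hN.line x).1 hx).1
  -- `|l b| = 4`
  have hcard : Nat.card (l b) = 4 := by
    rw [← hq, ← hF]
    refine Nat.card_congr (Equiv.ofBijective (fun x : l b => e (x : G) 0) ⟨?_, ?_⟩)
    · intro x y hxy
      obtain ⟨hx, hx1⟩ := (hN.line _).1 x.2
      obtain ⟨hy, hy1⟩ := (hN.line _).1 y.2
      refine Subtype.ext (hein _ hx _ hy ?_)
      funext i
      fin_cases i
      · exact hxy
      · exact hx1.trans hy1.symm
    · intro a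
      obtain ⟨x, hx, hxe⟩ := hN.sur ![a, 0]
      refine ⟨⟨x, (hN.line x).2 ⟨hx, by rw [hxe]; rfl⟩⟩, ?_⟩
      change e x 0 = a
      rw [hxe]; rfl
  -- commutators with the root elements
  have hcomm : ∀ s : G, MulAut.conj s • N b = N b → ∀ a : F,
      (∀ x ∈ N b, e (s * x * s⁻¹) = ![e x 0 + a * e x 1, e x 1]) → ∀ x ∈ N b,
      e (s * x * s⁻¹ * x⁻¹) = ![a * e x 1, 0] := by
    intro s hs a hsa x hx
    rw [hinv x hx, hN.mul _ (hnN hs x hx) x hx, hsa x hx]
    funext i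
    fin_cases i
    · change e x 0 + a * e x 1 + e x 0 = a * e x 1
      rw [add_comm (e x 0), add_assoc, hchar, add_zero]
    · change e x 1 + e x 1 = 0
      exact hchar _
  -- the `b`-components of `Z` are in `l b`
  have hcl : ∀ z ∈ zc (S : Subgroup G), ∀ n, IsC N ⊥ b z n → n ∈ l b := by
    intro z hz n hn
    obtain ⟨s, hs, hse⟩ := hN.sylow 1
    have h1 := h.dec.comp_conj (hSM hs.1) (hEn s hs.2) hn
    rw [hzS z hz s hs.1] at h1
    have h2 := h.dec.uniq h1 hn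
    refine (hN.line n).2 ⟨hn.1, ?_⟩
    have h3 := hse n hn.1
    rw [h2] at h3
    have h4 := congrFun h3 0
    change e n 0 = e n 0 + 1 * e n 1 at h4
    rw [one_mul] at h4
    exact left_eq_add.1 h4
  refine ⟨hcl, ?_⟩
  -- every element of `l b` is a component
  have hzW : ∀ z ∈ zc (S : Subgroup G), z ∈ Wd (S : Subgroup G) := fun z hz => zc_le_Wd _ hz
  have hsurj : ∀ n ∈ l b, ∃ z ∈ zc (S : Subgroup G), IsC N ⊥ b z n := by
    choose f hf using fun z : zc (S : Subgroup G) => h.dec.ex_comp b (hzW z z.2)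
    let φ : zc (S : Subgroup G) → l b := fun z => ⟨f z, hcl z z.2 _ (hf z)⟩
    have hφ : Function.Injective φ := by
      intro z z' hzz
      have h1 : f z = f z' := congrArg Subtype.val hzz
      have h2 := h.dec.comp_mul (h.dec.comp_inv (hf z)) (hf z')
      rw [h1, inv_mul_cancel] at h2
      have h3 : ((z : G))⁻¹ * (z' : G) = 1 :=
        eq_one_of h tr (hzS _ (mul_mem (inv_mem z.2) z'.2))
          (hzW _ (mul_mem (inv_mem z.2) z'.2)) h2
      exact Subtype.ext (inv_mul_eq_one.1 h3)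
    have hb : Function.Bijective φ := hφ.bijective_of_nat_card_le (by rw [hcard]; exact hZ)
    intro n hn
    obtain ⟨z, hz⟩ := hb.2 ⟨n, hn⟩
    have h1 : f z = n := congrArg Subtype.val hz
    exact ⟨z, z.2, h1 ▸ hf z⟩
  -- `v b`
  obtain ⟨v₀, hv₀⟩ := h.dec.ex_comp b (hzW v hv)
  have hv01 : v₀ ≠ 1 := by
    rintro rfl
    exact hv1 (eq_one_of h tr (hzS v hv) (hzW v hv) hv₀)
  have key := core (T := (S : Subgroup G) ⊓ normalizer (N b : Set G)) (P₀ := P ⊓ normalizer (N b : Set G))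
    (N := N b) (l := l b) (R := (S : Subgroup G) ⊓ D b) (v₀ := v₀) (S.isPGroup'.to_le inf_le_left) ?_
    (inf_le_inf_right _ hSP) (fun g hg x hx => (mem_normalizer_iff.1 hg.2 x).1 hx) hN2 hlN hcard ?_
    (inf_le_inf_left _ ((h.DE b).trans (h.dec.EN b))) ?_ (hcl v hv _ hv₀) hv01 ?_
  · intro g hg hgn x hx
    exact key g ⟨hg, smul_eq_iff.1 hgn⟩ x hx
  · -- Sylow
    intro W hW hW2
    obtain ⟨p, hp, hpW⟩ := conj_into hSP (hW.trans inf_le_left) hW2
    obtain ⟨d, hd, -⟩ := h.dec.perm p (hPM hp) b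
    obtain ⟨s, hs, hsd⟩ := tr d b
    have hgn : MulAut.conj (s * p) • N b = N b := by rw [map_mul, mul_smul, hd, hsd]
    refine ⟨s * p, ⟨mul_mem (hSP hs) hp, smul_eq_iff.1 hgn⟩, fun w hw => mem_inf.2 ⟨?_, ?_⟩⟩
    · have e3 : s * p * w * (s * p)⁻¹ = s * (p * w * p⁻¹) * s⁻¹ := by group
      rw [e3]
      exact mul_mem (mul_mem hs (hpW w hw)) (inv_mem hs)
    · exact mul_mem (mul_mem (smul_eq_iff.1 hgn) (hW hw).2) (inv_mem (smul_eq_iff.1 hgn))
  · -- `T` centralises `l b`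
    intro t ht x hx
    obtain ⟨z, hz, hzx⟩ := hsurj x hx
    have h1 := h.dec.comp_conj (hSM ht.1) (smul_eq_iff.2 ht.2) hzx
    rw [hzS z hz t ht.1] at h1
    exact mul_inv_eq_iff_eq_mul.1 (h.dec.uniq h1 hzx)
  · -- the root group
    intro x hx hxl z hz
    have hx1 : e x 1 ≠ 0 := fun h0 => hxl ((hN.line x).2 ⟨hx, h0⟩)
    obtain ⟨hzN, hz1⟩ := (hN.line z).1 hz
    obtain ⟨s, hs, hse⟩ := hN.sylow (e z 0 / e x 1)
    refine ⟨s, hs, hein _ (mul_mem (hnN (hEn s hs.2) x hx) (inv_mem hx)) _ hzN ?_⟩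
    rw [hcomm s (hEn s hs.2) _ hse x hx]
    funext i
    fin_cases i
    · change e z 0 / e x 1 * e x 1 = e z 0
      exact div_mul_cancel₀ _ hx1
    · exact hz1.symm
  · intro g hg
    have h1 := h.dec.comp_conj (hPM hg.1) (smul_eq_iff.2 hg.2) hv₀
    rw [hvP g hg.1] at h1
    exact mul_inv_eq_iff_eq_mul.1 (h.dec.uniq h1 hv₀)

/-- **Natural blocks with `q = 4`, one `S`-orbit, `|Z| ≥ 4`: impossible.** -/
theorem one_four' (B : RB S) (hZ : 4 ≤ Nat.card (zc (S : Subgroup G))) (hq : ∀ b, q b = 4) : False := by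
  obtain ⟨P, hP, hne⟩ := B.ex
  obtain ⟨v, hv, hv1⟩ : ∃ v ∈ zc (S : Subgroup G) ⊓ centralizer (P : Set G), v ≠ 1 := by
    by_contra hcon
    push Not at hcon
    exact hne ((eq_bot_iff_forall _).2 hcon)
  have hvP : ∀ g ∈ P, g * v * g⁻¹ = v := fun g hg => by
    rw [mem_centralizer_iff.1 hv.2 g hg, mul_inv_cancel_right]
  have ha := fun b => cent_line (b := b) h tr B (hq b) hZ hP hv.1 hv1 hvP
  have hPM : P ≤ MZ (S : Subgroup G) := le_MZ hP
  have hSP : (S : Subgroup G) ≤ P := hP.isLoc.le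
  -- `P` centralises `Z`
  refine hP.not_zc ((le_trans ?_ (centralizer_le_normalizer _)))
  intro p hp
  rw [mem_centralizer_iff]
  intro z hz
  have hzS : ∀ s ∈ (S : Subgroup G), s * z * s⁻¹ = z := fun s hs => by
    rw [(mem_zc.1 hz).2.1 s hs, mul_inv_cancel_right]
  have hzW : z ∈ Wd (S : Subgroup G) := zc_le_Wd _ hz
  have key : p * z * p⁻¹ = z := by
    have h5 := h.dec.mem_R (mul_mem (inv_mem (nor p (hPM hp) z hzW)) hzW) fun c => by
      obtain ⟨d, hd, -⟩ := h.dec.perm p⁻¹ (inv_mem (hPM hp)) c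
      have hd' : MulAut.conj p • N d = N c := by
        rw [← hd, ← mul_smul, ← map_mul, mul_inv_cancel, map_one, one_smul]
      obtain ⟨s, hs, hsc⟩ := tr c d
      have hs' : MulAut.conj s⁻¹ • N d = N c := by
        rw [← hsc, ← mul_smul, ← map_mul, inv_mul_cancel, map_one, one_smul]
      have hg : MulAut.conj (s * p) • N d = N d := by rw [map_mul, mul_smul, hd', hsc]
      have hgP : s * p ∈ P := mul_mem (hSP hs) hp
      obtain ⟨n, hn⟩ := h.dec.ex_comp d hzW
      have h1 := h.dec.comp_conj (hPM hgP) hg hn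
      rw [(ha d).2 _ hgP hg n ((ha d).1 z hz n hn), mul_inv_cancel_right] at h1
      have h2 := h.dec.comp_conj (h.dec.SL (inv_mem hs)) hs' h1
      have h3 := h.dec.comp_conj (h.dec.SL (inv_mem hs)) hs' hn
      rw [hzS _ (inv_mem hs)] at h3
      have e1 : s⁻¹ * (s * p * z * (s * p)⁻¹) * s⁻¹⁻¹ = p * z * p⁻¹ := by group
      rw [e1] at h2
      have h4 := h.dec.comp_mul (h.dec.comp_inv h2) h3
      rwa [inv_mul_cancel] at h4
    rw [mem_bot] at h5
    exact inv_mul_eq_one.1 h5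
  exact (mul_inv_eq_iff_eq_mul.1 key).symm

/-- the same over `Wide` -/
theorem one_four (W : Wide S) (hq : ∀ b, q b = 4) : False := one_four' h tr W.toRB W.four_le hq

end orb

end Cfsg.Agent.Omega.NOThreeL.RRed.OneFour

end

section


/-!
# Box R, the left case: a fixed point on a coset of a product of four-groups (for helper449's `RRed/FourAO`)

`V = ⨆ N b` elementary abelian, `|N b| = 4`, `K` normalises all `N b` and is generated by elements of odd order, `K` acts on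
`n V` and `K ⊓ C(V)` centralises `n`.

* `cube_mem` : `g ^ 3 ∈ C(N b)` for `g ∈ K`;
* **`exists_fix`** : `K` centralises some `n w`, `w ∈ V`.
-/

set_option autoImplicit false
set_option linter.unusedSectionVars false

namespace Cfsg.Agent.Omega.NOThreeL.RRed.FourFix

open Subgroup Equiv.Perm

universe u

theorem perm_four : ∀ σ : Equiv.Perm (Fin 4), σ 0 = 0 → Equiv.Perm.sign σ = 1 → σ ^ 3 = 1 := by decide

theorem cube_of {A : Type*} [Fintype A] [DecidableEq A] (h4 : Nat.card A = 4) (a : A) (σ : Equiv.Perm A)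
    (ha : σ a = a) (hs : sign σ = 1) : σ ^ 3 = 1 := by
  let e₀ : A ≃ Fin 4 := Finite.equivFinOfCardEq h4
  let e : A ≃ Fin 4 := e₀.trans (Equiv.swap (e₀ a) 0)
  have he : e a = 0 := Equiv.swap_apply_left _ _
  have h1 : ((e.symm.trans σ).trans e) ^ 3 = 1 := by
    refine perm_four _ ?_ ?_
    · change e (σ (e.symm 0)) = 0
      rw [← he, Equiv.symm_apply_apply, ha]
    · rw [sign_symm_trans_trans, hs]
  have h2 : ∀ k : ℕ, ∀ x : A, (((e.symm.trans σ).trans e) ^ k) (e x) = e ((σ ^ k) x) := by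
    intro k
    induction k with
    | zero => intro x; rfl
    | succ k ih =>
      intro x
      rw [pow_succ', pow_succ', Equiv.Perm.mul_apply, Equiv.Perm.mul_apply, ih]
      change e (σ (e.symm (e ((σ ^ k) x)))) = _
      rw [Equiv.symm_apply_apply]
  ext x
  have h3 := h2 3 x
  rw [h1] at h3
  exact (e.injective h3).symm

variable {G : Type u} [Group G]

/-- `g ^ 3` centralises a four-group -/
theorem cube_mem [Finite G] {N K : Subgroup G} (h4 : Nat.card N = 4) (KN : K ≤ normalizer (N : Set G))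
    (hodd : K ≤ closure {g | g ∈ K ∧ Odd (orderOf g)}) {g : G} (hg : g ∈ K) : g ^ 3 ∈ centralizer (N : Set G) := by
  classical
  have : Fintype N := Fintype.ofFinite N
  let f : normalizer (N : Set G) →* Equiv.Perm N := (MulAut.toPerm N).comp N.normalizerMonoidHom
  have hf : ∀ (x : normalizer (N : Set G)) (y : N), ((f x y : N) : G) = x * y * (x : G)⁻¹ := fun x y => rfl
  let s : normalizer (N : Set G) →* ℤˣ := sign.comp f
  have h1 : K ≤ s.ker.map (normalizer (N : Set G)).subtype := by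
    refine hodd.trans ((closure_le _).2 ?_)
    rintro x ⟨hx, k, hk⟩
    refine ⟨⟨x, KN hx⟩, ?_, rfl⟩
    rw [SetLike.mem_coe, MonoidHom.mem_ker]
    have h2 : (⟨x, KN hx⟩ : normalizer (N : Set G)) ^ (2 * k + 1) = 1 := by
      apply Subtype.ext
      change x ^ (2 * k + 1) = 1
      rw [← hk, pow_orderOf_eq_one]
    have h3 := congrArg s h2
    rw [map_pow, map_one, pow_succ, pow_mul, Int.units_sq, one_pow, one_mul] at h3
    exact h3
  obtain ⟨x, hx, rfl⟩ := h1 hg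
  rw [SetLike.mem_coe, MonoidHom.mem_ker] at hx
  have h2 : f x ^ 3 = 1 := by
    refine cube_of h4 1 _ ?_ hx
    apply Subtype.ext
    rw [hf]
    simp
  refine mem_centralizer_iff.2 fun y hy => ?_
  have h3 : f (x ^ 3) ⟨y, hy⟩ = ⟨y, hy⟩ := by rw [map_pow, h2]; rfl
  have h4 := congrArg Subtype.val h3
  rw [hf] at h4
  change y * (x : G) ^ 3 = (x : G) ^ 3 * y
  have h5 : ((x ^ 3 : normalizer (N : Set G)) : G) = (x : G) ^ 3 := rfl
  rw [h5] at h4
  calc y * (x : G) ^ 3 = ((x : G) ^ 3 * y * ((x : G) ^ 3)⁻¹) * (x : G) ^ 3 := by rw [h4]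
    _ = (x : G) ^ 3 * y := by group

/-- **A fixed point on `n V`.** -/
theorem exists_fix [Finite G] {V K : Subgroup G} {n : G} {ι : Type*} (N : ι → Subgroup G) (hV : V = ⨆ b, N b)
    (_Vc : V ≤ centralizer (V : Set G)) (sq : ∀ x ∈ V, x * x = 1) (h4 : ∀ b, Nat.card (N b) = 4)
    (KN : ∀ b, K ≤ normalizer (N b : Set G)) (hodd : K ≤ closure {g | g ∈ K ∧ Odd (orderOf g)})
    (hn : ∀ g ∈ K, g * n * g⁻¹ * n⁻¹ ∈ V) (hc : ∀ g ∈ K, g ∈ centralizer (V : Set G) → g * n = n * g)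
    (hnV : ∀ x ∈ V, n * x = x * n) : ∃ w ∈ V, ∀ g ∈ K, g * (n * w) = (n * w) * g := by
  classical
  have hcube : ∀ g ∈ K, g ^ 3 ∈ centralizer (V : Set G) := by
    intro g hg
    have h1 : zpowers (g ^ 3) ≤ centralizer (V : Set G) := by
      rw [le_centralizer_iff, hV]
      refine iSup_le fun b => ?_
      rw [← le_centralizer_iff, zpowers_le]
      exact cube_mem (h4 b) (KN b) hodd hg
    exact h1 (mem_zpowers _)
  have KV : ∀ g ∈ K, ∀ x ∈ V, g * x * g⁻¹ ∈ V := by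
    intro g hg
    have h1 : V ≤ V.comap (MulAut.conj g).toMonoidHom := by
      conv_lhs => rw [hV]
      refine iSup_le fun b x hx => ?_
      have h2 : g * x * g⁻¹ ∈ N b := (mem_normalizer_iff.1 (KN b hg) x).1 hx
      have h3 : g * x * g⁻¹ ∈ V := by rw [hV]; exact (le_iSup N b) h2
      exact h3
    exact fun x hx => h1 hx
  -- the coset
  let α : Type u := {x : G // n⁻¹ * x ∈ V}
  have hact : ∀ g ∈ K, ∀ x : G, n⁻¹ * x ∈ V → n⁻¹ * (g * x * g⁻¹) ∈ V := by
    intro g hg x hx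
    have h1 := hn g hg
    have h2 := KV g hg _ hx
    have e1 : g * x * g⁻¹ = (g * n * g⁻¹ * n⁻¹) * (n * (g * (n⁻¹ * x) * g⁻¹)) := by group
    have e2 : n⁻¹ * (g * x * g⁻¹) = (g * n * g⁻¹ * n⁻¹) * (g * (n⁻¹ * x) * g⁻¹) := by
      rw [e1, ← mul_assoc, ← mul_assoc]
      have h3 : n⁻¹ * (g * n * g⁻¹ * n⁻¹) * n = g * n * g⁻¹ * n⁻¹ := by
        have h4 := hnV _ h1
        calc n⁻¹ * (g * n * g⁻¹ * n⁻¹) * n = n⁻¹ * ((g * n * g⁻¹ * n⁻¹) * n) := by group
          _ = n⁻¹ * (n * (g * n * g⁻¹ * n⁻¹)) := by rw [h4]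
          _ = g * n * g⁻¹ * n⁻¹ := by group
      rw [h3]
    rw [e2]
    exact mul_mem h1 h2
  let _ : MulAction K α :=
    { smul := fun g x => ⟨(g : G) * x.1 * (g : G)⁻¹, hact g g.2 x.1 x.2⟩
      one_smul := fun x => Subtype.ext (by change (1 : G) * x.1 * (1 : G)⁻¹ = x.1; group)
      mul_smul := fun g h x => Subtype.ext (by
        change ((g : G) * h) * x.1 * ((g : G) * h)⁻¹ = (g : G) * ((h : G) * x.1 * (h : G)⁻¹) * (g : G)⁻¹
        group) }
  have hsm : ∀ (g : K) (x : α), ((g • x : α) : G) = (g : G) * x.1 * (g : G)⁻¹ := fun g x => rfl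
  have hp : IsPGroup 3 (MulAction.toPermHom K α).range := by
    rintro ⟨_, g, rfl⟩
    refine ⟨1, ?_⟩
    apply Subtype.ext
    rw [pow_one]
    change (MulAction.toPermHom K α g) ^ 3 = 1
    rw [← map_pow]
    ext x
    change (((g ^ 3 : K) • x : α) : G) = x.1
    rw [hsm]
    have h1 : ((g ^ 3 : K) : G) = (g : G) ^ 3 := rfl
    rw [h1]
    have h2 := hcube g g.2
    have h3 : (g : G) ^ 3 * n = n * (g : G) ^ 3 := hc _ (pow_mem g.2 3) h2
    have h5 := mem_centralizer_iff.1 h2 _ x.2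
    have h6 : (g : G) ^ 3 * x.1 = x.1 * (g : G) ^ 3 := by
      calc (g : G) ^ 3 * x.1 = ((g : G) ^ 3 * n) * (n⁻¹ * x.1) := by group
        _ = n * ((g : G) ^ 3 * (n⁻¹ * x.1)) := by rw [h3]; group
        _ = n * ((n⁻¹ * x.1) * (g : G) ^ 3) := by rw [h5]
        _ = x.1 * (g : G) ^ 3 := by group
    rw [h6]; group
  have hV2 : IsPGroup 2 V := by
    intro x
    refine ⟨1, Subtype.ext ?_⟩
    rw [pow_one]
    change (x : G) ^ 2 = 1
    rw [pow_two]
    exact sq x x.2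
  have hcard : Nat.card α = Nat.card V :=
    Nat.card_congr
      { toFun := fun x => ⟨n⁻¹ * x.1, x.2⟩
        invFun := fun y => ⟨n * y.1, by rw [inv_mul_cancel_left]; exact y.2⟩
        left_inv := fun x => Subtype.ext (by change n * (n⁻¹ * x.1) = x.1; group)
        right_inv := fun y => Subtype.ext (by change n⁻¹ * (n * y.1) = y.1; group) }
  have : Fact (Nat.Prime 2) := ⟨Nat.prime_two⟩
  have : Fact (Nat.Prime 3) := ⟨Nat.prime_three⟩
  have h3 : ¬ 3 ∣ Nat.card α := by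
    rw [hcard]
    obtain ⟨k, hk⟩ := hV2.exists_card_eq
    rw [hk]
    intro h
    have := (Nat.prime_three).dvd_of_dvd_pow h
    omega
  obtain ⟨x, hx⟩ := hp.nonempty_fixed_point_of_prime_not_dvd_card α h3
  refine ⟨n⁻¹ * x.1, x.2, fun g hg => ?_⟩
  have h1 := hx ⟨MulAction.toPermHom K α ⟨g, hg⟩, ⟨⟨g, hg⟩, rfl⟩⟩
  have h2 := congrArg Subtype.val h1
  have h4 : g * x.1 * g⁻¹ = x.1 := h2
  rw [mul_inv_cancel_left]
  calc g * x.1 = (g * x.1 * g⁻¹) * g := by group
    _ = x.1 * g := by rw [h4]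

end Cfsg.Agent.Omega.NOThreeL.RRed.FourFix

end
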