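import Cfsg.Agent.Mrg.Omega.NOThreeL.RRed.LeftData
import Cfsg.Agent.Mrg.Omega.NOThreeL.RWide.OrbCore


/-!
# PERM+ over `S`-orbits, from `NBs`, `Src`, `AllB` (helper540)

* **`perm_orb_nbs`** : at least two `S`-orbits of blocks (one class allowed): `C_G(Z)` permutes the lines of each
  `S`-orbit.
-/

set_option autoImplicit false
set_option linter.unusedSectionVars false

namespace Cfsg.Agent.Omega.NOThreeL.RRed.OrbPerm

open Subgroup Cfsg Cfsg.Agent.ZN
open Cfsg.Agent.Omega.NOThreeL.Merge (MZ)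
open Cfsg.Agent.Omega.NOThreeL.RTree (RB)
open Cfsg.Agent.Omega.NOThreeL.RRed.GlueSig
open Cfsg.Agent.Omega.NOThreeL.RRed.WideTree
open Cfsg.Agent.Omega.NOThreeL.RWide
open scoped Pointwise

universe u

variable {G : Type u} [Group G] [Finite G] {S : Sylow 2 G} {ι : Type u} {N E D l : ι → Subgroup G} {q : ι → ℕ}

theorem N_le (h : NBs (S : Subgroup G) N E D l q) (b : ι) : N b ≤ Wd (S : Subgroup G) := by
  rw [← h.dec.sup]
  exact le_sup_of_le_left (le_iSup N b)

theorem perm_orb_nbs [Finite ι] (hB : RB S) (h : NBs (S : Subgroup G) N E D l q) (hs : Src (S : Subgroup G) N l q)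
    (ha : AllB (S : Subgroup G) N) (two : ∀ b, ∃ c, ∀ s ∈ (S : Subgroup G), MulAut.conj s • N b ≠ N c) :
    ∀ x ∈ centralizer (zc (S : Subgroup G) : Set G), ∀ b, ∃ b', (∃ s ∈ (S : Subgroup G), MulAut.conj s • N b = N b') ∧
      MulAut.conj x • l b = l b' := by
  refine PInst.perm_orb hB (fun b => (N_le h b).trans (WLeft.Wd_le_S hB)) (fun a b x hx y hy => ?_)
    (fun b x hx => WLeft.Wd_sq hB x (N_le h b hx)) (LeftData.dec_indep h.dec) h.dec.ne h.permN (fun b => ?_) ha two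
  · exact (mem_centralizer_iff.1 (h.dec.ab (N_le h a hx)) y (N_le h b hy)).symm
  · obtain ⟨P, hP, F, i1, _, i2, k, _, M, h', h1, ⟨j, h2, h3, -⟩, -⟩ := hs.mov b
    exact ⟨P, hP.1, F, i1, i2, k, M, h', j, h1, h2, h3⟩

end Cfsg.Agent.Omega.NOThreeL.RRed.OrbPerm
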