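import Cfsg.Agent.Mrg.Omega.NOThreeL.RRed.UInstW
import Cfsg.Agent.Mrg.Omega.NOThreeL.RRed.OrbPerm
import Cfsg.Agent.Mrg.Omega.NOThreeL.RRed.OneFour
import Cfsg.Agent.Mrg.Omega.NOThreeL.RWide.DPNat


/-!
# NO-3L, box R: the socket `WOneMany` (WideTree row 14), plug (helper727; head helper848)

One class, at least three natural blocks, `q ≥ 4`.
* `exists_two` : `S` is transitive on the blocks, or every block has a block outside its `S`-orbit;
* `AllOrb B` : (socket) one class, at least two `S`-orbits of blocks: `𝒜(O)` moves every block;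
* **`false_of_two`** : at least two `S`-orbits, at least three blocks, `AllB` : contradiction (`perm_orb_nbs` of helper540,
  `false_of_orbits` of helper258, `parT` = `UPar.ParX`);
* **`wOneMany_of_orbD`**, **`wOneMany_of`** : `WOneMany K B` from `ParX`, `AllOrb B` and helper776's `OrbD B` (one
  `S`-orbit, `q ≥ 8`), resp. `StdD B`, `TopD B`; one `S`-orbit with `q = 4` is helper724's `one_four`;
* `wOneMany_of_all` : the same with `AllOrb` replaced by its two level halves.
-/

set_option autoImplicit false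
set_option linter.unusedSectionVars false
set_option linter.unusedVariables false

namespace Cfsg.Agent.Omega.NOThreeL.RRed.OneManyOf

open Subgroup Cfsg Cfsg.Agent.ZN Cfsg.Agent.Omega.MinPar Cfsg.Agent.Omega.Frame Cfsg.Agent.Omega.FrameNOFF
open Cfsg.Agent.Omega.NO3S.Level (lev)
open Cfsg.Agent.Omega.NOThreeL.RTree (RB)
open Cfsg.Agent.Omega.NOThreeL.RRed.GlueSig
open Cfsg.Agent.Omega.NOThreeL.Merge (MZ)
open Cfsg.Agent.Omega.NOThreeL.RRed.WideTree
open Cfsg.Agent.Omega.NOThreeL.RWide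
open Cfsg.Agent.Omega.KL.StarM (NoInpM)
open Cfsg.Agent.Omega.ML.Final (MLK)
open scoped Pointwise

universe u

/-- `S` is transitive on the blocks, or every block has a block outside its `S`-orbit -/
theorem exists_two {G : Type u} [Group G] {ι : Type u} (S : Subgroup G) (N : ι → Subgroup G) :
    (∀ a b, ∃ s ∈ S, MulAut.conj s • N a = N b) ∨ ∀ b, ∃ c, ∀ s ∈ S, MulAut.conj s • N b ≠ N c := by
  classical
  by_cases h : ∀ a b, ∃ s ∈ S, MulAut.conj s • N a = N b
  · exact Or.inl h
  refine Or.inr fun b => ?_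
  push Not at h
  obtain ⟨a, c, hac⟩ := h
  by_cases hb : ∃ s ∈ S, MulAut.conj s • N b = N c
  · obtain ⟨s, hs, e⟩ := hb
    refine ⟨a, fun t ht e' => hac (s * t⁻¹) (mul_mem hs (inv_mem ht)) ?_⟩
    rw [map_mul, mul_smul, ← e', map_inv, inv_smul_smul, e]
  · push Not at hb
    exact ⟨c, hb⟩

/-- three elements -/
theorem three_of {ι : Type u} [Finite ι] (h : 3 ≤ Nat.card ι) (a b : ι) : ∃ c, c ≠ a ∧ c ≠ b := by
  classical
  have := Fintype.ofFinite ι
  by_contra hcon
  push Not at hcon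
  have h1 : (Finset.univ : Finset ι) ⊆ {a, b} := by
    intro c _
    rw [Finset.mem_insert, Finset.mem_singleton]
    by_cases hc : c = a
    · exact Or.inl hc
    · exact Or.inr (hcon c hc)
  have h2 := Finset.card_le_card h1
  rw [Finset.card_univ, ← Nat.card_eq_fintype_card] at h2
  have h3 : ({a, b} : Finset ι).card ≤ 2 := Finset.card_le_two
  omega

/-- **socket** : one class, natural blocks, `q ≥ 4`, at least two `S`-orbits of blocks: `𝒜(O)` moves every block -/
def AllOrb (B : Fr.{u}) : Prop :=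
  ∀ (G : Type u) [Group G] [Finite G] (S : Sylow 2 G), B G S → Wide S → MvAct (S : Subgroup G) →
    CM (S : Subgroup G) (fun _ : PUnit.{u + 1} => Wd (S : Subgroup G)) →
      ∀ (ι : Type u) [Finite ι] (N E D l : ι → Subgroup G) (q : ℕ), 4 ≤ q →
        NBs (S : Subgroup G) N E D l (fun _ => q) → Src (S : Subgroup G) N l (fun _ => q) → 3 ≤ Nat.card ι →
          (∀ b, ∃ c, ∀ s ∈ (S : Subgroup G), MulAut.conj s • N b ≠ N c) → AllB (S : Subgroup G) N

/-- the half of `AllOrb` with `J(S)` moving `V*` -/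
def AllNeg (B : Fr.{u}) : Prop :=
  ∀ (G : Type u) [Group G] [Finite G] (S : Sylow 2 G), B G S → Wide S → MvAct (S : Subgroup G) →
    CM (S : Subgroup G) (fun _ : PUnit.{u + 1} => Wd (S : Subgroup G)) →
      ∀ (ι : Type u) [Finite ι] (N E D l : ι → Subgroup G) (q : ℕ), 4 ≤ q →
        NBs (S : Subgroup G) N E D l (fun _ => q) → Src (S : Subgroup G) N l (fun _ => q) → 3 ≤ Nat.card ι →
          (∀ b, ∃ c, ∀ s ∈ (S : Subgroup G), MulAut.conj s • N b ≠ N c) →
            ¬ jj (S : Subgroup G) ≤ centralizer (Wd (S : Subgroup G) : Set G) → AllB (S : Subgroup G) N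

/-- the half of `AllOrb` with `J(S)` centralising `V*` -/
def AllTop (B : Fr.{u}) : Prop :=
  ∀ (G : Type u) [Group G] [Finite G] (S : Sylow 2 G), B G S → Wide S → MvAct (S : Subgroup G) →
    CM (S : Subgroup G) (fun _ : PUnit.{u + 1} => Wd (S : Subgroup G)) →
      ∀ (ι : Type u) [Finite ι] (N E D l : ι → Subgroup G) (q : ℕ), 4 ≤ q →
        NBs (S : Subgroup G) N E D l (fun _ => q) → Src (S : Subgroup G) N l (fun _ => q) → 3 ≤ Nat.card ι →
          (∀ b, ∃ c, ∀ s ∈ (S : Subgroup G), MulAut.conj s • N b ≠ N c) →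
            jj (S : Subgroup G) ≤ centralizer (Wd (S : Subgroup G) : Set G) → AllB (S : Subgroup G) N

theorem allOrb_of {B : Fr.{u}} (h1 : AllNeg B) (h2 : AllTop B) : AllOrb B := by
  intro G _ _ S hB hW hm hC ι _ N E D l q hq hN hs h3 two
  by_cases hj : jj (S : Subgroup G) ≤ centralizer (Wd (S : Subgroup G) : Set G)
  · exact h2 G S hB hW hm hC ι N E D l q hq hN hs h3 two hj
  · exact h1 G S hB hW hm hC ι N E D l q hq hN hs h3 two hj

/-- **at least two `S`-orbits, at least three blocks, `AllB`: contradiction** (any number of classes, any `q b`) -/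
theorem false_of_two (hM : MLK.{u, u}) (hE : NoInpM.{u, u}) (hP : UPar.ParX.{u}) {G : Type u} [Group G] [Finite G]
    {S : Sylow 2 G} {ι : Type u} [Finite ι] {N E D l : ι → Subgroup G} {q : ι → ℕ} (hB : RB S)
    (hN : NBs (S : Subgroup G) N E D l q) (hs : Src (S : Subgroup G) N l q) (hall : AllB (S : Subgroup G) N)
    (two : ∀ b, ∃ c, ∀ s ∈ (S : Subgroup G), MulAut.conj s • N b ≠ N c) (three : ∀ a b : ι, ∃ c, c ≠ a ∧ c ≠ b) :
    False :=
  UPar.false_of_orbits hM hE hP hB hN hs hall (fun c hc b => by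
    obtain ⟨b', -, h1⟩ := OrbPerm.perm_orb_nbs hB hN hs hall two c hc b
    exact ⟨b', h1⟩) two three

/-- **`WOneMany`** from `parT`, `AllOrb` and `OrbD` -/
theorem wOneMany_of_orbD {K : Cls.{u}} {B : Fr.{u}} (hM : MLK.{u, u}) (hE : NoInpM.{u, u}) (hP : UPar.ParX.{u})
    (hA : AllOrb B) (hO : OneTwoOf.OrbD B) : WOneMany K B := by
  intro G _ _ _ S hB hW hm hC ι _ N E D l q hq hN hs h3
  exfalso
  have hne : Nonempty ι := (Nat.card_pos_iff.1 (by omega : 0 < Nat.card ι)).1
  rcases exists_two (S : Subgroup G) N with tr | two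
  · obtain ⟨b⟩ := hne
    rcases OneTwoOf.eq_four_or hN hq b with h4 | h8
    · exact OneFour.one_four hN tr hW fun _ => h4
    · exact hO G S hB hW hm ι N E D l q ⟨hC, h8, hN, hs, tr, by omega⟩
  · exact false_of_two hM hE hP hW.toRB hN hs (hA G S hB hW hm hC ι N E D l q hq hN hs h3 two) two (three_of h3)

/-- **`WOneMany`** from `parT`, `AllOrb` and the two level halves of `OrbD` -/
theorem wOneMany_of {K : Cls.{u}} {B : Fr.{u}} (hM : MLK.{u, u}) (hE : NoInpM.{u, u}) (hP : UPar.ParX.{u})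
    (hA : AllOrb B) (std : OneTwoOf.StdD B) (top : OneTwoOf.TopD B) : WOneMany K B :=
  wOneMany_of_orbD hM hE hP hA (OneTwoOf.orbD_of std top)

/-- the same with the two level halves of `AllOrb` -/
theorem wOneMany_of_all {K : Cls.{u}} {B : Fr.{u}} (hM : MLK.{u, u}) (hE : NoInpM.{u, u}) (hP : UPar.ParX.{u})
    (h1 : AllNeg B) (h2 : AllTop B) (std : OneTwoOf.StdD B) (top : OneTwoOf.TopD B) : WOneMany K B :=
  wOneMany_of hM hE hP (allOrb_of h1 h2) std top

end Cfsg.Agent.Omega.NOThreeL.RRed.OneManyOf
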