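import Cfsg.Agent.Mrg.Omega.NOThreeL.RRed.HBadNat
import Cfsg.Agent.Mrg.Omega.NOThreeL.RRed.OneNonB
import Cfsg.Agent.Mrg.Omega.NOThreeL.RRed.FourTwoO
import Cfsg.Agent.Mrg.Omega.NOThreeL.RRed.Blk.Split
import Cfsg.Agent.Mrg.Omega.KL.TwoS.Ex
import Cfsg.Agent.Mrg.Omega.NO3b.EZeroBase
import Cfsg.Agent.Mrg.Omega.NOThreeL.RRed.FourNoK2
import Cfsg.Agent.Mrg.Omega.NOThreeL.RRed.TvOrbs
import Cfsg.Agent.Mrg.Omega.NOThreeL.RRed.FourPIn

section


/-!
# Box R: `SBad` for natural blocks, helper314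

* **`sBad_nat`** : `OneNon.SBad S N {N b - 1}` over `NBs`, `Src` (helper391, helper739).
-/

set_option autoImplicit false

namespace Cfsg.Agent.Omega.NOThreeL.RRed.HBadNat

open Subgroup Cfsg
open Cfsg.Agent.Omega.NOThreeL.RRed.WideTree (NBs Src)
open Cfsg.Agent.Omega.NOThreeL.RTree (RB)

universe u

variable {G : Type u} [Group G] [Finite G] {S : Sylow 2 G} {ι : Type u} {N E D l : ι → Subgroup G} {q : ι → ℕ}

/-- **`SBad` for natural blocks** -/
theorem sBad_nat (B : RB S) (hn : NBs (S : Subgroup G) N E D l q) (hs : Src (S : Subgroup G) N l q) :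
    OneNon.SBad (S : Subgroup G) N (fun b => {x | x ∈ N b ∧ x ≠ 1}) :=
  fun _ _ _ hz hzc _ _ hR hC => bad_nat B hn hs hz hzc hR hC

end Cfsg.Agent.Omega.NOThreeL.RRed.HBadNat

end

section


/-!
# NO-3L, box R, `FourOf`, the left case: the frame `Lf`, `B = C_S(Z_J)`, `Z_J = ∏ ⟨z b⟩`

* `Lf S N E z O v` : the left case: two orbits of natural blocks of order 4, `𝒜(O)` acts through `⨆ E b` and moves every
  block by a transvection, `D = C_G(Z)` permutes the `z b` (PERM+);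
* `comp_ZJ`, `mem_ZJ` : `Z_J` = the elements of `V*` with components `1` or `z b`;
* `LJ O` = intersection of all members of `𝒜(O)`;
* `Lf.pure`, `Lf.A_le_B`, `Lf.sylB`, `Lf.D_norm`, `Lf.OJ_le`, `Lf.mx_iff` : `𝒜(O) = 𝒜(O_J)`.
-/

set_option autoImplicit false
set_option linter.unusedSectionVars false

namespace Cfsg.Agent.Omega.NOThreeL.RRed.FourLf

open Subgroup Cfsg Cfsg.Agent.ZN Cfsg.Agent.Omega.MinPar Cfsg.Agent.Omega.Frame Cfsg.Agent.Omega.FrameNOFF
open Cfsg.Agent.Omega.Node.NO3L Cfsg.Agent.Omega.NOThreeL.Basic Cfsg.Agent.Omega.NOThreeL.RTree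
open Cfsg.Agent.Omega.NOThreeL.Merge (MZ le_MZ S_le_MZ)
open Cfsg.Agent.Omega.FFThm (ElemM OffM NoOverM)
open Cfsg.Agent.Omega.KL.TwoS (Rel Lett relIndex_le_of_sup relIndex_card comm_of_sq sq_sup NN)
open Cfsg.Agent.Omega.OM.KTwo (CC QQ)
open Cfsg.Agent.Omega.NOThreeL.RRed.Blk
open Cfsg.Agent.Omega.NOThreeL.RRed.FourLeft
open Cfsg.Agent.Omega.NoFF.Basic (comm_symm comm_mono mem_conj conj_le_iff conj_conj)
open Cfsg.Agent.Omega.NoFF.ThmJFam (card_sup_inf card_conj)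
open Cfsg.Agent.MinSimple.VModule (oddGen oddGen_le mem_oddGen le_normalizer_oddGen)
open Cfsg.Agent.MinSimple.MinParabolic (IsMinPar)
open Cfsg.Agent.ZN.ChoiceSit (Syl)
open scoped Pointwise

universe u

variable {G : Type u} [Group G]

/-! ### `LJ` -/

/-- the intersection of the members of `𝒜(O)` -/
def LJ (O : Subgroup G) : Subgroup G := sInf {A | KL.TwoS.Mx O A}

theorem LJ_le_mem {O A : Subgroup G} (h : KL.TwoS.Mx O A) : LJ O ≤ A := sInf_le h

section LJ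

variable [Finite G]

theorem LJ_le (O : Subgroup G) : LJ O ≤ O := by
  obtain ⟨A, hA⟩ := KL.TwoS.Mx.exists_mx O
  exact (LJ_le_mem hA).trans hA.le

theorem LJ_sq {O : Subgroup G} : ∀ x ∈ LJ O, x ^ 2 = 1 := by
  obtain ⟨A, hA⟩ := KL.TwoS.Mx.exists_mx O
  exact fun x hx => hA.sq x (LJ_le_mem hA hx)

theorem mem_LJ {O : Subgroup G} {x : G} (hx : x ∈ O) (h2 : x ^ 2 = 1)
    (h : ∀ A, KL.TwoS.Mx O A → ∀ a ∈ A, a * x = x * a) : x ∈ LJ O := by
  rw [LJ, mem_sInf]
  intro A hA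
  have h1 : zpowers x ≤ A := by
    refine hA.le_of_comm (by rw [zpowers_le]; exact hx) ?_ ?_
    · rintro _ ⟨k, rfl⟩
      change (x ^ k) ^ 2 = 1
      rw [← zpow_natCast, ← zpow_mul, mul_comm, zpow_mul, zpow_natCast, h2, one_zpow]
    · rw [zpowers_le, mem_centralizer_iff]
      exact h A hA
  exact h1 (mem_zpowers x)

theorem LJ_norm (O : Subgroup G) : normalizer (O : Set G) ≤ normalizer (LJ O : Set G) := by
  have key : ∀ g ∈ normalizer (O : Set G), ∀ x ∈ LJ O, g * x * g⁻¹ ∈ LJ O := by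
    intro g hg x hx
    rw [LJ, mem_sInf]
    intro A hA
    have h1 : MulAut.conj g⁻¹ • A ≤ O := by
      have h2 := (conj_le_iff (g := g⁻¹)).2 hA.le
      rwa [Blk.smul_of_mem (inv_mem hg)] at h2
    have h3 := LJ_le_mem (hA.conj h1) hx
    rw [mem_conj] at h3
    simpa using h3
  exact le_norm_of key

end LJ

/-! ### `Z_J` -/

section ZJ

variable {S M U : Subgroup G} {I : Type u} {N E : I → Subgroup G} {z : I → G}

theorem comp_ZJ (D : Dec S M U N E ⊥) (o : One S M U N E z) (sq : ∀ x ∈ U, x * x = 1) {x : G}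
    (hx : x ∈ closure (Set.range z)) : ∀ b, ∃ n, IsC N ⊥ b x n ∧ (n = 1 ∨ n = z b) := by
  have hz2 : ∀ b, z b * z b = 1 := fun b => sq _ (D.NU b (o.zN b))
  induction hx using closure_induction with
  | mem x hx =>
    obtain ⟨c, rfl⟩ := hx
    intro b
    by_cases hb : c = b
    · subst hb
      exact ⟨z c, D.comp_self (o.zN c), Or.inr rfl⟩
    · exact ⟨1, D.comp_ne hb (o.zN c), Or.inl rfl⟩
  | one => exact fun b => ⟨1, D.comp_one (one_mem _), Or.inl rfl⟩
  | mul x y _ _ hx hy =>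
    intro b
    obtain ⟨n, hn, h1⟩ := hx b
    obtain ⟨m, hm, h2⟩ := hy b
    refine ⟨n * m, D.comp_mul hn hm, ?_⟩
    rcases h1 with rfl | rfl <;> rcases h2 with rfl | rfl
    · exact Or.inl (one_mul _)
    · exact Or.inr (one_mul _)
    · exact Or.inr (mul_one _)
    · exact Or.inl (hz2 b)
  | inv x _ hx =>
    intro b
    obtain ⟨n, hn, h1⟩ := hx b
    refine ⟨n⁻¹, D.comp_inv hn, ?_⟩
    rcases h1 with rfl | rfl
    · exact Or.inl inv_one
    · exact Or.inr (inv_eq_of_mul_eq_one_right (hz2 b))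

theorem mem_ZJ [Finite I] (D : Dec S M U N E ⊥) (o : One S M U N E z) {x : G} (hx : x ∈ U)
    (h : ∀ b, ∃ n, IsC N ⊥ b x n ∧ (n = 1 ∨ n = z b)) : x ∈ closure (Set.range z) := by
  classical
  have := Fintype.ofFinite I
  have key : ∀ s : Finset I, ∃ y ∈ closure (Set.range z), ∀ b, (b ∈ s → ∃ n, IsC N ⊥ b x n ∧ IsC N ⊥ b y n) ∧
      (b ∉ s → IsC N ⊥ b y 1) := by
    intro s
    induction s using Finset.induction_on with
    | empty => exact ⟨1, one_mem _, fun b => ⟨fun hb => absurd hb (by simp), fun _ => D.comp_one (one_mem _)⟩⟩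
    | insert a s ha ih =>
      obtain ⟨y, hy, hyb⟩ := ih
      obtain ⟨n, hn, hn1⟩ := h a
      have hnZ : n ∈ closure (Set.range z) := by
        rcases hn1 with rfl | rfl
        · exact one_mem _
        · exact subset_closure ⟨a, rfl⟩
      refine ⟨y * n, mul_mem hy hnZ, fun b => ⟨fun hb => ?_, fun hb => ?_⟩⟩
      · by_cases hba : b = a
        · subst hba
          have h1 := D.comp_mul ((hyb b).2 ha) (D.comp_self hn.1)
          rw [one_mul] at h1
          exact ⟨n, hn, h1⟩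
        · have hbs : b ∈ s := (Finset.mem_insert.1 hb).resolve_left hba
          obtain ⟨m, hm, hm'⟩ := (hyb b).1 hbs
          have h1 := D.comp_mul hm' (D.comp_ne (Ne.symm hba) hn.1)
          rw [mul_one] at h1
          exact ⟨m, hm, h1⟩
      · have hba : b ≠ a := fun e => hb (e ▸ Finset.mem_insert_self _ _)
        have hbs : b ∉ s := fun e => hb (Finset.mem_insert_of_mem e)
        have h1 := D.comp_mul ((hyb b).2 hbs) (D.comp_ne (Ne.symm hba) hn.1)
        rwa [one_mul] at h1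
  obtain ⟨y, hy, hyb⟩ := key Finset.univ
  have hsup : (⨆ b, N b) = U := by
    have := D.sup
    rwa [sup_bot_eq] at this
  have hyU : y ∈ ⨆ b, N b := by
    have h1 : closure (Set.range z) ≤ ⨆ b, N b := by
      rw [closure_le]
      rintro _ ⟨b, rfl⟩
      exact (le_iSup N b) (o.zN b)
    exact h1 hy
  have e : x = y := D.ext (by rw [hsup]; exact hx) hyU fun b => (hyb b).1 (Finset.mem_univ b)
  rw [e]; exact hy

end ZJ

/-! ### The left case -/

/-- `O = O₂(C_G(Z))` -/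
abbrev OO (S : Subgroup G) : Subgroup G := o2 (centralizer (zc S : Set G))

/-- `Z_J` -/
abbrev ZJ {I : Type u} (z : I → G) : Subgroup G := closure (Set.range z)

/-- `B = C_S(Z_J)` -/
abbrev BB (S : Subgroup G) {I : Type u} (z : I → G) : Subgroup G := S ⊓ centralizer (ZJ z : Set G)

/-- **The left case.** -/
structure Lf [Finite G] (S : Sylow 2 G) {I : Type u} (N E : I → Subgroup G) (z : I → G) (O : Fin 2 → Set I)
    (v : Fin 2 → G) : Prop where
  rb : RB S
  tw : TwoO S (MZ (S : Subgroup G)) (Wd (S : Subgroup G)) N E ⊥ z O v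
  inn : Inn (MZ (S : Subgroup G)) N E
  T : TwoV (S : Subgroup G) (VO N O) v
  ex : ∀ i j, i ≠ j → ∃ R, IsParS (S : Subgroup G) R ∧ R ≤ centralizer ({v j} : Set G) ∧
    ¬ R ≤ centralizer ({v i} : Set G)
  h4 : ∀ b, Nat.card (N b) = 4
  no : NoOverM (Wd (S : Subgroup G)) (S : Subgroup G)
  AE : ∀ A, KL.TwoS.Mx (OO (S : Subgroup G)) A → A ≤ ⨆ b, E b
  tv : ∀ b, ∃ A, KL.TwoS.Mx (OO (S : Subgroup G)) A ∧ ∃ t ∈ A, t ∈ E b ∧ t ∉ centralizer (N b : Set G)
  perm : ∀ d ∈ centralizer (zc (S : Subgroup G) : Set G), ∀ b, ∃ c, d * z b * d⁻¹ = z c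

namespace Lf

variable [Finite G] {S : Sylow 2 G} {I : Type u} [Finite I] {N E : I → Subgroup G} {z : I → G} {O : Fin 2 → Set I}
  {v : Fin 2 → G} (h : Lf S N E z O v)
include h

theorem fr : KL.TwoS.Fr (S : Subgroup G) (VO N O) v := h.T.fr h.rb

theorem OS : OO (S : Subgroup G) ≤ (S : Subgroup G) := h.fr.O_le_T

theorem usq : ∀ x ∈ Wd (S : Subgroup G), x * x = 1 := fun x hx => wsq h.rb x hx

theorem usq' : ∀ x ∈ Wd (S : Subgroup G), x ^ 2 = 1 := fun x hx => by rw [pow_two]; exact h.usq x hx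

theorem NV {i : Fin 2} {b : I} (hb : b ∈ O i) : N b ≤ VO N O i := le_iSup₂_of_le b hb le_rfl

theorem VOO (i : Fin 2) : VO N O i ≤ OO (S : Subgroup G) := (h.fr.VQ i).trans (h.fr.Q_le_O i)

theorem UO : Wd (S : Subgroup G) ≤ OO (S : Subgroup G) := by
  have h1 := h.tw.dec.sup
  rw [sup_bot_eq] at h1
  rw [← h1]
  refine iSup_le fun b => ?_
  rcases h.tw.cov b with hb | hb
  · exact (h.NV hb).trans (h.VOO 0)
  · exact (h.NV hb).trans (h.VOO 1)

/-- **pure members of `𝒜(O)`** -/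
theorem pure (b : I) : ∃ A, KL.TwoS.Mx (OO (S : Subgroup G)) A ∧ ¬ A ≤ centralizer (N b : Set G) ∧
    ∀ c, c ≠ b → A ≤ centralizer (N c : Set G) := by
  obtain ⟨A, hA, t, ht, htE, htb⟩ := h.tv b
  obtain ⟨A', h1, h2, h3, -⟩ := exists_pure h.tw.dec h.inn h.tw.one h.OS h.UO h.usq' h.no hA (h.AE A hA) (h.h4 b) ht
    htE htb
  exact ⟨A', h1, h2, h3⟩

theorem A_fix {A : Subgroup G} (hA : KL.TwoS.Mx (OO (S : Subgroup G)) A) {a : G} (ha : a ∈ A) (b : I) :
    a * z b * a⁻¹ = z b := z_fix h.tw.dec h.inn h.tw.one (h.OS (hA.le ha)) (h.AE A hA ha) b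

theorem zU (b : I) : z b ∈ Wd (S : Subgroup G) := h.tw.dec.NU b (h.tw.one.zN b)

theorem ZJU : ZJ z ≤ Wd (S : Subgroup G) := by
  rw [closure_le]
  rintro _ ⟨b, rfl⟩
  exact h.zU b

theorem v_mem (i : Fin 2) : v i ∈ ZJ z := by
  refine mem_ZJ h.tw.dec h.tw.one (h.tw.VU i (h.tw.vV i)) fun b => ?_
  by_cases hb : b ∈ O i
  · exact ⟨_, h.tw.comp i hb, Or.inr rfl⟩
  · exact ⟨_, h.tw.comp' i hb, Or.inl rfl⟩

theorem zcZJ : zc (S : Subgroup G) ≤ ZJ z := by
  intro x hx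
  rcases (h.tw.zS h.rb x).1 hx with rfl | rfl | rfl | rfl
  · exact one_mem _
  · exact h.v_mem 0
  · exact h.v_mem 1
  · exact mul_mem (h.v_mem 0) (h.v_mem 1)

theorem WS' : Wd (S : Subgroup G) ≤ (S : Subgroup G) := h.UO.trans h.OS

/-- `x ∈ B` iff it fixes all `z b` -/
theorem mem_BB {x : G} (hx : x ∈ (S : Subgroup G)) (hz : ∀ b, x * z b * x⁻¹ = z b) : x ∈ BB (S : Subgroup G) z := by
  refine ⟨hx, ?_⟩
  have h1 : ZJ z ≤ centralizer ({x} : Set G) := by
    rw [closure_le]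
    rintro _ ⟨b, rfl⟩
    exact mem_centralizer_singleton_iff.2 (mul_inv_eq_iff_eq_mul.1 (hz b)).symm
  exact mem_centralizer_iff.2 fun y hy => mem_centralizer_singleton_iff.1 (h1 hy)

theorem B_fix {x : G} (hx : x ∈ BB (S : Subgroup G) z) (b : I) : x * z b * x⁻¹ = z b :=
  cent hx.2 (subset_closure ⟨b, rfl⟩)

theorem A_le_B {A : Subgroup G} (hA : KL.TwoS.Mx (OO (S : Subgroup G)) A) : A ≤ BB (S : Subgroup G) z :=
  fun _ ha => h.mem_BB (h.OS (hA.le ha)) (h.A_fix hA ha)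

theorem U_le_B : Wd (S : Subgroup G) ≤ BB (S : Subgroup G) z := fun _ hx =>
  ⟨h.WS' hx, (h.tw.dec.ab.trans (centralizer_le h.ZJU)) hx⟩

/-- `C_G(Z_J) ≤ C_G(Z)` is normalised by `C_G(Z)` -/
theorem D_norm : centralizer (zc (S : Subgroup G) : Set G) ≤ normalizer (ZJ z : Set G) := by
  refine le_norm_of fun d hd x hx => ?_
  induction hx using closure_induction with
  | mem x hx =>
    obtain ⟨b, rfl⟩ := hx
    obtain ⟨c, hc⟩ := h.perm d hd b
    rw [hc]; exact subset_closure ⟨c, rfl⟩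
  | one => rw [mul_one, mul_inv_cancel]; exact one_mem _
  | mul x y _ _ hx hy =>
    have e : d * (x * y) * d⁻¹ = (d * x * d⁻¹) * (d * y * d⁻¹) := by group
    rw [e]; exact mul_mem hx hy
  | inv x _ hx =>
    have e : d * x⁻¹ * d⁻¹ = (d * x * d⁻¹)⁻¹ := by group
    rw [e]; exact inv_mem hx

theorem CJ_le : centralizer (ZJ z : Set G) ≤ centralizer (zc (S : Subgroup G) : Set G) := centralizer_le h.zcZJ

theorem D_norm' : centralizer (zc (S : Subgroup G) : Set G) ≤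
    normalizer ((centralizer (ZJ z : Set G) : Subgroup G) : Set G) := TC.LemZ.norm_cent h.D_norm

theorem sylB : Syl (BB (S : Subgroup G) z) (centralizer (ZJ z : Set G)) := by
  have h1 : Syl (S : Subgroup G) (centralizer (zc (S : Subgroup G) : Set G)) := h.fr.syl_D
  exact syl_inf_of h1 h.CJ_le h.D_norm'

/-- `O_J ≤ O` -/
theorem OJ_le : o2 (centralizer (ZJ z : Set G)) ≤ OO (S : Subgroup G) :=
  MinSimple.VModule.le_o2 ((MinSimple.VModule.o2_le _).trans h.CJ_le) (MinSimple.VModule.o2_isPGroup _)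
    (h.D_norm'.trans (ZN.normalizer_le_normalizer_o2 _))

theorem O_inf_le : OO (S : Subgroup G) ⊓ centralizer (ZJ z : Set G) ≤ o2 (centralizer (ZJ z : Set G)) := by
  refine MinSimple.VModule.le_o2 inf_le_right ((MinSimple.VModule.o2_isPGroup _).to_le inf_le_left) ?_
  have h1 : centralizer (ZJ z : Set G) ≤ normalizer (OO (S : Subgroup G) : Set G) :=
    h.CJ_le.trans (le_normalizer_o2 _)
  refine le_norm_of fun g hg x hx => ⟨conj_of (h1 hg) hx.1, ?_⟩
  exact (centralizer (ZJ z : Set G)).mul_mem ((centralizer (ZJ z : Set G)).mul_mem hg hx.2)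
    ((centralizer (ZJ z : Set G)).inv_mem hg)

/-- `𝒜(O) = 𝒜(O_J)` -/
theorem mx_iff {A : Subgroup G} : KL.TwoS.Mx (o2 (centralizer (ZJ z : Set G))) A ↔ KL.TwoS.Mx (OO (S : Subgroup G)) A := by
  constructor
  · intro hA
    obtain ⟨A', hA'⟩ := KL.TwoS.Mx.exists_mx (OO (S : Subgroup G))
    have h1 : A' ≤ o2 (centralizer (ZJ z : Set G)) := (le_inf hA'.le ((h.A_le_B hA').trans inf_le_right)).trans h.O_inf_le
    exact hA'.of_card (hA.le.trans h.OJ_le) hA.sq (hA.max A' h1 hA'.sq)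
  · intro hA
    have h1 : A ≤ o2 (centralizer (ZJ z : Set G)) := (le_inf hA.le ((h.A_le_B hA).trans inf_le_right)).trans h.O_inf_le
    exact ⟨h1, hA.sq, fun B hB hB2 => hA.max B (hB.trans h.OJ_le) hB2⟩

end Lf

end Cfsg.Agent.Omega.NOThreeL.RRed.FourLf

end

section


/-!
# NO-3L, box R, `FourOf`, the left case: the frame `Lf` holds

* `mx_AA` : `Mx O A` is membership in `AA O`;
* `best_mx` : members of `𝒜(O)` are best offenders on `V*`;
* `gen_mx` : and generated by the elements which act on `V*` as transvections or trivially (930's `TvExa.gen_tv`);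
* `perm_z` : `C_G(Z)` permutes the `z b` (THEOREM PERM+ for both orbits);
* **`lf_of`** : the hypotheses of `FourTwoP.FourLeft` imply `FourLf.Lf`.
-/

set_option autoImplicit false
set_option linter.unusedSectionVars false

namespace Cfsg.Agent.Omega.NOThreeL.RRed.FourLfOf

open Subgroup Cfsg Cfsg.Agent.ZN Cfsg.Agent.Omega.MinPar Cfsg.Agent.Omega.Frame Cfsg.Agent.Omega.FrameNOFF
open Cfsg.Agent.Omega.Node.NO3L Cfsg.Agent.Omega.NOThreeL.Basic Cfsg.Agent.Omega.NOThreeL.RTree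
open Cfsg.Agent.Omega.NOThreeL.Merge (MZ le_MZ S_le_MZ)
open Cfsg.Agent.Omega.NO1.BestOff (Best)
open Cfsg.Agent.Omega.FFThm (ElemM OffM NoOverM)
open Cfsg.Agent.Omega.NOThreeL.RRed.TvFin (TvV Full)
open Cfsg.Agent.Omega.NOThreeL.RRed.FourTree
open Cfsg.Agent.Omega.NOThreeL.RRed.FourTwoO
open Cfsg.Agent.Omega.NOThreeL.RRed.FourTwoP
open Cfsg.Agent.Omega.NOThreeL.RRed.Blk
open Cfsg.Agent.ZN.ChoiceBase (AA)
open scoped Pointwise

universe u

variable {G : Type u} [Group G]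

theorem mx_AA [Finite G] {O A : Subgroup G} (h : KL.TwoS.Mx O A) : A ∈ AA O := by
  refine ⟨⟨⟨⟨fun a b => Subtype.ext ?_⟩⟩, h.sq⟩, h.le, fun B hB hBO => h.max B hBO hB.2⟩
  exact mem_centralizer_iff.1 (h.comm b.2) a a.2

variable [Finite G] {S : Sylow 2 G} {I : Type u} [Finite I] {N E : I → Subgroup G} {Om : I → Type u}
  [∀ i, Fintype (Om i)] [∀ i, DecidableEq (Om i)] {phi : ∀ i, Finset (Om i) → G} {z : I → G} {O : Fin 2 → Set I}
  {v : Fin 2 → G}

theorem Wd_le (T : TwoV (S : Subgroup G) (VO N O) v) (B : RB S)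
    (t : TwoO S (MZ (S : Subgroup G)) (Wd (S : Subgroup G)) N E ⊥ z O v) :
    Wd (S : Subgroup G) ≤ o2 (centralizer (zc (S : Subgroup G) : Set G)) := by
  have h1 := t.dec.sup
  rw [sup_bot_eq] at h1
  rw [← h1]
  refine iSup_le fun b => ?_
  rcases t.cov b with hb | hb
  · exact (le_iSup₂_of_le (f := fun b (_ : b ∈ O 0) => N b) b hb le_rfl).trans (VO_le B T 0)
  · exact (le_iSup₂_of_le (f := fun b (_ : b ∈ O 1) => N b) b hb le_rfl).trans (VO_le B T 1)

theorem best_mx (B : RB S) (hW : Wd (S : Subgroup G) ≤ o2 (centralizer (zc (S : Subgroup G) : Set G)))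
    {A : Subgroup G} (hA : KL.TwoS.Mx (o2 (centralizer (zc (S : Subgroup G) : Set G))) A) :
    Best (Wd (S : Subgroup G)) A := FourNoK2.best_of_AA (FourNoK2.elem_Wd B) hW (mx_AA hA)

/-- generated by transvections -/
theorem gen_best (h : Four S) (hF : ¬ Fld S) (hB : Bks S N E ⊥ Om phi) {A : Subgroup G} (hS : A ≤ (S : Subgroup G))
    (hb : Best (Wd (S : Subgroup G)) A) :
    A ≤ closure {t | t ∈ A ∧ ∃ c ∈ Wd (S : Subgroup G), TvV (Wd (S : Subgroup G)) c t} := by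
  obtain ⟨P, A₀, hg⟩ := exists_gOne_rr h.toRB h.rr
  have hA : A ≤ MZ (S : Subgroup G) := hS.trans (S_le_MZ h.toRB.ctx h.toRB.full)
  have hL := Merge.isLoc_MZ h.toRB.ctx h.toRB.full h.toRB.data.noff
  refine TvExa.gen_tv hB.toFull hg.no (fun X hX hm => ?_) A hA (S.isPGroup'.to_le hS) hb.toElemM
    (TvExa.exa_of_best hg.no hA hb)
  obtain ⟨t, ht, c, hc', hn, htv, -⟩ := TvAtom.mx_tv h.toRB.ctx.char2 hL (gen_MZ S) hF hX hm
  exact ⟨t, ht, c, hc', hn, htv⟩

/-- **`C_G(Z)` permutes the points `z b`.** -/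
theorem perm_z (B : RB S) (F : Full (S : Subgroup G) (MZ (S : Subgroup G)) (Wd (S : Subgroup G)) N E ⊥ Om phi)
    (hno : ∀ R, IsParS (S : Subgroup G) R → ¬ R ≤ normalizer (((S : Subgroup G) ⊓ ⨆ b, E b : Subgroup G) : Set G))
    (t : TwoO S (MZ (S : Subgroup G)) (Wd (S : Subgroup G)) N E ⊥ z O v) (h3 : ∀ b, Fintype.card (Om b) = 3)
    (hmv : ∀ b, ∃ A, KL.TwoS.Mx (o2 (centralizer (zc (S : Subgroup G) : Set G))) A ∧
      ¬ A ≤ centralizer (N b : Set G)) :
    ∀ d ∈ centralizer (zc (S : Subgroup G) : Set G), ∀ b, ∃ c, d * z b * d⁻¹ = z c := by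
  have key : ∀ i j : Fin 2, i ≠ j → ∀ d ∈ centralizer (zc (S : Subgroup G) : Set G), ∀ b ∈ O i,
      ∃ c, d * z b * d⁻¹ = z c := by
    intro i j hij d hd b hb
    obtain ⟨P, hP, hj, hi⟩ := FourTwoO.ex B t hno hij
    obtain ⟨A, hA, hA'⟩ := hmv b
    obtain ⟨c, -, hc⟩ := FourPIn.permD_two B F t h3 (FourPermN.permN F) hij hP hj hi
      ⟨A, mx_AA hA, fun h => hA' (h.trans (centralizer_le
        (le_iSup₂_of_le (f := fun b (_ : b ∈ O i) => N b) b hb le_rfl)))⟩ d hd b hb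
    exact ⟨c, hc⟩
  intro d hd b
  rcases t.cov b with hb | hb
  · exact key 0 1 (by decide) d hd b hb
  · exact key 1 0 (by decide) d hd b hb

/-- **The frame `Lf`.** -/
theorem lf_of (h : Four S) (hF : ¬ Fld S) (hB : Bks S N E ⊥ Om phi)
    (hno : ∀ R, IsParS (S : Subgroup G) R → ¬ R ≤ normalizer (((S : Subgroup G) ⊓ ⨆ b, E b : Subgroup G) : Set G))
    (t : TwoO S (MZ (S : Subgroup G)) (Wd (S : Subgroup G)) N E ⊥ z O v) (h3 : ∀ b, Fintype.card (Om b) = 3)
    (hmv : ∀ b, ∃ A, KL.TwoS.Mx (o2 (centralizer (zc (S : Subgroup G) : Set G))) A ∧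
      ¬ A ≤ centralizer (N b : Set G)) : FourLf.Lf S N E z O v := by
  have T := twoV h.toRB t hno
  have hW := Wd_le T h.toRB t
  exact
    { rb := h.toRB
      tw := t
      inn := FourTwoO.inn hB.toFull
      T := T
      ex := fun i j hij => FourTwoO.ex h.toRB t hno hij
      h4 := fun b => FourLeft.card_N (hB.lett b) (h3 b)
      no := FourNoK2.noOver h.toRB h.rr
      AE := fun A hA => bestE_of h hF hB A (hA.le.trans (o2_le_S S)) (best_mx h.toRB hW hA)
      tv := fun b => by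
        obtain ⟨A, hA, hne⟩ := hmv b
        have hAS := hA.le.trans (o2_le_S S)
        obtain ⟨x, hx, hxE, hxb, -⟩ := FourLeft.exists_tv hB.toFull (hAS.trans (S_le_MZ h.toRB.ctx h.toRB.full))
          (gen_best h hF hB hAS (best_mx h.toRB hW hA)) hne
        exact ⟨A, hA, x, hx, hxE, hxb⟩
      perm := perm_z h.toRB hB.toFull hno t h3 hmv }

end Cfsg.Agent.Omega.NOThreeL.RRed.FourLfOf

end
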