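import Cfsg.Agent.Mrg.Omega.KL.TwoV.InpY
import Cfsg.Agent.Mrg.Omega.NOThreeL.RTree
import Cfsg.Agent.Mrg.Omega.NOThreeL.RZ.TwoC.EndV


/-!
# NO-3L, box R: a nonlocal pair of vectors (bb #27099 (I), #27002, #27170)

`V 0`, `V 1 ≤ WP S` with `V 0 ∩ V 1 = 1`, both `S`-invariant (e.g. the product of the blocks of one `S`-orbit and the
product of the other blocks; no `M₀`-invariance), `z i ∈ V i ∩ Z`, `⟨C_G(z 0), C_G(z 1)⟩` nonlocal, every `P ∈ P*(S)` and
every `n ∈ N_G(S)` which centralises `z 0` or `z 1` normalises `V 0` and `V 1`.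

* `PairW S V z` : the data;  `PairW.frY` : `KL.TwoV.FrY`;
* **`PairW.exists_mx`** : some `A ∈ 𝒜(O₂(C_G(Z)))` moves `V i`, both `i`.
-/

set_option autoImplicit false
set_option linter.unusedSectionVars false

namespace Cfsg.Agent.Omega.NOThreeL.RRed.OneNon

open Subgroup Cfsg Cfsg.Agent.ZN Cfsg.Agent.Omega.MinPar Cfsg.Agent.Omega.Frame Cfsg.Agent.Omega.FrameNOFF
open Cfsg.Agent.Omega.Node.NO3L Cfsg.Agent.Omega.NOThreeL.Basic
open Cfsg.Agent.Omega.NOThreeL.Merge (MZ le_MZ)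
open Cfsg.Agent.Omega.NOThreeL.RTree (RB)
open Cfsg.Agent.Omega.NOThreeL.RZ.TwoC (BadG QQ)
open Cfsg.Agent.Omega.NoFF.Basic (conj_le_iff Z_le_V V_le)
open Cfsg.Agent.ZN.ChoiceSit (Syl)
open Cfsg.Agent.MinSimple.MinParabolic (IsMinPar)
open Cfsg.Agent.MinSimple.VModule (le_o2 o2_isPGroup o2_le le_normalizer_o2 zc_le_zl mem_zc)
open Cfsg.Agent.Omega.NO3b.EndX (RedP)
open scoped Pointwise

universe u

variable {G : Type u} [Group G]

/-- **a nonlocal pair of vectors** -/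
structure PairW [Finite G] (S : Sylow 2 G) (V : Fin 2 → Subgroup G) (z : Fin 2 → G) : Prop where
  wp : ∀ i, V i ≤ WP (S : Subgroup G)
  zV : ∀ i, z i ∈ V i
  zZ : ∀ i, z i ∈ zc (S : Subgroup G)
  z1 : ∀ i, z i ≠ 1
  nS : ∀ i, (S : Subgroup G) ≤ normalizer (V i : Set G)
  nN : ∀ i, centralizer ({z i} : Set G) ⊓ normalizer ((S : Subgroup G) : Set G) ≤
    normalizer (V 0 : Set G) ⊓ normalizer (V 1 : Set G)
  par : ∀ i P, IsParS (S : Subgroup G) P → P ≤ centralizer ({z i} : Set G) →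
    P ≤ normalizer (V 0 : Set G) ⊓ normalizer (V 1 : Set G)
  VN : ∀ i, V (i + 1) ≤ NoFF.Basic.V (zpowers (z (i + 1))) (centralizer ({z i} : Set G))
  dis : V 0 ⊓ V 1 = ⊥
  nonloc : NonLoc (centralizer ({z 0} : Set G)) (centralizer ({z 1} : Set G))
  bad : ∀ i, BadG (centralizer ({z i} : Set G) ⊓ QQ (S : Subgroup G) (V i) (V (i + 1))
    ((S : Subgroup G) ⊓ centralizer (V (i + 1) : Set G))) ((S : Subgroup G) ⊓ centralizer (V (i + 1) : Set G)) (V i)

theorem cent_zp (z : G) : centralizer (zpowers z : Set G) = centralizer ({z} : Set G) := by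
  refine le_antisymm (centralizer_le (Set.singleton_subset_iff.2 (mem_zpowers z))) fun g hg => ?_
  rw [mem_centralizer_iff]
  rintro _ ⟨n, rfl⟩
  have h1 : Commute g z := mem_centralizer_singleton_iff.1 hg
  exact (h1.zpow_right n).eq.symm

namespace PairW

variable [Finite G] {S : Sylow 2 G} {V : Fin 2 → Subgroup G} {z : Fin 2 → G} (s : PairW S V z) (h : RB S)
include s h

theorem sq (i : Fin 2) : ∀ x ∈ V i, x ^ 2 = 1 := by
  intro x hx
  have hC := isLoc_centralizer_zc S (h.ctx.sylow_ne_bot S)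
  exact NotA.FH_sq h.ctx.char2 h.data h.notA ⟨hC, le_rfl⟩ x ((s.wp i).trans (WP_le_FH _ _) hx)

theorem V_le_S (i : Fin 2) : V i ≤ (S : Subgroup G) :=
  ((s.wp i).trans (WP_le_Q h.data)).trans ((isLoc_centralizer_zc S (h.ctx.sylow_ne_bot S)).o2_le S)

omit h in
theorem S_le (i : Fin 2) : (S : Subgroup G) ≤ centralizer (zpowers (z i) : Set G) := by
  rw [cent_zp]
  exact (le_CZ S).trans (centralizer_le (Set.singleton_subset_iff.2 (s.zZ i)))

theorem isLong (i : Fin 2) : IsLong (S : Subgroup G) (centralizer (zpowers (z i) : Set G)) := by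
  refine ⟨isLoc_of_le_normalizer S (s.S_le i) (S.isPGroup'.to_le ?_) ?_ (centralizer_le_normalizer _), ?_⟩
  · exact zpowers_le.2 (s.V_le_S h i (s.zV i))
  · rw [Ne, zpowers_eq_bot]
    exact s.z1 i
  · exact centralizer_le (zpowers_le.2 (s.zZ i))

theorem parS (j : Fin 2) {R : Subgroup G} (hR : IsMinPar (S : Subgroup G) R)
    (hj : R ≤ centralizer (zpowers (z j) : Set G)) (hi : ¬ R ≤ centralizer (zc (S : Subgroup G) : Set G)) :
    IsParS (S : Subgroup G) R := by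
  have h1 : IsPar (S : Subgroup G) R := ⟨hR, ((s.isLong h j).loc.of_le S hR.le hj).o2_ne⟩
  by_contra h2
  exact hi (par_le_CZ S h1 h2)

theorem parV (j : Fin 2) {R : Subgroup G} (hR : IsMinPar (S : Subgroup G) R)
    (hj : R ≤ centralizer (zpowers (z j) : Set G)) (hi : ¬ R ≤ centralizer (zc (S : Subgroup G) : Set G)) :
    R ≤ MZ (S : Subgroup G) ∧ ∀ k, R ≤ normalizer (V k : Set G) := by
  have h1 := s.parS h j hR hj hi
  rw [cent_zp] at hj
  refine ⟨le_MZ h1, fun k => ?_⟩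
  have h2 := s.par j R h1 hj
  rcases Fin.exists_fin_two.1 ⟨k, rfl⟩ with e | e
  · subst e; exact h2.trans inf_le_left
  · subst e; exact h2.trans inf_le_right

/-- **the frame** -/
theorem frY : KL.TwoV.FrY (S : Subgroup G) (MZ (S : Subgroup G) ⊔ normalizer ((S : Subgroup G) : Set G)) V
    (fun i => zpowers (z i)) where
  char2 i := (s.isLong h i).loc.char2 S h.ctx.char2
  sqV := s.sq h
  ZV i := zpowers_le.2 (s.zV i)
  ne i := by
    rw [Ne, zpowers_eq_bot]
    exact s.z1 i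
  Zz i := zpowers_le.2 (s.zZ i)
  syl i := ⟨s.S_le i, S.isPGroup', fun Q _ hQ2 hQ => S.is_maximal' hQ2 hQ⟩
  nT i := by
    refine (le_of_eq (by rw [cent_zp])).trans ((s.nN i).trans ?_)
    rcases Fin.exists_fin_two.1 ⟨i, rfl⟩ with e | e
    · subst e; exact le_rfl
    · subst e; exact le_inf inf_le_right inf_le_left
  nV := s.nS
  VQ i := ((s.wp i).trans (WP_le_FH _ _)).trans (NotA.FH_le_o2 h.data h.notA (s.isLong h i))
  VC i c hc := by
    have h1 := s.isLong h i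
    refine ((conj_le_iff (g := c)).2 (s.wp i)).trans ((conj_WP_le_FH _ hc).trans ?_)
    exact (NotA.FH_comm h.ctx.char2 h.data h.notA h1).trans (centralizer_le ((s.wp i).trans (WP_le_FH _ _)))
  VN i := by
    rw [cent_zp]
    exact s.VN i
  uni i j _ R hR hj hi := (s.parV h j hR hj fun h1 => hi (h1.trans (centralizer_le (zpowers_le.2 (s.zZ i))))).2
  dis := s.dis
  nonloc := by
    rw [cent_zp, cent_zp]
    exact s.nonloc
  nY i := inf_le_right.trans le_sup_right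
  RY i R hR hRi hc := by
    obtain ⟨h1, h2⟩ := s.parV h i hR hRi hc
    exact ⟨h1.trans le_sup_left, h2⟩
  bad i d hd hdY hd0 hd1 hdJ hdo hc := by
    have hdV : ∀ k, d ∈ normalizer (V k : Set G) := by
      intro k
      rcases Fin.exists_fin_two.1 ⟨k, rfl⟩ with e | e
      · subst e; exact hd0
      · subst e; exact hd1
    rw [cent_zp] at hd
    exact s.bad i d ⟨hd, ⟨⟨⟨hdY, hdV i⟩, hdV (i + 1)⟩, hdJ⟩⟩ hdo hc

/-- **some `A ∈ 𝒜(O₂(C_G(Z)))` moves `V i`** -/
theorem exists_mx (hM : ML.Final.MLK.{u, u}) (hR : RedP.{u, u}) (hE : ML.Ex.Two.Ext.{u, u}) (i : Fin 2) :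
    ∃ A, KL.TwoS.Mx (o2 (CZ (S : Subgroup G))) A ∧ ¬ A ≤ centralizer (V i : Set G) := by
  have hK : ∀ i, IsKGroup (centralizer (zpowers (z i) : Set G)) := fun i =>
    ML.GNN.kgroup_of_isLoc h.ctx h.ctx.not_isPGroup (s.isLong h i).loc
  obtain ⟨A, h1, -, -, h2⟩ := (s.frY h).exists_mx hM hR hE hK i
  exact ⟨A, h1, h2⟩

end PairW

end Cfsg.Agent.Omega.NOThreeL.RRed.OneNon
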