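import Cfsg.Agent.Mrg.Omega.NOThreeL.RRed.UInstA
import Cfsg.Agent.Mrg.Omega.NOThreeL.RRed.UMany
import Cfsg.Agent.Mrg.Omega.NOThreeL.RZ.TwoC.Loc
import Cfsg.Agent.Mrg.Omega.NOne.LemmaT

section


/-!
# NO-3L, box R: the socket `UMany.InstU` (helper258)

* `two_of` : two classes give two `S`-orbits of blocks;
* `instU'` : `InstU B` from `zc B ≤ O₂(C_G(X))` for `1 ≠ X ≤ Z`.
-/

set_option autoImplicit false
set_option linter.unusedSectionVars false

namespace Cfsg.Agent.Omega.NOThreeL.RRed.UInst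

open Subgroup Cfsg Cfsg.Agent.ZN Cfsg.Agent.ZN.ChoiceBase Cfsg.Agent.Omega.MinPar Cfsg.Agent.Omega.Frame
open Cfsg.Agent.Omega.FrameNOFF Cfsg.Agent.Omega.Node.NO3L Cfsg.Agent.Omega.NOThreeL.Basic
open Cfsg.Agent.Omega.NOThreeL.Merge (MZ)
open Cfsg.Agent.Omega.NOThreeL.RTree (RB)
open Cfsg.Agent.Omega.NOThreeL.RRed.WideTree Cfsg.Agent.Omega.NOThreeL.RRed.GlueSig
open Cfsg.Agent.Omega.NOThreeL.RWide

open scoped Pointwise

universe u

variable {G : Type u} [Group G] [Finite G] {S : Sylow 2 G} {ι κ : Type u} {W : ι → Subgroup G}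
  {N E D l : κ → Subgroup G} {q : κ → ℕ} {side : κ → ι}

/-- two classes: two `S`-orbits -/
theorem two_of (hC : CM (S : Subgroup G) W) (hij : ∃ i j : ι, i ≠ j) (hN : NBs (S : Subgroup G) N E D l q)
    (hf : Fits N W side) : ∀ b, ∃ c, ∀ s ∈ (S : Subgroup G), MulAut.conj s • N b ≠ N c := by
  intro b
  obtain ⟨j, hj⟩ : ∃ j, j ≠ side b := by
    obtain ⟨i, j, hij⟩ := hij
    by_cases h : i = side b
    · exact ⟨j, fun e => hij (h.trans e.symm)⟩
    · exact ⟨i, h⟩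
  obtain ⟨c, hc⟩ : ∃ c, side c = j := by
    by_contra hcon
    push Not at hcon
    apply hC.ne j
    rw [hf j, eq_bot_iff]
    exact iSup_le fun b => absurd b.2 (hcon b.1)
  refine ⟨c, fun s hs e => hN.dec.ne c ?_⟩
  have h1 : N c ≤ W j := by
    rw [hf j]
    exact le_iSup (fun b : {b // side b = j} => N b) ⟨c, hc⟩
  have h2 : N c ≤ W (side b) := by
    have h3 : N b ≤ W (side b) := by
      rw [hf (side b)]
      exact le_iSup (fun c : {c // side c = side b} => N c) ⟨b, rfl⟩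
    have h4 : cj s (N b) ≤ cj s (W (side b)) := cj_mono s h3
    rw [mem_normalizer_iff_cj.1 (hC.inv (side b) (hN.dec.SL hs))] at h4
    rw [← e]
    exact h4
  rw [← le_bot_iff, ← hC.ind (side b)]
  exact le_inf h2 (h1.trans (le_iSup (fun j : {j // j ≠ side b} => W j) ⟨j, hj⟩))

/-- **`zc B ≤ O₂(C_G(X))`** -/
def ZcK : Prop :=
  ∀ (G : Type u) [Group G] [Finite G] (S : Sylow 2 G), RB S → ∀ (κ : Type u) [Finite κ] (N E D l : κ → Subgroup G)
    (q : κ → ℕ), NBs (S : Subgroup G) N E D l q → Src (S : Subgroup G) N l q →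
      (∀ c ∈ centralizer (zc (S : Subgroup G) : Set G), ∀ b, ∃ b', MulAut.conj c • l b = l b') →
        ∀ X : Subgroup G, X ≤ zc (S : Subgroup G) → X ≠ ⊥ →
          zc ((S : Subgroup G) ⊓ centralizer ((⨆ b, l b : Subgroup G) : Set G)) ≤ o2 (centralizer (X : Set G))

/-- **the socket `InstU`** from `ZcK` -/
theorem instU' (hK : ZcK.{u}) (B : Fr.{u}) : UMany.InstU B := by
  intro G _ _ S _ hW _ ι _ W hC hij _ κ _ N E D l q side hN hs hf ha hp _
  have ln : ∀ c ∈ centralizer (zc (S : Subgroup G) : Set G), ∀ b, ∃ b', MulAut.conj c • l b = l b' := fun c hc b => by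
    obtain ⟨b', -, h1⟩ := hp c hc b
    exact ⟨b', h1⟩
  have two := two_of hC hij hN hf
  refine tfm_of' hW.toRB hN hs ha ln two fun b => ?_
  obtain ⟨c, hc⟩ := two b
  exact hK G S hW.toRB κ N E D l q hN hs ln _ (UX_le b) (UX_ne hW.toRB hN hc)

end Cfsg.Agent.Omega.NOThreeL.RRed.UInst

end

section


/-!
# NO-3L, box R: `Ω₁Z(B) ≤ O₂(C_G(X))` for `1 ≠ X ≤ Z`, and the `T`-frame (helper258; text helper644, helper230 #24393)

`B = C_S(⨆ l)`, `O = O₂(C_G(Z))`.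
* `Z_le` : `Z ≤ ⨆ l`; `zcB_O` : `Ω₁Z(B) ≤ O` (`C_G(⨆ l)` has characteristic 2); `zcB_A` : `Ω₁Z(B) ≤ A` for `A ∈ 𝒜(O)`;
* `exists_A` : some `A ∈ 𝒜(O)` is in `O₂(C_G(X))` (MLK);
* **`zcK`** : `Ω₁Z(B) ≤ O₂(C_G(X))`;  **`tfm_of`** : `TFm S (Wd S) N l E`;  **`instU`** : the socket `UMany.InstU`.
-/

set_option autoImplicit false
set_option linter.unusedSectionVars false

namespace Cfsg.Agent.Omega.NOThreeL.RRed.UInst

open Subgroup Cfsg Cfsg.Agent.ZN Cfsg.Agent.ZN.ChoiceBase Cfsg.Agent.Omega.MinPar Cfsg.Agent.Omega.Frame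
open Cfsg.Agent.Omega.FrameNOFF Cfsg.Agent.Omega.Node.NO3L Cfsg.Agent.Omega.NOThreeL.Basic
open Cfsg.Agent.Omega.NOThreeL.RTree (RB)
open Cfsg.Agent.Omega.NOThreeL.RRed.WideTree Cfsg.Agent.Omega.NOThreeL.RRed.GlueSig
open Cfsg.Agent.Omega.NOThreeL.RWide Cfsg.Agent.Omega.NOThreeL.RRed.ULb
open Cfsg.Agent.Omega.ML.Final (MLK)
open Cfsg.Agent.ZN.ChoiceSit (Syl o2_le_syl)

open scoped Pointwise

universe u

variable {G : Type u} [Group G] [Finite G] {S : Sylow 2 G} {ι : Type u} [Finite ι] {N E D l : ι → Subgroup G}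
  {q : ι → ℕ}

/-- `Z ≤ ⨆ l` -/
theorem Z_le (hN : NBs (S : Subgroup G) N E D l q) : zc (S : Subgroup G) ≤ ⨆ b, l b := by
  obtain ⟨F, i1, i2, i3, x, y, h⟩ := hN.bls.exists_kd
  intro z hz
  have hzV : z ∈ Wd (S : Subgroup G) := zc_le_Wd _ hz
  refine h.memZ.2 ⟨hzV, fun b => ?_⟩
  obtain ⟨s, hs, h1⟩ := h.root b 1
  have h2 := (h1 z hzV).1.1
  have h3 : s * z * s⁻¹ = z := by
    rw [(ChoiceBase.mem_zc.1 hz).2.2 s hs, mul_inv_cancel_right]
  rw [h3, one_mul] at h2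
  exact left_eq_add.1 h2

variable (hB : RB S) (hN : NBs (S : Subgroup G) N E D l q)
  (ln : ∀ c ∈ centralizer (zc (S : Subgroup G) : Set G), ∀ b, ∃ b', MulAut.conj c • l b = l b')
include hB hN ln

/-- `Ω₁Z(B) ≤ O` -/
theorem zcB_O : zc ((S : Subgroup G) ⊓ centralizer ((⨆ b, l b : Subgroup G) : Set G)) ≤ o2 (CZ (S : Subgroup G)) := by
  have hZ := Z_le hN
  have hJ := cz ln
  have hJS : (⨆ b, l b : Subgroup G) ≤ (S : Subgroup G) :=
    (iSup_mono hN.bls.lN).trans ((sup_N hN).le.trans (WS hB))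
  have hJ2 : IsPGroup 2 (⨆ b, l b : Subgroup G) := S.isPGroup'.to_le hJS
  have hJ1 : (⨆ b, l b : Subgroup G) ≠ ⊥ := fun h0 => zc_ne hB (le_bot_iff.1 (hZ.trans h0.le))
  have hsyl : Syl ((S : Subgroup G) ⊓ centralizer ((⨆ b, l b : Subgroup G) : Set G))
      (centralizer ((⨆ b, l b : Subgroup G) : Set G)) :=
    syl_inf ((le_CZ S).trans (hJ.trans (ML.GMod.nc _)))
  intro n hn
  obtain ⟨h1, -, h2⟩ := ChoiceBase.mem_zc.1 hn
  have h3 : n ∈ o2 (centralizer ((⨆ b, l b : Subgroup G) : Set G)) := by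
    refine NOne.LemmaT.char2_centralizer hB.ctx.char2 hJ2 hJ1 ⟨h1.2, ?_⟩
    exact mem_centralizer_iff.2 fun x hx => h2 x (o2_le_syl hsyl hx)
  have h4 : o2 (centralizer ((⨆ b, l b : Subgroup G) : Set G)) ≤ o2 (CZ (S : Subgroup G)) := by
    refine MinSimple.VModule.le_o2 ((MinSimple.VModule.o2_le _).trans (centralizer_le hZ))
      (MinSimple.VModule.o2_isPGroup _) ?_
    exact (hJ.trans (ML.GMod.nc _)).trans (ML.GMod.normalizer_le_normalizer_o2 _)
  exact h4 h3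

/-- `Ω₁Z(B) ≤ A` for `A ∈ 𝒜(O)` -/
theorem zcB_A (hs : Src (S : Subgroup G) N l q) {A : Subgroup G} (hA : KL.TwoS.Mx (o2 (CZ (S : Subgroup G))) A) :
    zc ((S : Subgroup G) ⊓ centralizer ((⨆ b, l b : Subgroup G) : Set G)) ≤ A := by
  refine hA.le_of_comm (zcB_O hB hN ln) (fun z hz => (ChoiceBase.mem_zc.1 hz).2.1) fun z hz => ?_
  exact mem_centralizer_iff.2 fun a ha => (ChoiceBase.mem_zc.1 hz).2.2 a (AA_le_B hB hN hs hA ha)

omit hN ln in
/-- some `A ∈ 𝒜(O)` is in `O₂(C_G(X))` -/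
theorem exists_A (hM : MLK.{u, u}) {X : Subgroup G} (hX : X ≤ zc (S : Subgroup G)) (hX1 : X ≠ ⊥) :
    ∃ A, KL.TwoS.Mx (o2 (CZ (S : Subgroup G))) A ∧ A ≤ o2 (centralizer (X : Set G)) := by
  have hlong := isLong_of (S := S) hX hX1
  have hU := hlong.zl_le_o2 hB.ctx.char2 S
  obtain ⟨A, hA⟩ := KL.TwoS.Mx.exists_mx (o2 (CZ (S : Subgroup G)))
  have hkg : IsKGroup (centralizer (X : Set G)) :=
    ML.GNN.kgroup_of_isLoc hB.ctx hB.ctx.not_isPGroup hlong.loc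
  have hsq : ∀ x ∈ zl (S : Subgroup G) (centralizer (X : Set G)), x ^ 2 = 1 := fun x hx =>
    MinSimple.VModule.zc_sq _ _ (hlong.loc.zl_le S hB.ctx.char2 hx)
  refine ⟨_, hA.sup (hU.trans (o2_le hX hX1)) hsq
    (RZ.TwoC.Loc.gml hM hB.ctx hlong.loc hkg hA.le hA.sq), sup_le ?_ hU⟩
  exact (inf_le_inf_right _ hA.le).trans (RZ.TwoC.Loc.inf_cent_le hlong.loc.le (MinSimple.VModule.zc_le_zl _ _)
    (MinSimple.VModule.le_normalizer_zl _ _))

/-- **`Ω₁Z(B) ≤ O₂(C_G(X))`** -/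
theorem zcK (hM : MLK.{u, u}) (hs : Src (S : Subgroup G) N l q) {X : Subgroup G} (hX : X ≤ zc (S : Subgroup G))
    (hX1 : X ≠ ⊥) :
    zc ((S : Subgroup G) ⊓ centralizer ((⨆ b, l b : Subgroup G) : Set G)) ≤ o2 (centralizer (X : Set G)) := by
  obtain ⟨A, hA, h1⟩ := exists_A hB hM hX hX1
  exact (zcB_A hB hN ln hs hA).trans h1

/-- **the `T`-frame** -/
theorem tfm_of (hM : MLK.{u, u}) (hs : Src (S : Subgroup G) N l q) (hall : AllB (S : Subgroup G) N)
    (two : ∀ b, ∃ c, ∀ s ∈ (S : Subgroup G), MulAut.conj s • N b ≠ N c) : TFm S (Wd (S : Subgroup G)) N l E := by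
  refine tfm_of' hB hN hs hall ln two fun b => ?_
  obtain ⟨c, hc⟩ := two b
  exact zcK hB hN ln hM hs (UX_le b) (UX_ne hB hN hc)

omit hB hN ln in
/-- **the socket `UMany.InstU`** -/
theorem instU (hM : MLK.{u, u}) (B : Fr.{u}) : UMany.InstU B :=
  instU' (fun _ _ _ _ hB _ _ _ _ _ _ _ hN hs ln _ hX hX1 => zcK hB hN ln hM hs hX hX1) B

end Cfsg.Agent.Omega.NOThreeL.RRed.UInst

end

section


/-!
# NO-3L, box R, at least three natural blocks: everything from `parT` (helper258; heads helper848, helper823, helper971)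

* `ParX` : the theorem `parT` (#27137, #26838) as a proposition: only `Ctx G`, `TFm`, `ln`, `all`, `three`;
* `parU_of` : `ParX` ⟹ `UMany.ParU B`;  **`wLeftMany_of`** : `ParX` ⟹ `WLeftMany K B`;
* **`false_of_orbits`** : `ParX`, `RB S`, natural blocks in at least two `S`-orbits, at least three blocks, `𝒜(O)` moves every
  block, `C_G(Z)` permutes the lines ⟹ `False` (any number of classes).
-/

set_option autoImplicit false
set_option linter.unusedSectionVars false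

namespace Cfsg.Agent.Omega.NOThreeL.RRed.UPar

open Subgroup Cfsg Cfsg.Agent.ZN Cfsg.Agent.Omega.MinPar Cfsg.Agent.Omega.Frame
open Cfsg.Agent.Omega.NOThreeL.RTree (RB)
open Cfsg.Agent.Omega.NOThreeL.RRed.WideTree Cfsg.Agent.Omega.NOThreeL.RRed.GlueSig
open Cfsg.Agent.Omega.NOThreeL.RWide
open Cfsg.Agent.Omega.KL.StarM (NoInpM)
open Cfsg.Agent.Omega.ML.Final (MLK)
open Cfsg.Agent.Omega.NOThreeL.RRed.UMany (ParT ParU)

open scoped Pointwise

universe u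

/-- **the theorem `parT`** (#27137) -/
def ParX : Prop :=
  ∀ (G : Type u) [Group G] [Finite G], Ctx G → ∀ (S : Sylow 2 G) (V : Subgroup G) (ι : Type u) [Finite ι]
    (N l E : ι → Subgroup G), TFm S V N l E →
      (∀ c ∈ centralizer (zc (S : Subgroup G) : Set G), ∀ b, ∃ b', MulAut.conj c • l b = l b') →
        (∀ b, ∃ A, KL.TwoS.Mx (o2 (centralizer (zc (S : Subgroup G) : Set G))) A ∧
          ¬ A ≤ centralizer (N b : Set G)) → (∀ i j : ι, ∃ k, k ≠ i ∧ k ≠ j) → ParT (S : Subgroup G) N l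

theorem parU_of (h : ParX.{u}) (B : Fr.{u}) : ParU B := by
  intro G _ _ S _ hW _ _ _ _ _ _ _ κ _ N E D l q side _ _ _ ha hp three hT
  refine h G hW.toRB.ctx S _ κ N l E hT (fun c hc b => ?_) ha three
  obtain ⟨b', -, h1⟩ := hp c hc b
  exact ⟨b', h1⟩

/-- **`WLeftMany`** -/
theorem wLeftMany_of (hM : MLK.{u, u}) (hE : NoInpM.{u, u}) (h : ParX.{u}) (K : Cls.{u}) (B : Fr.{u}) :
    WLeftMany K B := UMany.wLeftMany_of hM hE K (UInst.instU hM B) (parU_of h B)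

/-- **at least two `S`-orbits, at least three blocks** -/
theorem false_of_orbits (hM : MLK.{u, u}) (hE : NoInpM.{u, u}) (h : ParX.{u}) {G : Type u} [Group G] [Finite G]
    {S : Sylow 2 G} {ι : Type u} [Finite ι] {N E D l : ι → Subgroup G} {q : ι → ℕ} (hB : RB S)
    (hN : NBs (S : Subgroup G) N E D l q) (hs : Src (S : Subgroup G) N l q) (hall : AllB (S : Subgroup G) N)
    (ln : ∀ c ∈ centralizer (zc (S : Subgroup G) : Set G), ∀ b, ∃ b', MulAut.conj c • l b = l b')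
    (two : ∀ b, ∃ c, ∀ s ∈ (S : Subgroup G), MulAut.conj s • N b ≠ N c) (three : ∀ i j : ι, ∃ k, k ≠ i ∧ k ≠ j) :
    False := by
  have hT := UInst.tfm_of hB hN ln hM hs hall two
  have hne : Nonempty ι := by
    by_contra hn
    rw [not_nonempty_iff] at hn
    have h1 : (⊥ : Subgroup G) = Wd (S : Subgroup G) := by rw [← ULb.sup_N hN, iSup_of_empty]
    exact UInst.zc_ne hB (le_bot_iff.1 ((zc_le_Wd _).trans h1.symm.le))
  exact UMany.false_of_tfm hM hE hB hT three (UInst.cz ln) (UInst.perm hN) (h G hB.ctx S _ ι N l E hT ln hall three)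

end Cfsg.Agent.Omega.NOThreeL.RRed.UPar

end
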