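import Cfsg.Agent.Mrg.Omega.NOThreeL.RRed.OneNonB
import Cfsg.Agent.Mrg.Omega.NOThreeL.RRed.UInstW


/-!
# NO-3L, box R, natural blocks with at least two `S`-orbits: `AllB` from `NLP` (bb #27569, #27798)

* `wd_le_wp` : `V* ≤ WP S`;  **`allB_nbs`** : `NBs`, `Src`, `SBad`, `NLP` give `AllB`;
* `NLY S l` (571, 24) and `nlp_of_nly` : `NLY ⟹ NLP`;
* `NLYL S l` : the form with local `L ≥ C_G(Z)`, `nlp_of_nlyl`.
-/

set_option autoImplicit false
set_option linter.unusedSectionVars false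

namespace Cfsg.Agent.Omega.NOThreeL.RRed.OneNon

open Subgroup Cfsg Cfsg.Agent.ZN Cfsg.Agent.Omega.MinPar Cfsg.Agent.Omega.Frame Cfsg.Agent.Omega.FrameNOFF
open Cfsg.Agent.Omega.Node.NO3L Cfsg.Agent.Omega.NOThreeL.Basic
open Cfsg.Agent.Omega.NOThreeL.Merge (MZ le_MZ S_le_MZ)
open Cfsg.Agent.Omega.NOThreeL.RTree (RB)
open Cfsg.Agent.Omega.NOThreeL.RRed.Blk
open Cfsg.Agent.Omega.NOThreeL.RRed.WideTree (NBs Src NatBlk)
open Cfsg.Agent.Omega.NO3b.EndX (RedP)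
open scoped Pointwise

universe u v w

/-- `O b = N b ∖ {1}` -/
abbrev Osh {G : Type u} [Group G] {κ : Type v} (N : κ → Subgroup G) (b : κ) : Set G := {x | x ∈ N b ∧ x ≠ 1}

/-- **`nl`, form (Y)** (571 #27487): no 2-group `≠ 1` is normalised by all `C_G(l c : c ≠ b)` -/
def NLY {G : Type u} [Group G] {κ : Type v} (l : κ → Subgroup G) : Prop :=
  ∀ U : Subgroup G, IsPGroup 2 U → (∀ b, centralizer ((⨆ c : {c : κ // c ≠ b}, l c : Subgroup G) : Set G) ≤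
    normalizer (U : Set G)) → U = ⊥

/-- **`nl`, form (N1)** (24 #27588) -/
def NLYL {G : Type u} [Group G] (S : Subgroup G) {κ : Type v} (l : κ → Subgroup G) : Prop :=
  ∀ L : Subgroup G, IsLoc S L → CZ S ≤ L →
    (∀ b, centralizer ((⨆ c : {c : κ // c ≠ b}, l c : Subgroup G) : Set G) ≤ L) → False

variable {G : Type u} [Group G] [Finite G] {S : Sylow 2 G} {κ : Type u} {N E D l : κ → Subgroup G} {q : κ → ℕ}

theorem wd_le_wp (h : NBs (S : Subgroup G) N E D l q) (hs : Src (S : Subgroup G) N l q) :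
    Wd (S : Subgroup G) ≤ WP (S : Subgroup G) := by
  rw [← h.dec.sup]
  exact sup_le (iSup_le fun b => UInst.N_le_WP hs b) bot_le

/-- **`AllB` for natural blocks** -/
theorem allB_nbs [Finite κ] (hM : ML.Final.MLK.{u, u}) (hR : RedP.{u, u}) (hE : ML.Ex.Two.Ext.{u, u}) (hB : RB S)
    (h : NBs (S : Subgroup G) N E D l q) (hs : Src (S : Subgroup G) N l q) (hb : SBad (S : Subgroup G) N (Osh N))
    (hn : NLP (S : Subgroup G) N (Osh N)) (two : ∀ a : κ, ∃ b, ∀ s ∈ (S : Subgroup G), MulAut.conj s • N a ≠ N b) :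
    WideTree.AllB (S : Subgroup G) N := by
  refine allB hM hR hE hB h.dec (FullSup.nbs_orbs h) (FullSup.nbs_hdif h) (fun g hg b => ?_) (wd_le_wp h hs) hb hn two
  obtain ⟨c, h1, -⟩ := h.permN g hg b
  exact ⟨c, h1⟩

/-- a vector of `Z` of full support in `J` lies in `⨆_{b ∈ J} l b` -/
theorem mem_lJ [Finite κ] (h : NBs (S : Subgroup G) N E D l q) {J : Set κ} {z : G} (hz : z ∈ ⨆ b : J, N b)
    (hzZ : z ∈ zc (S : Subgroup G)) : z ∈ ⨆ b : J, l b := by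
  have hl : ∀ b, l b ≤ N b := h.bls.lN
  have h1 : z ∈ ⨆ b, l b := UInst.Z_le h hzZ
  have h2 : z ∈ (⨆ b : J, l b) ⊔ (⨆ b : {b // b ∉ J}, l b) := by
    refine (iSup_le fun b => ?_ : (⨆ b, l b) ≤ _) h1
    by_cases hb : b ∈ J
    · exact (le_iSup (fun b : J => l b) ⟨b, hb⟩).trans le_sup_left
    · exact (le_iSup (fun b : {b // b ∉ J} => l b) ⟨b, hb⟩).trans le_sup_right
  have hA : (⨆ b : J, l b) ≤ Wd (S : Subgroup G) := iSup_le fun b => (hl b).trans (h.dec.NU b)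
  have hA' : (⨆ b : {b // b ∉ J}, l b) ≤ Wd (S : Subgroup G) := iSup_le fun b => (hl b).trans (h.dec.NU b)
  obtain ⟨x, hx, y, hy, rfl⟩ := mem_sup_of
    ((hA.trans h.dec.ab).trans ((centralizer_le hA').trans (centralizer_le_normalizer _))) h2
  have hx' : x ∈ ⨆ b : J, N b := (iSup_mono fun b : J => hl b : (⨆ b : J, l b) ≤ _) hx
  have hy' : y ∈ ⨆ b : {b // b ∉ J}, N b := (iSup_mono fun b : {b // b ∉ J} => hl b : (⨆ b : {b // b ∉ J}, l b) ≤ _) hy
  have hy1 : y ∈ (⨆ b : J, N b) ⊓ (⨆ b : {b // b ∉ J}, N b) := by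
    refine mem_inf.2 ⟨?_, hy'⟩
    have e : y = x⁻¹ * (x * y) := by group
    rw [e]
    exact mul_mem (inv_mem hx') hz
  rw [disj_J h.dec, mem_bot] at hy1
  rw [hy1, mul_one]
  exact hx

/-- **`NLY ⟹ NLP`** -/
theorem nlp_of_nly [Finite κ] (h : NBs (S : Subgroup G) N E D l q) (hy : NLY l) : NLP (S : Subgroup G) N (Osh N) := by
  intro J hJ hne hne' z₀ hz hzZ z₁ hw hwZ U hU h0 h1
  refine hy U hU fun b => ?_
  by_cases hb : b ∈ J
  · refine le_trans (centralizer_le (Set.singleton_subset_iff.2 ?_)) h1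
    have h2 := mem_lJ h (J := Jᶜ) hw.1 hwZ
    exact (iSup_le fun c : (Jᶜ : Set κ) => le_iSup (fun c : {c // c ≠ b} => l c) ⟨c.1, fun e => c.2 (e ▸ hb)⟩ :
      (⨆ b : (Jᶜ : Set κ), l b) ≤ _) h2
  · refine le_trans (centralizer_le (Set.singleton_subset_iff.2 ?_)) h0
    have h2 := mem_lJ h (J := J) hz.1 hzZ
    exact (iSup_le fun c : J => le_iSup (fun c : {c // c ≠ b} => l c) ⟨c.1, fun e => hb (e ▸ c.2)⟩ :
      (⨆ b : J, l b) ≤ _) h2

/-- **`NLYL ⟹ NLP`** -/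
theorem nlp_of_nlyl [Finite κ] (h : NBs (S : Subgroup G) N E D l q) (hy : NLYL (S : Subgroup G) l) :
    NLP (S : Subgroup G) N (Osh N) := by
  intro J hJ hne hne' z₀ hz hzZ z₁ hw hwZ U hU h0 h1
  by_contra hU1
  have hCz : ∀ z ∈ zc (S : Subgroup G), CZ (S : Subgroup G) ≤ centralizer ({z} : Set G) := fun z hz =>
    centralizer_le (Set.singleton_subset_iff.2 hz)
  have hC : CZ (S : Subgroup G) ≤ normalizer (U : Set G) := (hCz z₀ hzZ).trans h0
  refine hy (normalizer (U : Set G)) (isLoc_of_le_normalizer S ((le_CZ S).trans hC) hU hU1 le_rfl) hC fun b => ?_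
  by_cases hb : b ∈ J
  · refine le_trans (centralizer_le (Set.singleton_subset_iff.2 ?_)) h1
    have h2 := mem_lJ h (J := Jᶜ) hw.1 hwZ
    exact (iSup_le fun c : (Jᶜ : Set κ) => le_iSup (fun c : {c // c ≠ b} => l c) ⟨c.1, fun e => c.2 (e ▸ hb)⟩ :
      (⨆ b : (Jᶜ : Set κ), l b) ≤ _) h2
  · refine le_trans (centralizer_le (Set.singleton_subset_iff.2 ?_)) h0
    have h2 := mem_lJ h (J := J) hz.1 hzZ
    exact (iSup_le fun c : J => le_iSup (fun c : {c // c ≠ b} => l c) ⟨c.1, fun e => hb (e ▸ c.2)⟩ :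
      (⨆ b : J, l b) ≤ _) h2

end Cfsg.Agent.Omega.NOThreeL.RRed.OneNon
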