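import Cfsg.Agent.Mrg.Omega.NOThreeL.RRed.Glue
import Cfsg.Agent.Mrg.Omega.TC.ThmI
import Cfsg.Agent.Mrg.Omega.TC.R.Base
import Cfsg.Agent.Mrg.Omega.TC.RSix.Six


/-!
# NO-3L, box R: `TCR K` (the frame of CARD #18791 in box R) is empty

* `Two.kgroup`, `Two.hU` : the two inputs of THEOREM KL over `TC.Fr` from `RB S` and `Two S V P v`;
* `tcr_of` : `TCR K` from MLK and THEOREM KL (`NoInp`): `EndR.not_le` ([A], [B]), `EndR.thmG`, `RSix.six'` (THEOREM R).
-/

set_option autoImplicit false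
set_option linter.unusedSectionVars false

namespace Cfsg.Agent.Omega.NOThreeL.RRed

open Subgroup Cfsg Cfsg.Agent.ZN Cfsg.Agent.Omega.MinPar Cfsg.Agent.Omega.Frame Cfsg.Agent.Omega.FrameNOFF
open Cfsg.Agent.Omega.Node.NO3L Cfsg.Agent.Omega.NOThreeL.Basic Cfsg.Agent.Omega.NOThreeL.RTree
open Cfsg.Agent.Omega.OM.KTwo (CC QQ WU NU EU)

universe u

namespace Two

variable {G : Type u} [Group G] [Finite G] {S : Sylow 2 G} {V P : Fin 2 → Subgroup G} {v : Fin 2 → G}
  (T : Two (S : Subgroup G) V P v)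

include T

/-- `C_G(v i)` is a `K`-group. -/
theorem kgroup (B : RB S) (i : Fin 2) : IsKGroup (CC v i) := by
  have := B.ctx.simple
  exact B.ctx.kproper _ ((T.isLong i).loc.ne_top S B.ctx.not_isPGroup)

/-- every `R ∈ P(S)`, `R ≤ C_G(v i)`, which moves `v (i+1)` normalises `V i`. -/
theorem hU : KL.EndR.HU (S : Subgroup G) V v := by
  intro i R hR hRi hRj
  have hIP : IsPar (S : Subgroup G) R := by
    refine ⟨hR, ?_⟩
    exact ((T.isLong i).loc.of_le S hR.le hRi).o2_ne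
  refine T.nrm R ⟨hIP, fun h => hRj ?_⟩ i
  exact (NoFF.LinesPlug.le_CC S hIP h).trans (T.CZ_le (i + 1))

end Two

/-- **`TCR K`** -/
theorem tcr_of {K : Cls.{u}} (hML : ML.Final.MLK.{u, u}) (hKL : KL.Quo.NoInp.{u, u}) : TCR K := by
  intro G _ _ _ S B V P v T D
  exfalso
  have hK := T.kgroup B
  have hU := T.hU
  exact TC.RSix.six' D hML hK (KL.EndR.not_le D hML hKL hK hU)
    (TC.R.oneB_of_thmG D (KL.EndR.thmG D hML hKL hK hU) hML hK)

end Cfsg.Agent.Omega.NOThreeL.RRed
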