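import Cfsg.Agent.Mrg.Omega.Transv.Basic

section


/-!
# The block theorem for transvections over `𝔽₂` (#18552 (c), helper930): combinatorial part

`V` an `𝔽₂`-space, `R` a set of pairs `p = (c, f)`, `f c = 0` (think of the transvections `x ↦ x + f x • c` of a
group), `B p q = p.2 q.1`.

* `Sys0 R` : `R` is closed under conjugation and a commuting family of independent members of `R` has independent
  axes (no over-offenders); `Sys0.sym` : `B p q = B q p`;
* `Sys R` : moreover members with the same centre are equal, no member commutes with all others, and a functional which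
  vanishes on the centres and on `C_V(F)` for a commuting family `F` is zero;
* `Star R K` : a maximal set of pairwise non-commuting members of `R` which does not contain the sum of two of its
  members; `cl K = K ∪ {k + k'}`; `Star.closed` : `cl K` is a connected component; `Star.even` : `|K|` is even.
-/

set_option autoImplicit false

namespace Cfsg.Agent.Omega.NOThreeL.RRed.TvBlk

open Cfsg.Agent.Omega.Transv

variable {V : Type*} [AddCommGroup V] [Module (ZMod 2) V]

/-- pairs (centre, axis) -/
abbrev W (V : Type*) [AddCommGroup V] [Module (ZMod 2) V] : Type _ := V × Du V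

/-- the pairing -/
def B (p q : W V) : ZMod 2 := p.2 q.1

theorem B_add_left (p p' q : W V) : B (p + p') q = B p q + B p' q := rfl

theorem B_add_right (p q q' : W V) : B p (q + q') = B p q + B p q' := by
  simp [B]

theorem W_add_self (p : W V) : p + p = 0 := add_self p

theorem W_add_cancel {p q r : W V} (h : p + q = r) : p = r + q := by
  rw [← h, add_assoc, add_self, add_zero]

/-- The combinatorial hypotheses, first part. -/
structure Sys0 (R : Set (W V)) : Prop where
  ne1 : ∀ p ∈ R, p.1 ≠ 0
  ne2 : ∀ p ∈ R, p.2 ≠ 0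
  self : ∀ p ∈ R, B p p = 0
  conj : ∀ p ∈ R, ∀ q ∈ R, (q.1 + B p q • p.1, q.2 + B q p • p.2) ∈ R
  ex : ∀ (n : ℕ) (p : Fin n → W V), (∀ i, p i ∈ R) → (∀ i j, B (p i) (p j) = 0) →
    (∀ a : Fin n → ZMod 2, (∀ x, ∑ i, a i • (p i).2 x • (p i).1 = 0) → a = 0) →
    ∀ a : Fin n → ZMod 2, ∑ i, a i • (p i).2 = 0 → a = 0

/-- The combinatorial hypotheses. -/
structure Sys (R : Set (W V)) : Prop extends Sys0 R where
  uf : ∀ p ∈ R, ∀ q ∈ R, p.1 = q.1 → p = q
  nd : ∀ p ∈ R, ∃ q ∈ R, B p q ≠ 0
  gen : ∀ (n : ℕ) (p : Fin n → W V), (∀ i, p i ∈ R) → (∀ i j, B (p i) (p j) = 0) →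
    ∀ h : Du V, (∀ q ∈ R, h q.1 = 0) → (∀ v, (∀ i, (p i).2 v = 0) → h v = 0) → h = 0

namespace Sys0

variable {R : Set (W V)} (h : Sys0 R)
include h

/-- two members with the same axis are equal -/
theorem axis {p q : W V} (hp : p ∈ R) (hq : q ∈ R) (he : p.2 = q.2) : p = q := by
  by_contra hne
  have hc : p.1 ≠ q.1 := fun hc => hne (Prod.ext hc he)
  have hpq : B p q = 0 := by
    show p.2 q.1 = 0
    rw [he]; exact h.self q hq
  have hqp : B q p = 0 := by
    show q.2 p.1 = 0
    rw [← he]; exact h.self p hp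
  obtain ⟨x, hx⟩ := exists_one (h.ne2 p hp)
  have hx' : q.2 x = 1 := by rw [← he]; exact hx
  have key := h.ex 2 ![p, q] (by intro i; fin_cases i <;> simp [hp, hq])
    (by intro i j; fin_cases i <;> fin_cases j <;> simp [hpq, hqp, h.self p hp, h.self q hq]) (by
      intro a ha
      have h1 := ha x
      rw [Fin.sum_univ_two] at h1
      simp only [Matrix.cons_val_zero, Matrix.cons_val_one, hx, hx', one_smul] at h1
      rcases zmod_cases (a 0) with h0 | h0 <;> rcases zmod_cases (a 1) with h2 | h2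
      · ext i; fin_cases i <;> simp [h0, h2]
      · rw [h0, h2, zero_smul, one_smul, zero_add] at h1; exact absurd h1 (h.ne1 q hq)
      · rw [h0, h2, zero_smul, one_smul, add_zero] at h1; exact absurd h1 (h.ne1 p hp)
      · rw [h0, h2, one_smul, one_smul] at h1; exact absurd (eq_of_add h1) hc)
    (fun _ => 1) (by
      rw [Fin.sum_univ_two]
      simp only [Matrix.cons_val_zero, Matrix.cons_val_one, one_smul, he]
      exact add_self _)
  have := congrFun key 0
  exact one_ne this

theorem sym_aux {p q : W V} (hp : p ∈ R) (hq : q ∈ R) (h1 : B p q = 1) : B q p = 1 := by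
  by_contra hne
  have h0 : B q p = 0 := eq_zero_of_ne hne
  have h2 := h.conj p hp q hq
  rw [h1, h0, one_smul, zero_smul, add_zero] at h2
  have h3 := h.axis hq h2 rfl
  have h4 : q.1 = q.1 + p.1 := congrArg Prod.fst h3
  exact h.ne1 p hp (by simpa using h4)

/-- the pairing is symmetric -/
theorem sym {p q : W V} (hp : p ∈ R) (hq : q ∈ R) : B p q = B q p := by
  rcases zmod_cases (B p q) with h0 | h1
  · rcases zmod_cases (B q p) with h2 | h2
    · rw [h0, h2]
    · have := h.sym_aux hq hp h2
      rw [h0] at this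
      exact absurd this.symm one_ne
  · rw [h1, h.sym_aux hp hq h1]

theorem add_mem {p q : W V} (hp : p ∈ R) (hq : q ∈ R) (h1 : B p q ≠ 0) : p + q ∈ R := by
  have h1' : B p q = 1 := eq_one_of_ne h1
  have h2 : B q p = 1 := h.sym_aux hp hq h1'
  have h3 := h.conj q hq p hp
  rw [h1', h2, one_smul, one_smul] at h3
  exact h3

theorem ne_zero {p : W V} (hp : p ∈ R) : p ≠ 0 := fun h0 => h.ne1 p hp (by rw [h0]; rfl)

theorem ne_of_B {p q : W V} (hp : p ∈ R) (h1 : B p q ≠ 0) : p ≠ q := by
  rintro rfl
  exact h1 (h.self p hp)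

end Sys0

namespace Sys

variable {R : Set (W V)} (h : Sys R)
include h

/-- three different pairwise commuting members do not all fail to commute with `b` -/
theorem no_triple {b p q r : W V} (hb : b ∈ R) (hp : p ∈ R) (hq : q ∈ R) (hr : r ∈ R) (bp : B b p = 1)
    (bq : B b q = 1) (br : B b r = 1) (pq : B p q = 0) (pr : B p r = 0) (qr : B q r = 0) (npq : p ≠ q) (npr : p ≠ r)
    (nqr : q ≠ r) : False := by
  have pb : B p b = 1 := h.sym_aux hb hp bp
  have qb : B q b = 1 := h.sym_aux hb hq bq
  have rb : B r b = 1 := h.sym_aux hb hr br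
  have qp : B q p = 0 := by rw [← h.sym hp hq]; exact pq
  have rp : B r p = 0 := by rw [← h.sym hp hr]; exact pr
  have rq : B r q = 0 := by rw [← h.sym hq hr]; exact qr
  have bb := h.self b hb
  have pp := h.self p hp
  have qq := h.self q hq
  have rr := h.self r hr
  have s1 : b + p ∈ R := h.add_mem hb hp (by rw [bp]; exact one_ne)
  have s2 : b + p + q ∈ R := h.add_mem s1 hq (by rw [B_add_left, bq, pq, add_zero]; exact one_ne)
  have s3 : b + p + q + r ∈ R :=
    h.add_mem s2 hr (by rw [B_add_left, B_add_left, br, pr, qr, add_zero, add_zero]; exact one_ne)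
  have s4 : b + (b + p + q + r) ∈ R := h.add_mem hb s3 (by
    rw [B_add_right, B_add_right, B_add_right, bb, bp, bq, br]; decide)
  have e4 : b + (b + p + q + r) = p + q + r := by
    have : b + (b + p + q + r) = (b + b) + (p + q + r) := by abel
    rw [this, W_add_self, zero_add]
  rw [e4] at s4
  set s := p + q + r with hs
  -- a vector with prescribed values of three functionals
  have dual : ∀ p q r : W V, p ∈ R → q ∈ R → r ∈ R → B p b = 1 → B q b = 1 → B r b = 1 → p ≠ q → p ≠ r →
      ∃ x, p.2 x = 1 ∧ q.2 x = 0 ∧ r.2 x = 0 := by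
    intro p q r hp hq hr pb qb rb npq npr
    by_contra hc
    push Not at hc
    have h1 : ⨅ i, LinearMap.ker ((![q.2, r.2] : Fin 2 → Du V) i) ≤ LinearMap.ker p.2 := by
      intro x hx
      rw [Submodule.mem_iInf] at hx
      have hx0 : q.2 x = 0 := hx 0
      have hx1 : r.2 x = 0 := hx 1
      rw [LinearMap.mem_ker]
      by_contra hne
      exact hc x (eq_one_of_ne hne) hx0 hx1
    have h2 := mem_span_of_iInf_ker_le_ker h1
    rw [Submodule.mem_span_range_iff_exists_fun] at h2
    obtain ⟨c, hc2⟩ := h2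
    rw [Fin.sum_univ_two] at hc2
    simp only [Matrix.cons_val_zero, Matrix.cons_val_one] at hc2
    have h3 : c 0 + c 1 = 1 := by
      have := congrArg (fun f : Du V => f b.1) hc2
      simp only [LinearMap.add_apply, LinearMap.smul_apply, smul_eq_mul] at this
      have e1 : q.2 b.1 = 1 := qb
      have e2 : r.2 b.1 = 1 := rb
      have e3 : p.2 b.1 = 1 := pb
      rw [e1, e2, e3, mul_one, mul_one] at this
      exact this
    rcases zmod_cases (c 0) with h0 | h0
    · rw [h0, zero_add] at h3
      rw [h0, h3, zero_smul, one_smul, zero_add] at hc2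
      exact npr (h.axis hr hp hc2).symm
    · have h4 : c 1 = 0 := by
        rw [h0] at h3
        simpa using h3
      rw [h0, h4, zero_smul, one_smul, add_zero] at hc2
      exact npq (h.axis hq hp hc2).symm
  obtain ⟨x1, x1p, x1q, x1r⟩ := dual p q r hp hq hr pb qb rb npq npr
  obtain ⟨x2, x2q, x2p, x2r⟩ := dual q p r hq hp hr qb pb rb npq.symm nqr
  obtain ⟨x3, x3r, x3p, x3q⟩ := dual r p q hr hp hq rb pb qb npr.symm nqr.symm
  have hs2 : ∀ x, s.2 x = p.2 x + q.2 x + r.2 x := fun x => rfl
  have hs1 : s.1 = p.1 + q.1 + r.1 := rfl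
  have key := h.ex 4 ![p, q, r, s] (by intro i; fin_cases i <;> simp [hp, hq, hr, s4])
    (by
      intro i j
      fin_cases i <;> fin_cases j <;>
        simp [hs, B_add_left, B_add_right, pq, pr, qr, qp, rp, rq, pp, qq, rr]) (by
      intro a ha
      have e1 := ha x1
      have e2 := ha x2
      have e3 := ha x3
      simp only [Fin.sum_univ_four, Matrix.cons_val_zero, Matrix.cons_val_one, Matrix.cons_val, hs2, x1p, x1q, x1r,
        x2p, x2q, x2r, x3p, x3q, x3r, add_zero, zero_add, one_smul, zero_smul, smul_zero] at e1 e2 e3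
      have hs0 : s.1 ≠ 0 := h.ne1 s s4
      have a3 : a 3 = 0 := by
        by_contra hne
        have h3 := eq_one_of_ne hne
        rw [h3, one_smul] at e1
        have c0 : a 0 = 1 := by
          refine eq_one_of_ne fun h0 => hs0 ?_
          rw [h0, zero_smul, zero_add] at e1
          exact e1
        rw [c0, one_smul] at e1
        have e4 : p = s := h.uf p hp s s4 (eq_of_add e1)
        have e5 : q + r = 0 := by
          have : p = p + (q + r) := by rw [← add_assoc]; exact e4
          simpa using this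
        exact nqr (eq_of_add e5)
      rw [a3, zero_smul, add_zero] at e1 e2 e3
      have c0 : a 0 = 0 := by
        by_contra hne
        rw [eq_one_of_ne hne, one_smul] at e1
        exact h.ne1 p hp e1
      have c1 : a 1 = 0 := by
        by_contra hne
        rw [eq_one_of_ne hne, one_smul] at e2
        exact h.ne1 q hq e2
      have c2 : a 2 = 0 := by
        by_contra hne
        rw [eq_one_of_ne hne, one_smul] at e3
        exact h.ne1 r hr e3
      ext i
      fin_cases i <;> simp [c0, c1, c2, a3])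
    (fun _ => 1) (by
      rw [Fin.sum_univ_four]
      simp only [Matrix.cons_val_zero, Matrix.cons_val_one, Matrix.cons_val, one_smul]
      exact add_self _)
  have := congrFun key 0
  exact one_ne this

end Sys

/-- pairwise non-commuting members, no sum of two of them -/
structure Pre (R K : Set (W V)) : Prop where
  sub : K ⊆ R
  one : ∀ k ∈ K, ∀ k' ∈ K, k ≠ k' → B k k' = 1
  sum : ∀ k ∈ K, ∀ k' ∈ K, k ≠ k' → k + k' ∉ K

/-- a maximal such set -/
structure Star (R K : Set (W V)) : Prop extends Pre R K where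
  ne : K.Nonempty
  max : ∀ L, Pre R L → K ⊆ L → L ⊆ K

/-- the transpositions on the letters `none`, `some k` (`k ∈ K`) -/
def cl (K : Set (W V)) : Set (W V) := {x | x ∈ K ∨ ∃ k ∈ K, ∃ k' ∈ K, k ≠ k' ∧ x = k + k'}

theorem exists_star [Finite V] {R : Set (W V)} {p : W V} (hp : p ∈ R) : ∃ K, Star R K ∧ p ∈ K := by
  have : Finite (Du V) := Finite.of_injective (fun f : Du V => (f : V → ZMod 2)) DFunLike.coe_injective
  have hpre : Pre R ({p} : Set (W V)) := by
    refine ⟨by simpa using hp, ?_, ?_⟩
    · intro k hk k' hk' hne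
      exact absurd (hk.trans hk'.symm) hne
    · intro k hk k' hk' hne
      exact absurd (hk.trans hk'.symm) hne
  obtain ⟨K, hK, hmax⟩ := Set.exists_max_image {L : Set (W V) | Pre R L ∧ p ∈ L} Set.ncard (Set.toFinite _)
    ⟨{p}, hpre, rfl⟩
  refine ⟨K, ⟨hK.1, ⟨p, hK.2⟩, fun L hL hKL => ?_⟩, hK.2⟩
  have h1 := hmax L ⟨hL, hKL hK.2⟩
  exact (Set.eq_of_subset_of_ncard_le hKL h1 (Set.toFinite _)).symm.le

namespace Star

variable {R K : Set (W V)} (h : Sys R) (hK : Star R K)
include h hK

theorem cl_sub : cl K ⊆ R := by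
  rintro x (hx | ⟨k, hk, k', hk', hne, rfl⟩)
  · exact hK.sub hx
  · exact h.add_mem (hK.sub hk) (hK.sub hk') (by rw [hK.one k hk k' hk' hne]; exact one_ne)

/-- a member which commutes with no member of `K` -/
theorem all {q : W V} (hq : q ∈ R) (h1 : ∀ k ∈ K, B k q = 1) : q ∈ cl K := by
  by_contra hcl
  have hqK : q ∉ K := fun hc => hcl (Or.inl hc)
  have h2 : ∀ k ∈ K, B q k = 1 := fun k hk => by rw [h.sym hq (hK.sub hk)]; exact h1 k hk
  have key : Pre R (insert q K) := by
    refine ⟨Set.insert_subset hq hK.sub, ?_, ?_⟩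
    · rintro k (rfl | hk) k' (rfl | hk') hne
      · exact absurd rfl hne
      · exact h2 k' hk'
      · exact h1 k hk
      · exact hK.one k hk k' hk' hne
    · rintro k (rfl | hk) k' (rfl | hk') hne
      · exact absurd rfl hne
      · rintro (hc | hc)
        · have : k' = 0 := by simpa using hc
          exact h.ne_zero (hK.sub hk') this
        · apply hcl
          refine Or.inr ⟨k + k', hc, k', hk', ?_, ?_⟩
          · intro he
            have : k = 0 := by simpa using he
            exact h.ne_zero hq this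
          · rw [add_assoc, W_add_self, add_zero]
      · rintro (hc | hc)
        · have : k = 0 := by simpa using hc
          exact h.ne_zero (hK.sub hk) this
        · apply hcl
          refine Or.inr ⟨k + k', hc, k, hk, ?_, ?_⟩
          · intro he
            have : k' = 0 := by simpa using he
            exact h.ne_zero hq this
          · rw [add_comm k k', add_assoc, W_add_self, add_zero]
      · rintro (hc | hc)
        · exact hcl (Or.inr ⟨k, hk, k', hk', hne, hc.symm⟩)
        · exact hK.sum k hk k' hk' hne hc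
  exact hqK (hK.max _ key (Set.subset_insert _ _) (Set.mem_insert _ _))

/-- `cl K` is closed under 'does not commute' -/
theorem closed {x q : W V} (hx : x ∈ cl K) (hq : q ∈ R) (hxq : B x q ≠ 0) : q ∈ cl K := by
  obtain ⟨k0, hk0, h0⟩ : ∃ k ∈ K, B k q = 1 := by
    rcases hx with hx | ⟨k, hk, k', hk', -, rfl⟩
    · exact ⟨x, hx, eq_one_of_ne hxq⟩
    · rw [B_add_left] at hxq
      rcases zmod_cases (B k q) with h1 | h1
      · rw [h1, zero_add] at hxq
        exact ⟨k', hk', eq_one_of_ne hxq⟩
      · exact ⟨k, hk, h1⟩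
  by_cases hall : ∀ k ∈ K, B k q = 1
  · exact hK.all h hq hall
  push Not at hall
  obtain ⟨k1, hk1, h1⟩ := hall
  have h1 : B k1 q = 0 := eq_zero_of_ne h1
  by_cases hqK : q ∈ K
  · exact Or.inl hqK
  have n01 : k0 ≠ k1 := by
    rintro rfl
    rw [h0] at h1
    exact one_ne h1
  have b01 : B k0 k1 = 1 := hK.one k0 hk0 k1 hk1 n01
  have b10 : B k1 k0 = 1 := hK.one k1 hk1 k0 hk0 n01.symm
  by_cases h2 : ∃ k2 ∈ K, k2 ≠ k0 ∧ B k2 q = 1
  · obtain ⟨k2, hk2, n20, h2⟩ := h2
    have n21 : k2 ≠ k1 := by
      rintro rfl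
      rw [h2] at h1
      exact one_ne h1
    by_cases he : q = k2 + k0
    · exact Or.inr ⟨k2, hk2, k0, hk0, n20, he⟩
    exfalso
    have b02 : B k0 k2 = 1 := hK.one k0 hk0 k2 hk2 n20.symm
    have b12 : B k1 k2 = 1 := hK.one k1 hk1 k2 hk2 n21.symm
    have b20 : B k2 k0 = 1 := hK.one k2 hk2 k0 hk0 n20
    have hs : k2 + k0 ∈ R := h.add_mem (hK.sub hk2) (hK.sub hk0) (by rw [b20]; exact one_ne)
    refine h.no_triple (b := k0) (p := q) (q := k1) (r := k2 + k0) (hK.sub hk0) hq (hK.sub hk1) hs h0 b01 ?_ ?_ ?_ ?_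
      ?_ he ?_
    · rw [B_add_right, b02, h.self k0 (hK.sub hk0), add_zero]
    · rw [h.sym hq (hK.sub hk1)]; exact h1
    · rw [B_add_right, h.sym hq (hK.sub hk2), h.sym hq (hK.sub hk0), h2, h0]; decide
    · rw [B_add_right, b12, b10]; decide
    · rintro rfl; exact hqK hk1
    · intro hc
      exact hK.sum k2 hk2 k0 hk0 n20 (hc ▸ hk1)
  · exfalso
    push Not at h2
    have h2' : ∀ k ∈ K, k ≠ k0 → B k q = 0 := fun k hk hne => eq_zero_of_ne (h2 k hk hne)
    have hb : B q k0 = 1 := by rw [h.sym hq (hK.sub hk0)]; exact h0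
    have hs : q + k0 ∈ R := h.add_mem hq (hK.sub hk0) (by rw [hb]; exact one_ne)
    have hone : ∀ k ∈ K, B k (q + k0) = 1 := by
      intro k hk
      rw [B_add_right]
      by_cases hkk : k = k0
      · rw [hkk, h0, h.self k0 (hK.sub hk0), add_zero]
      · rw [h2' k hk hkk, hK.one k hk k0 hk0 hkk, zero_add]
    rcases hK.all h hs hone with hc | ⟨k, hk, k', hk', hne, he⟩
    · have h3 := hone _ hc
      rw [h.self _ hs] at h3
      exact one_ne h3.symm
    · have h3 : k0 = k ∨ k0 = k' := by
        by_contra hc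
        push Not at hc
        have h4 := hone k0 hk0
        rw [he, B_add_right, hK.one k0 hk0 k hk hc.1, hK.one k0 hk0 k' hk' hc.2] at h4
        exact one_ne (by rw [← h4]; decide)
      have h5 : q = k + k' + k0 := W_add_cancel he
      rcases h3 with rfl | rfl
      · apply hqK
        rw [h5, add_comm k0 k', add_assoc, W_add_self, add_zero]
        exact hk'
      · apply hqK
        rw [h5, add_assoc, W_add_self, add_zero]
        exact hk

/-- `cl K` is connected -/
theorem sub_of_closed {D : Set (W V)} (hD : ∀ x ∈ D, ∀ q ∈ R, B x q ≠ 0 → q ∈ D) {x : W V} (hx : x ∈ cl K)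
    (hxD : x ∈ D) : cl K ⊆ D := by
  obtain ⟨k, hk, hkD⟩ : ∃ k ∈ K, k ∈ D := by
    rcases hx with hx | ⟨k, hk, k', hk', hne, rfl⟩
    · exact ⟨x, hx, hxD⟩
    · refine ⟨k, hk, hD _ hxD k (hK.sub hk) ?_⟩
      rw [B_add_left, h.self k (hK.sub hk), zero_add, hK.one k' hk' k hk hne.symm]
      exact one_ne
  have h1 : ∀ k' ∈ K, k' ∈ D := by
    intro k' hk'
    by_cases he : k = k'
    · rw [← he]; exact hkD
    · exact hD k hkD k' (hK.sub hk') (by rw [hK.one k hk k' hk' he]; exact one_ne)
  rintro y (hy | ⟨k', hk', k'', hk'', hne, rfl⟩)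
  · exact h1 y hy
  · refine hD k' (h1 k' hk') _ (h.add_mem (hK.sub hk') (hK.sub hk'')
      (by rw [hK.one k' hk' k'' hk'' hne]; exact one_ne)) ?_
    rw [B_add_right, h.self k' (hK.sub hk'), zero_add, hK.one k' hk' k'' hk'' hne]
    exact one_ne

theorem cl_eq {L : Set (W V)} (hL : Star R L) {x : W V} (hx : x ∈ cl K) (hx' : x ∈ cl L) : cl K = cl L :=
  Set.Subset.antisymm (hK.sub_of_closed h (fun _ hy _ hq hb => hL.closed h hy hq hb) hx hx')
    (hL.sub_of_closed h (fun _ hy _ hq hb => hK.closed h hy hq hb) hx' hx)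

theorem eq_zero_of_not_mem {x q : W V} (hx : x ∈ cl K) (hq : q ∈ R) (hn : q ∉ cl K) : B x q = 0 := by
  by_contra hne
  exact hn (hK.closed h hx hq hne)

/-- `|K| ≥ 2` -/
theorem exists_ne (k : W V) (hk : k ∈ K) : ∃ k' ∈ K, k' ≠ k := by
  by_contra hc
  push Not at hc
  obtain ⟨q, hq, hb⟩ := h.nd k (hK.sub hk)
  have hall : ∀ k' ∈ K, B k' q = 1 := fun k' hk' => by rw [hc k' hk']; exact eq_one_of_ne hb
  have hqk : q ≠ k := by
    rintro rfl
    exact hb (h.self _ hq)
  rcases hK.all h hq hall with h1 | ⟨k1, hk1, k2, hk2, hne, -⟩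
  · exact hqk (hc q h1)
  · exact hne ((hc k1 hk1).trans (hc k2 hk2).symm)

end Star

end Cfsg.Agent.Omega.NOThreeL.RRed.TvBlk

end

section


/-!
# The block theorem for transvections over `𝔽₂` (#18552 (c)): the number of letters is odd

`Star.even` : a maximal star `K` has an even number of members, so `cl K` is the set of transpositions on an odd number
of letters `Option K`.
-/

set_option autoImplicit false

namespace Cfsg.Agent.Omega.NOThreeL.RRed.TvBlk

open Cfsg.Agent.Omega.Transv

variable {V : Type*} [AddCommGroup V] [Module (ZMod 2) V]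

theorem finite_W (V : Type*) [AddCommGroup V] [Module (ZMod 2) V] [Finite V] : Finite (W V) := by
  have : Finite (Du V) := Finite.of_injective (fun f : Du V => (f : V → ZMod 2)) DFunLike.coe_injective
  infer_instance

theorem B_sum_left {ι : Type*} (s : Finset ι) (g : ι → W V) (q : W V) :
    B (∑ i ∈ s, g i) q = ∑ i ∈ s, B (g i) q := by
  classical
  induction s using Finset.induction_on with
  | empty => simp [B]
  | insert i s hi ih => rw [Finset.sum_insert hi, Finset.sum_insert hi, B_add_left, ih]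

theorem snd_sum {ι : Type*} (s : Finset ι) (g : ι → W V) : (∑ i ∈ s, g i).2 = ∑ i ∈ s, (g i).2 := by
  classical
  induction s using Finset.induction_on with
  | empty => simp
  | insert i s hi ih => rw [Finset.sum_insert hi, Finset.sum_insert hi, Prod.snd_add, ih]

theorem fst_sum {ι : Type*} (s : Finset ι) (g : ι → W V) : (∑ i ∈ s, g i).1 = ∑ i ∈ s, (g i).1 := by
  classical
  induction s using Finset.induction_on with
  | empty => simp
  | insert i s hi ih => rw [Finset.sum_insert hi, Finset.sum_insert hi, Prod.fst_add, ih]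

namespace Star

variable {R K : Set (W V)} (h : Sys R) (hK : Star R K)
include h hK

/-- if `|K|` is odd the sum of the axes of `K` vanishes on all centres -/
theorem sum_B [Finite V] (Kf : Finset (W V)) (hKf : ∀ k, k ∈ Kf ↔ k ∈ K) (hodd : (Kf.card : ZMod 2) = 1) {q : W V}
    (hq : q ∈ R) : ∑ k ∈ Kf, B k q = 0 := by
  classical
  have h1 : ∀ q ∈ K, ∑ k ∈ Kf, B k q = 0 := by
    intro q hq
    have : ∀ k ∈ Kf, B k q = 1 + if k = q then 1 else 0 := by
      intro k hk
      by_cases he : k = q
      · rw [if_pos he, he, h.self q (hK.sub hq)]; decide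
      · rw [if_neg he, hK.one k ((hKf k).1 hk) q hq he, add_zero]
    rw [Finset.sum_congr rfl this, Finset.sum_add_distrib, Finset.sum_const, Finset.sum_ite_eq',
      if_pos ((hKf q).2 hq), nsmul_eq_mul, hodd]
    decide
  by_cases hc : q ∈ cl K
  · rcases hc with hc | ⟨k, hk, k', hk', -, rfl⟩
    · exact h1 q hc
    · have : ∀ x ∈ Kf, B x (k + k') = B x k + B x k' := fun x _ => B_add_right x k k'
      rw [Finset.sum_congr rfl this, Finset.sum_add_distrib, h1 k hk, h1 k' hk', add_zero]
  · refine Finset.sum_eq_zero fun k hk => ?_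
    exact hK.eq_zero_of_not_mem h (Or.inl ((hKf k).1 hk)) hq hc

theorem even [Finite V] : Even (Nat.card K) := by
  classical
  have hW : Finite (W V) := finite_W V
  by_contra hne
  rw [Nat.not_even_iff_odd] at hne
  obtain ⟨m, hm⟩ := hne
  obtain ⟨k0, hk0⟩ := hK.ne
  -- `K \ {k0}` has `2 m` members
  have hfin : Finite K := inferInstance
  let K' : Set (W V) := K \ {k0}
  have hc' : Nat.card K' = 2 * m := by
    have h1 : K.ncard = K'.ncard + 1 := (Set.ncard_sdiff_singleton_add_one hk0 (Set.toFinite K)).symm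
    have h2 : K.ncard = 2 * m + 1 := by rw [← hm]; rfl
    have h3 : Nat.card K' = K'.ncard := rfl
    omega
  have hm0 : 0 < m := by
    obtain ⟨k1, hk1, hne⟩ := hK.exists_ne h k0 hk0
    have : Nonempty K' := ⟨⟨k1, hk1, hne⟩⟩
    have h4 : 0 < Nat.card K' := Nat.card_pos
    omega
  have hce : Nat.card (Fin m × Fin 2) = Nat.card K' := by
    rw [hc', Nat.card_prod, Nat.card_eq_fintype_card, Nat.card_eq_fintype_card, Fintype.card_fin, Fintype.card_fin]
    ring
  obtain ⟨e⟩ : Nonempty ((Fin m × Fin 2) ≃ K') := by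
    have : Finite K' := inferInstance
    have : Fintype K' := Fintype.ofFinite _
    exact ⟨Fintype.equivOfCardEq (by rw [← Nat.card_eq_fintype_card, ← Nat.card_eq_fintype_card]; exact hce)⟩
  set a : Fin m → W V := fun j => (e (j, 0) : W V) with ha
  set b : Fin m → W V := fun j => (e (j, 1) : W V) with hb
  have haK : ∀ j, a j ∈ K := fun j => (e (j, 0)).2.1
  have hbK : ∀ j, b j ∈ K := fun j => (e (j, 1)).2.1
  have ha0 : ∀ j, a j ≠ k0 := fun j => (e (j, 0)).2.2
  have hb0 : ∀ j, b j ≠ k0 := fun j => (e (j, 1)).2.2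
  have inj : ∀ x y, (e x : W V) = e y → x = y := fun x y hxy => e.injective (Subtype.ext hxy)
  have haa : ∀ i j, i ≠ j → a i ≠ a j := fun i j hij hc => hij (congrArg Prod.fst (inj _ _ hc))
  have hbb : ∀ i j, i ≠ j → b i ≠ b j := fun i j hij hc => hij (congrArg Prod.fst (inj _ _ hc))
  have hab : ∀ i j, a i ≠ b j := fun i j hc => by
    have := congrArg Prod.snd (inj _ _ hc)
    exact absurd this zero_ne_one
  have one : ∀ k ∈ K, ∀ k' ∈ K, k ≠ k' → B k k' = 1 := hK.one
  have slf : ∀ k ∈ K, B k k = 0 := fun k hk => h.self k (hK.sub hk)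
  have hab1 : ∀ j, B (a j) (b j) = 1 := fun j => one _ (haK j) _ (hbK j) (hab j j)
  have hba1 : ∀ j, B (b j) (a j) = 1 := fun j => one _ (hbK j) _ (haK j) (hab j j).symm
  -- the perfect matching
  let p : Fin (m + 1) → W V := Fin.cons k0 fun j => a j + b j
  have p0 : p 0 = k0 := rfl
  have ps : ∀ j : Fin m, p j.succ = a j + b j := fun j => rfl
  have hpR : ∀ i, p i ∈ R := by
    intro i
    refine Fin.cases ?_ (fun j => ?_) i
    · exact hK.sub hk0
    · rw [ps]
      exact h.add_mem (hK.sub (haK j)) (hK.sub (hbK j)) (by rw [hab1]; exact one_ne)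
  have hpp : ∀ i j, B (p i) (p j) = 0 := by
    intro i j
    refine Fin.cases ?_ (fun i => ?_) i <;> refine Fin.cases ?_ (fun j => ?_) j
    · exact slf k0 hk0
    · rw [p0, ps, B_add_right, one k0 hk0 _ (haK j) (ha0 j).symm, one k0 hk0 _ (hbK j) (hb0 j).symm]; decide
    · rw [p0, ps, B_add_left, one _ (haK i) k0 hk0 (ha0 i), one _ (hbK i) k0 hk0 (hb0 i)]; decide
    · rw [ps, ps, B_add_left, B_add_right, B_add_right]
      by_cases hij : i = j
      · subst hij
        rw [slf _ (haK i), slf _ (hbK i), hab1, hba1]; decide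
      · rw [one _ (haK i) _ (haK j) (haa i j hij), one _ (haK i) _ (hbK j) (hab i j),
          one _ (hbK i) _ (haK j) (hab j i).symm, one _ (hbK i) _ (hbK j) (hbb i j hij)]; decide
  -- the sum of all members of `K`
  let Kf : Finset (W V) := (Set.toFinite K).toFinset
  have hKf : ∀ k, k ∈ Kf ↔ k ∈ K := fun k => Set.Finite.mem_toFinset _
  have hcard : Kf.card = 2 * m + 1 := by
    rw [← hm, ← Set.ncard_eq_toFinset_card K (Set.toFinite K)]; rfl
  have hodd : (Kf.card : ZMod 2) = 1 := by
    rw [hcard]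
    push_cast
    have : (2 : ZMod 2) = 0 := by decide
    rw [this, zero_mul, zero_add]
  have hsum : ∑ i, p i = ∑ k ∈ Kf, k := by
    rw [Fin.sum_univ_succ, p0]
    have h1 : Kf = insert k0 ((Finset.univ : Finset (Fin m × Fin 2)).image fun x => (e x : W V)) := by
      ext k
      rw [hKf, Finset.mem_insert, Finset.mem_image]
      constructor
      · intro hk
        by_cases he : k = k0
        · exact Or.inl he
        · refine Or.inr ⟨e.symm ⟨k, hk, he⟩, Finset.mem_univ _, ?_⟩
          rw [Equiv.apply_symm_apply]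
      · rintro (rfl | ⟨x, -, rfl⟩)
        · exact hk0
        · exact (e x).2.1
    rw [h1, Finset.sum_insert, Finset.sum_image fun x _ y _ hxy => inj x y hxy, Fintype.sum_prod_type]
    · congr 1
      refine Finset.sum_congr rfl fun j _ => ?_
      rw [Fin.sum_univ_two, ps]
    · rw [Finset.mem_image]
      rintro ⟨x, -, hx⟩
      exact (e x).2.2 hx
  -- the functional
  have hz : ∑ i, (p i).2 = 0 := by
    refine h.gen (m + 1) p hpR hpp _ ?_ ?_
    · intro q hq
      have h1 : (∑ i, (p i).2) q.1 = B (∑ i, p i) q := by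
        rw [← snd_sum]; rfl
      rw [h1, hsum, B_sum_left]
      exact hK.sum_B h Kf hKf hodd hq
    · intro v hv
      rw [LinearMap.sum_apply]
      exact Finset.sum_eq_zero fun i _ => hv i
  have key := h.ex (m + 1) p hpR hpp (by
    intro c hc
    have h1 : ∀ j : Fin m, c 0 • k0.1 + c j.succ • (a j + b j).1 = 0 := by
      intro j
      have h2 := hc (a j).1
      rw [Fin.sum_univ_succ, p0] at h2
      have e0 : k0.2 (a j).1 = 1 := one k0 hk0 _ (haK j) (ha0 j).symm
      rw [e0, one_smul] at h2
      have h3 : ∑ i : Fin m, c i.succ • (p i.succ).2 (a j).1 • (p i.succ).1 = c j.succ • (a j + b j).1 := by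
        rw [Finset.sum_eq_single j]
        · have e1 : (p j.succ).2 (a j).1 = 1 := by
            show B (a j + b j) (a j) = 1
            rw [B_add_left, slf _ (haK j), hba1, zero_add]
          rw [e1, one_smul, ps]
        · intro i _ hij
          have e1 : (p i.succ).2 (a j).1 = 0 := by
            show B (a i + b i) (a j) = 0
            rw [B_add_left, one _ (haK i) _ (haK j) (haa i j hij), one _ (hbK i) _ (haK j) (hab j i).symm]; decide
          rw [e1, zero_smul, smul_zero]
        · intro hj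
          exact absurd (Finset.mem_univ _) hj
      rw [h3] at h2
      exact h2
    have hne : ∀ j, (a j + b j).1 ≠ 0 := fun j => h.ne1 _ (by rw [← ps]; exact hpR _)
    have c0 : c 0 = 0 := by
      by_contra hne0
      have h2 := h1 ⟨0, hm0⟩
      rw [eq_one_of_ne hne0, one_smul] at h2
      have h3 : c (⟨0, hm0⟩ : Fin m).succ = 1 := by
        refine eq_one_of_ne fun h0 => ?_
        rw [h0, zero_smul, add_zero] at h2
        exact h.ne1 k0 (hK.sub hk0) h2
      rw [h3, one_smul] at h2
      have h4 : k0 = a ⟨0, hm0⟩ + b ⟨0, hm0⟩ :=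
        h.uf _ (hK.sub hk0) _ (by rw [← ps]; exact hpR _) (eq_of_add h2)
      exact hK.sum _ (haK ⟨0, hm0⟩) _ (hbK ⟨0, hm0⟩) (hab _ _) (h4 ▸ hk0)
    ext i
    refine Fin.cases ?_ (fun j => ?_) i
    · exact c0
    · have h2 := h1 j
      rw [c0, zero_smul, zero_add] at h2
      by_contra hne1
      rw [eq_one_of_ne hne1, one_smul] at h2
      exact hne j h2) (fun _ => 1) (by simpa using hz)
  have := congrFun key 0
  exact one_ne this

end Star

end Cfsg.Agent.Omega.NOThreeL.RRed.TvBlk

end

section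


/-!
# The block theorem for transvections over `𝔽₂` (#18552 (c)): the letters

`Blk R blk w tr` : the finite set `Pt` of letters is partitioned into blocks (`blk : Pt → I`) of odd size `≥ 3`,
`w : Pt → V`, the sum of every block is zero and these are the only relations; the members of `R` are the
transpositions `tr x y` (`x ≠ y` in one block), with centre `w x + w y`; `V` is the sum of the span of `w` and of the
common kernel of the axes.

* `exists_blk` : `Sys R` gives `Blk`;
* `Blk.perm` : an automorphism of `V` which preserves `R` permutes the letters and the blocks.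
-/

set_option autoImplicit false

namespace Cfsg.Agent.Omega.NOThreeL.RRed.TvBlk

open Cfsg.Agent.Omega.Transv

universe u

variable {V : Type u} [AddCommGroup V] [Module (ZMod 2) V]

/-- The letters of a set of transvections. -/
structure Blk (R : Set (W V)) {Pt I : Type u} [Fintype Pt] [DecidableEq Pt] [DecidableEq I] (blk : Pt → I) (w : Pt → V) (tr : Pt → Pt → W V) :
    Prop where
  odd : ∀ x, Odd (Finset.univ.filter fun y => blk y = blk x).card
  three : ∀ x, 3 ≤ (Finset.univ.filter fun y => blk y = blk x).card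
  surj : Function.Surjective blk
  tr_mem : ∀ x y, x ≠ y → blk x = blk y → tr x y ∈ R
  tr_comm : ∀ x y, tr x y = tr y x
  tr_fst : ∀ x y, blk x = blk y → (tr x y).1 = w x + w y
  tr_add : ∀ x y z, blk x = blk y → blk y = blk z → tr x y + tr y z = tr x z
  tr_snd : ∀ x y, blk x = blk y → ∀ z, (tr x y).2 (w z) = (if z = x then 1 else 0) + (if z = y then 1 else 0)
  all : ∀ p ∈ R, ∃ x y, x ≠ y ∧ blk x = blk y ∧ p = tr x y
  sum_zero : ∀ x, ∑ y ∈ Finset.univ.filter (fun y => blk y = blk x), w y = 0
  decomp : ∀ v : V, ∃ a : Pt → ZMod 2, ∀ p ∈ R, p.2 (v + ∑ x, a x • w x) = 0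

section one

variable {R K : Set (W V)}

/-- the members `0`, `k` -/
def val (x : Option K) : W V := x.elim 0 fun k => (k : W V)

@[simp] theorem val_none : val (none : Option K) = 0 := rfl
@[simp] theorem val_some (k : K) : val (some k) = (k : W V) := rfl

/-- the points (as pairs) -/
noncomputable def wW [Fintype K] (x : Option K) : W V := (∑ k : K, (k : W V)) + val x

variable (h : Sys R) (hK : Star R K)

include h hK

theorem Star.card_zero [Finite V] [Fintype K] : (Fintype.card K : ZMod 2) = 0 := by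
  have := hK.even h
  rw [Nat.card_eq_fintype_card] at this
  obtain ⟨k, hk⟩ := this
  rw [hk, Nat.cast_add]
  exact add_self _

open Classical in
theorem Star.B_val [Finite V] [Fintype K] (x z : Option K) :
    B (val x) (wW z) = (if z = none then 1 else 0) + if z = x then 1 else 0 := by
  rcases x with _ | k
  · rw [val_none]
    have : B (0 : W V) (wW z) = 0 := rfl
    rw [this]
    exact (add_self _).symm
  rw [val_some, wW, B_add_right]
  have h1 : B (k : W V) (∑ k' : K, (k' : W V)) = 1 := by
    have e1 : B (k : W V) (∑ k' : K, (k' : W V)) = ∑ k' : K, B (k : W V) k' := by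
      rw [B, fst_sum, map_sum]; rfl
    have e2 : ∀ k' ∈ (Finset.univ : Finset K), B (k : W V) k' = 1 + if k' = k then 1 else 0 := by
      intro k' _
      by_cases he : k' = k
      · rw [if_pos he, he, h.self _ (hK.sub k.2)]; decide
      · rw [if_neg he, add_zero]
        exact hK.one _ k.2 _ k'.2 fun hc => he (Subtype.ext hc.symm)
    rw [e1, Finset.sum_congr rfl e2, Finset.sum_add_distrib, Finset.sum_const, Finset.card_univ, nsmul_eq_mul,
      hK.card_zero h, zero_mul, zero_add, Finset.sum_ite_eq', if_pos (Finset.mem_univ _)]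
  rw [h1]
  rcases z with _ | k'
  · have : B (k : W V) (val (none : Option K)) = 0 := by rw [val_none, B]; exact map_zero _
    rw [this, if_pos rfl, if_neg (by simp)]
  · rw [val_some, if_neg (by simp), zero_add]
    by_cases he : k' = k
    · rw [if_pos (by rw [he]), he, h.self _ (hK.sub k.2), add_zero]
    · rw [if_neg (by simpa using he), hK.one _ k.2 _ k'.2 fun hc => he (Subtype.ext hc.symm)]
      decide

omit h hK in
theorem Star.val_add_mem {x y : Option K} (hxy : x ≠ y) : val x + val y ∈ cl K := by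
  rcases x with _ | k <;> rcases y with _ | k'
  · exact absurd rfl hxy
  · rw [val_none, zero_add, val_some]; exact Or.inl k'.2
  · rw [val_none, add_zero, val_some]; exact Or.inl k.2
  · exact Or.inr ⟨k, k.2, k', k'.2, fun hc => hxy (by rw [Subtype.ext hc]), rfl⟩

omit h hK in
theorem exists_val {p : W V} (hp : p ∈ cl K) : ∃ x y : Option K, x ≠ y ∧ p = val x + val y := by
  rcases hp with hp | ⟨k, hk, k', hk', hne, rfl⟩
  · exact ⟨some ⟨p, hp⟩, none, by simp, by rw [val_some, val_none, add_zero]⟩
  · exact ⟨some ⟨k, hk⟩, some ⟨k', hk'⟩, by simpa using hne, rfl⟩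

theorem Star.sum_wW [Finite V] [Fintype K] : ∑ x : Option K, wW x = 0 := by
  rw [Fintype.sum_option]
  have e2 : ∑ k : K, wW (some k) = ∑ k : K, (k : W V) := by
    have : ∀ k : K, wW (some k) = (∑ k' : K, (k' : W V)) + k := fun k => rfl
    rw [Finset.sum_congr rfl fun k _ => this k, Finset.sum_add_distrib, Finset.sum_const, Finset.card_univ]
    have e3 : (Fintype.card K) • (∑ k' : K, (k' : W V)) = (0 : W V) := by
      rw [← Nat.cast_smul_eq_nsmul (ZMod 2), hK.card_zero h, zero_smul]
    rw [e3, zero_add]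
  rw [e2, wW, val_none, add_zero]
  exact add_self _

end one

theorem exists_blk [Finite V] {R : Set (W V)} (h : Sys R) : ∃ (Pt I : Type u) (_ : Fintype Pt) (_ : Fintype I)
    (_ : DecidableEq Pt) (_ : DecidableEq I) (blk : Pt → I) (w : Pt → V) (tr : Pt → Pt → W V), Blk R blk w tr := by
  classical
  have hW : Finite (W V) := finite_W V
  let I : Type u := {C : Set (W V) // ∃ K, Star R K ∧ C = cl K}
  let st : I → Set (W V) := fun C => C.2.choose
  have hst : ∀ C, Star R (st C) := fun C => C.2.choose_spec.1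
  have hcl : ∀ C : I, C.1 = cl (st C) := fun C => C.2.choose_spec.2
  have hfst : ∀ C, Fintype (st C) := fun C => Fintype.ofFinite _
  let Pt : Type u := Σ C : I, Option (st C)
  have hI : Finite I := inferInstance
  have hfI : Fintype I := Fintype.ofFinite _
  let dP : DecidableEq Pt := Classical.decEq _
  let dI : DecidableEq I := Classical.decEq _
  let blk : Pt → I := fun x => x.1
  let V' : Pt → W V := fun x => val x.2
  let w : Pt → V := fun x => (wW x.2).1
  let tr : Pt → Pt → W V := fun x y => V' x + V' y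
  have hfib : ∀ x : Pt, (Finset.univ.filter fun y : Pt => blk y = blk x) =
      (Finset.univ : Finset (Option (st x.1))).map ⟨fun z => (⟨x.1, z⟩ : Pt), fun z z' hz => by simpa using hz⟩ := by
    intro x
    ext y
    rw [Finset.mem_filter, Finset.mem_map]
    constructor
    · rintro ⟨-, hy⟩
      obtain ⟨C, y⟩ := y
      obtain ⟨C', x⟩ := x
      have hy' : C = C' := hy
      subst hy'
      exact ⟨y, Finset.mem_univ _, rfl⟩
    · rintro ⟨z, -, rfl⟩
      exact ⟨Finset.mem_univ _, rfl⟩
  have hcard : ∀ x : Pt, (Finset.univ.filter fun y : Pt => blk y = blk x).card = Nat.card (st x.1) + 1 := by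
    intro x
    rw [hfib, Finset.card_map, Finset.card_univ, Fintype.card_option, Nat.card_eq_fintype_card]
  have hV' : ∀ x : Pt, ∀ q ∈ R, q ∉ cl (st x.1) → B (V' x) q = 0 ∧ B q (V' x) = 0 := by
    rintro ⟨C, x⟩ q hq hn
    rcases x with _ | k
    · exact ⟨rfl, map_zero _⟩
    · have h1 : B (k : W V) q = 0 := (hst C).eq_zero_of_not_mem h (Or.inl k.2) hq hn
      exact ⟨h1, by show B q (k : W V) = 0; rw [h.sym hq ((hst C).sub k.2)]; exact h1⟩
  have hdis : ∀ C C' : I, C ≠ C' → ∀ q ∈ cl (st C), q ∉ cl (st C') := by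
    intro C C' hne q hq hq'
    apply hne
    apply Subtype.ext
    rw [hcl C, hcl C']
    exact (hst C).cl_eq h (hst C') hq hq'
  -- the pairing of `V' x` with the points of other blocks
  have hoff : ∀ x z : Pt, x.1 ≠ z.1 → B (V' x) (wW z.2) = 0 := by
    rintro ⟨C, x⟩ ⟨C', z⟩ hne
    have hne : C ≠ C' := hne
    rcases x with _ | k
    · rfl
    · have h1 : ∀ k' ∈ st C', B (k : W V) k' = 0 := fun k' hk' =>
        (hst C).eq_zero_of_not_mem h (Or.inl k.2) ((hst C').sub hk') (hdis C' C hne.symm _ (Or.inl hk'))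
      show B (k : W V) (wW z) = 0
      rw [wW, B_add_right]
      have e1 : B (k : W V) (∑ k' : st C', (k' : W V)) = ∑ k' : st C', B (k : W V) k' := by
        rw [B, fst_sum, map_sum]; rfl
      have e3 : ∑ k' : st C', B (k : W V) k' = 0 :=
        Finset.sum_eq_zero fun (k' : st C') _ => h1 (k' : W V) (Subtype.property k')
      rw [e1, e3, zero_add]
      rcases z with _ | k'
      · exact map_zero _
      · exact h1 (k' : W V) (Subtype.property k')
  have hval : ∀ x z : Pt, B (V' x) (wW z.2) =
      (if x.1 = z.1 then ((if z = ⟨z.1, none⟩ then 1 else 0) + if z = x then 1 else 0) else 0) := by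
    intro x z
    by_cases he : x.1 = z.1
    · rw [if_pos he]
      obtain ⟨C, x⟩ := x
      obtain ⟨C', z⟩ := z
      have he' : C = C' := he
      subst he'
      have := (hst C).B_val h x z
      show B (val x) (wW z) = _
      rw [this]
      congr 1
      · by_cases hz : z = none
        · rw [if_pos hz, if_pos (by rw [hz])]
        · have hz' : ¬ ((⟨C, z⟩ : Pt) = ⟨C, none⟩) := fun hc => hz (eq_of_heq (Sigma.mk.inj hc).2)
          rw [if_neg hz, if_neg hz']
      · by_cases hz : z = x
        · rw [if_pos hz, if_pos (by rw [hz])]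
        · have hz' : ¬ ((⟨C, z⟩ : Pt) = ⟨C, x⟩) := fun hc => hz (eq_of_heq (Sigma.mk.inj hc).2)
          rw [if_neg hz, if_neg hz']
    · rw [if_neg he]
      exact hoff x z he
  have hsnd : ∀ x y : Pt, x.1 = y.1 → ∀ z : Pt,
      (tr x y).2 (w z) = (if z = x then 1 else 0) + (if z = y then 1 else 0) := by
    intro x y hxy z
    show B (V' x + V' y) (wW z.2) = _
    rw [B_add_left, hval, hval]
    by_cases he : x.1 = z.1
    · rw [if_pos he, if_pos (hxy.symm.trans he)]
      have : ∀ a b c : ZMod 2, (a + b) + (a + c) = b + c := by decide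
      exact this _ _ _
    · have he' : y.1 ≠ z.1 := fun hc => he (hxy.trans hc)
      rw [if_neg he, if_neg he', if_neg (fun hc => he (by rw [hc])), if_neg (fun hc => he' (by rw [hc]))]
  have hallp : ∀ p ∈ R, ∃ x y : Pt, blk x = blk y ∧ p = tr x y := by
    intro p hp
    obtain ⟨K, hK, hpK⟩ := exists_star hp
    let C : I := ⟨cl K, K, hK, rfl⟩
    have h1 : p ∈ cl (st C) := by
      rw [← hcl C]
      exact Or.inl hpK
    obtain ⟨x, y, hne, he⟩ := exists_val h1
    exact ⟨⟨C, x⟩, ⟨C, y⟩, rfl, he⟩
  refine ⟨Pt, I, inferInstance, hfI, dP, dI, blk, w, tr, ?_, ?_, ?_, ?_, ?_, ?_, ?_, hsnd, ?_, ?_, ?_⟩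
  · intro x
    rw [hcard]
    exact ((hst x.1).even h).add_one
  · intro x
    rw [hcard]
    obtain ⟨k, hk⟩ := (hst x.1).ne
    obtain ⟨k', hk', hne⟩ := (hst x.1).exists_ne h k hk
    have : Nontrivial (st x.1) := ⟨⟨⟨k, hk⟩, ⟨k', hk'⟩, fun hc => hne (congrArg Subtype.val hc).symm⟩⟩
    have h2 : 1 < Nat.card (st x.1) := Finite.one_lt_card
    omega
  · intro C
    exact ⟨⟨C, none⟩, rfl⟩
  · rintro ⟨C, x⟩ ⟨C', y⟩ hne hb
    have hb' : C = C' := hb
    subst hb'
    exact (hst C).cl_sub h (Star.val_add_mem fun (hc : x = y) => hne (by rw [hc]))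
  · intro x y
    exact add_comm _ _
  · rintro ⟨C, x⟩ ⟨C', y⟩ hb
    have hb' : C = C' := hb
    subst hb'
    show (val x + val y).1 = (wW x).1 + (wW y).1
    rw [wW, wW, Prod.fst_add, Prod.fst_add, Prod.fst_add]
    set S := (∑ k : st C, (k : W V)).1
    have : S + (val x).1 + (S + (val y).1) = (S + S) + ((val x).1 + (val y).1) := by abel
    rw [this, add_self, zero_add]
  · intro x y z _ _
    show V' x + V' y + (V' y + V' z) = V' x + V' z
    have : V' x + V' y + (V' y + V' z) = V' x + (V' y + V' y) + V' z := by abel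
    rw [this, W_add_self, add_zero]
  · intro p hp
    obtain ⟨x, y, hb, he⟩ := hallp p hp
    refine ⟨x, y, ?_, hb, he⟩
    rintro rfl
    apply h.ne_zero hp
    rw [he]
    exact W_add_self _
  · intro x
    rw [hfib, Finset.sum_map]
    show ∑ z : Option (st x.1), (wW z).1 = 0
    rw [← fst_sum, (hst x.1).sum_wW h]
    rfl
  · intro v
    let a : Pt → ZMod 2 := fun x => (V' x).2 v
    refine ⟨a, fun p hp => ?_⟩
    obtain ⟨x, y, hb, he⟩ := hallp p hp
    have h1 : p.2 (∑ z, a z • w z) = a x + a y := by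
      rw [map_sum]
      have h2 : ∀ z ∈ (Finset.univ : Finset Pt), p.2 (a z • w z) =
          (if z = x then a z else 0) + if z = y then a z else 0 := by
        intro z _
        rw [map_smul, smul_eq_mul, he, hsnd x y hb, mul_add, mul_ite, mul_ite, mul_one, mul_zero]
      rw [Finset.sum_congr rfl h2, Finset.sum_add_distrib, Finset.sum_ite_eq', Finset.sum_ite_eq',
        if_pos (Finset.mem_univ _), if_pos (Finset.mem_univ _)]
    rw [map_add, h1]
    have h3 : p.2 v = a x + a y := by rw [he]; rfl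
    rw [h3]
    exact add_self _

end Cfsg.Agent.Omega.NOThreeL.RRed.TvBlk

end

section


/-!
# The block theorem for transvections over `𝔽₂` (#18552 (c)): consequences

* `Blk.w_inj`, `Blk.indep` : the sums of the blocks are the only relations between the `w x`;
* `Blk.U i` : the span of block `i`; `Blk.C` : the common kernel of the axes; `Blk.ind`, `Blk.top` : `V` is the direct
  sum of the `U i` and `C`;
* `Blk.perm` : an automorphism of `V` which preserves `R` permutes the letters and the blocks;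
* `Blk.act_tr` : the transvection `tr x y` acts on the letters as the transposition `(x y)`.
-/

set_option autoImplicit false

namespace Cfsg.Agent.Omega.NOThreeL.RRed.TvBlk

open Cfsg.Agent.Omega.Transv

universe u

variable {V : Type u} [AddCommGroup V] [Module (ZMod 2) V]

namespace Blk

variable {R : Set (W V)} {Pt I : Type u} [Fintype Pt] [DecidableEq Pt] [DecidableEq I] {blk : Pt → I} {w : Pt → V}
  {tr : Pt → Pt → W V} (b : Blk R blk w tr)
include b

theorem exists_other (x : Pt) : ∃ y, y ≠ x ∧ blk y = blk x := by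
  have h1 : 1 < (Finset.univ.filter fun y => blk y = blk x).card := by
    have := b.three x
    omega
  obtain ⟨y, hy, hne⟩ := Finset.exists_mem_ne h1 x
  exact ⟨y, hne, (Finset.mem_filter.1 hy).2⟩

theorem exists_third (x y : Pt) (_hxy : blk x = blk y) : ∃ z, z ≠ x ∧ z ≠ y ∧ blk z = blk x := by
  have h1 : ({x, y} : Finset Pt).card < (Finset.univ.filter fun z => blk z = blk x).card := by
    have := b.three x
    have := Finset.card_le_two (a := x) (b := y)
    omega
  obtain ⟨z, hz, hn⟩ := Finset.exists_mem_notMem_of_card_lt_card h1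
  rw [Finset.mem_insert, Finset.mem_singleton, not_or] at hn
  exact ⟨z, hn.1, hn.2, (Finset.mem_filter.1 hz).2⟩

theorem tr_self (x y : Pt) (hxy : blk x = blk y) (hne : x ≠ y) : (tr x y).2 (w x) = 1 := by
  rw [b.tr_snd x y hxy, if_pos rfl, if_neg hne, add_zero]

theorem tr_other (x y z : Pt) (hxy : blk x = blk y) (hx : z ≠ x) (hy : z ≠ y) : (tr x y).2 (w z) = 0 := by
  rw [b.tr_snd x y hxy, if_neg hx, if_neg hy, add_zero]

theorem w_inj : Function.Injective w := by
  intro x y hxy
  by_contra hne
  obtain ⟨z, hz1, hz2⟩ := b.exists_other x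
  by_cases hb : blk x = blk y
  · obtain ⟨z, hz1, hz2, hz3⟩ := b.exists_third x y hb
    have h1 := b.tr_self x z hz3.symm (Ne.symm hz1)
    have h2 := b.tr_other x z y hz3.symm (Ne.symm hne) (Ne.symm hz2)
    rw [hxy, h2] at h1
    exact one_ne h1.symm
  · have h1 := b.tr_self x z hz2.symm (Ne.symm hz1)
    have h2 := b.tr_other x z y hz2.symm (Ne.symm hne) (fun hc => hb (by rw [hc]; exact hz2.symm))
    rw [hxy, h2] at h1
    exact one_ne h1.symm

/-- the value of an axis on a combination -/
theorem snd_sum (x y : Pt) (hxy : blk x = blk y) (a : Pt → ZMod 2) : (tr x y).2 (∑ z, a z • w z) = a x + a y := by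
  rw [map_sum]
  have h2 : ∀ z ∈ (Finset.univ : Finset Pt), (tr x y).2 (a z • w z) =
      (if z = x then a z else 0) + if z = y then a z else 0 := by
    intro z _
    rw [map_smul, smul_eq_mul, b.tr_snd x y hxy, mul_add, mul_ite, mul_ite, mul_one, mul_zero]
  rw [Finset.sum_congr rfl h2, Finset.sum_add_distrib, Finset.sum_ite_eq', Finset.sum_ite_eq',
    if_pos (Finset.mem_univ _), if_pos (Finset.mem_univ _)]

/-- the coefficients of a combination in the common kernel of the axes are constant on the blocks -/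
theorem const_of (a : Pt → ZMod 2) (ha : ∀ p ∈ R, p.2 (∑ z, a z • w z) = 0) (x y : Pt) (hxy : blk x = blk y) :
    a x = a y := by
  by_cases hne : x = y
  · rw [hne]
  have h1 := ha _ (b.tr_mem x y hne hxy)
  rw [b.snd_sum x y hxy] at h1
  exact eq_of_add h1

/-- a combination whose coefficients are constant on the blocks is zero -/
theorem eq_zero_of_const [Fintype I] (a : Pt → ZMod 2) (ha : ∀ x y, blk x = blk y → a x = a y) :
    ∑ z, a z • w z = 0 := by
  classical
  rw [← Finset.sum_fiberwise (s := Finset.univ) (g := blk)]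
  refine Finset.sum_eq_zero fun i _ => ?_
  obtain ⟨x, rfl⟩ := b.surj i
  have h1 : ∑ z ∈ Finset.univ.filter (fun z => blk z = blk x), a z • w z =
      ∑ z ∈ Finset.univ.filter (fun z => blk z = blk x), a x • w z :=
    Finset.sum_congr rfl fun z hz => by rw [ha z x (Finset.mem_filter.1 hz).2]
  rw [h1, ← Finset.smul_sum, b.sum_zero, smul_zero]

theorem indep (a : Pt → ZMod 2) (ha : ∑ z, a z • w z = 0) (x y : Pt) (hxy : blk x = blk y) : a x = a y :=
  b.const_of a (fun p _ => by rw [ha, map_zero]) x y hxy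

/-- a combination of the letters which is in the common kernel of the axes is zero -/
theorem eq_zero [Fintype I] {v : V} (hv : v ∈ Submodule.span (ZMod 2) (Set.range w)) (h0 : ∀ p ∈ R, p.2 v = 0) :
    v = 0 := by
  rw [Submodule.mem_span_range_iff_exists_fun] at hv
  obtain ⟨a, rfl⟩ := hv
  exact b.eq_zero_of_const a (b.const_of a h0)

/-- the letters are sums of centres -/
theorem w_mem (x : Pt) : w x ∈ Submodule.span (ZMod 2) (Prod.fst '' R) := by
  classical
  have h1 : w x = ∑ y ∈ Finset.univ.filter (fun y => blk y = blk x), (w x + w y) := by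
    rw [Finset.sum_add_distrib, b.sum_zero, add_zero, Finset.sum_const, ← Nat.cast_smul_eq_nsmul (ZMod 2)]
    obtain ⟨k, hk⟩ := b.odd x
    rw [hk]
    push_cast
    have : (2 : ZMod 2) = 0 := by decide
    rw [this, zero_mul, zero_add, one_smul]
  rw [h1]
  refine Submodule.sum_mem _ fun y hy => ?_
  have hy' := (Finset.mem_filter.1 hy).2
  by_cases hne : x = y
  · rw [hne, add_self]; exact Submodule.zero_mem _
  · rw [← b.tr_fst x y hy'.symm]
    exact Submodule.subset_span ⟨_, b.tr_mem x y hne hy'.symm, rfl⟩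

theorem span_eq : Submodule.span (ZMod 2) (Set.range w) = Submodule.span (ZMod 2) (Prod.fst '' R) := by
  apply le_antisymm
  · rw [Submodule.span_le]
    rintro _ ⟨x, rfl⟩
    exact b.w_mem x
  · rw [Submodule.span_le]
    rintro _ ⟨p, hp, rfl⟩
    obtain ⟨x, y, -, hb, rfl⟩ := b.all p hp
    rw [b.tr_fst x y hb]
    exact Submodule.add_mem _ (Submodule.subset_span ⟨x, rfl⟩) (Submodule.subset_span ⟨y, rfl⟩)

/-- the transvection `tr x y` is the transposition `(x y)` of the letters -/
theorem act_tr (x y : Pt) (hxy : blk x = blk y) (z : Pt) :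
    w z + (tr x y).2 (w z) • (tr x y).1 = w (Equiv.swap x y z) := by
  rw [b.tr_snd x y hxy, b.tr_fst x y hxy]
  by_cases h1 : z = x
  · subst h1
    rw [Equiv.swap_apply_left]
    by_cases h2 : z = y
    · subst h2
      rw [if_pos rfl, add_self, zero_smul, add_zero]
    · rw [if_pos rfl, if_neg h2, add_zero, one_smul, ← add_assoc, add_self, zero_add]
  · by_cases h2 : z = y
    · subst h2
      rw [Equiv.swap_apply_right, if_neg h1, if_pos rfl, zero_add, one_smul, add_comm (w x), ← add_assoc, add_self,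
        zero_add]
    · rw [Equiv.swap_apply_of_ne_of_ne h1 h2, if_neg h1, if_neg h2, add_zero, zero_smul, add_zero]

/-- a transposition is determined by its letters -/
theorem tr_eq {x y u v : Pt} (hxy : blk x = blk y) (huv : blk u = blk v) (hne : x ≠ y) (h : tr x y = tr u v) :
    (u = x ∧ v = y) ∨ (u = y ∧ v = x) := by
  have h1 : ∀ z, (z = x ∨ z = y) → (z = u ∨ z = v) := by
    intro z hz
    by_contra hn
    push Not at hn
    have e1 : (tr u v).2 (w z) = 0 := b.tr_other u v z huv hn.1 hn.2
    rw [← h, b.tr_snd x y hxy] at e1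
    rcases hz with rfl | rfl
    · rw [if_pos rfl, if_neg hne, add_zero] at e1
      exact one_ne e1
    · rw [if_pos rfl, if_neg hne.symm, zero_add] at e1
      exact one_ne e1
  rcases h1 x (Or.inl rfl) with rfl | rfl <;> rcases h1 y (Or.inr rfl) with rfl | rfl
  · exact absurd rfl hne
  · exact Or.inl ⟨rfl, rfl⟩
  · exact Or.inr ⟨rfl, rfl⟩
  · exact absurd rfl hne

end Blk

/-- the action of an automorphism of `V` on pairs -/
def conjW (φ : V ≃ₗ[ZMod 2] V) (p : W V) : W V := (φ p.1, p.2 ∘ₗ (φ.symm : V →ₗ[ZMod 2] V))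

theorem conjW_inj (φ : V ≃ₗ[ZMod 2] V) : Function.Injective (conjW φ) := by
  intro p q hpq
  have h1 : φ p.1 = φ q.1 := congrArg Prod.fst hpq
  have h2 : p.2 ∘ₗ (φ.symm : V →ₗ[ZMod 2] V) = q.2 ∘ₗ (φ.symm : V →ₗ[ZMod 2] V) := congrArg Prod.snd hpq
  refine Prod.ext (φ.injective h1) ?_
  ext v
  have h3 := congrArg (fun f : V →ₗ[ZMod 2] ZMod 2 => f (φ v)) h2
  simpa using h3

theorem conjW_surj [Finite V] (φ : V ≃ₗ[ZMod 2] V) {R : Set (W V)} (hφ : ∀ p ∈ R, conjW φ p ∈ R) {q : W V}
    (hq : q ∈ R) : ∃ p ∈ R, conjW φ p = q := by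
  have hW : Finite (W V) := finite_W V
  let f : R → R := fun p => ⟨conjW φ p, hφ p p.2⟩
  have hf : Function.Injective f := fun p q hpq => Subtype.ext (conjW_inj φ (congrArg Subtype.val hpq))
  obtain ⟨p, hp⟩ := (Finite.injective_iff_surjective.1 hf) ⟨q, hq⟩
  exact ⟨p, p.2, congrArg Subtype.val hp⟩

theorem conjW_B (φ : V ≃ₗ[ZMod 2] V) (p : W V) (v : V) : (conjW φ p).2 (φ v) = p.2 v := by
  simp [conjW]

theorem conjW_add (φ : V ≃ₗ[ZMod 2] V) (p q : W V) : conjW φ (p + q) = conjW φ p + conjW φ q := by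
  refine Prod.ext ?_ ?_
  · simp [conjW]
  · ext v
    simp [conjW]

namespace Blk

variable {R : Set (W V)} {Pt I : Type u} [Fintype Pt] [DecidableEq Pt] [DecidableEq I] {blk : Pt → I} {w : Pt → V}
  {tr : Pt → Pt → W V} (b : Blk R blk w tr)
include b

/-- non-commuting members share exactly one letter -/
theorem share {x y u v : Pt} (hxy : blk x = blk y) (huv : blk u = blk v) (hne : x ≠ y) (hne' : u ≠ v)
    (hB : B (tr x y) (tr u v) ≠ 0) : ∃ z s t, s ≠ t ∧ z ≠ s ∧ z ≠ t ∧ blk s = blk z ∧ blk t = blk z ∧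
      tr x y = tr z s ∧ tr u v = tr z t ∧ (z = x ∨ z = y) ∧ (z = u ∨ z = v) := by
  have h1 : B (tr x y) (tr u v) =
      ((if u = x then 1 else 0) + (if u = y then 1 else 0)) + ((if v = x then 1 else 0) + (if v = y then 1 else 0)) := by
    show (tr x y).2 (tr u v).1 = _
    rw [b.tr_fst u v huv, map_add, b.tr_snd x y hxy, b.tr_snd x y hxy]
  rw [h1] at hB
  by_cases ux : u = x
  · subst ux
    by_cases vy : v = y
    · subst vy
      exfalso
      rw [if_pos rfl, if_neg hne, if_neg hne.symm, if_pos rfl] at hB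
      apply hB; decide
    · exact ⟨u, y, v, Ne.symm vy, hne, hne', hxy.symm, huv.symm, rfl, rfl, Or.inl rfl, Or.inl rfl⟩
  · by_cases uy : u = y
    · subst uy
      by_cases vx : v = x
      · subst vx
        exfalso
        rw [if_neg ux, if_pos rfl, if_pos rfl, if_neg hne'.symm] at hB
        apply hB; decide
      · exact ⟨u, x, v, Ne.symm vx, Ne.symm hne, hne', hxy, huv.symm, b.tr_comm _ _, rfl, Or.inr rfl, Or.inl rfl⟩
    · by_cases vx : v = x
      · subst vx
        exact ⟨v, y, u, Ne.symm uy, hne, Ne.symm hne', hxy.symm, huv, rfl, b.tr_comm _ _, Or.inl rfl, Or.inr rfl⟩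
      · by_cases vy : v = y
        · subst vy
          exact ⟨v, x, u, Ne.symm ux, Ne.symm hne, Ne.symm hne', hxy, huv, b.tr_comm _ _, b.tr_comm _ _, Or.inr rfl,
            Or.inr rfl⟩
        · exfalso
          rw [if_neg ux, if_neg uy, if_neg vx, if_neg vy] at hB
          apply hB; decide

theorem mem_letters {x y z : Pt} (hxy : blk x = blk y) (h1 : (tr x y).2 (w z) = 1) : z = x ∨ z = y := by
  by_contra hn
  push Not at hn
  rw [b.tr_other x y z hxy hn.1 hn.2] at h1
  exact one_ne h1.symm

theorem B_of_ne {x y u : Pt} (hxy : blk x = blk y) (hxu : blk x = blk u) (nxy : x ≠ y) (nxu : x ≠ u) (nyu : y ≠ u) :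
    B (tr x y) (tr x u) = 1 := by
  show (tr x y).2 (tr x u).1 = 1
  rw [b.tr_fst x u hxu, map_add, b.tr_self x y hxy nxy, b.tr_other x y u hxy nxu.symm nyu.symm, add_zero]

/-- the letter `x` is mapped to `z`: one half -/
theorem star_map (φ : V ≃ₗ[ZMod 2] V) (hφ : ∀ p ∈ R, conjW φ p ∈ R) {x y u z s t : Pt} (bxy : blk x = blk y)
    (bxu : blk x = blk u) (nxy : x ≠ y) (nxu : x ≠ u) (nyu : y ≠ u) (bzs : blk z = blk s) (bzt : blk z = blk t)
    (nzs : z ≠ s) (nzt : z ≠ t) (nst : s ≠ t) (e1 : conjW φ (tr x y) = tr z s) (e2 : conjW φ (tr x u) = tr z t)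
    (p : W V) (hp : p ∈ R) (h1 : p.2 (w x) = 1) : (conjW φ p).2 (w z) = 1 := by
  obtain ⟨c, d, ncd, bcd, hcd⟩ := b.all _ (hφ p hp)
  -- write `p = tr x v`
  obtain ⟨v, nxv, bxv, rfl⟩ : ∃ v, x ≠ v ∧ blk x = blk v ∧ p = tr x v := by
    obtain ⟨c, d, ncd, bcd, rfl⟩ := b.all p hp
    rcases b.mem_letters bcd h1 with rfl | rfl
    · exact ⟨d, ncd, bcd, rfl⟩
    · exact ⟨c, ncd.symm, bcd.symm, b.tr_comm _ _⟩
  by_contra hne
  have hz : (tr c d).2 (w z) = 0 := by
    rw [← hcd]
    exact eq_zero_of_ne hne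
  have nzc : z ≠ c := by
    rintro rfl
    rw [b.tr_self _ _ bcd ncd] at hz
    exact one_ne hz
  have nzd : z ≠ d := by
    rintro rfl
    rw [b.tr_comm, b.tr_self _ _ bcd.symm ncd.symm] at hz
    exact one_ne hz
  have nvy : v ≠ y := by
    rintro rfl
    rw [e1, b.tr_self z s bzs nzs] at hne
    exact hne rfl
  have nvu : v ≠ u := by
    rintro rfl
    rw [e2, b.tr_self z t bzt nzt] at hne
    exact hne rfl
  -- `s` and `t` are letters of `conjW φ p`
  have key : ∀ s : Pt, blk z = blk s → z ≠ s → B (tr c d) (tr z s) ≠ 0 → s = c ∨ s = d := by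
    intro s bzs nzs hB
    by_contra hn
    push Not at hn
    apply hB
    show (tr c d).2 (tr z s).1 = 0
    rw [b.tr_fst z s bzs, map_add, b.tr_other c d z bcd nzc nzd, b.tr_other c d s bcd hn.1 hn.2, add_zero]
  have B1 : B (tr c d) (tr z s) ≠ 0 := by
    rw [← hcd, ← e1]
    show (conjW φ (tr x v)).2 (φ (tr x y).1) ≠ 0
    rw [conjW_B]
    show B (tr x v) (tr x y) ≠ 0
    rw [b.B_of_ne bxv bxy nxv nxy nvy]
    exact one_ne
  have B2 : B (tr c d) (tr z t) ≠ 0 := by
    rw [← hcd, ← e2]
    show (conjW φ (tr x v)).2 (φ (tr x u).1) ≠ 0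
    rw [conjW_B]
    show B (tr x v) (tr x u) ≠ 0
    rw [b.B_of_ne bxv bxu nxv nxu nvu]
    exact one_ne
  have hcdst : tr c d = tr s t := by
    rcases key s bzs nzs B1 with rfl | rfl <;> rcases key t bzt nzt B2 with rfl | rfl
    · exact absurd rfl nst
    · rfl
    · exact b.tr_comm _ _
    · exact absurd rfl nst
  have e3 : tr s t = conjW φ (tr y u) := by
    have h2 : tr y x + tr x u = tr y u := b.tr_add y x u bxy.symm bxu
    rw [← h2, conjW_add, b.tr_comm y x, e1, e2, b.tr_comm z s]
    exact (b.tr_add s z t bzs.symm bzt).symm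
  have e4 : tr x v = tr y u := by
    apply conjW_inj φ
    rw [hcd, hcdst, e3]
  rw [e4, b.tr_other y u x (bxy.symm.trans bxu) nxy nxu] at h1
  exact one_ne h1.symm

theorem exists_letter [Finite V] [Fintype I] (φ : V ≃ₗ[ZMod 2] V) (hφ : ∀ p ∈ R, conjW φ p ∈ R) (x : Pt) :
    ∃ z, φ (w x) = w z := by
  obtain ⟨y, nyx, byx⟩ := b.exists_other x
  obtain ⟨u, nux, nuy, bux⟩ := b.exists_third x y byx.symm
  have m1 := hφ _ (b.tr_mem x y nyx.symm byx.symm)
  have m2 := hφ _ (b.tr_mem x u nux.symm bux.symm)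
  obtain ⟨c, d, ncd, bcd, hcd⟩ := b.all _ m1
  obtain ⟨c', d', ncd', bcd', hcd'⟩ := b.all _ m2
  have hB : B (tr c d) (tr c' d') ≠ 0 := by
    rw [← hcd, ← hcd']
    show (conjW φ (tr x y)).2 (φ (tr x u).1) ≠ 0
    rw [conjW_B]
    show B (tr x y) (tr x u) ≠ 0
    rw [b.B_of_ne byx.symm bux.symm nyx.symm nux.symm nuy.symm]
    exact one_ne
  obtain ⟨z, s, t, nst, nzs, nzt, bsz, btz, e1, e2, -, -⟩ := b.share bcd bcd' ncd ncd' hB
  rw [e1] at hcd
  rw [e2] at hcd'
  refine ⟨z, ?_⟩
  have hψ : ∀ p ∈ R, conjW φ.symm p ∈ R := by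
    intro p hp
    obtain ⟨q, hq, rfl⟩ := conjW_surj φ hφ hp
    have : conjW φ.symm (conjW φ q) = q := by
      refine Prod.ext ?_ ?_
      · simp [conjW]
      · ext v
        simp [conjW]
    rw [this]
    exact hq
  have inv : ∀ q : W V, conjW φ.symm (conjW φ q) = q := by
    intro q
    refine Prod.ext ?_ ?_
    · simp [conjW]
    · ext v
      simp [conjW]
  have inv' : ∀ q : W V, conjW φ (conjW φ.symm q) = q := by
    intro q
    refine Prod.ext ?_ ?_
    · simp [conjW]
    · ext v
      simp [conjW]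
  have A1 := b.star_map φ hφ byx.symm bux.symm nyx.symm nux.symm nuy.symm bsz.symm btz.symm nzs nzt nst hcd hcd'
  have A2 := b.star_map φ.symm hψ bsz.symm btz.symm nzs nzt nst byx.symm bux.symm nyx.symm nux.symm nuy.symm
    (by rw [← hcd, inv]) (by rw [← hcd', inv])
  have hval : ∀ q ∈ R, q.2 (φ (w x) + w z) = 0 := by
    intro q hq
    obtain ⟨p, hp, rfl⟩ := conjW_surj φ hφ hq
    rw [map_add, conjW_B]
    rcases zmod_cases (p.2 (w x)) with h0 | h0
    · rcases zmod_cases ((conjW φ p).2 (w z)) with h1 | h1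
      · rw [h0, h1, add_zero]
      · have h2 := A2 _ (hφ p hp) h1
        rw [inv, h0] at h2
        exact absurd h2.symm one_ne
    · rw [h0, A1 p hp h0]
      decide
  have hspan : φ (w x) + w z ∈ Submodule.span (ZMod 2) (Set.range w) := by
    refine Submodule.add_mem _ ?_ (Submodule.subset_span ⟨z, rfl⟩)
    rw [b.span_eq]
    have h1 : Submodule.span (ZMod 2) (Prod.fst '' R) ≤
        (Submodule.span (ZMod 2) (Prod.fst '' R)).comap (φ : V →ₗ[ZMod 2] V) := by
      rw [Submodule.span_le]
      rintro _ ⟨p, hp, rfl⟩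
      exact Submodule.subset_span ⟨_, hφ p hp, rfl⟩
    exact h1 (b.w_mem x)
  exact eq_of_add (b.eq_zero hspan hval)

/-- an automorphism of `V` which preserves `R` permutes the letters and the blocks -/
theorem perm [Finite V] [Fintype I] (φ : V ≃ₗ[ZMod 2] V) (hφ : ∀ p ∈ R, conjW φ p ∈ R) :
    ∃ σ : Equiv.Perm Pt, (∀ x, φ (w x) = w (σ x)) ∧ (∀ x y, blk x = blk y ↔ blk (σ x) = blk (σ y)) ∧
      ∀ x y, blk x = blk y → conjW φ (tr x y) = tr (σ x) (σ y) := by
  choose f hf using b.exists_letter φ hφ
  have hinj : Function.Injective f := fun x y hxy => b.w_inj (φ.injective (by rw [hf, hf, hxy]))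
  have hbij : Function.Bijective f := Finite.injective_iff_bijective.1 hinj
  have h1 : ∀ x y, x ≠ y → blk x = blk y → blk (f x) = blk (f y) ∧ conjW φ (tr x y) = tr (f x) (f y) := by
    intro x y hne hb
    obtain ⟨c, d, ncd, bcd, hcd⟩ := b.all _ (hφ _ (b.tr_mem x y hne hb))
    have e1 : (tr c d).2 (w (f x)) = 1 := by
      rw [← hcd, ← hf, conjW_B, b.tr_self x y hb hne]
    have e2 : (tr c d).2 (w (f y)) = 1 := by
      rw [← hcd, ← hf, conjW_B, b.tr_comm, b.tr_self y x hb.symm hne.symm]
    rcases b.mem_letters bcd e1 with h3 | h3 <;> rcases b.mem_letters bcd e2 with h4 | h4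
    · exact absurd (hinj (h3.trans h4.symm)) hne
    · rw [h3, h4]; exact ⟨bcd, hcd⟩
    · rw [h3, h4, b.tr_comm d c]; exact ⟨bcd.symm, hcd⟩
    · exact absurd (hinj (h3.trans h4.symm)) hne
  have tr0 : ∀ x, tr x x = 0 := by
    intro x
    have h2 := b.tr_add x x x rfl rfl
    simpa using h2
  have hψ : ∀ p ∈ R, conjW φ.symm p ∈ R := by
    intro p hp
    obtain ⟨q, hq, rfl⟩ := conjW_surj φ hφ hp
    have : conjW φ.symm (conjW φ q) = q := by
      refine Prod.ext ?_ ?_
      · simp [conjW]
      · ext v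
        simp [conjW]
    rw [this]
    exact hq
  refine ⟨Equiv.ofBijective f hbij, hf, fun x y => ⟨fun hb => ?_, fun hb => ?_⟩, fun x y hb => ?_⟩
  · by_cases hne : x = y
    · rw [hne]
    · exact (h1 x y hne hb).1
  · by_cases hne : x = y
    · rw [hne]
    have hne' : f x ≠ f y := fun hc => hne (hinj hc)
    have hb' : blk (f x) = blk (f y) := hb
    obtain ⟨c, d, ncd, bcd, hcd⟩ := b.all _ (hψ _ (b.tr_mem (f x) (f y) hne' hb'))
    have e1 : (tr c d).2 (w x) = 1 := by
      rw [← hcd]
      have := conjW_B φ.symm (tr (f x) (f y)) (w (f x))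
      rw [← hf x, LinearEquiv.symm_apply_apply, hf x] at this
      rw [this, b.tr_self _ _ hb' hne']
    have e2 : (tr c d).2 (w y) = 1 := by
      rw [← hcd]
      have := conjW_B φ.symm (tr (f x) (f y)) (w (f y))
      rw [← hf y, LinearEquiv.symm_apply_apply, hf y] at this
      rw [this, b.tr_comm, b.tr_self _ _ hb'.symm hne'.symm]
    rcases b.mem_letters bcd e1 with h3 | h3 <;> rcases b.mem_letters bcd e2 with h4 | h4
    · rw [h3, h4]
    · rw [h3, h4]; exact bcd
    · rw [h3, h4]; exact bcd.symm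
    · rw [h3, h4]
  · by_cases hne : x = y
    · rw [hne, tr0]
      show _ = tr (f y) (f y)
      rw [tr0]
      refine Prod.ext ?_ ?_
      · simp [conjW]
      · ext v
        simp [conjW]
    · exact (h1 x y hne hb).2

end Blk

end Cfsg.Agent.Omega.NOThreeL.RRed.TvBlk

end
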