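import Cfsg.Agent.Mrg.Omega.NOThreeL.RRed.TvBlk
import Cfsg.Agent.Mrg.Omega.Transv.Point
import Cfsg.Agent.Mrg.Omega.TV.Full
import Cfsg.Agent.Mrg.Omega.FFBr.Main


/-!
# The block theorem for transvections over `𝔽₂`: bridge to a group (#23492, #23880)

`V`, `M ≤ N(V)` subgroups of `G`, `V` elementary abelian, `S` a Sylow 2-subgroup of `G` in `M`, no over-offender of `M`
on `V`, `V = ⟨C_V(S)^M⟩` (`GHyp S V M`).  `XX H.norm = M / C_M(V)` acts on `EA V H.sq` = `V` written additively.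

* `faith`, `GHyp.hno`, `GHyp.hgen`, `GHyp.core` : the hypotheses of `TvSys.sys_of`;
* `exists_tv`, `act_of_tv` : elements of `M` which act as transvections.
-/

set_option autoImplicit false
set_option linter.unusedSectionVars false

namespace Cfsg.Agent.Omega.NOThreeL.RRed.TvG

open Subgroup Cfsg.Agent.Omega.TV Cfsg.Agent.Omega.FFBr
open Cfsg.Agent.Omega.Transv (Du Faith Tv fixS mem_fixS smul_zmod zmod_cases)
open Cfsg.Agent.Omega.FFThm (ElemM OffM NoOverM)

universe u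

variable {G : Type u} [Group G] {V M : Subgroup G}

/-- the action of `M / C_M(V)` on `V`, additively -/
instance instAct (sq : ∀ x ∈ V, x * x = 1) (h : M ≤ normalizer (V : Set G)) :
    DistribMulAction (XX h) (EA V sq) where
  smul x a := (Additive.ofMul (x • (Additive.toMul (a : Additive V) : V)) : Additive V)
  one_smul a := congrArg Additive.ofMul (one_smul (XX h) (Additive.toMul (a : Additive V) : V))
  mul_smul x y a := congrArg Additive.ofMul (mul_smul x y (Additive.toMul (a : Additive V) : V))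
  smul_zero x := congrArg Additive.ofMul (show x • (1 : V) = 1 from smul_one x)
  smul_add x a b := congrArg Additive.ofMul
    (smul_mul' x (Additive.toMul (a : Additive V) : V) (Additive.toMul (b : Additive V) : V))

variable {sq : ∀ x ∈ V, x * x = 1} {h : M ≤ normalizer (V : Set G)}

theorem val_smul (m : M) (a : EA V sq) : (pr h m • a).val = (m : G) * a.val * (m : G)⁻¹ := rfl

theorem smul_mk (m : M) {v : G} (hv : v ∈ V) (hv' : (m : G) * v * (m : G)⁻¹ ∈ V) :
    pr h m • EA.mk sq v hv = EA.mk sq ((m : G) * v * (m : G)⁻¹) hv' := rfl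

theorem conj_mem (h : M ≤ normalizer (V : Set G)) {m v : G} (hm : m ∈ M) (hv : v ∈ V) : m * v * m⁻¹ ∈ V :=
  (mem_normalizer_iff.1 (h hm) v).1 hv

theorem smul_eq_iff (m : M) (a : EA V sq) : pr h m • a = a ↔ (m : G) * a.val = a.val * m := by
  rw [← EA.val_inj, val_smul, mul_inv_eq_iff_eq_mul]

theorem faith (sq : ∀ x ∈ V, x * x = 1) (h : M ≤ normalizer (V : Set G)) : Faith (XX h) (EA V sq) := by
  intro x hx
  refine FFBr.faith h x fun v => ?_
  exact congrArg Additive.toMul (hx (Additive.ofMul v))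

/-- a commuting element of `V` -/
theorem mem_fix_im {A : Subgroup G} (hA : A ≤ M) (a : EA V sq) :
    a ∈ fixS (EA V sq) (im h A) ↔ a.val ∈ centralizer (A : Set G) := by
  rw [mem_centralizer_iff, mem_fixS]
  constructor
  · intro ha x hx
    exact (smul_eq_iff ⟨x, hA hx⟩ a).1 (ha _ ⟨⟨x, hA hx⟩, hx, rfl⟩)
  · rintro ha _ ⟨x, hx, rfl⟩
    exact (smul_eq_iff x a).2 (ha x hx)

theorem card_fix_im {A : Subgroup G} (hA : A ≤ M) :
    Nat.card (fixS (EA V sq) (im h A)) = Nat.card ↥(V ⊓ centralizer (A : Set G)) :=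
  Nat.card_congr
    ⟨fun y => ⟨(y : EA V sq).val, (y : EA V sq).val_mem, (mem_fix_im hA _).1 y.2⟩,
      fun x => ⟨EA.mk sq x x.2.1, (mem_fix_im hA _).2 x.2.2⟩, fun _ => rfl, fun _ => rfl⟩

/-- the preimage in `G` -/
def pre (h : M ≤ normalizer (V : Set G)) (A : Subgroup (XX h)) : Subgroup G := (A.comap (pr h)).map M.subtype

theorem pre_le (A : Subgroup (XX h)) : pre h A ≤ M := map_subtype_le _

theorem mem_pre {A : Subgroup (XX h)} {x : G} : x ∈ pre h A ↔ ∃ hx : x ∈ M, pr h ⟨x, hx⟩ ∈ A := by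
  constructor
  · rintro ⟨y, hy, rfl⟩
    exact ⟨y.2, hy⟩
  · rintro ⟨hx, h1⟩
    exact ⟨⟨x, hx⟩, h1, rfl⟩

theorem im_pre (A : Subgroup (XX h)) : im h (pre h A) = A := by
  ext x
  rw [mem_im]
  constructor
  · rintro ⟨a, ha, rfl⟩
    obtain ⟨_, h1⟩ := mem_pre.1 ha
    exact h1
  · intro hx
    obtain ⟨a, rfl⟩ := pr_surjective h x
    exact ⟨a, mem_pre.2 ⟨a.2, hx⟩, rfl⟩

theorem elemM_pre {A : Subgroup (XX h)} (hA : IsElementaryAbelian 2 A) : ElemM V (pre h A) := by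
  obtain ⟨hc, h2⟩ := hA
  refine ⟨fun a ha => ?_, fun a ha b hb => ?_⟩
  · obtain ⟨ha', h1⟩ := mem_pre.1 ha
    have h3 : pr h (⟨a, ha'⟩ ^ 2) = 1 := by rw [map_pow]; exact h2 _ h1
    exact (pr_eq_one h).1 h3
  · obtain ⟨ha', h1⟩ := mem_pre.1 ha
    obtain ⟨hb', h1'⟩ := mem_pre.1 hb
    have h3 : pr h ⟨a, ha'⟩ * pr h ⟨b, hb'⟩ = pr h ⟨b, hb'⟩ * pr h ⟨a, ha'⟩ :=
      congrArg Subtype.val (hc.is_comm.comm ⟨_, h1⟩ ⟨_, h1'⟩)
    have h4 : pr h (⟨a, ha'⟩ * ⟨b, hb'⟩ * ⟨a, ha'⟩⁻¹ * ⟨b, hb'⟩⁻¹) = 1 := by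
      rw [map_mul, map_mul, map_mul, map_inv, map_inv, h3]; group
    exact (pr_eq_one h).1 h4

/-- no over-offender -/
theorem hno_of [Finite G] (hn : NoOverM V M) (A : Subgroup (XX h)) (hA : IsElementaryAbelian 2 A) :
    Nat.card A * Nat.card (fixS (EA V sq) A) ≤ Nat.card (EA V sq) := by
  have h1 := hn (pre h A) (pre_le A) (elemM_pre hA)
  have h2 := card_im h (pre_le A)
  have h3 := card_fix_im (sq := sq) (h := h) (pre_le A)
  rw [im_pre] at h2 h3
  rw [← h3, ← h2] at h1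
  have h4 : 0 < Nat.card ↥(pre h A ⊓ centralizer (V : Set G)) := Nat.card_pos
  have h5 : Nat.card (EA V sq) = Nat.card V := rfl
  rw [h5]
  refine Nat.le_of_mul_le_mul_right ?_ h4
  calc Nat.card A * Nat.card (fixS (EA V sq) A) * Nat.card ↥(pre h A ⊓ centralizer (V : Set G))
      = Nat.card A * Nat.card ↥(pre h A ⊓ centralizer (V : Set G)) * Nat.card (fixS (EA V sq) A) := by ring
    _ ≤ _ := h1

/-! ### Transvections -/

/-- an element of `M` which acts as a transvection -/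
theorem exists_tv {c x : G} (hx : x ∈ M) (hc : c ∈ V) (hT : ∀ w ∈ V, x * w * x⁻¹ = w ∨ x * w * x⁻¹ = w * c)
    (hne : x ∉ centralizer (V : Set G)) : ∃ φ, Tv (pr h ⟨x, hx⟩) (EA.mk sq c hc) φ := by
  have hne' : ∃ w ∈ V, x * w * x⁻¹ ≠ w := by
    by_contra hcon
    push Not at hcon
    apply hne
    rw [mem_centralizer_iff]
    intro w hw
    have := hcon w hw
    calc w * x = (x * w * x⁻¹) * x := by rw [this]
      _ = x * w := by group
  obtain ⟨w, hw, hw'⟩ := hne'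
  have hc1 : c ≠ 1 := by
    rintro rfl
    rcases hT w hw with e | e
    · exact hw' e
    · rw [mul_one] at e; exact hw' e
  have hr : EA.mk sq c hc ≠ 0 := fun e => hc1 (EA.val_eq_one.2 e)
  obtain ⟨φ, hφ⟩ := exists_functional (EA.crep sq M (fun c hc n hn => conj_mem h hc hn) ⟨x, hx⟩) hr (fun a => by
    rcases hT a.val a.val_mem with e | e
    · exact Or.inl (EA.ext e)
    · exact Or.inr (EA.ext e))
  refine ⟨φ, hr, ?_, fun v => EA.ext ?_⟩
  · rintro rfl
    have h1 := hφ (EA.mk sq w hw)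
    rw [LinearMap.zero_apply, zero_smul, add_zero] at h1
    exact hw' (congrArg EA.val h1)
  · exact congrArg EA.val (hφ v)

/-- the action of a transvection -/
theorem act_of_tv {m : M} {a : EA V sq} {φ : Du (EA V sq)} (ht : Tv (pr h m) a φ) {w : G} (hw : w ∈ V) :
    (m : G) * w * (m : G)⁻¹ = if φ (EA.mk sq w hw) = 0 then w else w * a.val := by
  have h1 := congrArg EA.val (ht.act (EA.mk sq w hw))
  rw [val_smul, EA.val_mk] at h1
  rw [h1]
  rcases zmod_cases (φ (EA.mk sq w hw)) with e | e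
  · rw [if_pos e, e, zero_smul, add_zero, EA.val_mk]
  · rw [if_neg (by rw [e]; decide), e, one_smul, EA.val_add, EA.val_mk]

theorem act_or_of_tv {m : M} {a : EA V sq} {φ : Du (EA V sq)} (ht : Tv (pr h m) a φ) {w : G} (hw : w ∈ V) :
    (m : G) * w * (m : G)⁻¹ = w ∨ (m : G) * w * (m : G)⁻¹ = w * a.val := by
  rw [act_of_tv ht hw]
  split
  · exact Or.inl rfl
  · exact Or.inr rfl

theorem not_mem_of_tv {m : M} {a : EA V sq} {φ : Du (EA V sq)} (ht : Tv (pr h m) a φ) :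
    (m : G) ∉ centralizer (V : Set G) := fun hc => ht.ne_one ((pr_eq_one h).2 hc)

/-- every transvection of `M / C_M(V)` comes from `M` -/
theorem exists_of_tv {d : XX h} {a : EA V sq} {φ : Du (EA V sq)} (ht : Tv d a φ) :
    ∃ m : M, pr h m = d ∧ (m : G) ∉ centralizer (V : Set G) ∧ a.val ∈ V ∧ a.val ≠ 1 ∧
      ∀ w ∈ V, (m : G) * w * (m : G)⁻¹ = w ∨ (m : G) * w * (m : G)⁻¹ = w * a.val := by
  obtain ⟨m, rfl⟩ := pr_surjective h d
  exact ⟨m, rfl, not_mem_of_tv ht, a.val_mem, fun e => ht.ne (EA.val_eq_one.1 e), fun w hw => act_or_of_tv ht hw⟩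

/-! ### The hypotheses -/

/-- the hypotheses at the group -/
structure GHyp (S V M : Subgroup G) : Prop where
  le : S ≤ M
  norm : M ≤ normalizer (V : Set G)
  sq : ∀ x ∈ V, x * x = 1
  no : NoOverM V M
  gen : ∀ K : Subgroup G, (∀ g ∈ M, ∀ z ∈ V, (∀ s ∈ S, s * z = z * s) → g * z * g⁻¹ ∈ K) → V ≤ K

namespace GHyp

variable [Finite G] {S : Sylow 2 G} (H : GHyp (S : Subgroup G) V M)
include H

/-- the Sylow 2-subgroup of `M / C_M(V)` -/
noncomputable def T : Sylow 2 (XX H.norm) := (S.subtype H.le).mapSurjective (pr_surjective H.norm)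

theorem mem_T {x : XX H.norm} : x ∈ (H.T : Subgroup (XX H.norm)) ↔ ∃ s : M, (s : G) ∈ (S : Subgroup G) ∧ pr H.norm s = x := by
  rw [T, Sylow.coe_mapSurjective]
  rfl

theorem faith : Faith (XX H.norm) (EA V H.sq) := TvG.faith _ _

theorem hno (A : Subgroup (XX H.norm)) (hA : IsElementaryAbelian 2 A) :
    Nat.card A * Nat.card (fixS (EA V H.sq) A) ≤ Nat.card (EA V H.sq) := hno_of H.no A hA

theorem hgen : Submodule.span (ZMod 2) {x : EA V H.sq | ∃ g : XX H.norm, ∃ v : EA V H.sq,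
    (∀ t ∈ H.T, t • v = v) ∧ x = g • v} = ⊤ := by
  set U := Submodule.span (ZMod 2) {x : EA V H.sq | ∃ g : XX H.norm, ∃ v : EA V H.sq,
    (∀ t ∈ H.T, t • v = v) ∧ x = g • v} with hU
  rw [eq_top_iff]
  rintro a -
  have h1 : V ≤ EA.toSub U := by
    refine H.gen _ fun g hg z hz hzS => ?_
    refine ⟨pr H.norm ⟨g, hg⟩ • EA.mk H.sq z hz, Submodule.subset_span ⟨_, EA.mk H.sq z hz, ?_, rfl⟩, rfl⟩
    intro t ht
    obtain ⟨s, hs, rfl⟩ := H.mem_T.1 ht
    exact (smul_eq_iff s _).2 (hzS s hs)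
  exact EA.val_mem_toSub.1 (h1 a.val_mem)

/-- `O₂(M / C_M(V)) = 1` -/
theorem core (N : Subgroup (XX H.norm)) (hN : N.Normal) (hN2 : IsPGroup 2 N) : N = ⊥ := by
  have hle : N ≤ (H.T : Subgroup (XX H.norm)) := by
    have h1 : IsPGroup 2 ((H.T : Subgroup (XX H.norm)) ⊔ N : Subgroup (XX H.norm)) :=
      H.T.isPGroup'.to_sup_of_normal_right hN2
    have h2 := H.T.is_maximal' h1 le_sup_left
    rw [← h2]; exact le_sup_right
  rw [eq_bot_iff]
  intro n hn
  rw [mem_bot]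
  refine H.faith n fun v => ?_
  have key : (⊤ : Submodule (ZMod 2) (EA V H.sq)) ≤ fixS (EA V H.sq) N := by
    rw [← H.hgen, Submodule.span_le]
    rintro _ ⟨g, v, hv, rfl⟩
    intro x hx
    have h1 : g⁻¹ * x * g ∈ N := by simpa using hN.conj_mem x hx g⁻¹
    have h2 := hv _ (hle h1)
    rw [mul_smul, mul_smul, inv_smul_eq_iff] at h2
    exact h2
  exact key (Submodule.mem_top : v ∈ ⊤) n hn

end GHyp

end Cfsg.Agent.Omega.NOThreeL.RRed.TvG
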