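import Cfsg.Agent.Mrg.Omega.NOThreeL.RTree
import Cfsg.Agent.Mrg.Omega.OM.KTwo.Cut
import Cfsg.Agent.Mrg.Omega.NOThreeL.RZ.Frame

section


/-!
# NO-3L, box R: `V* = V_0 × V_1` gives the frame of CARD #18791 (#19873)

`Two S V P v` : `Ω₁Z(S) = ⟨v 0, v 1⟩`, `P i ∈ P*(S)` centralises `v j` (`j ≠ i`) and moves `v i`, `V i ≤ V_{P i}` is a
four-group, `P i` is transitive on `V i#`; every `R ∈ P*(S)` centralises `v 0` or `v 1` and normalises `V 0`, `V 1`.

* `Two.not_conj` : `v 0`, `v 1` are not conjugate in `G`;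
* `Two.fr` : with `RB S`: `TC.Fr S V P v`.
-/

set_option autoImplicit false
set_option linter.unusedSectionVars false

namespace Cfsg.Agent.Omega.NOThreeL.RRed

open Subgroup Cfsg Cfsg.Agent.ZN Cfsg.Agent.Omega.MinPar Cfsg.Agent.Omega.Frame Cfsg.Agent.Omega.FrameNOFF
open Cfsg.Agent.Omega.Node.NO3L Cfsg.Agent.Omega.NOThreeL.Basic Cfsg.Agent.Omega.NOThreeL.RTree
open Cfsg.Agent.Omega.NoFF.Basic (conj_conj mem_conj conj_le_iff conj_le_centralizer comm_symm comm_mono)
open Cfsg.Agent.Omega.NOThreeL.Pair (conj_eq_of_mem)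
open Cfsg.Agent.Omega.FFThm (syl_of_sylow)
open Cfsg.Agent.MinSimple.VModule (le_normalizer_o2 zc_le_zl le_centralizer_zc)
open Cfsg.Agent.MinSimple.MinParabolic (IsMinPar)
open scoped Pointwise

universe u

variable {G : Type u} [Group G]

/-- The configuration `V* = V_0 × V_1` of box R. -/
structure Two (S : Subgroup G) (V P : Fin 2 → Subgroup G) (v : Fin 2 → G) : Prop where
  four : ∀ i, Nat.card (V i) = 4
  mem : ∀ i, v i ∈ V i
  ne : ∀ i, v i ≠ 1
  zS : ∀ x, x ∈ zc S ↔ x = 1 ∨ x = v 0 ∨ x = v 1 ∨ x = v 0 * v 1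
  par : ∀ i, IsParS S (P i)
  VP : ∀ i, V i ≤ zl S (P i)
  PC : ∀ i j, i ≠ j → P i ≤ centralizer ({v j} : Set G)
  mv : ∀ i, ¬ P i ≤ centralizer ({v i} : Set G)
  tr : ∀ i, ∀ x ∈ V i, x ≠ 1 → ∃ p ∈ P i, p * v i * p⁻¹ = x
  cen : ∀ R, IsParS S R → R ≤ centralizer ({v 0} : Set G) ∨ R ≤ centralizer ({v 1} : Set G)
  nrm : ∀ R, IsParS S R → ∀ i, R ≤ normalizer (V i : Set G)

namespace Two

section one

variable {S : Subgroup G} {V P : Fin 2 → Subgroup G} {v : Fin 2 → G} (T : Two S V P v)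
include T

theorem v_zc (i : Fin 2) : v i ∈ zc S := by
  rw [T.zS]
  rcases Fin.exists_fin_two.1 ⟨i, rfl⟩ with h | h
  · exact Or.inr (Or.inl (by rw [h]))
  · exact Or.inr (Or.inr (Or.inl (by rw [h])))

theorem comm_s (i : Fin 2) {s : G} (hs : s ∈ S) : s * v i = v i * s := (mem_zc.1 (T.v_zc i)).2.1 s hs

theorem v_sq (i : Fin 2) : v i * v i = 1 := by
  rw [← pow_two]; exact (mem_zc.1 (T.v_zc i)).2.2

theorem v_ne : v 0 ≠ v 1 := by
  intro h
  apply T.mv 0
  rw [h]
  exact T.PC 0 1 (by decide)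

theorem cen_of {i j : Fin 2} (hij : i ≠ j) {R : Subgroup G} (hR : IsParS S R)
    (h : ¬ R ≤ centralizer ({v i} : Set G)) : R ≤ centralizer ({v j} : Set G) := by
  have h2 : ∀ a b : Fin 2, a ≠ b → (a = 0 ∧ b = 1) ∨ (a = 1 ∧ b = 0) := by decide
  rcases h2 i j hij with ⟨rfl, rfl⟩ | ⟨rfl, rfl⟩
  · exact (T.cen R hR).resolve_left h
  · exact (T.cen R hR).resolve_right h

end one

variable [Finite G] {S : Sylow 2 G} {V P : Fin 2 → Subgroup G} {v : Fin 2 → G}
  (T : Two (S : Subgroup G) V P v)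
include T

/-- `v 0`, `v 1` are not conjugate in `G`. -/
theorem not_conj (g : G) : g * v 0 * g⁻¹ ≠ v 1 := by
  intro h
  have hf : Fact (Nat.Prime 2) := ⟨Nat.prime_two⟩
  have hc0 : v 0 ∈ centralizer ((S : Subgroup G) : Set G) := zc_le_centralizer _ (T.v_zc 0)
  have hc1 : v 1 ∈ centralizer ((S : Subgroup G) : Set G) := zc_le_centralizer _ (T.v_zc 1)
  obtain ⟨n', hn', h1'⟩ := S.conj_eq_normalizer_conj_of_mem_centralizer (v 0) g⁻¹ hc0
    (by rw [inv_inv, h]; exact hc1)
  rw [inv_inv, h] at h1'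
  obtain ⟨n, hn, h1⟩ : ∃ n ∈ normalizer ((S : Subgroup G) : Set G), n * v 0 * n⁻¹ = v 1 :=
    ⟨n'⁻¹, inv_mem hn', by rw [inv_inv, ← h1']⟩
  have hnS : (S : Subgroup G).map (MulAut.conj n).toMonoidHom = (S : Subgroup G) := by
    ext x
    rw [mem_map]
    constructor
    · rintro ⟨y, hy, rfl⟩
      exact (mem_normalizer_iff.1 hn y).1 hy
    · intro hx
      exact ⟨n⁻¹ * x * n, (mem_normalizer_iff''.1 hn x).1 hx, by
        show n * (n⁻¹ * x * n) * n⁻¹ = x
        group⟩
  have hRp := (T.par 0).map (MulAut.conj n)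
  rw [hnS] at hRp
  set R := (P 0).map (MulAut.conj n).toMonoidHom with hR
  have hcent : ∀ x, R ≤ centralizer ({n * x * n⁻¹} : Set G) ↔ P 0 ≤ centralizer ({x} : Set G) := by
    intro x
    constructor
    · intro h2 p hp
      have h3 : n * p * n⁻¹ ∈ R := ⟨p, hp, rfl⟩
      have h4 := mem_centralizer_singleton_iff.1 (h2 h3)
      refine mem_centralizer_singleton_iff.2 ?_
      calc p * x = n⁻¹ * (n * p * n⁻¹ * (n * x * n⁻¹)) * n := by group
        _ = x * p := by rw [h4]; group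
    · rintro h2 _ ⟨p, hp, rfl⟩
      have h4 := mem_centralizer_singleton_iff.1 (h2 hp)
      refine mem_centralizer_singleton_iff.2 ?_
      show n * p * n⁻¹ * (n * x * n⁻¹) = n * x * n⁻¹ * (n * p * n⁻¹)
      calc n * p * n⁻¹ * (n * x * n⁻¹) = n * (p * x) * n⁻¹ := by group
        _ = n * x * n⁻¹ * (n * p * n⁻¹) := by rw [h4]; group
  have hR1 : ¬ R ≤ centralizer ({v 1} : Set G) := by
    rw [← h1, hcent]; exact T.mv 0
  have hR0 : R ≤ centralizer ({v 0} : Set G) := T.cen_of (by decide) hRp hR1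
  have hRw : R ≤ centralizer ({n * v 1 * n⁻¹} : Set G) := (hcent _).2 (T.PC 0 1 (by decide))
  have hw : n * v 1 * n⁻¹ ∈ zc (S : Subgroup G) := by
    have h3 := (T.v_zc 1)
    rw [mem_zc] at h3 ⊢
    refine ⟨(mem_normalizer_iff.1 hn _).1 h3.1, fun t ht => ?_, ?_⟩
    · have h4 := h3.2.1 _ ((mem_normalizer_iff''.1 hn t).1 ht)
      calc t * (n * v 1 * n⁻¹) = n * ((n⁻¹ * t * n) * v 1) * n⁻¹ := by group
        _ = n * v 1 * n⁻¹ * t := by rw [h4]; group
    · have h4 := h3.2.2
      have e : (n * v 1 * n⁻¹) ^ 2 = n * (v 1 ^ 2) * n⁻¹ := by rw [pow_two, pow_two]; group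
      rw [e, h4]; group
  have hw0 : n * v 1 * n⁻¹ = v 0 := by
    rcases (T.zS _).1 hw with h2 | h2 | h2 | h2
    · exfalso
      apply T.ne 1
      have e : v 1 = n⁻¹ * (n * v 1 * n⁻¹) * n := by group
      rw [e, h2]; group
    · exact h2
    · rw [h2] at hRw
      exact absurd hRw hR1
    · exfalso
      apply hR1
      intro r hr
      have h3 := mem_centralizer_singleton_iff.1 (hRw hr)
      have h4 := mem_centralizer_singleton_iff.1 (hR0 hr)
      rw [h2] at h3
      refine mem_centralizer_singleton_iff.2 ?_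
      have h5 : v 0 * (r * v 1) = v 0 * (v 1 * r) := by
        calc v 0 * (r * v 1) = (r * v 0) * v 1 := by rw [h4]; group
          _ = r * (v 0 * v 1) := by group
          _ = v 0 * (v 1 * r) := by rw [h3]; group
      exact mul_left_cancel h5
  -- an odd power of `n` lies in `S`
  obtain ⟨a, m, hm, hord⟩ := Nat.exists_eq_two_pow_mul_odd (orderOf_pos n).ne'
  have hnm : n ^ m ∈ (S : Subgroup G) := by
    have h2 : IsPGroup 2 (zpowers (n ^ m)) := by
      refine IsPGroup.of_card (n := a) ?_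
      rw [Nat.card_zpowers, orderOf_pow, hord, Nat.gcd_eq_right (Dvd.intro_left _ rfl),
        Nat.mul_div_cancel _ (Nat.pos_of_ne_zero (by rintro rfl; simp at hm))]
    have h3 : zpowers (n ^ m) ≤ normalizer ((S : Subgroup G) : Set G) := by
      rw [zpowers_le]; exact pow_mem hn m
    have h4 : IsPGroup 2 ((S : Subgroup G) ⊔ zpowers (n ^ m) : Subgroup G) :=
      IsPGroup.to_sup_of_normal_left' S.isPGroup' h2 h3
    have h5 := S.is_maximal' h4 le_sup_left
    exact h5.le (mem_sup_right (mem_zpowers _))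
  have hpow : ∀ j : ℕ, n ^ (2 * j) * v 0 = v 0 * n ^ (2 * j) := by
    intro j
    have h2 : n ^ 2 * v 0 = v 0 * n ^ 2 := by
      have e1 : n * v 0 = v 1 * n := by rw [← h1]; group
      have e2 : n * v 1 = v 0 * n := by rw [← hw0]; group
      calc n ^ 2 * v 0 = n * (n * v 0) := by rw [pow_two]; group
        _ = (n * v 1) * n := by rw [e1]; group
        _ = v 0 * n ^ 2 := by rw [e2, pow_two]; group
    rw [pow_mul]
    exact (show Commute (n ^ 2) (v 0) from h2).pow_left j
  obtain ⟨j, hj⟩ := hm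
  have h6 := T.comm_s 0 hnm
  apply T.v_ne
  have e1 : n * v 0 = v 1 * n := by rw [← h1]; group
  have h7 : v 1 * n ^ m = v 0 * n ^ m := by
    rw [← h6, hj, pow_succ']
    calc v 1 * (n * n ^ (2 * j)) = (v 1 * n) * n ^ (2 * j) := by group
      _ = n * (v 0 * n ^ (2 * j)) := by rw [← e1]; group
      _ = n * n ^ (2 * j) * v 0 := by rw [← hpow j]; group
  exact (mul_right_cancel h7).symm

theorem not_conj' {i j : Fin 2} (hij : i ≠ j) (g : G) : g * v i * g⁻¹ ≠ v j := by
  have h2 : ∀ a b : Fin 2, a ≠ b → (a = 0 ∧ b = 1) ∨ (a = 1 ∧ b = 0) := by decide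
  rcases h2 i j hij with ⟨rfl, rfl⟩ | ⟨rfl, rfl⟩
  · exact T.not_conj g
  · intro h
    apply T.not_conj g⁻¹
    rw [← h]; group

theorem le_C (i : Fin 2) : (S : Subgroup G) ≤ centralizer ({v i} : Set G) := fun _ hs =>
  mem_centralizer_singleton_iff.2 (T.comm_s i hs)

theorem CZ_le (i : Fin 2) : CZ (S : Subgroup G) ≤ centralizer ({v i} : Set G) :=
  centralizer_le (Set.singleton_subset_iff.2 (T.v_zc i))

/-- `C_G(v i)` is long. -/
theorem isLong (i : Fin 2) : IsLong (S : Subgroup G) (centralizer ({v i} : Set G)) where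
  loc := by
    refine isLoc_of_le_normalizer S (T.le_C i) (U := zpowers (v i)) ?_ ?_ ?_
    · refine S.isPGroup'.to_le ?_
      rw [zpowers_le]; exact zc_le _ (T.v_zc i)
    · rw [Ne, zpowers_eq_bot]; exact T.ne i
    · refine le_trans ?_ (centralizer_le_normalizer _)
      intro g hg
      refine mem_centralizer_iff.2 fun x hx => ?_
      obtain ⟨k, rfl⟩ := mem_zpowers_iff.1 hx
      have e : Commute (v i) g := (mem_centralizer_singleton_iff.1 hg).symm
      exact (e.zpow_left k).eq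
  cz := T.CZ_le i

/-- **The frame of CARD #18791.** -/
theorem fr (B : RB S) : TC.Fr (S : Subgroup G) V P v := by
  have hc := B.ctx.char2
  have hel : ∀ i, IsElementaryAbelian 2 (zl (S : Subgroup G) (P i)) := fun i =>
    FFThm.elem_zl hc S (T.par i).isLoc
  have hSN : ∀ i, (S : Subgroup G) ≤ normalizer (V i : Set G) := fun i =>
    (T.par i).le.trans (T.nrm _ (T.par i) i)
  refine
    { char2 := hc
      four := T.four
      sqV := fun i x hx => (hel i).2 x (T.VP i hx)
      mem := T.mem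
      ne := T.ne
      zT := T.zS
      syl := fun i => syl_of_sylow S (T.le_C i)
      sylN := fun i => syl_of_sylow S (hSN i)
      par := fun i => (T.par i).toIsMinPar
      PC := T.PC
      PN := fun i j => T.nrm _ (T.par i) j
      mv := T.mv
      noff := ?_
      uni := ?_
      nonloc := ?_ }
  · intro i j g h h1 h2
    by_contra hcon
    obtain ⟨a, ha, hab⟩ := Set.not_subset.1 hcon
    have hab' : ∃ b ∈ MulAut.conj h • V j, ¬ b * a = a * b := by
      by_contra h3
      push Not at h3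
      exact hab (mem_centralizer_iff.2 fun b hb => h3 b hb)
    obtain ⟨b, hb, hne⟩ := hab'
    set w := a * b * a⁻¹ * b⁻¹ with hw
    have hw1 : w ≠ 1 := by
      intro h3
      apply hne
      have h4 : a * b = b * a := by
        calc a * b = w * (b * a) := by rw [hw]; group
          _ = b * a := by rw [h3, one_mul]
      exact h4.symm
    have hwA : w ∈ MulAut.conj g • V i := by
      have h3 := (mem_normalizer_iff.1 (h2 hb) a⁻¹).1 (inv_mem ha)
      have e : w = a * (b * a⁻¹ * b⁻¹) := by rw [hw]; group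
      rw [e]; exact mul_mem ha h3
    have hwB : w ∈ MulAut.conj h • V j :=
      mul_mem ((mem_normalizer_iff.1 (h1 ha) b).1 hb) (inv_mem hb)
    obtain ⟨p, hp, hpw⟩ := T.tr i (g⁻¹ * w * g) (mem_conj.1 hwA) (fun h3 => hw1 (by
      have e : w = g * (g⁻¹ * w * g) * g⁻¹ := by group
      rw [e, h3]; group))
    obtain ⟨q, hq, hqw⟩ := T.tr j (h⁻¹ * w * h) (mem_conj.1 hwB) (fun h3 => hw1 (by
      have e : w = h * (h⁻¹ * w * h) * h⁻¹ := by group
      rw [e, h3]; group))
    have e1 : w = (g * p) * v i * (g * p)⁻¹ := by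
      calc w = g * (g⁻¹ * w * g) * g⁻¹ := by group
        _ = (g * p) * v i * (g * p)⁻¹ := by rw [← hpw]; group
    have e2 : w = (h * q) * v j * (h * q)⁻¹ := by
      calc w = h * (h⁻¹ * w * h) * h⁻¹ := by group
        _ = (h * q) * v j * (h * q)⁻¹ := by rw [← hqw]; group
    by_cases hij : i = j
    · subst hij
      set c := (g * p)⁻¹ * (h * q) with hcdef
      have hcc : c ∈ centralizer ({v i} : Set G) := by
        refine mem_centralizer_singleton_iff.2 ?_
        have h3 : (g * p) * v i * (g * p)⁻¹ = (h * q) * v i * (h * q)⁻¹ := by rw [← e1, ← e2]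
        calc c * v i = (g * p)⁻¹ * ((h * q) * v i * (h * q)⁻¹) * (h * q) := by rw [hcdef]; group
          _ = v i * c := by rw [← h3, hcdef]; group
      have hF := NotA.FH_comm hc B.data B.notA (T.isLong i)
      have hVF : V i ≤ FH (S : Subgroup G) (centralizer ({v i} : Set G)) :=
        (T.VP i).trans ((zl_le_WP (T.par i)).trans (WP_le_FH _ _))
      have hVc : MulAut.conj c • V i ≤ FH (S : Subgroup G) (centralizer ({v i} : Set G)) := by
        refine (conj_le_iff.2 ((T.VP i).trans (zl_le_WP (T.par i)))).trans (conj_WP_le_FH _ hcc)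
      have h4 : V i ≤ centralizer ((MulAut.conj c • V i : Subgroup G) : Set G) := comm_mono hF hVF hVc
      have h5 := conj_le_centralizer (g := g * p) h4
      rw [conj_conj] at h5
      have e3 : g * p * c = h * q := by rw [hcdef]; group
      rw [e3, ← conj_conj g p, ← conj_conj h q, conj_eq_of_mem (T.nrm _ (T.par i) i hp),
        conj_eq_of_mem (T.nrm _ (T.par i) i hq)] at h5
      exact hcon h5
    · refine T.not_conj' hij ((h * q)⁻¹ * (g * p)) ?_
      have h3 : (g * p) * v i * (g * p)⁻¹ = (h * q) * v j * (h * q)⁻¹ := by rw [← e1, ← e2]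
      calc (h * q)⁻¹ * (g * p) * v i * ((h * q)⁻¹ * (g * p))⁻¹
          = (h * q)⁻¹ * ((g * p) * v i * (g * p)⁻¹) * (h * q) := by group
        _ = v j := by rw [h3]; group
  · intro i j hij R hR hRj hRi
    have hIP : IsPar (S : Subgroup G) R := by
      refine ⟨hR, ?_⟩
      exact ((T.isLong j).loc.of_le S hR.le hRj).o2_ne
    refine T.nrm R ⟨hIP, fun h => hRi ?_⟩ i
    exact (NoFF.LinesPlug.le_CC S hIP h).trans (T.CZ_le i)
  · intro U hU h0 h1
    refine Merge.nonLoc_MZ B.ctx B.full U hU (sSup_le fun R hR => ?_) ((T.CZ_le 0).trans h0)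
    rcases T.cen R hR with h | h
    · exact h.trans h0
    · exact h.trans h1

end Two

end Cfsg.Agent.Omega.NOThreeL.RRed

end

section


/-!
# NO-3L, box R, the smallest shape: definitions ([R-red], #21468)

`W = zl S (MZ S)`, `M = MZ S = ⟨P*(S)⟩`.

* `Ln S P z u c` : `V_P = {1, z, u, u z} × {1, c}`, `P` centralises `c`, `S` normalises the line `{1, z, u, u z}`,
  `{z, u, u z} = z^P`;
* `Sm S` : the smallest shape;
* `Tv W c x` : `x` acts on `W` as a transvection with centre `c`, or trivially;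
* `Sd S P₀ v₁ v₂ a t` : the line `⟨v₁, a⟩` of `P₀`, the transvection `t ∈ S`, unique in `M` up to `C_M(W)`.
-/

set_option autoImplicit false
set_option linter.unusedSectionVars false

namespace Cfsg.Agent.Omega.NOThreeL.RRed

open Subgroup Cfsg Cfsg.Agent.ZN Cfsg.Agent.Omega.MinPar Cfsg.Agent.Omega.Frame Cfsg.Agent.Omega.FrameNOFF
open Cfsg.Agent.Omega.Node.NO3L Cfsg.Agent.Omega.NOThreeL.Basic Cfsg.Agent.Omega.NOThreeL.RTree
open Cfsg.Agent.Omega.NOThreeL.Merge (MZ)
open Cfsg.Agent.Omega.NOThreeL.ZCut (FZ YZ XZ VZ)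
open Cfsg.Agent.Omega.NO3b.Bang (bang)
open Cfsg.Agent.Omega.FFThm (ElemM OffM NoOverM)

universe u

variable {G : Type u} [Group G]

/-- The line `{1, z, u, u z}` of `P`, and the centralised involution `c`. -/
structure Ln (S P : Subgroup G) (z u c : G) : Prop where
  zS : z ∈ zc S
  cS : c ∈ zc S
  z1 : z ≠ 1
  c1 : c ≠ 1
  ne : z ≠ c
  uV : u ∈ zl S P
  uu : u * u = 1
  us : ∀ s ∈ S, s * u * s⁻¹ = u ∨ s * u * s⁻¹ = u * z
  mv : ∃ s ∈ S, s * u * s⁻¹ ≠ u
  cP : ∀ p ∈ P, p * c * p⁻¹ = c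
  orb : ∀ p ∈ P, p * z * p⁻¹ = z ∨ p * z * p⁻¹ = u ∨ p * z * p⁻¹ = u * z
  tr : ∃ p ∈ P, p * z * p⁻¹ = u
  all : ∀ x ∈ zl S P, ∃ y, (y = 1 ∨ y = z ∨ y = u ∨ y = u * z) ∧ (x = y ∨ x = y * c)

/-- **The smallest shape** (with `RR S = 1`, which follows from (RC'): `RZ.eq_bot_of_rc`). -/
structure Sm [Finite G] (S : Sylow 2 G) : Prop extends RB S where
  rr : RZ.RR (S : Subgroup G) = ⊥
  z4 : Nat.card (zc (S : Subgroup G)) = 4
  v8 : ∀ P, IsParS (S : Subgroup G) P → Nat.card (zl (S : Subgroup G) P) = 8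

/-- `x` acts on `W` as a transvection with centre `c`, or trivially. -/
def Tv (W : Subgroup G) (c x : G) : Prop := ∀ w ∈ W, x * w * x⁻¹ = w ∨ x * w * x⁻¹ = w * c

/-- **Side 1**: `P₀`, its line `⟨v₁, a⟩`, the transvection `t`. -/
structure Sd [Finite G] (S : Sylow 2 G) (P₀ : Subgroup G) (v₁ v₂ a t : G) : Prop where
  sm : Sm S
  par : IsParS (S : Subgroup G) P₀
  ln : Ln (S : Subgroup G) P₀ v₁ a v₂
  tS : t ∈ (S : Subgroup G)
  tv : Tv (zl (S : Subgroup G) (MZ (S : Subgroup G))) v₁ t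
  ta : t * a * t⁻¹ = a * v₁
  no : NoOverM (zl (S : Subgroup G) (MZ (S : Subgroup G))) (MZ (S : Subgroup G))
  uni : ∀ x ∈ MZ (S : Subgroup G), Tv (zl (S : Subgroup G) (MZ (S : Subgroup G))) v₁ x →
    x ∈ centralizer (zl (S : Subgroup G) (MZ (S : Subgroup G)) : Set G) ∨
      x⁻¹ * t ∈ centralizer (zl (S : Subgroup G) (MZ (S : Subgroup G)) : Set G)

/-- The line. -/
def li (z u : G) : Subgroup G := closure {z, u}

namespace Ln

variable {S P : Subgroup G} {z u c : G} (h : Ln S P z u c)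
include h

theorem zz : z * z = 1 := by rw [← pow_two]; exact (Cfsg.Agent.MinSimple.VModule.mem_zc.1 h.zS).2.2

theorem cc : c * c = 1 := by rw [← pow_two]; exact (Cfsg.Agent.MinSimple.VModule.mem_zc.1 h.cS).2.2

theorem zs {s : G} (hs : s ∈ S) : s * z = z * s := (Cfsg.Agent.MinSimple.VModule.mem_zc.1 h.zS).2.1 s hs

theorem cs {s : G} (hs : s ∈ S) : s * c = c * s := (Cfsg.Agent.MinSimple.VModule.mem_zc.1 h.cS).2.1 s hs

theorem z_S : z ∈ S := (Cfsg.Agent.MinSimple.VModule.mem_zc.1 h.zS).1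

theorem c_S : c ∈ S := (Cfsg.Agent.MinSimple.VModule.mem_zc.1 h.cS).1

theorem uz : u * z = z * u := by
  rcases h.us z h.z_S with e | e
  · calc u * z = (z * u * z⁻¹) * z := by rw [e]
      _ = z * u := by group
  · exfalso
    apply h.z1
    have e1 : z * u = u * (z * z) := by
      calc z * u = (z * u * z⁻¹) * z := by group
        _ = u * (z * z) := by rw [e]; group
    rw [h.zz, mul_one] at e1
    exact mul_eq_right.1 e1

theorem u1 : u ≠ 1 := by
  rintro rfl
  obtain ⟨s, _, hs⟩ := h.mv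
  exact hs (by group)

theorem uz_ne : u ≠ z := by
  rintro rfl
  obtain ⟨s, hs, h1⟩ := h.mv
  exact h1 (by rw [h.zs hs]; group)

/-- `S` centralises no element of the line but `1`, `z`. -/
theorem exists_mv : ∃ s ∈ S, s * u * s⁻¹ = u * z := by
  obtain ⟨s, hs, h1⟩ := h.mv
  exact ⟨s, hs, (h.us s hs).resolve_left h1⟩

/-- `P` is transitive on the line. -/
theorem tr_all (hSP : S ≤ P) {x : G} (hx : x = z ∨ x = u ∨ x = u * z) : ∃ p ∈ P, p * z * p⁻¹ = x := by
  obtain ⟨p, hp, h1⟩ := h.tr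
  rcases hx with rfl | rfl | rfl
  · exact ⟨1, one_mem _, by group⟩
  · exact ⟨p, hp, h1⟩
  · obtain ⟨s, hs, h2⟩ := h.exists_mv
    refine ⟨s * p, mul_mem (hSP hs) hp, ?_⟩
    calc s * p * z * (s * p)⁻¹ = s * (p * z * p⁻¹) * s⁻¹ := by group
      _ = u * z := by rw [h1, h2]

theorem mem_li {x : G} : x ∈ li z u ↔ x = 1 ∨ x = z ∨ x = u ∨ x = u * z := by
  constructor
  · intro hx
    unfold li at hx
    induction hx using Subgroup.closure_induction with
    | mem x hx =>
      rcases hx with rfl | hx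
      · exact Or.inr (Or.inl rfl)
      · rw [Set.mem_singleton_iff] at hx
        exact Or.inr (Or.inr (Or.inl hx))
    | one => exact Or.inl rfl
    | mul x y _ _ hx hy =>
      have e0 := h.zz
      have e1 := h.uu
      have e2 := h.uz
      have e3 : z * (u * z) = u := by rw [e2, ← mul_assoc, e0, one_mul]
      have e4 : u * (u * z) = z := by rw [← mul_assoc, e1, one_mul]
      have e5 : u * z * z = u := by rw [mul_assoc, e0, mul_one]
      have e6 : u * z * u = z := by rw [e2, mul_assoc, e1, mul_one]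
      have e7 : u * z * (u * z) = 1 := by rw [← mul_assoc, e6, e0]
      rcases hx with rfl | rfl | rfl | rfl <;> rcases hy with rfl | rfl | rfl | rfl <;>
        simp [e0, e1, e3, e4, e5, e6, e7, ← e2]
    | inv x _ hx =>
      have e0 : z⁻¹ = z := inv_eq_of_mul_eq_one_left h.zz
      have e1 : u⁻¹ = u := inv_eq_of_mul_eq_one_left h.uu
      rcases hx with rfl | rfl | rfl | rfl
      · simp
      · simp [e0]
      · simp [e1]
      · right; right; right
        rw [mul_inv_rev, e0, e1, h.uz]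
  · rintro (rfl | rfl | rfl | rfl)
    · exact one_mem _
    · exact subset_closure (by simp)
    · exact subset_closure (by simp)
    · exact mul_mem (subset_closure (by simp)) (subset_closure (by simp))

theorem z_mem : z ∈ li z u := h.mem_li.2 (Or.inr (Or.inl rfl))

theorem u_mem : u ∈ li z u := h.mem_li.2 (Or.inr (Or.inr (Or.inl rfl)))

theorem card_li : Nat.card (li z u) = 4 := by
  have e : ((li z u : Subgroup G) : Set G) = {1, z, u, u * z} := by
    ext x
    rw [SetLike.mem_coe, h.mem_li]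
    rfl
  have h1 : Nat.card (li z u) = ((li z u : Subgroup G) : Set G).ncard := rfl
  have hne : u * z ≠ 1 := fun h2 => h.uz_ne (by
    have h3 : u * z = z * z := by rw [h2, h.zz]
    exact mul_right_cancel h3)
  rw [h1, e, Set.ncard_insert_of_notMem (by simp [h.z1.symm, h.u1.symm, hne.symm]) (Set.toFinite _),
    Set.ncard_insert_of_notMem (by simp [h.uz_ne.symm, h.u1]) (Set.toFinite _),
    Set.ncard_pair (by simp [h.z1])]

theorem le_normalizer_li (hSP : S ≤ P) : P ≤ normalizer (li z u : Set G) := by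
  have key : ∀ p ∈ P, ∀ x ∈ li z u, p * x * p⁻¹ ∈ li z u := by
    intro p hp x hx
    by_cases hx1 : x = 1
    · rw [hx1]; simp
    · obtain ⟨q, hq, rfl⟩ := h.tr_all hSP ((h.mem_li.1 hx).resolve_left hx1)
      have e : p * (q * z * q⁻¹) * p⁻¹ = p * q * z * (p * q)⁻¹ := by group
      rw [e, h.mem_li]
      exact Or.inr (h.orb _ (mul_mem hp hq))
  intro p hp
  rw [mem_normalizer_iff]
  intro x
  refine ⟨key p hp x, fun hx => ?_⟩
  have h1 := key p⁻¹ (inv_mem hp) _ hx
  have e : p⁻¹ * (p * x * p⁻¹) * p⁻¹⁻¹ = x := by group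
  rwa [e] at h1

theorem li_le (hz : zc S ≤ zl S P) : li z u ≤ zl S P := by
  unfold li
  rw [closure_le]
  rintro x (rfl | hx)
  · exact hz h.zS
  · rw [Set.mem_singleton_iff] at hx
    rw [hx]; exact h.uV

theorem PC : P ≤ centralizer ({c} : Set G) := by
  intro p hp
  rw [mem_centralizer_singleton_iff]
  have := h.cP p hp
  calc p * c = (p * c * p⁻¹) * p := by group
    _ = c * p := by rw [this]

theorem mvz : ¬ P ≤ centralizer ({z} : Set G) := by
  intro h1
  obtain ⟨p, hp, h2⟩ := h.tr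
  have h3 := mem_centralizer_singleton_iff.1 (h1 hp)
  apply h.uz_ne
  rw [← h2, h3]; group

end Ln

end Cfsg.Agent.Omega.NOThreeL.RRed

end
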