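import Cfsg.Agent.Mrg.Omega.NOThreeL.RRed.HBadNat
import Cfsg.Agent.Mrg.Omega.NOThreeL.RRed.LeftPair
import Cfsg.Agent.Mrg.Omega.NOThreeL.RRed.Base
import Cfsg.Agent.Mrg.Omega.NOThreeL.RWide.NormB
import Cfsg.Agent.Mrg.Omega.NOThreeL.RWide.TFm
import Cfsg.Agent.Mrg.Omega.NOThreeL.RRed.NS.Spl
import Cfsg.Agent.Mrg.Omega.NOThreeL.RWide.PermOne

section


/-!
# NO-3L, box R: natural blocks, `𝒜(O)` moves every block (helper258; head helper848 #27137 (C))

`V* = Wd S = ∏ N b`, `O = O₂(C_G(Z))`, `B = C_S(⨆ l)`, no class, no `CM`.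
* `isLong_of` : `C_G(X)` is long for `1 ≠ X ≤ Z`; `N_le_o2`, `o2_le`, `noff`;
* `fam` : the structure `UPure.Fam`; `exists_pure`, `AA_le_B` : pure members of `AA(O)`, `AA(O)` centralises `⨆ l`;
* `B_act` : `B` acts on the blocks by transvections; `gen` : the field `gen` of `NormB.NBf`;
* `par`, `nS`, `I1` : the fields of `TFm`.
-/

set_option autoImplicit false
set_option linter.unusedSectionVars false

namespace Cfsg.Agent.Omega.NOThreeL.RRed.UInst

open Subgroup Cfsg Cfsg.Agent.ZN Cfsg.Agent.ZN.ChoiceBase Cfsg.Agent.Omega.MinPar Cfsg.Agent.Omega.Frame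
open Cfsg.Agent.Omega.FrameNOFF Cfsg.Agent.Omega.Node.NO3L Cfsg.Agent.Omega.NOThreeL.Basic
open Cfsg.Agent.Omega.NOThreeL.Merge (MZ)
open Cfsg.Agent.Omega.NOThreeL.RTree (RB)
open Cfsg.Agent.Omega.NOThreeL.RRed.WideTree Cfsg.Agent.Omega.NOThreeL.RRed.SemiNB
open Cfsg.Agent.Omega.NOThreeL.RWide Cfsg.Agent.Omega.NOThreeL.RRed.UPure
open Cfsg.Agent.Omega.FFThm (NatKM)
open Cfsg.Agent.Omega.FrameFF (cv)
open Cfsg.Agent.Omega.NO3S.ThmB (Nb)
open Cfsg.Agent.Omega.NO3S.KeyRad (blk blk_le)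
open Cfsg.Agent.Omega.NOThreeL.RRed.NS (YY YY_le)
open Cfsg.Agent.MinSimple.VModule (zl_le le_normalizer_zl zc_le_zl o2_isPGroup le_normalizer_o2)

open scoped Pointwise

universe u

variable {G : Type u} [Group G] [Finite G] {S : Sylow 2 G} {ι : Type u} {N E D l : ι → Subgroup G} {q : ι → ℕ}

/-- `C_G(X)` is long for `1 ≠ X ≤ Z` -/
theorem isLong_of {X : Subgroup G} (hX : X ≤ zc (S : Subgroup G)) (hX1 : X ≠ ⊥) :
    IsLong (S : Subgroup G) (centralizer (X : Set G)) :=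
  ⟨isLoc_of_le_normalizer S ((le_CZ S).trans (centralizer_le hX))
    (S.isPGroup'.to_le (hX.trans fun _ hz => (ChoiceBase.mem_zc.1 hz).1)) hX1 (centralizer_le_normalizer _),
    centralizer_le hX⟩

theorem o2_le {X : Subgroup G} (hX : X ≤ zc (S : Subgroup G)) (hX1 : X ≠ ⊥) :
    o2 (centralizer (X : Set G)) ≤ o2 (CZ (S : Subgroup G)) := (isLong_of hX hX1).o2_le S

theorem zc_ne (hB : RB S) : zc (S : Subgroup G) ≠ ⊥ :=
  MinSimple.Basic.zc_ne_bot S.isPGroup' (hB.ctx.sylow_ne_bot S)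

theorem N_le_WP (hs : Src (S : Subgroup G) N l q) (b : ι) : N b ≤ WP (S : Subgroup G) := by
  obtain ⟨P, hP, F, i1, i2, i3, k, hk, M, h, -, ⟨j, h2, -⟩, -⟩ := hs.mov b
  rw [h2]
  exact (blk_le h j).trans (zl_le_WP hP.1)

theorem N_le_O (hB : RB S) (hs : Src (S : Subgroup G) N l q) (b : ι) : N b ≤ o2 (CZ (S : Subgroup G)) :=
  (N_le_WP hs b).trans (WP_le_Q hB.data)

theorem N_le_o2 (hB : RB S) (hs : Src (S : Subgroup G) N l q) {X : Subgroup G} (hX : X ≤ zc (S : Subgroup G))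
    (hX1 : X ≠ ⊥) (b : ι) : N b ≤ o2 (centralizer (X : Set G)) :=
  ((N_le_WP hs b).trans (WP_le_FH _ _)).trans (NotA.FH_le_o2 hB.data hB.notA (isLong_of hX hX1))

/-- `WP` is abelian -/
theorem WP_comm (hB : RB S) : ∀ v ∈ WP (S : Subgroup G), ∀ w ∈ WP (S : Subgroup G), v * w = w * v := by
  intro v hv w hw
  have h1 := NotA.FH_comm hB.ctx.char2 hB.data hB.notA (isLong_of (S := S) le_rfl (zc_ne hB))
  exact mem_centralizer_iff.1 (h1 (WP_le_FH _ _ hw)) v (WP_le_FH _ _ hv)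

theorem noff (hB : RB S) (hs : Src (S : Subgroup G) N l q) :
    ∀ x ∈ CZ (S : Subgroup G), ∀ a b, ∀ v ∈ N a, ∀ w ∈ cj x (N b), v * w = w * v := by
  intro x hx a b v hv w hw
  refine WP_comm hB v (N_le_WP hs a hv) w ?_
  rw [← conj_WP hx]
  obtain ⟨y, hy, rfl⟩ := hw
  exact ⟨y, N_le_WP hs b hy, rfl⟩

theorem N_sq (hN : NBs (S : Subgroup G) N E D l q) (b : ι) : ∀ v ∈ N b, v ^ 2 = 1 := by
  obtain ⟨F, _, _, _, e, he⟩ := hN.bls.nat b
  exact fun v hv => TFmNB.sq_of he hv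

/-- a member of `AA(O)` in both languages -/
theorem mx_iff {O A : Subgroup G} : KL.TwoS.Mx O A ↔ A ∈ AA O := by
  have key : ∀ B : Subgroup G, (∀ b ∈ B, b ^ 2 = 1) ↔ IsElementaryAbelian 2 B := by
    intro B
    constructor
    · intro h
      refine ea_mk (fun a ha b hb => ?_) fun a ha => by rw [← pow_two]; exact h a ha
      have h1 : a * b * (a * b) = 1 := by rw [← pow_two]; exact h _ (mul_mem ha hb)
      have h2 : a * a = 1 := by rw [← pow_two]; exact h _ ha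
      have h3 : b * b = 1 := by rw [← pow_two]; exact h _ hb
      calc a * b = a * (a * b * (a * b)) * b := by rw [h1, mul_one]
        _ = (a * a) * (b * a) * (b * b) := by group
        _ = b * a := by rw [h2, h3, one_mul, mul_one]
    · intro h b hb
      exact h.2 b hb
  constructor
  · rintro ⟨h1, h2, h3⟩
    exact ⟨(key A).1 h2, h1, fun B hB hBO => h3 B hBO ((key B).2 hB)⟩
  · rintro ⟨h1, h2, h3⟩
    exact ⟨h2, (key A).2 h1, fun B hBO hB => h3 B ((key B).1 hB) hBO⟩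

theorem root (hB : RB S) (hN : NBs (S : Subgroup G) N E D l q) (hs : Src (S : Subgroup G) N l q) (A : Subgroup G)
    (hA : KL.TwoS.Mx (o2 (CZ (S : Subgroup G))) A) (b : ι) : RootOn A (N b) (l b) := by
  obtain ⟨P, hP, F, i1, i2, i3, k, hk, M, h, hd, ⟨j, h2, h3, -⟩, h5⟩ := hs.mov b
  have hS1 : (S : Subgroup G) ≠ ⊥ := hB.ctx.sylow_ne_bot S
  have hOS : o2 (CZ (S : Subgroup G)) ≤ (S : Subgroup G) := (isLoc_centralizer_zc S hS1).o2_le S
  rw [h2, h3]
  have hV := PNat.sup_le_V h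
  have hle : (⨆ j, blk M j) ≤ o2 (CZ (S : Subgroup G)) := (hV.trans (zl_le_WP hP.1)).trans (WP_le_Q hB.data)
  have hea : IsElementaryAbelian 2 (⨆ j, blk M j : Subgroup G) :=
    ea_mk (fun a ha b hb => h.cm (hV ha) (hV hb)) fun a ha => h.sq (hV ha)
  exact PInst.ffp h hd (hA.le.trans hOS) (bo_of_AA (mx_iff.1 hA) hea hle) j

theorem card_of (hs : Src (S : Subgroup G) N l q) (b : ι) : Nat.card (N b) = Nat.card (l b) ^ 2 := by
  obtain ⟨P, hP, F, i1, i2, i3, k, hk, M, h, hd, ⟨j, h2, h3, -⟩, h5⟩ := hs.mov b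
  rw [h2, h3]
  exact PNat.card_eq h hd j

/-- **the structure `Fam`** -/
theorem fam (hB : RB S) (hN : NBs (S : Subgroup G) N E D l q) (hs : Src (S : Subgroup G) N l q) :
    Fam (o2 (CZ (S : Subgroup G))) N l where
  NO := N_le_O hB hs
  sq := N_sq hN
  com b c v hv := mem_centralizer_iff.2 fun w hw => WP_comm hB w (N_le_WP hs c hw) v (N_le_WP hs b hv)
  dis b c hbc := by
    rw [eq_bot_iff, ← hN.bls.ind b]
    exact inf_le_inf_left _ (le_iSup (fun c : {c // c ≠ b} => N c) ⟨c, fun e => hbc e.symm⟩)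
  lN := hN.bls.lN
  lne := hN.bls.lne
  card := card_of hs
  root := root hB hN hs

/-- `AA(O)` centralises the lines -/
theorem AA_le_B (hB : RB S) (hN : NBs (S : Subgroup G) N E D l q) (hs : Src (S : Subgroup G) N l q) {A : Subgroup G}
    (hA : KL.TwoS.Mx (o2 (CZ (S : Subgroup G))) A) :
    A ≤ (S : Subgroup G) ⊓ centralizer ((⨆ b, l b : Subgroup G) : Set G) := by
  have hS1 : (S : Subgroup G) ≠ ⊥ := hB.ctx.sylow_ne_bot S
  refine le_inf (hA.le.trans ((isLoc_centralizer_zc S hS1).o2_le S)) fun a ha => ?_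
  exact NormB.mem_cent_iSup.2 fun b z hz => (root hB hN hs A hA b).fixZ a ha z hz

/-- lines determine blocks -/
theorem line_norm (hN : NBs (S : Subgroup G) N E D l q) {s : G} (hs : s ∈ (S : Subgroup G)) (b : ι)
    (h : ∀ v ∈ l b, s * v = v * s) : s ∈ normalizer (N b : Set G) ∧ cj s (l b) = l b := by
  obtain ⟨c, h1, h2⟩ := hN.bls.perm s hs b
  have h3 : cj s (l b) = l b := by
    refine cj_eq_of_mem_normalizer (centralizer_le_normalizer _ (NormB.mem_cent_iff.2 h))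
  have h4 : c = b := hN.bls.line_inj c b (h2.symm.trans h3)
  subst h4
  exact ⟨mem_normalizer_iff_cj.2 h1, h3⟩

/-- **`B` acts on the blocks by transvections** -/
theorem B_act (hN : NBs (S : Subgroup G) N E D l q) {b : ι} {F : Type} [Field F] [Finite F] [CharP F 2]
    {e : G → Fin 2 → F} (hn : NatBlk (S : Subgroup G) (D b) (N b) (l b) F e) {β : G}
    (hβ : β ∈ (S : Subgroup G) ⊓ centralizer ((⨆ b, l b : Subgroup G) : Set G)) :
    ∃ c : F, GenSL.Acts (N b) e β (GenSL.U c) := by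
  have hcen : ∀ v ∈ l b, β * v = v * β := fun v hv => NormB.mem_cent_iSup.1 hβ.2 b v hv
  have hnor := (line_norm hN hβ.1 b hcen).1
  obtain ⟨σ, a, c, d, hact⟩ := hN.semi hn hβ.1 hnor
  have hline : ∀ x : F, a * σ x = x := by
    intro x
    obtain ⟨v, hv, hve⟩ := hn.sur ![x, 0]
    have h1 : v ∈ l b := (hn.line v).2 ⟨hv, by rw [hve]; rfl⟩
    have h2 := hact v hv
    rw [hcen v h1, mul_inv_cancel_right, hve] at h2
    have h3 := congrFun h2 0
    simpa using h3.symm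
  have ha : a = 1 := by simpa using hline 1
  have hσ : ∀ x, σ x = x := fun x => by simpa [ha] using hline x
  have hact' : ∀ v ∈ N b, e (β * v * β⁻¹) = ![e v 0 + c * e v 1, d * e v 1] := by
    intro v hv
    rw [hact v hv, ha, hσ, hσ, one_mul]
  have hmem : ∀ v ∈ N b, β * v * β⁻¹ ∈ N b := fun v hv => (mem_normalizer_iff.1 hnor v).1 hv
  obtain ⟨n, hn2⟩ := S.isPGroup' ⟨β, hβ.1⟩
  have hn3 : β ^ 2 ^ n = 1 := by simpa using congrArg Subtype.val hn2
  -- `d = 1`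
  obtain ⟨v, hv, hve⟩ := hn.sur ![0, 1]
  have hpow : ∀ k : ℕ, β ^ k * v * (β ^ k)⁻¹ ∈ N b ∧ e (β ^ k * v * (β ^ k)⁻¹) 1 = d ^ k := by
    intro k
    induction k with
    | zero => simpa [hve] using hv
    | succ k ih =>
      have e1 : β ^ (k + 1) * v * (β ^ (k + 1))⁻¹ = β * (β ^ k * v * (β ^ k)⁻¹) * β⁻¹ := by
        rw [pow_succ']; group
      rw [e1]
      refine ⟨hmem _ ih.1, ?_⟩
      rw [hact' _ ih.1]
      show d * e _ 1 = _
      rw [ih.2, pow_succ']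
  have hd1 : d ^ 2 ^ n = 1 := by
    have h1 := (hpow (2 ^ n)).2
    rw [hn3, one_mul, inv_one, mul_one, hve] at h1
    exact h1.symm
  have hd : d = 1 := by
    have h1 : (d - 1) ^ 2 ^ n = 0 := by
      rw [sub_pow_char_pow, hd1, one_pow, sub_self]
    exact sub_eq_zero.1 (pow_eq_zero_iff (by positivity) |>.1 h1)
  refine ⟨c, hnor, fun v hv => ?_⟩
  rw [hact' v hv, hd]
  funext i
  fin_cases i <;> simp [GenSL.U, Matrix.mulVec, dotProduct, Fin.sum_univ_two]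

/-- a member of `AA(O)` moving `N b` induces all transvections -/
theorem A_full (hB : RB S) (hN : NBs (S : Subgroup G) N E D l q) (hs : Src (S : Subgroup G) N l q) {A : Subgroup G}
    (hA : KL.TwoS.Mx (o2 (CZ (S : Subgroup G))) A) {b : ι} (hm : ¬ A ≤ centralizer (N b : Set G))
    {F : Type} [Field F] [Finite F] [CharP F 2]
    {e : G → Fin 2 → F} (hn : NatBlk (S : Subgroup G) (D b) (N b) (l b) F e) (c : F) :
    ∃ a ∈ A, GenSL.Acts (N b) e a (GenSL.U c) := by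
  obtain ⟨v, hv, hve⟩ := hn.sur ![0, 1]
  have hvl : v ∉ l b := fun h => by
    have h1 := ((hn.line v).1 h).2
    rw [hve] at h1
    exact one_ne_zero h1
  obtain ⟨z, hz, hze⟩ := hn.sur ![c, 0]
  have hzl : z ∈ l b := (hn.line z).2 ⟨hz, by rw [hze]; rfl⟩
  rcases (root hB hN hs A hA b).full with h1 | h1
  · exact absurd h1 hm
  obtain ⟨f, hf, h2⟩ := (h1 v hv hvl).1 z hzl
  obtain ⟨c', h3⟩ := B_act hN hn (AA_le_B hB hN hs hA hf)
  have h4 : f * v * f⁻¹ = z * v := by rw [← h2]; group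
  have h5 := h3.act v hv
  rw [h4, hn.mul z hz v hv, hze, hve] at h5
  have h6 := congrFun h5 0
  simp [GenSL.U, Matrix.mulVec, dotProduct, Fin.sum_univ_two] at h6
  exact ⟨f, hf, h6 ▸ h3⟩

/-- **the field `gen` of `NormB.NBf`** -/
theorem gen (hB : RB S) (hN : NBs (S : Subgroup G) N E D l q) (hs : Src (S : Subgroup G) N l q)
    (hall : AllB (S : Subgroup G) N) [Finite ι] {L : Subgroup G} (b : ι)
    (hL : ∀ x ∈ L, ∃ d ∈ D b, ∀ v ∈ N b, x * v * x⁻¹ = d * v * d⁻¹)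
    (hD : ∀ d ∈ D b, ∃ x ∈ L, ∀ v ∈ N b, x * v * x⁻¹ = d * v * d⁻¹) (hLN : L ≤ normalizer (N b : Set G)) :
    ∃ A ∈ AA (o2 (CZ (S : Subgroup G))), (∀ a, a ≠ b → A ≤ centralizer (N a : Set G)) ∧
      A ≤ (S : Subgroup G) ⊓ centralizer ((⨆ b, l b : Subgroup G) : Set G) ∧ ¬ A ≤ centralizer (N b : Set G) ∧
      ∃ g ∈ L, cj g (l b) ⊓ l b = ⊥ ∧
        ∀ x ∈ L, ∀ β ∈ (S : Subgroup G) ⊓ centralizer ((⨆ b, l b : Subgroup G) : Set G),
          ∃ h ∈ A ⊔ cj g A, ∀ v ∈ N b, x * β * x⁻¹ * v * (x * β * x⁻¹)⁻¹ = h * v * h⁻¹ := by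
  obtain ⟨A, hA, hm, hp⟩ := (fam hB hN hs).exists_pure (hall b)
  obtain ⟨F, i1, i2, i3, e, -, hn⟩ := hN.nat b
  refine ⟨A, mx_iff.1 hA, fun a ha => hp a ha, AA_le_B hB hN hs hA, hm, ?_⟩
  refine GenSL.gen_of (e := e) hn.mul hn.inj hn.line (fun x hx => ?_) ?_ (fun β hβ => ?_)
    (fun c => A_full hB hN hs hA hm hn c)
  · obtain ⟨d, hd, h1⟩ := hL x hx
    obtain ⟨M, h2⟩ := hn.act d hd
    exact ⟨M, hLN hx, fun v hv => by rw [h1 v hv, h2 v hv]⟩
  · obtain ⟨d, hd, h1⟩ := hn.full GenSL.W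
    obtain ⟨x, hx, h2⟩ := hD d hd
    exact ⟨x, hx, hLN hx, fun v hv => by rw [h2 v hv, h1 v hv]⟩
  · obtain ⟨c, hc⟩ := B_act hN hn hβ
    exact ⟨_, hc⟩

end Cfsg.Agent.Omega.NOThreeL.RRed.UInst

end

section


/-!
# The groups `L b` and the root group field of 644's `NBf` over the natural blocks `NBs` (helper258's list, #27137)

`V = ⨆ N b`, `Q = S ∩ C(V)` (`Qn`), `K₀ = M₀ ∩ C(V)` (`Kn`), `L b = N(Q) ∩ (D b K₀)` (`Lb`).

* `Lb_le_Q`, `Lb_le_N`, `Lb_le_C` : `L b` normalises `Q`, `N b` and centralises `N a` (`a ≠ b`);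
* `Lb_perm` : `S` permutes the triples `(N b, l b, L b)`;
* `exists_Lb` : every `d ∈ D b` acts on `V` like an element of `L b` (Frattini); `act_Lb` : and conversely;
* `syl_Q` : `Q` is Sylow in `C(V)`;
* `Kd.rt`, `Bls.rt`, **`NBs.rt`** : `Rt B (N b) (l b)`, `B = S ∩ C(⨆ l)`;
* `NBs.sq`, `NBs.com`, `NBs.indep`, `NBs.card_N`.
-/

set_option autoImplicit false
set_option linter.unusedSectionVars false

namespace Cfsg.Agent.Omega.NOThreeL.RRed.ULb

open Subgroup Cfsg Cfsg.Agent.ZN Cfsg.Agent.ZN.ChoiceBase Cfsg.Agent.ZN.ChoiceSit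
open Cfsg.Agent.Omega.NOThreeL.RRed.WideTree Cfsg.Agent.Omega.NOThreeL.RRed.GOne
  Cfsg.Agent.Omega.NOThreeL.RRed.Semi Cfsg.Agent.Omega.NOThreeL.RRed.SemiNB
open Cfsg.Agent.Omega.NOThreeL.RWide Cfsg.Agent.Omega.NOThreeL.RWide.TBlk
open Cfsg.Agent.Omega.NOThreeL.Merge (MZ)

open scoped Pointwise

universe u v

/-! ### Sylow subgroups of normal subgroups -/

section syl

variable {G : Type u} [Group G] [Finite G] {S : Sylow 2 G}

theorem syl_inf {K : Subgroup G} (hS : (S : Subgroup G) ≤ normalizer (K : Set G)) : Syl ((S : Subgroup G) ⊓ K) K := by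
  refine ⟨inf_le_right, S.isPGroup'.to_le inf_le_left, fun Q hQ hp hle => ?_⟩
  obtain ⟨T, hT, hQT⟩ := exists_syl hp (hQ.trans (Subgroup.le_normalizer (H := K)))
  obtain ⟨x, hx, hxT⟩ := syl_conj hT (Cfsg.Agent.MinSimple.EmptyTI.syl_of_le hS)
  have h1 : cj x Q ≤ (S : Subgroup G) ⊓ K := by
    refine le_inf ?_ ?_
    · rw [← hxT]; exact cj_mono x hQT
    · have h2 := cj_mono x hQ
      rwa [mem_normalizer_iff_cj.1 hx] at h2
  have h2 := card_le_of_le h1
  rw [card_cj] at h2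
  exact (eq_of_le_of_card_ge hle h2).symm

theorem frat {K : Subgroup G} (hS : (S : Subgroup G) ≤ normalizer (K : Set G)) {n : G}
    (hn : n ∈ normalizer (K : Set G)) : ∃ c ∈ K,
    c * n ∈ normalizer (((S : Subgroup G) ⊓ K : Subgroup G) : Set G) := by
  have hC : cj n K = K := mem_normalizer_iff_cj.1 hn
  have h1 : Syl (cj n ((S : Subgroup G) ⊓ K)) K := by
    refine ⟨(cj_mono n (syl_inf hS).1).trans hC.le, isPGroup_cj _ (S.isPGroup'.to_le inf_le_left), fun Q hQ hp hle => ?_⟩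
    have h2 := (syl_inf hS).2.2 (cj n⁻¹ Q) (by
      rw [cj_le_iff, inv_inv, hC]; exact hQ) (isPGroup_cj _ hp) (by
      have h3 := cj_mono n⁻¹ hle
      rwa [cj_inv_cj] at h3)
    rw [← h2, cj_cj_inv]
  obtain ⟨c, hc, hcn⟩ := syl_conj h1 (syl_inf hS)
  refine ⟨c, hc, mem_normalizer_iff_cj.2 ?_⟩
  rw [← cj_cj, hcn]

end syl

/-! ### The groups `L b` -/

section lb

variable {G : Type u} [Group G] {S : Subgroup G} {ι : Type u} {N E D l : ι → Subgroup G} {q : ι → ℕ}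

/-- `Q = C_S(V)` -/
abbrev Qn (S : Subgroup G) {ι : Type v} (N : ι → Subgroup G) : Subgroup G :=
  S ⊓ centralizer ((⨆ b, N b : Subgroup G) : Set G)

/-- `K₀ = C_{M₀}(V)` -/
abbrev Kn (S : Subgroup G) {ι : Type v} (N : ι → Subgroup G) : Subgroup G :=
  MZ S ⊓ centralizer ((⨆ b, N b : Subgroup G) : Set G)

/-- `L b = N(Q) ∩ D b K₀` -/
def Lb (S : Subgroup G) {ι : Type v} (N D : ι → Subgroup G) (b : ι) : Subgroup G :=
  normalizer ((Qn S N : Subgroup G) : Set G) ⊓ (D b ⊔ Kn S N)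

theorem sup_N (h : NBs S N E D l q) : (⨆ b, N b) = Wd S := by
  have h1 := h.dec.sup
  rwa [sup_bot_eq] at h1

theorem MZ_norm (h : NBs S N E D l q) : MZ S ≤ normalizer ((⨆ b, N b : Subgroup G) : Set G) := by
  rw [sup_N h]
  exact h.dec.LU

theorem MZ_Kn (h : NBs S N E D l q) : MZ S ≤ normalizer ((Kn S N : Subgroup G) : Set G) := by
  intro g hg
  rw [mem_normalizer_iff_cj, cj_inf, ChoiceBase.cj_centralizer, mem_normalizer_iff_cj.1 (le_normalizer hg),
    mem_normalizer_iff_cj.1 (MZ_norm h hg)]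

theorem S_inf_Kn (h : NBs S N E D l q) : S ⊓ Kn S N = Qn S N := by
  rw [← inf_assoc, inf_eq_left.2 h.dec.SL]

theorem S_norm_Qn (h : NBs S N E D l q) : S ≤ normalizer ((Qn S N : Subgroup G) : Set G) := by
  intro g hg
  rw [mem_normalizer_iff_cj, cj_inf, ChoiceBase.cj_centralizer, mem_normalizer_iff_cj.1 (le_normalizer hg),
    mem_normalizer_iff_cj.1 (MZ_norm h (h.dec.SL hg))]

theorem D_MZ (h : NBs S N E D l q) (b : ι) : D b ≤ MZ S := (h.DE b).trans (h.dec.EL b)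

theorem Kn_le_C (b : ι) : Kn S N ≤ centralizer (N b : Set G) :=
  inf_le_right.trans (centralizer_le (by exact_mod_cast le_iSup N b))

theorem Lb_le_Q (b : ι) : Lb S N D b ≤ normalizer ((Qn S N : Subgroup G) : Set G) := inf_le_left

theorem Lb_le_MZ (h : NBs S N E D l q) (b : ι) : Lb S N D b ≤ MZ S :=
  inf_le_right.trans (sup_le (D_MZ h b) inf_le_left)

theorem Lb_le_N (h : NBs S N E D l q) (b : ι) : Lb S N D b ≤ normalizer (N b : Set G) :=
  inf_le_right.trans (sup_le ((h.DE b).trans (h.dec.EN b)) ((Kn_le_C b).trans (centralizer_le_normalizer _)))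

theorem Lb_le_C (h : NBs S N E D l q) (a b : ι) (hab : a ≠ b) : Lb S N D b ≤ centralizer (N a : Set G) :=
  inf_le_right.trans (sup_le ((h.DE b).trans (h.dec.EC b a hab.symm)) (Kn_le_C a))

/-- `S` permutes the triples `(N b, l b, L b)` -/
theorem Lb_perm (h : NBs S N E D l q) : ∀ s ∈ S, ∀ b, ∃ c, cj s (N b) = N c ∧ cj s (l b) = l c ∧
    cj s (Lb S N D b) = Lb S N D c := by
  intro s hs b
  obtain ⟨c, h1, h2, h3⟩ := h.sD s hs b
  refine ⟨c, h1, h3, ?_⟩
  have h4 : cj s (D b) = D c := h2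
  have h5 : cj s (D b ⊔ Kn S N) = cj s (D b) ⊔ cj s (Kn S N) := Subgroup.map_sup _ _ _
  rw [Lb, Lb, cj_inf, cj_normalizer, mem_normalizer_iff_cj.1 (S_norm_Qn h hs), h5, h4,
    mem_normalizer_iff_cj.1 (MZ_Kn h (h.dec.SL hs))]

/-- **Frattini** : every `d ∈ D b` acts on `V` like an element of `L b` -/
theorem exists_Lb [Finite G] {S : Sylow 2 G} (h : NBs (S : Subgroup G) N E D l q) (b : ι) {d : G} (hd : d ∈ D b) :
    ∃ n ∈ Lb (S : Subgroup G) N D b, ∀ v ∈ (⨆ b, N b : Subgroup G), n * v * n⁻¹ = d * v * d⁻¹ := by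
  obtain ⟨c, hc, hn⟩ := frat (S := S) (h.dec.SL.trans (MZ_Kn h)) (MZ_Kn h (D_MZ h b hd))
  rw [S_inf_Kn h] at hn
  refine ⟨c * d, ⟨hn, mul_mem (mem_sup_right hc) (mem_sup_left hd)⟩, fun v hv => ?_⟩
  have h1 : d * v * d⁻¹ ∈ (⨆ b, N b : Subgroup G) := (mem_normalizer_iff.1 (MZ_norm h (D_MZ h b hd)) v).1 hv
  have h2 := mem_centralizer_iff.1 hc.2 _ h1
  calc c * d * v * (c * d)⁻¹ = (c * (d * v * d⁻¹)) * c⁻¹ := by group
    _ = ((d * v * d⁻¹) * c) * c⁻¹ := by rw [h2]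
    _ = d * v * d⁻¹ := by group

/-- every `n ∈ L b` acts on `V` like an element of `D b` -/
theorem act_Lb (h : NBs S N E D l q) (b : ι) {n : G} (hn : n ∈ Lb S N D b) :
    ∃ d ∈ D b, ∀ v ∈ (⨆ b, N b : Subgroup G), n * v * n⁻¹ = d * v * d⁻¹ := by
  have h1 : n ∈ ((D b ⊔ Kn S N : Subgroup G) : Set G) := hn.2
  rw [coe_mul_of_left_le_normalizer_right _ _ ((D_MZ h b).trans (MZ_Kn h))] at h1
  obtain ⟨d, hd, k, hk, rfl⟩ := Set.mem_mul.1 h1
  refine ⟨d, hd, fun v hv => ?_⟩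
  have h2 := mem_centralizer_iff.1 (mem_inf.1 hk).2 v hv
  calc d * k * v * (d * k)⁻¹ = d * ((k * v) * k⁻¹) * d⁻¹ := by group
    _ = d * ((v * k) * k⁻¹) * d⁻¹ := by rw [h2]
    _ = d * v * d⁻¹ := by group

/-- **`Q` is Sylow in `C(V)`** -/
theorem syl_Q [Finite G] {S : Sylow 2 G} (h : NBs (S : Subgroup G) N E D l q) :
    ∀ g ∈ normalizer ((Qn (S : Subgroup G) N : Subgroup G) : Set G), g ∈ centralizer ((⨆ b, N b : Subgroup G) : Set G) →
      (∃ n, g ^ 2 ^ n = 1) → g ∈ Qn (S : Subgroup G) N := by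
  intro g hg hgC ⟨n, hn⟩
  have : Fact (Nat.Prime 2) := ⟨Nat.prime_two⟩
  have hS : (S : Subgroup G) ≤ normalizer ((centralizer ((⨆ b, N b : Subgroup G) : Set G) : Subgroup G) : Set G) := by
    intro s hs
    rw [mem_normalizer_iff_cj, ChoiceBase.cj_centralizer, mem_normalizer_iff_cj.1 (MZ_norm h (h.dec.SL hs))]
  have h1 := syl_inf hS
  have hz : IsPGroup 2 (zpowers g) := by
    intro x
    obtain ⟨k, hk⟩ := mem_zpowers_iff.1 x.2
    refine ⟨n, Subtype.ext ?_⟩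
    show ((x ^ 2 ^ n : zpowers g) : G) = 1
    rw [SubmonoidClass.coe_pow, ← hk, ← zpow_natCast, ← zpow_mul, mul_comm, zpow_mul, zpow_natCast, hn, one_zpow]
  have h2 : IsPGroup 2 (zpowers g ⊔ Qn (S : Subgroup G) N : Subgroup G) :=
    hz.to_sup_of_normal_right' (S.isPGroup'.to_le inf_le_left) (zpowers_le.2 hg)
  have h3 := h1.2.2 _ (sup_le (zpowers_le.2 hgC) inf_le_right) h2 le_sup_right
  exact h3.le (mem_sup_left (mem_zpowers g))

end lb

/-! ### The root groups -/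

section rt

variable {G : Type u} [Group G] {ι : Type v} {S V : Subgroup G} {N l E : ι → Subgroup G} {F : ι → Type}
  [∀ b, Field (F b)] {x y : G → ∀ b, F b}

theorem comm_coord [∀ b, CharP (F b) 2] (h : Kd S V N l E x y) (hS : IsPGroup 2 S) {s : G} (hs : s ∈ BB S l) :
    ∃ t : ∀ b, F b, ∀ v ∈ V, s * v * s⁻¹ * v⁻¹ ∈ V ∧ (∀ c, x (s * v * s⁻¹ * v⁻¹) c = t c * y v c) ∧
      ∀ c, y (s * v * s⁻¹ * v⁻¹) c = 0 := by
  obtain ⟨t, ht⟩ := h.actB hS hs
  refine ⟨t, fun v hv => ?_⟩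
  have h1 := h.conj_mem (h.SV hs.1) hv
  refine ⟨mul_mem h1 (inv_mem hv), fun c => ?_, fun c => ?_⟩
  · rw [h.xm _ h1 _ (inv_mem hv), h.x_inv hv, (ht v hv c).1]; ring
  · rw [h.ym _ h1 _ (inv_mem hv), h.y_inv hv, (ht v hv c).2]; ring

/-- **`Rt B (N b) (l b)`** -/
theorem Kd.rt [Finite G] [Finite ι] [∀ b, CharP (F b) 2] (h : Kd S V N l E x y) (hS : IsPGroup 2 S) (b : ι) :
    Rt (BB S l) (N b) (l b) := by
  choose t ht using fun s : BB S l => comm_coord h hS s.2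
  have hmv : ∀ s : BB S l, (∃ w ∈ N b, (s : G) * w ≠ w * s) → t s b ≠ 0 := by
    rintro s ⟨w, hw, hne⟩ h0
    apply hne
    obtain ⟨h1, h2, h3⟩ := ht s w (h.NV b hw)
    have h4 : (s : G) * w * (s : G)⁻¹ * w⁻¹ = 1 := by
      refine h.inj _ h1 (fun c => ?_) h3
      rw [h2]
      by_cases hc : c = b
      · subst hc; rw [h0, zero_mul]
      · rw [((h.memN b w).1 hw).2.2 c hc, mul_zero]
    calc (s : G) * w = ((s : G) * w * (s : G)⁻¹ * w⁻¹) * (w * s) := by group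
      _ = w * s := by rw [h4, one_mul]
  constructor
  · intro s hs w hw
    obtain ⟨h1, h2, h3⟩ := ht ⟨s, hs⟩ w (h.NV b hw)
    refine (h.meml b _).2 ⟨h1, fun c hc => ?_, h3⟩
    rw [h2, ((h.memN b w).1 hw).2.2 c hc, mul_zero]
  · intro s hs z hz
    exact (mem_centralizer_iff.1 hs.2 z ((le_iSup l b) hz)).symm
  · intro s hs hm z hz
    have h0 := hmv ⟨s, hs⟩ hm
    obtain ⟨w, hw, -, hy⟩ := h.exists_y b 0 ((t ⟨s, hs⟩ b)⁻¹ * x z b)
    obtain ⟨h1, h2, h3⟩ := ht ⟨s, hs⟩ w (h.NV b hw)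
    obtain ⟨h4, h5, h6⟩ := (h.meml b z).1 hz
    refine ⟨w, hw, h.ext h1 h4 (fun c => ?_) fun c => by rw [h3, h6]⟩
    rw [h2]
    by_cases hc : c = b
    · subst hc; rw [hy, mul_inv_cancel_left₀ h0]
    · rw [((h.memN b w).1 hw).2.2 c hc, mul_zero, h5 c hc]
  · intro s hs hm w hw hcm
    have h0 := hmv ⟨s, hs⟩ hm
    obtain ⟨h1, h2, h3⟩ := ht ⟨s, hs⟩ w (h.NV b hw)
    have h4 : s * w * s⁻¹ * w⁻¹ = 1 := by rw [hcm]; group
    obtain ⟨h5, h6, h7⟩ := (h.memN b w).1 hw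
    refine (h.meml b w).2 ⟨h5, h6, fun c => ?_⟩
    by_cases hc : c = b
    · subst hc
      have h8 := h2 c
      rw [h4, h.x_one] at h8
      exact (mul_eq_zero.1 h8.symm).resolve_left h0
    · exact h7 c hc
  · choose ell hell hellx using h.exists_x b
    rw [relIndex, index_eq_card]
    refine Nat.card_le_card_of_injective (fun r : BB S l ⧸ (centralizer (N b : Set G)).subgroupOf (BB S l) =>
      (⟨ell (t r.out b), hell _⟩ : l b)) ?_
    intro r r' hrr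
    have h1 : ell (t r.out b) = ell (t r'.out b) := congrArg Subtype.val hrr
    have h2 : t r.out b = t r'.out b := by rw [← hellx (t r.out b), h1, hellx]
    rw [← QuotientGroup.out_eq' r, ← QuotientGroup.out_eq' r', QuotientGroup.eq]
    rw [mem_subgroupOf, mem_centralizer_iff]
    intro w hw
    have h3 : ((r.out : BB S l) : G) * w * ((r.out : BB S l) : G)⁻¹ =
        ((r'.out : BB S l) : G) * w * ((r'.out : BB S l) : G)⁻¹ := by
      obtain ⟨h4, h5, h6⟩ := ht r.out w (h.NV b hw)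
      obtain ⟨h7, h8, h9⟩ := ht r'.out w (h.NV b hw)
      refine mul_right_cancel (b := w⁻¹) (h.ext h4 h7 (fun c => ?_) fun c => by rw [h6, h9])
      rw [h5, h8]
      by_cases hc : c = b
      · subst hc; rw [h2]
      · rw [((h.memN b w).1 hw).2.2 c hc, mul_zero, mul_zero]
    show w * (((r.out : BB S l) : G)⁻¹ * ((r'.out : BB S l) : G)) =
      (((r.out : BB S l) : G)⁻¹ * ((r'.out : BB S l) : G)) * w
    calc w * (((r.out : BB S l) : G)⁻¹ * ((r'.out : BB S l) : G)) =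
        ((r.out : BB S l) : G)⁻¹ * (((r.out : BB S l) : G) * w * ((r.out : BB S l) : G)⁻¹) * ((r'.out : BB S l) : G) := by
          group
      _ = ((r.out : BB S l) : G)⁻¹ * (((r'.out : BB S l) : G) * w * ((r'.out : BB S l) : G)⁻¹) * ((r'.out : BB S l) : G) := by
          rw [h3]
      _ = _ := by group

theorem _root_.Cfsg.Agent.Omega.NOThreeL.RWide.TBlk.Bls.rt [Finite G] [Finite ι] (h : Bls S V N l E) (hS : IsPGroup 2 S)
    (b : ι) : Rt (BB S l) (N b) (l b) := by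
  obtain ⟨F, i1, _, i3, x, y, hk⟩ := h.exists_kd
  exact Kd.rt hk hS b

end rt

section fields

variable {G : Type u} [Group G] {S : Subgroup G} {ι : Type u} {N E D l : ι → Subgroup G} {q : ι → ℕ}

/-- 644's field `rt` -/
theorem _root_.Cfsg.Agent.Omega.NOThreeL.RRed.WideTree.NBs.rt [Finite G] [Finite ι] (h : NBs S N E D l q)
    (hS : IsPGroup 2 S) : ∀ b, Rt (S ⊓ centralizer ((⨆ b, l b : Subgroup G) : Set G)) (N b) (l b) := h.bls.rt hS

theorem _root_.Cfsg.Agent.Omega.NOThreeL.RRed.WideTree.NBs.sq (h : NBs S N E D l q) :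
    ∀ b, ∀ v ∈ N b, v * v = 1 := by
  intro b v hv
  obtain ⟨F, _, _, _, e, _, nb⟩ := h.nat b
  refine nb.inj _ (mul_mem hv hv) ?_
  rw [nb.mul _ hv _ hv]
  funext i
  exact CharTwo.add_self_eq_zero _

theorem _root_.Cfsg.Agent.Omega.NOThreeL.RRed.WideTree.NBs.com (h : NBs S N E D l q) :
    ∀ a b, ∀ v ∈ N a, ∀ w ∈ N b, v * w = w * v := by
  intro a b v hv w hw
  have h1 : ∀ b, N b ≤ Wd S := fun b => sup_N h ▸ le_iSup N b
  exact (mem_centralizer_iff.1 (h.dec.ab (h1 a hv)) w (h1 b hw)).symm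

theorem _root_.Cfsg.Agent.Omega.NOThreeL.RRed.WideTree.NBs.indep [Finite ι] (h : NBs S N E D l q) :
    iSupIndep N := h.bls.indep

theorem _root_.Cfsg.Agent.Omega.NOThreeL.RRed.WideTree.NBs.card_N (h : NBs S N E D l q) (b : ι) :
    Nat.card (N b) = Nat.card (l b) ^ 2 := by
  obtain ⟨F, _, _, _, e, _, nb⟩ := h.nat b
  rw [natblk_card nb]
  have h1 : Nat.card (N b) = Nat.card (Fin 2 → F) := by
    refine Nat.card_congr (Equiv.ofBijective (fun v : N b => e v) ⟨fun v w hvw => ?_, fun c => ?_⟩)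
    · exact Subtype.ext (natblk_inj nb v.2 w.2 hvw)
    · obtain ⟨v, hv, hc⟩ := nb.sur c
      exact ⟨⟨v, hv⟩, hc⟩
  rw [h1, Nat.card_fun, Nat.card_eq_fintype_card (α := Fin 2), Fintype.card_fin]

end fields

end Cfsg.Agent.Omega.NOThreeL.RRed.ULb

end

section


/-!
# NO-3L, box R: the `T`-frame `TFm` of the left case over `S`-orbits of blocks (helper258; head helper848 #27137 (C))

Hypotheses: `RB S`, `NBs` (v5), `Src`, `AllB`, `C_G(Z)` permutes the lines (`ln`), at least two `S`-orbits of blocks (`two`);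
no class, no `CM`, no `Left`.
* `X b = Z ⊓ ∏ N c` (`c` not in the `S`-orbit of `b`), `K b = O₂(C_G(X b))`;
* **`nbf_of`** : 644's `NormB.NBf` with `L b = Lb` (helper724), so `I2`, `I4`;
* `cz` : `C_G(Z) ≤ N(⨆ l)`; `perm` : `P ∈ P*(S)` permutes the blocks; **`tfm_of`** : `TFm S (Wd S) N l E`.
-/

set_option autoImplicit false
set_option linter.unusedSectionVars false

namespace Cfsg.Agent.Omega.NOThreeL.RRed.UInst

open Subgroup Cfsg Cfsg.Agent.ZN Cfsg.Agent.ZN.ChoiceBase Cfsg.Agent.Omega.MinPar Cfsg.Agent.Omega.Frame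
open Cfsg.Agent.Omega.FrameNOFF Cfsg.Agent.Omega.Node.NO3L Cfsg.Agent.Omega.NOThreeL.Basic
open Cfsg.Agent.Omega.NOThreeL.Merge (MZ)
open Cfsg.Agent.Omega.NOThreeL.RTree (RB)
open Cfsg.Agent.Omega.NOThreeL.RRed.WideTree Cfsg.Agent.Omega.NOThreeL.RRed.SemiNB
open Cfsg.Agent.Omega.NOThreeL.RWide Cfsg.Agent.Omega.NOThreeL.RRed.UPure Cfsg.Agent.Omega.NOThreeL.RRed.ULb

open scoped Pointwise

universe u

variable {G : Type u} [Group G] [Finite G] {S : Sylow 2 G} {ι : Type u} {N E D l : ι → Subgroup G} {q : ι → ℕ}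

/-- the blocks outside the `S`-orbit of `b` -/
def Off (S : Subgroup G) (N : ι → Subgroup G) (b c : ι) : Prop := ∀ s ∈ S, MulAut.conj s • N b ≠ N c

/-- `X b = Z ⊓ ∏ N c`, `c` not in the `S`-orbit of `b` -/
def UX (S : Subgroup G) (N : ι → Subgroup G) (b : ι) : Subgroup G := zc S ⊓ ⨆ c : {c // Off S N b c}, N c

/-- `K b = O₂(C_G(X b))` -/
def UK (S : Subgroup G) (N : ι → Subgroup G) (b : ι) : Subgroup G := o2 (centralizer (UX S N b : Set G))

theorem UX_le (b : ι) : UX (S : Subgroup G) N b ≤ zc (S : Subgroup G) := inf_le_left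

theorem UX_ne (hB : RB S) (hN : NBs (S : Subgroup G) N E D l q) {b c : ι} (hc : Off (S : Subgroup G) N b c) :
    UX (S : Subgroup G) N b ≠ ⊥ := by
  have hf : Fact (Nat.Prime 2) := ⟨Nat.prime_two⟩
  have hV : (⨆ c : {c // Off (S : Subgroup G) N b c}, N c) ≤ Wd (S : Subgroup G) := by
    rw [← sup_N hN]
    exact iSup_le fun c => le_iSup N c.1
  have hSV := WS hB
  have hne : (⨆ c : {c // Off (S : Subgroup G) N b c}, N c) ≠ ⊥ := fun h0 => hN.dec.ne c
    (le_bot_iff.1 ((le_iSup (fun c : {c // Off (S : Subgroup G) N b c} => N c) ⟨c, hc⟩).trans h0.le))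
  have hnor : (S : Subgroup G) ≤ normalizer ((⨆ c : {c // Off (S : Subgroup G) N b c}, N c : Subgroup G) : Set G) := by
    intro s hs
    refine mem_normalizer_of_cj_le ?_
    rw [NormB.cj_iSup]
    refine iSup_le fun c => ?_
    obtain ⟨d, hd, -⟩ := hN.bls.perm s hs c.1
    rw [hd]
    refine le_iSup (fun c : {c // Off (S : Subgroup G) N b c} => N c) ⟨d, fun t ht e => ?_⟩
    refine c.2 (s⁻¹ * t) (mul_mem (inv_mem hs) ht) ?_
    rw [map_mul, mul_smul, e, ← hd]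
    exact cj_inv_cj s (N c.1)
  have h1 := PLocal.OffenderStep.inf_centralizer_ne_bot _ (S : Subgroup G) (S.isPGroup'.to_le (hV.trans hSV))
    S.isPGroup' hnor hne
  intro h0
  apply h1
  rw [eq_bot_iff, ← h0]
  rintro x ⟨hx, hxS⟩
  refine ⟨ChoiceBase.mem_zc.2 ⟨hSV (hV hx), ?_, fun s hs => mem_centralizer_iff.1 hxS s hs⟩, hx⟩
  have h2 := wsq hB x (hV hx)
  rwa [pow_two]

theorem D_le_cen (hN : NBs (S : Subgroup G) N E D l q) (b : ι) :
    Lb (S : Subgroup G) N D b ≤ centralizer (UX (S : Subgroup G) N b : Set G) := by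
  have h1 : Lb (S : Subgroup G) N D b ≤
      centralizer ((⨆ c : {c // Off (S : Subgroup G) N b c}, N c : Subgroup G) : Set G) := by
    intro x hx
    refine NormB.mem_cent_iSup.2 fun c => NormB.mem_cent_iff.1 (Lb_le_C hN c.1 b (fun e => ?_) hx)
    refine c.2 1 (one_mem _) ?_
    rw [map_one, one_smul, e]
  exact h1.trans (centralizer_le inf_le_right)

/-- `C_G(Z)` normalises `⨆ l` -/
theorem cz (ln : ∀ c ∈ centralizer (zc (S : Subgroup G) : Set G), ∀ b, ∃ b', MulAut.conj c • l b = l b') :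
    CZ (S : Subgroup G) ≤ normalizer ((⨆ b, l b : Subgroup G) : Set G) := by
  intro x hx
  refine mem_normalizer_of_cj_le ?_
  rw [NormB.cj_iSup]
  refine iSup_le fun b => ?_
  obtain ⟨b', hb'⟩ := ln x hx b
  have h1 : cj x (l b) = l b' := hb'
  rw [h1]
  exact le_iSup l b'

variable [Finite ι]

/-- **644's structure `NBf`** -/
theorem nbf_of (hB : RB S) (hN : NBs (S : Subgroup G) N E D l q) (hs : Src (S : Subgroup G) N l q)
    (hall : AllB (S : Subgroup G) N)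
    (ln : ∀ c ∈ centralizer (zc (S : Subgroup G) : Set G), ∀ b, ∃ b', MulAut.conj c • l b = l b')
    (two : ∀ b, ∃ c, ∀ s ∈ (S : Subgroup G), MulAut.conj s • N b ≠ N c) :
    NormB.NBf (S : Subgroup G) (CZ (S : Subgroup G)) (o2 (CZ (S : Subgroup G))) (Qn (S : Subgroup G) N)
      ((S : Subgroup G) ⊓ centralizer ((⨆ b, l b : Subgroup G) : Set G)) N l (Lb (S : Subgroup G) N D)
      (UK (S : Subgroup G) N) where
  two := S.isPGroup'
  OS := (isLoc_centralizer_zc S (hB.ctx.sylow_ne_bot S)).o2_le S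
  SC := le_CZ S
  nO := le_normalizer_o2 _
  sq := hN.sq
  com := hN.com
  ind := hN.indep
  lN := hN.bls.lN
  card := hN.card_N
  Qdef := rfl
  Bdef := rfl
  rt := hN.rt S.isPGroup'
  perm := Lb_perm hN
  LQ := Lb_le_Q
  LN := Lb_le_N hN
  LC := Lb_le_C hN
  KO b := by
    obtain ⟨c, hc⟩ := two b
    exact o2_le (UX_le b) (UX_ne hB hN hc)
  LK b := (D_le_cen hN b).trans (le_normalizer_o2 _)
  CK b := (centralizer_le (UX_le b)).trans (le_normalizer_o2 _)
  NK a b := by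
    obtain ⟨c, hc⟩ := two b
    exact N_le_o2 hB hs (UX_le b) (UX_ne hB hN hc) a
  syl := syl_Q hN
  gen b := gen hB hN hs hall b (fun x hx => by
      obtain ⟨d, hd, h1⟩ := act_Lb hN b hx
      exact ⟨d, hd, fun v hv => h1 v ((le_iSup N b) hv)⟩) (fun d hd => by
      obtain ⟨x, hx, h1⟩ := exists_Lb hN b hd
      exact ⟨x, hx, fun v hv => h1 v ((le_iSup N b) hv)⟩) (Lb_le_N hN b)
  noff := noff hB hs
  J := cz ln
  Z := by rw [sup_N hN]; exact zc_le_Wd _

/-- `P ∈ P*(S)` permutes the blocks -/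
theorem perm (hN : NBs (S : Subgroup G) N E D l q) (P : Subgroup G) (hP : IsParS (S : Subgroup G) P) :
    ∀ x ∈ P, ∀ b, ∃ c, cj x (N b) = N c := fun x hx b => by
  obtain ⟨c, h1, -⟩ := hN.dec.perm x (le_MZ hP hx) b
  exact ⟨c, h1⟩

theorem nS (hN : NBs (S : Subgroup G) N E D l q) :
    normalizer ((S : Subgroup G) : Set G) ≤ normalizer (Wd (S : Subgroup G) : Set G) := by
  intro x hx
  refine mem_normalizer_of_cj_le ?_
  rw [← sup_N hN, NormB.cj_iSup]
  refine iSup_le fun b => ?_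
  obtain ⟨c, h1, -⟩ := hN.permN x hx b
  have h2 : cj x (N b) = N c := h1
  rw [h2]
  exact le_iSup N c

/-- **`TFm`** from `hK` (`NormB.zcB`) -/
theorem tfm_of' (hB : RB S) (hN : NBs (S : Subgroup G) N E D l q) (hs : Src (S : Subgroup G) N l q)
    (hall : AllB (S : Subgroup G) N)
    (ln : ∀ c ∈ centralizer (zc (S : Subgroup G) : Set G), ∀ b, ∃ b', MulAut.conj c • l b = l b')
    (two : ∀ b, ∃ c, ∀ s ∈ (S : Subgroup G), MulAut.conj s • N b ≠ N c)
    (hK : ∀ b, zc ((S : Subgroup G) ⊓ centralizer ((⨆ b, l b : Subgroup G) : Set G)) ≤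
      UK (S : Subgroup G) N b) : TFm S (Wd (S : Subgroup G)) N l E where
  toBls := hN.bls
  nS := nS hN
  par R hR := by
    by_cases h : IsParS (S : Subgroup G) R
    · exact Or.inr ⟨(le_MZ h).trans le_norm_Wd, perm hN R h⟩
    · exact Or.inl (par_le_CZ S hR h)
  I1 := hN.bls.I1_of (cz ln)
  I2 := by
    rw [← sup_N hN]
    exact (nbf_of hB hN hs hall ln two).le_normV
  I4 := (nbf_of hB hN hs hall ln two).zcB hK

end Cfsg.Agent.Omega.NOThreeL.RRed.UInst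

end
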