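import Cfsg.Agent.Mrg.Omega.NOThreeL.RRed.WLeftPar
import Cfsg.Agent.Mrg.Omega.KL.TwoZ.NFEnd


/-!
# NO-3L, box R: the socket `WideTree.WLeftOne` (two natural blocks, no fields; TEXT W2 #24006; plug helper958)

* `kgroup` : `C_G(Z_i)` is a `K`-group;
* **`wLeftOne`** : `WLeftOne K B` (instance `WLeft.nf_of`, end `KL.TwoZ.NF.false`).
-/

set_option autoImplicit false
set_option linter.unusedSectionVars false

namespace Cfsg.Agent.Omega.NOThreeL.RRed.WLeft

open Subgroup Cfsg Cfsg.Agent.ZN Cfsg.Agent.Omega.MinPar Cfsg.Agent.Omega.Frame Cfsg.Agent.Omega.FrameNOFF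
open Cfsg.Agent.Omega.NOThreeL.RTree (RB)
open Cfsg.Agent.Omega.NOThreeL.RRed.GlueSig
open Cfsg.Agent.Omega.NOThreeL.RRed.InstZ (ZZ Spl)
open Cfsg.Agent.Omega.NOThreeL.RRed.WideTree

universe u

/-- `C_G(Z_i)` is a `K`-group -/
theorem kgroup {G : Type u} [Group G] [Finite G] {S : Sylow 2 G} {W : Fin 2 → Subgroup G} (h : RB S) (s : Spl S W)
    (i : Fin 2) : IsKGroup (centralizer (ZZ (S : Subgroup G) W i : Set G)) := by
  have := h.ctx.simple
  exact h.ctx.kproper _ ((s.isLong h i).loc.ne_top S h.ctx.not_isPGroup)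

/-- **two natural blocks, no fields** -/
theorem wLeftOne (hML : ML.Final.MLK.{u, u}) (hE : ML.Ex.Two.Ext.{u, u}) (K : Cls.{u}) (B : Fr.{u}) :
    WLeftOne K B := by
  intro G _ _ _ S _ hW hm W C _ E D l q N _ _ _ hf
  have h : RB S := hW.toRB
  exact ((nf_of h C N hf hm).false hML hE fun i => kgroup h (spl_of h C N hf hm) i).elim

end Cfsg.Agent.Omega.NOThreeL.RRed.WLeft
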