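import Cfsg.Agent.Mrg.Omega.NOThreeL.RRed.TvOrbs
import Cfsg.Agent.Mrg.Omega.NOThreeL.RRed.Nat1Def
import Cfsg.Agent.Mrg.Omega.NOThreeL.RRed.FourNoK2
import Cfsg.Agent.Mrg.Omega.NOThreeL.RRed.WLeftBase

section


/-!
# NO-3L, box R, one natural block without fields, `R ∈ P*(S)` moves `W ∩ Z` (WideTree row 7, helper958)

`r : Rt (zl S L) W W' l A F e`, `A ≤ S`, `l = W ∩ Z`, `L ≤ N(W)`, `R ≤ L`.

* `cent_of` : `B ≤ A` in `C(V_R)` centralises `V = zl S L`;
* **`gone`** : `GOne S L R A`; `not_o2` : `B ≤ A` which moves `V` is not in `O₂(R)`;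
* `W_le`, `sup_eq` : `W ≤ V_R ≤ W (W' ∩ Z)` if `O²(R)` centralises `W'`;
* **`inf_cv`** : `W ∩ C_(V_R)(O²(R)) = 1`; **`splitBy`**.
-/

set_option autoImplicit false
set_option linter.unusedSectionVars false

namespace Cfsg.Agent.Omega.NOThreeL.RRed.WLeft

open Subgroup Cfsg Cfsg.Agent.ZN Cfsg.Agent.Omega.MinPar Cfsg.Agent.Omega.Frame Cfsg.Agent.Omega.FrameNOFF
open Cfsg.Agent.Omega.FFThm (ElemM OffM NoOverM ConclM NatKM SymKM NatK SymK ActsSL ActsSym)
open Cfsg.Agent.Omega.FrameFF (cv)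
open Cfsg.Agent.Omega.NatPair (ap)
open Cfsg.Agent.Omega.NOThreeL.RTreeA (SplitBy)
open Cfsg.Agent.MinSimple.VModule (zc_le_zl oddGen)
open Cfsg.Agent.Lib.SL2Mat

universe u

variable {G : Type u} [Group G]

section par

variable [Finite G] {S : Sylow 2 G} {L R W W' l A : Subgroup G} {F : Type} [Field F] [Finite F] [CharP F 2]
  {e : G → Fin 2 → F}

/-- the hypotheses -/
structure Loc (S : Sylow 2 G) (L R W W' l A : Subgroup G) (F : Type) [Field F] (e : G → Fin 2 → F) : Prop where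
  hc : IsCharacteristicTwoType G
  rt : Rt (zl (S : Subgroup G) L) W W' l A F e
  no : NoOverM (zl (S : Subgroup G) L) L
  par : IsParS (S : Subgroup G) R
  RL : R ≤ L
  LW : L ≤ normalizer (W : Set G)
  SW' : (S : Subgroup G) ≤ normalizer (W' : Set G)
  VS : zl (S : Subgroup G) L ≤ (S : Subgroup G)
  sq : ∀ x ∈ zl (S : Subgroup G) L, x ^ 2 = 1
  AS : A ≤ (S : Subgroup G)
  hl : W ⊓ zc (S : Subgroup G) = l
  mv : ¬ R ≤ centralizer ((W ⊓ zc (S : Subgroup G) : Subgroup G) : Set G)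

variable (h : Loc S L R W W' l A F e)
include h

omit [Finite F] [CharP F 2] in
theorem Loc.VU : zl (S : Subgroup G) R ≤ zl (S : Subgroup G) L := Star.zl_mono _ h.RL

omit [Finite F] [CharP F 2] in
theorem Loc.inf_lW {x : G} (hx : x ∈ W) (hx' : x ∈ l ⊔ W') : x ∈ l := by
  have hn : l ≤ normalizer (W' : Set G) :=
    ((h.rt.l_le.trans h.rt.WV).trans h.rt.ab).trans
      ((centralizer_le h.rt.WV').trans (centralizer_le_normalizer _))
  have h2 : x ∈ ((l ⊔ W' : Subgroup G) : Set G) := hx'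
  rw [coe_mul_of_left_le_normalizer_right _ _ hn] at h2
  obtain ⟨a, ha, b, hb, e1⟩ := h2
  have e1' : a * b = x := e1
  have h3 : b ∈ W ⊓ W' := by
    refine ⟨?_, hb⟩
    have : a⁻¹ * x ∈ W := mul_mem (inv_mem (h.rt.l_le ha)) hx
    rwa [← e1', inv_mul_cancel_left] at this
  rw [h.rt.dis, mem_bot] at h3
  rw [← e1', h3, mul_one]
  exact ha

omit [Finite F] [CharP F 2] in
/-- `B ≤ A` which centralises `V_R` centralises `V` -/
theorem Loc.cent_of {B : Subgroup G} (hB : B ≤ A) (hBR : B ≤ centralizer (zl (S : Subgroup G) R : Set G)) :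
    B ≤ centralizer (zl (S : Subgroup G) L : Set G) := by
  by_contra hn
  apply h.mv
  have h1 := h.rt.cent_eq hB hn
  have h2 : zl (S : Subgroup G) R ≤ l ⊔ W' := by
    rw [← h1]
    exact le_inf h.VU (le_centralizer_iff.1 hBR)
  -- `Z_i` is `R`-invariant
  have h3 : W ⊓ zl (S : Subgroup G) R = l := by
    apply le_antisymm
    · rintro x ⟨hx, hx'⟩
      exact h.inf_lW hx (h2 hx')
    · refine le_inf h.rt.l_le ?_
      rw [← h.hl]
      exact inf_le_right.trans (zc_le_zl _ _)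
  have h4 : R ≤ normalizer (l : Set G) := by
    rw [← h3]
    exact (le_inf (h.RL.trans h.LW) (MinSimple.VModule.le_normalizer_zl _ _)).trans inf_normalizer_le_normalizer_inf
  rw [h.hl]
  refine InstZ.le_of_conj h.par.toIsMinPar fun g hg t ht => ?_
  rw [mem_centralizer_iff]
  intro z hz
  have h5 : g⁻¹ * z * g ∈ l := by
    have := (mem_normalizer_iff.1 (h4 (inv_mem hg)) z).1 hz
    rwa [inv_inv] at this
  have h6 : t * (g⁻¹ * z * g) = (g⁻¹ * z * g) * t := by
    rw [← h.hl] at h5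
    exact (MinSimple.VModule.mem_zc.1 h5.2).2.1 t ht
  calc z * (g * t * g⁻¹) = g * ((g⁻¹ * z * g) * t) * g⁻¹ := by group
    _ = g * (t * (g⁻¹ * z * g)) * g⁻¹ := by rw [h6]
    _ = g * t * g⁻¹ * z := by group

/-- **`R` satisfies (G1) with `A`** -/
theorem Loc.gone : GOne S L R A := by
  have hne : ¬ A ≤ centralizer (zl (S : Subgroup G) R : Set G) := fun h1 => h.rt.not_le (h.cent_of le_rfl h1)
  obtain ⟨-, -, h2, h3, h4⟩ := exact_split h.hc h.par h.RL h.no h.rt.ab h.AS h.rt.elem h.rt.exa hne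
  have h5 : A ⊓ centralizer (zl (S : Subgroup G) R : Set G) ≤ centralizer (zl (S : Subgroup G) L : Set G) :=
    h.cent_of inf_le_left inf_le_right
  refine ⟨h.par, h.RL, h.AS, h.rt.ab, h.no, ⟨h.rt.elem, h.rt.not_le, h.rt.exa.le⟩, h2, h5, h3, ?_⟩
  rw [← h4]
  exact (inf_eq_left.2 (le_centralizer_iff.1 h5)).symm

omit [Finite F] [CharP F 2] in
/-- `B ≤ A` which moves `V` is not in `O₂(R)` -/
theorem Loc.not_o2 {B : Subgroup G} (hB : B ≤ A) (hn : ¬ B ≤ centralizer (zl (S : Subgroup G) L : Set G)) :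
    ¬ B ≤ o2 R := by
  intro h1
  apply hn
  refine h.cent_of hB (h1.trans ?_)
  rw [le_centralizer_iff]
  exact MinSimple.VModule.zl_le (by
    rw [le_centralizer_iff]
    exact ((h.par.isLoc.o2_le S)).trans (MinSimple.VModule.le_centralizer_zc _))
    (TC.LemZ.norm_cent (MinSimple.VModule.le_normalizer_o2 R))

omit [Finite F] [CharP F 2] in
/-- `Z = (W ∩ Z) (W' ∩ Z)` -/
theorem Loc.zdec {z : G} (hz : z ∈ zc (S : Subgroup G)) :
    ∃ a ∈ W ⊓ zc (S : Subgroup G), ∃ b ∈ W' ⊓ zc (S : Subgroup G), z = a * b := by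
  have hzV : z ∈ zl (S : Subgroup G) L := zc_le_zl _ _ hz
  obtain ⟨a, ha, b, hb, e1⟩ := h.rt.dec hzV
  have hSL : (S : Subgroup G) ≤ L := h.par.le.trans h.RL
  have key : ∀ t ∈ (S : Subgroup G), t * a = a * t ∧ t * b = b * t := by
    intro t ht
    have h4 : t * z * t⁻¹ = z := by
      have := (MinSimple.VModule.mem_zc.1 hz).2.1 t ht
      rw [this]; group
    have ha' : t * a * t⁻¹ ∈ W := (mem_normalizer_iff.1 (h.LW (hSL ht)) a).1 ha
    have hb' : t * b * t⁻¹ ∈ W' := (mem_normalizer_iff.1 (h.SW' ht) b).1 hb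
    have h5 : (t * a * t⁻¹) * (t * b * t⁻¹) = a * b := by
      rw [← e1]
      conv_rhs => rw [← h4]
      rw [e1]; group
    have h6 : a⁻¹ * (t * a * t⁻¹) = b * (t * b * t⁻¹)⁻¹ := by
      calc a⁻¹ * (t * a * t⁻¹) = a⁻¹ * ((t * a * t⁻¹) * (t * b * t⁻¹)) * (t * b * t⁻¹)⁻¹ := by group
        _ = b * (t * b * t⁻¹)⁻¹ := by rw [h5]; group
    have h7 : a⁻¹ * (t * a * t⁻¹) ∈ W ⊓ W' :=
      mem_inf.2 ⟨mul_mem (inv_mem ha) ha', by rw [h6]; exact mul_mem hb (inv_mem hb')⟩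
    rw [h.rt.dis, mem_bot] at h7
    have h8 : t * a * t⁻¹ = a := (inv_mul_eq_one.1 h7).symm
    have h9 : t * b * t⁻¹ = b := by
      rw [h8] at h5
      exact mul_left_cancel h5
    exact ⟨mul_inv_eq_iff_eq_mul.1 h8, mul_inv_eq_iff_eq_mul.1 h9⟩
  have haV := h.rt.WV ha
  have hbV := h.rt.WV' hb
  exact ⟨a, mem_inf.2 ⟨ha, MinSimple.VModule.mem_zc.2 ⟨h.VS haV, fun t ht => (key t ht).1, h.sq a haV⟩⟩,
    b, mem_inf.2 ⟨hb, MinSimple.VModule.mem_zc.2 ⟨h.VS hbV, fun t ht => (key t ht).2, h.sq b hbV⟩⟩, e1⟩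

variable (hodd : ∀ g ∈ R, Odd (orderOf g) → g ∈ centralizer (W' : Set G))
include hodd

omit [Finite F] [CharP F 2] in
/-- `R` centralises `W' ∩ Z` -/
theorem Loc.cent' : R ≤ centralizer ((W' ⊓ zc (S : Subgroup G) : Subgroup G) : Set G) := by
  conv_lhs => rw [← NoFF.LinesPlug.oddGen_sup h.par.le (MinSimple.Basic.not_dvd_relIndex S h.par.le)]
  refine sup_le ?_ ((MinSimple.VModule.le_centralizer_zc _).trans (centralizer_le inf_le_right))
  rw [MinSimple.VModule.oddGen_def, closure_le]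
  rintro g ⟨hg, ho⟩
  exact centralizer_le inf_le_left (hodd g hg ho)

omit [Finite F] [CharP F 2] in
/-- `V_R ≤ W (W' ∩ Z)` -/
theorem Loc.zl_le : zl (S : Subgroup G) R ≤ W ⊔ (W' ⊓ zc (S : Subgroup G)) := by
  refine MinSimple.VModule.zl_le (fun z hz => ?_) ?_
  · obtain ⟨a, ha, b, hb, rfl⟩ := h.zdec hz
    exact mul_mem (mem_sup_left ha.1) (mem_sup_right hb)
  · exact RRed.CM.norm_sup (h.RL.trans h.LW) ((h.cent' hodd).trans (centralizer_le_normalizer _))

/-- **`W ≤ V_R`** -/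
theorem Loc.W_le : W ≤ zl (S : Subgroup G) R := by
  have hg := h.gone
  intro w hw
  have hwV := h.rt.WV hw
  obtain ⟨v, hv, x, hx, e1⟩ := hg.dec hwV
  rw [h.rt.cent_eq le_rfl h.rt.not_le] at hx
  -- `x = a b`, `a ∈ l ≤ V_R`, `b ∈ W'`
  have hn : l ≤ normalizer (W' : Set G) :=
    ((h.rt.l_le.trans h.rt.WV).trans h.rt.ab).trans
      ((centralizer_le h.rt.WV').trans (centralizer_le_normalizer _))
  have h2 : x ∈ ((l ⊔ W' : Subgroup G) : Set G) := hx
  rw [coe_mul_of_left_le_normalizer_right _ _ hn] at h2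
  obtain ⟨a, ha, b, hb, e2⟩ := h2
  have e2' : x = a * b := e2.symm
  have haR : a ∈ zl (S : Subgroup G) R := by
    rw [SetLike.mem_coe, ← h.hl] at ha
    exact zc_le_zl _ _ ha.2
  have hvaR : v * a ∈ zl (S : Subgroup G) R := mul_mem hv haR
  -- `v a = w' z'`
  have h3 := h.zl_le hodd hvaR
  have hn' : W ≤ normalizer ((W' ⊓ zc (S : Subgroup G) : Subgroup G) : Set G) :=
    (h.rt.WV.trans h.rt.ab).trans ((centralizer_le (inf_le_left.trans h.rt.WV')).trans (centralizer_le_normalizer _))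
  have h4 : v * a ∈ ((W ⊔ (W' ⊓ zc (S : Subgroup G)) : Subgroup G) : Set G) := h3
  rw [coe_mul_of_left_le_normalizer_right _ _ hn'] at h4
  obtain ⟨w', hw', z', hz', e3⟩ := h4
  have e3' : v * a = w' * z' := e3.symm
  have e4 : w = w' * (z' * b) := by
    calc w = v * a * b := by rw [e1, e2', mul_assoc]
      _ = _ := by rw [e3', mul_assoc]
  have h5 : z' * b ∈ W ⊓ W' := by
    refine ⟨?_, mul_mem hz'.1 hb⟩
    have : w'⁻¹ * w ∈ W := mul_mem (inv_mem hw') hw
    rwa [e4, inv_mul_cancel_left] at this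
  rw [h.rt.dis, mem_bot] at h5
  rw [e4, h5, mul_one]
  have h6 : w' = v * a * z'⁻¹ := by rw [e3', mul_inv_cancel_right]
  rw [h6]
  exact mul_mem hvaR (inv_mem (zc_le_zl _ _ hz'.2))

/-- the coordinates of `V_R` are those of `W` -/
theorem Loc.exists_w {v : G} (hv : v ∈ zl (S : Subgroup G) R) :
    ∃ w ∈ W, ∃ d ∈ cv (S : Subgroup G) R, v = w * d := by
  have hn' : W ≤ normalizer ((W' ⊓ zc (S : Subgroup G) : Subgroup G) : Set G) :=
    (h.rt.WV.trans h.rt.ab).trans ((centralizer_le (inf_le_left.trans h.rt.WV')).trans (centralizer_le_normalizer _))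
  have h4 : v ∈ ((W ⊔ (W' ⊓ zc (S : Subgroup G)) : Subgroup G) : Set G) := h.zl_le hodd hv
  rw [coe_mul_of_left_le_normalizer_right _ _ hn'] at h4
  obtain ⟨w, hw, z, hz, e1⟩ := h4
  refine ⟨w, hw, z, ?_, e1.symm⟩
  exact Nat1Of.mem_cv_of hz.2 ((h.cent' hodd).trans (centralizer_le (Set.singleton_subset_iff.2 hz)))

/-- natural modules: `W ∩ cv = 1` -/
theorem Loc.inf_nat {F' : Type} [Field F'] [Finite F'] [CharP F' 2] {k : ℕ} (hk : 0 < k)
    (M : NatKM F' (S : Subgroup G) R (zl (S : Subgroup G) R) (cv (S : Subgroup G) R) k) :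
    W ⊓ cv (S : Subgroup G) R = ⊥ := by
  classical
  have hg := h.gone
  have hRV : R ≤ normalizer (zl (S : Subgroup G) R : Set G) := MinSimple.VModule.le_normalizer_zl _ _
  have hAR : A ≤ R := h.AS.trans h.par.le
  have hWR := h.W_le hodd
  obtain ⟨I, hI1, hI2⟩ := M.offM A h.AS hg.offP
  have hsub : ∀ {v w : G}, v ∈ zl (S : Subgroup G) R → w ∈ zl (S : Subgroup G) R →
      M.e (v * w⁻¹) = M.e v - M.e w := fun hv hw => e_sub_nat M.toNatK le_rfl hv hw
  have hcomm : ∀ {a v : G} {b : Fin k → F'}, a ∈ A →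
      ActsSL M.e (zl (S : Subgroup G) R) (cv (S : Subgroup G) R) a (fun i => up (b i)) →
      v ∈ zl (S : Subgroup G) R → ∀ i, M.e (a * v * a⁻¹ * v⁻¹) i 0 = b i * M.e v i 1 := by
    intro a v b ha hb hv i
    rw [hsub (conj_div hRV (hAR ha) hv) hv, Pi.sub_apply, hb.1 v hv i, Pi.sub_apply, VF.Nat.ap_up_0]
    ring
  -- `I ≠ ∅`
  obtain ⟨i, hi⟩ : ∃ i, i ∈ I := by
    by_contra hcon
    push Not at hcon
    apply hg.offP.ne
    rw [le_centralizer_iff]
    intro v hv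
    rw [mem_centralizer_iff]
    refine cent_nat h.hc h.par M hk h.AS hg.offP hv fun a ha => ?_
    obtain ⟨b, hb, hact⟩ := hI1 a ha
    have hb0 : b = 0 := funext fun j => hb j (hcon j)
    funext j
    rw [hact.1 v hv j, hb0]
    refine VF.Nat.ext2' ?_ ?_
    · rw [VF.Nat.ap_up_0]; simp
    · rw [VF.Nat.ap_up_1]
  obtain ⟨a, ha, hact⟩ := hI2 (Pi.single i 1)
    (fun j hj => Pi.single_eq_of_ne (fun e => hj (by rw [e]; exact hi)) _)
  -- `n ∈ W` with `e n i 1 = 1`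
  obtain ⟨n, hn, hne⟩ : ∃ n ∈ W, M.e n i 1 = 1 := by
    obtain ⟨v, hv, hev⟩ := M.surj (Pi.single i ![0, 1])
    obtain ⟨w, hw, d, hd, rfl⟩ := h.exists_w hodd hv
    refine ⟨w, hw, ?_⟩
    have hdV : d ∈ zl (S : Subgroup G) R := hd.1
    rw [M.mul w (hWR hw) d hdV, (M.ker d hdV).2 hd, add_zero] at hev
    rw [hev, Pi.single_eq_same]; rfl
  have hnR := hWR hn
  have hz0 : M.e (a * n * a⁻¹ * n⁻¹) i 0 = 1 := by
    rw [hcomm ha hact hnR i, Pi.single_eq_same, hne, mul_one]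
  have haW : a ∉ centralizer (W : Set G) := by
    intro h1
    have h2 : a * n * a⁻¹ * n⁻¹ = 1 := by
      rw [← mem_centralizer_iff.1 h1 n hn]; group
    rw [h2] at hz0
    have h3 : M.e 1 = 0 := by
      have := M.mul 1 (one_mem _) 1 (one_mem _)
      rw [one_mul] at this
      exact left_eq_add.1 this
    rw [h3] at hz0
    exact zero_ne_one hz0
  rw [eq_bot_iff]
  rintro x ⟨hxW, hxc⟩
  rw [mem_bot]
  by_contra hx1
  -- `x ∈ l`
  have hxl : x ∈ l := h.rt.free ha haW hxW (hact.2 x hxc)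
  obtain ⟨w, hw, hwx⟩ := h.rt.full ha haW hxl
  have hwR := hWR hw
  have hw1 : M.e w i 1 = 0 := by
    have h1 := hcomm ha hact hwR i
    rw [hwx, (M.ker x hxc.1).2 hxc, Pi.single_eq_same, one_mul] at h1
    exact h1.symm
  have hwl : w ∉ l := by
    intro h1
    apply hx1
    rw [← hwx, ← mem_centralizer_iff.1 (h.rt.cent_l ha) w h1]; group
  obtain ⟨a', ha', h1⟩ := h.rt.root' hw hwl (h.rt.com ha hn)
  obtain ⟨b', -, hact'⟩ := hI1 a' ha'
  have h2 := hcomm ha' hact' hwR i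
  rw [h1, hz0, hw1, mul_zero] at h2
  exact one_ne_zero h2

/-- even-subset modules are impossible -/
theorem Loc.no_sym {k m : ℕ} (hk : 0 < k) (hm : 2 ≤ m)
    (M : SymKM (S : Subgroup G) R (zl (S : Subgroup G) R) (cv (S : Subgroup G) R) k m) : False := by
  classical
  have hg := h.gone
  have hWR := h.W_le hodd
  obtain ⟨t, ht, c, hc, hc1, htv, htn⟩ := tv_sym h.hc h.par M hk hm h.AS hg.offP
  have htW : t ∉ centralizer (W : Set G) := fun h1 =>
    htn (centralizer_le h.VU ((h.rt.mem_cent ht).2 h1))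
  have hl2 : Nat.card l ≤ 2 := by
    have hf : Function.Injective (fun z : l => decide ((z : G) = 1)) := by
      intro z z' hzz
      have key : ∀ z ∈ l, z = 1 ∨ z = c := by
        intro z hz
        obtain ⟨v, hv, e1⟩ := h.rt.full ht htW hz
        rcases htv v (hWR hv) with h1 | h1
        · left; rw [← e1, h1, mul_inv_cancel]
        · right
          have h2 : v * c = c * v := h.rt.comm (h.rt.WV hv) (h.VU hc)
          rw [← e1, h1, h2, mul_inv_cancel_right]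
      rcases key z z.2 with h1 | h1 <;> rcases key z' z'.2 with h2 | h2
      · exact Subtype.ext (h1.trans h2.symm)
      · exfalso
        simp only [h1, h2, decide_true] at hzz
        exact hc1 (of_decide_eq_true hzz.symm)
      · exfalso
        simp only [h1, h2, decide_true] at hzz
        exact hc1 (of_decide_eq_true hzz)
      · exact Subtype.ext (h1.trans h2.symm)
    have h1 := Nat.card_le_card_of_injective _ hf
    simpa using h1
  have hW4 : Nat.card W ≤ 4 := by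
    rw [h.rt.card_W]
    calc Nat.card l * Nat.card l ≤ 2 * 2 := Nat.mul_le_mul hl2 hl2
      _ = 4 := rfl
  let j : Fin k := ⟨0, hk⟩
  have hex : ∀ x : Fin (2 ^ m + 1), ∃ w ∈ W, M.e w = Pi.single j (Pi.single 0 1 + Pi.single x 1) := by
    intro x
    obtain ⟨v, hv, hev⟩ := M.surj (Pi.single j (Pi.single 0 1 + Pi.single x 1)) (by
      intro i
      by_cases hij : i = j
      · subst hij
        rw [Pi.single_eq_same]
        simp only [Pi.add_apply, Finset.sum_add_distrib]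
        rw [Finset.sum_pi_single', Finset.sum_pi_single']
        simp
        decide
      · rw [Pi.single_eq_of_ne hij]
        simp)
    obtain ⟨w, hw, d, hd, rfl⟩ := h.exists_w hodd hv
    refine ⟨w, hw, ?_⟩
    have hdV : d ∈ zl (S : Subgroup G) R := hd.1
    rw [M.mul w (hWR hw) d hdV, (M.ker d hdV).2 hd, add_zero] at hev
    exact hev
  choose f hf hfe using hex
  have hinj : Function.Injective (fun x => (⟨f x, hf x⟩ : W)) := by
    intro x y hxy
    have h1 : f x = f y := congrArg Subtype.val hxy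
    have h2 : (Pi.single 0 1 + Pi.single x 1 : Fin (2 ^ m + 1) → ZMod 2) = Pi.single 0 1 + Pi.single y 1 := by
      have h3 := hfe x
      rw [h1, hfe y] at h3
      have h4 := congrFun h3 j
      rw [Pi.single_eq_same, Pi.single_eq_same] at h4
      exact h4.symm
    have h3 := add_left_cancel h2
    by_contra hne
    have h4 := congrFun h3 x
    rw [Pi.single_eq_same, Pi.single_eq_of_ne hne] at h4
    exact one_ne_zero h4
  have h1 := Nat.card_le_card_of_injective _ hinj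
  rw [Nat.card_eq_fintype_card, Fintype.card_fin] at h1
  have h2 : 2 ^ 2 ≤ 2 ^ m := Nat.pow_le_pow_right (by norm_num) hm
  omega

/-- **`W ∩ C_(V_R)(O²(R)) = 1`** -/
theorem Loc.inf_cv : W ⊓ cv (S : Subgroup G) R = ⊥ := by
  rcases h.gone.concl with ⟨F', _, _, _, k, hk, ⟨M⟩⟩ | ⟨k, m, hk, hm, ⟨M⟩⟩
  · exact h.inf_nat hodd hk M
  · exact (h.no_sym hodd hk hm M).elim

/-- **`V_R = W × C_(V_R)(O²(R))`** -/
theorem Loc.splitBy : SplitBy (S : Subgroup G) R (cv (S : Subgroup G) R) W := by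
  refine ⟨h.W_le hodd, h.RL.trans h.LW, h.inf_cv hodd, fun v hv => ?_⟩
  obtain ⟨w, hw, d, hd, rfl⟩ := h.exists_w hodd hv
  exact mul_mem (mem_sup_left hw) (mem_sup_right hd)

end par

end Cfsg.Agent.Omega.NOThreeL.RRed.WLeft

end

section


/-!
# NO-3L, box R, `WideTree.WLeftOne`: two natural blocks, no fields: the frame `KL.TwoZ.NF` (helper958)

`h : RB S`, `C : CM S W`, `N : NBs S W E D l q`, `hf : NoFld S W l`.

* `exists_rt` : `S ⊓ D i` is the root group of the block `W i` of `V* = W i × W (i+1)`; `l_eq` : `l i = W i ∩ Z`;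
* `loc` : every `R ∈ P*(S)` which moves `Z_i` satisfies `Loc`, is active, centralises `Z_(i+1)`;
* `gen` : `W i ≤ ⟨Z_i ^ C_G(Z_j)⟩`;
* `spl_of`, `nat1`, `nonLoc_of`; **`nf_of`** : `KL.TwoZ.NF S W (ZZ S W)`.
-/

set_option autoImplicit false
set_option linter.unusedSectionVars false

namespace Cfsg.Agent.Omega.NOThreeL.RRed.WLeft

open Subgroup Cfsg Cfsg.Agent.ZN Cfsg.Agent.Omega.MinPar Cfsg.Agent.Omega.Frame Cfsg.Agent.Omega.FrameNOFF
open Cfsg.Agent.Omega.FFThm (OffM NoOverM ConclM)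
open Cfsg.Agent.Omega.NOThreeL.Merge (MZ)
open Cfsg.Agent.Omega.NOThreeL.RTree (RB)
open Cfsg.Agent.Omega.NOThreeL.RRed.InstZ (ZZ Spl Nat1)
open Cfsg.Agent.Omega.NOThreeL.RRed.WideTree
open Cfsg.Agent.Omega.OM.KTwo (ne_add_one)
open Cfsg.Agent.MinSimple.VModule (zc_le_zl oddGen)
open scoped Pointwise

universe u

variable {G : Type u} [Group G] [Finite G] {S : Sylow 2 G} {W E D l : Fin 2 → Subgroup G} {q : Fin 2 → ℕ}
  (h : RB S) (C : CM (S : Subgroup G) (fun i : ULift.{u} (Fin 2) => W i.down))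
  (N : NBs (S : Subgroup G) (fun i : ULift.{u} (Fin 2) => W i.down) (fun i => E i.down) (fun i => D i.down)
    (fun i => l i.down) (fun i => q i.down))
  (hf : NoFld (S : Subgroup G) W l)

include h C N

omit h C in
theorem D_cent {i j : Fin 2} (hij : i ≠ j) : D i ≤ centralizer (W j : Set G) :=
  (N.DE ⟨i⟩).trans (N.dec.EC ⟨i⟩ ⟨j⟩ fun e => hij (congrArg ULift.down e))

theorem exists_rt {i j : Fin 2} (hij : i ≠ j) : ∃ (F : Type) (_ : Field F) (_ : Finite F) (_ : CharP F 2)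
    (e : G → Fin 2 → F), Nat.card F = q i ∧
      Rt (zl (S : Subgroup G) (MZ (S : Subgroup G))) (W i) (W j) (l i) ((S : Subgroup G) ⊓ D i) F e := by
  obtain ⟨F, i1, i2, i3, e, hq, hN⟩ := N.nat ⟨i⟩
  exact ⟨F, i1, i2, i3, e, hq,
    { ab := N.dec.ab
      sup := cm_sup C hij
      dis := cm_dis C hij
      nor := inf_le_left.trans (S_nor h C i)
      cW := inf_le_right.trans (D_cent N hij)
      mul := hN.mul
      inj := hN.inj
      sur := hN.sur
      line := hN.line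
      root := hN.root
      sylow := hN.sylow }⟩

/-- `D i` is transitive on `(W i)#` -/
theorem tr {i : Fin 2} {v w : G} (hv : v ∈ W i) (hw : w ∈ W i) (hv1 : v ≠ 1) (hw1 : w ≠ 1) :
    ∃ d ∈ D i, d * v * d⁻¹ = w := by
  obtain ⟨F, i1, i2, i3, e, hq, hN⟩ := N.nat ⟨i⟩
  have hij := ne_add_one i
  have r : Rt (zl (S : Subgroup G) (MZ (S : Subgroup G))) (W i) (W (i + 1)) (l i) ((S : Subgroup G) ⊓ D i) F e :=
    { ab := N.dec.ab
      sup := cm_sup C hij
      dis := cm_dis C hij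
      nor := inf_le_left.trans (S_nor h C i)
      cW := inf_le_right.trans (D_cent N hij)
      mul := hN.mul
      inj := hN.inj
      sur := hN.sur
      line := hN.line
      root := hN.root
      sylow := hN.sylow }
  have hDn : D i ≤ normalizer (W i : Set G) := (N.DE ⟨i⟩).trans (N.dec.EN ⟨i⟩)
  obtain ⟨A, hA⟩ := KL.TwoZ.exists_sl (v := e v) (fun h1 => hv1 (hN.inj v hv h1))
  obtain ⟨B, hB⟩ := KL.TwoZ.exists_sl (v := e w) (fun h1 => hw1 (hN.inj w hw h1))
  obtain ⟨d, hd, hact⟩ := hN.full (B⁻¹ * A)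
  refine ⟨d, hd, r.eq_of ((mem_normalizer_iff.1 (hDn hd) v).1 hv) hw ?_⟩
  rw [hact v hv]
  have h1 : (B⁻¹ * A).1.mulVec (e v) = B⁻¹.1.mulVec (A.1.mulVec (e v)) := by
    rw [Matrix.mulVec_mulVec]; rfl
  rw [h1, hA, ← hB, Matrix.mulVec_mulVec]
  have h2 : B⁻¹.1 * B.1 = 1 := by
    have := congrArg Subtype.val (inv_mul_cancel B)
    exact this
  rw [h2, Matrix.one_mulVec]

/-- `W i ≤ ⟨Z_i ^ C_G(Z_j)⟩` -/
theorem gen {i j : Fin 2} (hij : i ≠ j) : W i ≤ NoFF.Basic.V (ZZ (S : Subgroup G) W i)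
    (centralizer (ZZ (S : Subgroup G) W j : Set G)) := by
  obtain ⟨z, hz, hz1⟩ := exists_z h C i
  intro w hw
  by_cases hw1 : w = 1
  · rw [hw1]; exact one_mem _
  obtain ⟨d, hd, rfl⟩ := tr h C N hz.1 hw hz1 hw1
  have h1 : d ∈ centralizer (ZZ (S : Subgroup G) W j : Set G) := centralizer_le inf_le_left (D_cent N hij hd)
  exact NoFF.Basic.Z_le_V h1 ⟨z, hz, rfl⟩

include hf

/-- `l i = W i ∩ Z` -/
theorem l_eq (i : Fin 2) : W i ⊓ zc (S : Subgroup G) = l i := by
  obtain ⟨F, i1, i2, i3, e, hq, r⟩ := exists_rt h C N (ne_add_one i)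
  apply le_antisymm
  · rintro z ⟨hz, hzS⟩
    obtain ⟨a, ha, han⟩ := SetLike.not_le_iff_exists.1 r.not_le
    rw [r.mem_cent ha] at han
    exact r.free ha han hz ((MinSimple.VModule.mem_zc.1 hzS).2.1 a ha.1)
  · intro v hv
    have hvW := r.l_le hv
    refine mem_inf.2 ⟨hvW, MinSimple.VModule.mem_zc.2 ⟨W_le_S h C i hvW, fun s hs => ?_,
      Wd_sq h v (cm_le C i hvW)⟩⟩
    exact mul_inv_eq_iff_eq_mul.1 (hf i s hs (S_nor h C i hs) v hv)

/-- the hypotheses of `Loc` -/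
theorem loc {i j : Fin 2} (hij : i ≠ j) {R : Subgroup G} (hR : IsParS (S : Subgroup G) R)
    (hmv : ¬ R ≤ centralizer (ZZ (S : Subgroup G) W i : Set G)) :
    ∃ (F : Type) (_ : Field F) (_ : Finite F) (_ : CharP F 2) (e : G → Fin 2 → F),
      Loc S (MZ (S : Subgroup G)) R (W i) (W j) (l i) ((S : Subgroup G) ⊓ D i) F e := by
  obtain ⟨F, i1, i2, i3, e, hq, r⟩ := exists_rt h C N hij
  refine ⟨F, i1, i2, i3, e,
    { hc := h.ctx.char2
      rt := r
      no := ?_
      par := hR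
      RL := Merge.le_MZ hR
      LW := cm_inv C i
      SW' := S_nor h C j
      VS := Wd_le_S h
      sq := Wd_sq h
      AS := inf_le_left
      hl := l_eq h C N hf i
      mv := hmv }⟩
  obtain ⟨P, A, hg⟩ := exists_gOne h.ctx.char2 (isLoc_MZ h)
    (sSup_le fun _ hP => le_sSup ⟨hP, Merge.le_MZ hP⟩)
    ⟨(S : Subgroup G) ⊓ D i, inf_le_left.trans (S_le_MZ h), ⟨r.elem, r.not_le, r.exa.le⟩⟩
  exact hg.no

/-- **every `R ∈ P*(S)` which moves `Z_i` is active** -/
theorem act_of {i : Fin 2} {R : Subgroup G} (hR : IsParS (S : Subgroup G) R)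
    (hmv : ¬ R ≤ centralizer (ZZ (S : Subgroup G) W i : Set G)) : Act (S : Subgroup G) R := by
  obtain ⟨F, i1, i2, i3, e, L⟩ := loc h C N hf (ne_add_one i) hR hmv
  obtain ⟨B, hB, -, hM⟩ := L.rt.exists_mx (S.isPGroup'.to_le inf_le_left)
  exact ⟨hR, B, hB.trans inf_le_left, hM, L.not_o2 hB hM.ne⟩

theorem odd_of {i j : Fin 2} (hij : i ≠ j) {R : Subgroup G} (hR : IsParS (S : Subgroup G) R)
    (hmv : ¬ R ≤ centralizer (ZZ (S : Subgroup G) W i : Set G)) :
    (∀ g ∈ R, Odd (orderOf g) → g ∈ centralizer (W j : Set G)) ∧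
      R ≤ centralizer (ZZ (S : Subgroup G) W j : Set G) :=
  act_odd h C (act_of h C N hf hR hmv) hij hmv

/-- **nonlocality** -/
theorem nonLoc_of :
    NonLoc (centralizer (ZZ (S : Subgroup G) W 0 : Set G)) (centralizer (ZZ (S : Subgroup G) W 1 : Set G)) := by
  refine nonLoc h fun R hR => ?_
  by_cases h0 : R ≤ centralizer (ZZ (S : Subgroup G) W 0 : Set G)
  · exact Or.inl h0
  · exact Or.inr (odd_of h C N hf (by decide) hR h0).2

variable (hm : MvAct (S : Subgroup G))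
include hm

theorem spl_of : Spl S W := by
  refine spl h C (fun i => ?_) (fun i j hij => gen h C N hij)
  have hij := (ne_add_one i)
  obtain ⟨P, hP, hmv, hodd, -⟩ := exists_act h C hm hij
  obtain ⟨F, i1, i2, i3, e, L⟩ := loc h C N hf hij hP.1 hmv
  exact ⟨P, hP.1, L.W_le hodd⟩

theorem nat1 : Nat1 S W := by
  refine Nat1Of.nat1_of h.ctx.char2 (fun i => ?_) (fun i => ?_) (fun i R hR hmv => ?_)
    (fun n hn => cm_nS C hn)
  · have hij := (ne_add_one i)
    obtain ⟨P, hP, hmv, hodd, hPC⟩ := exists_act h C hm hij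
    obtain ⟨F, i1, i2, i3, e, L⟩ := loc h C N hf hij hP.1 hmv
    exact ⟨P, hP.1, hPC, L.gone.concl, L.splitBy hodd⟩
  · obtain ⟨F, i1, i2, i3, e, hq, r⟩ := exists_rt h C N (ne_add_one i)
    have h1 := r.card_W
    rw [← l_eq h C N hf i] at h1
    exact h1
  · have hij := (ne_add_one i)
    obtain ⟨F, i1, i2, i3, e, L⟩ := loc h C N hf hij hR hmv
    exact L.inf_cv (odd_of h C N hf hij hR hmv).1

/-- **two natural blocks, no fields: 401's frame** -/
theorem nf_of : KL.TwoZ.NF (S : Subgroup G) W (ZZ (S : Subgroup G) W) :=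
  (nat1 h C N hf hm).nf (spl_of h C N hf hm) h (nonLoc_of h C N hf)

end Cfsg.Agent.Omega.NOThreeL.RRed.WLeft

end
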