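import Cfsg.Agent.Mrg.Omega.NOThreeL.RRed.QFr.Mv
import Cfsg.Agent.Mrg.Omega.NOThreeL.RRed.LevVX
import Cfsg.Agent.Mrg.Omega.NOThreeL.RRed.WLeftBase
import Cfsg.Agent.Mrg.Omega.NOThreeL.RLev.LowZc
import Cfsg.Agent.Mrg.Omega.NOThreeL.RRed.BFr.Top
import Cfsg.Agent.Mrg.Omega.NOThreeL.QWR.NlWd
import Cfsg.Agent.Mrg.Omega.NOThreeL.QWR.RQOf
import Cfsg.Agent.Mrg.Omega.NOThreeL.QWR.AlphaOf


/-!
# The socket `TopS` of `RRed/WOneS`: the top level `(Q, V*)`, `Q = C_S(V*)`, `𝔽₂`-blocks, one class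

The level: helper978, 2, 319; the frame and the 2-group: helper343, 164, 947; `nl`: helper132, 194; THEOREM QW: helper733,
743, 281, 587, 623.

* **`topS`** : `TopS K (FBR Ref)`;  **`wOneS`** : the field `oneS`.
-/

set_option autoImplicit false
set_option linter.unusedSectionVars false

namespace Cfsg.Agent.Omega.NOThreeL.RRed.WideTree

open Subgroup Cfsg Cfsg.Agent.ZN Cfsg.Agent.Omega.MinPar Cfsg.Agent.Omega.Frame Cfsg.Agent.Omega.FrameNOFF
open Cfsg.Agent.Omega.Node.NO3L Cfsg.Agent.Omega.NOThreeL.Basic Cfsg.Agent.Omega.NOThreeL.RTree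
open Cfsg.Agent.Omega.NOThreeL.RTreeF
open Cfsg.Agent.Omega.NOThreeL.Merge (MZ S_le_MZ)
open Cfsg.Agent.Omega.NOThreeL.RRed.GlueSig
open Cfsg.Agent.Omega.NOThreeL.RRed.FourTree (Bks LevX nxtX HypJ)
open Cfsg.Agent.Omega.NO3S.Level (lev Lev lev_isLev normalizer_le_zc)
open Cfsg.Agent.Omega.NO3b.Wc (WH)
open Cfsg.Agent.Omega.NO3b.EndX (AbsP)
open Cfsg.Agent.Omega.OM.Lev.Uni (FrL)
open Cfsg.Agent.Omega.OM.SwapK (WL BK ZK)
open Cfsg.Agent.Omega.NOThreeL.QWR.FrTop (zv_eq bv_eq)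

open scoped Pointwise

universe u

variable {K : Cls.{u}} {Ref : Fr.{u}}

/-- **The top level.** -/
theorem topS (ml : ML.Final.MLK.{u, u}) (ha : AbsP.{u, u}) : TopS K (FBR Ref) := by
  intro G _ _ hK S hB hW hm hCM I _ _ N E Om _ _ phi hN tr hcnt hlev
  have h : RBF S := hB.1
  have hR : RB S := hW.toRB
  have irr : ∀ W : Subgroup G, W ≤ Wd (S : Subgroup G) → MZ (S : Subgroup G) ≤ normalizer (W : Set G) → W ≠ ⊥ →
      Wd (S : Subgroup G) ≤ W := fun W h1 h2 h3 => hCM.irr PUnit.unit W h1 h2 h3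
  have hj : jj (S : Subgroup G) ≤ centralizer (Wd (S : Subgroup G) : Set G) := hlev 0
  rcases RLev.exists_hatLev ml ha h with h1 | ⟨K₀, X, H⟩
  · exact h1 hj
  have hKQ := LevVX.top_K hR hN irr H.toTopLev
  have hT := LevVX.topQ hR hN irr H.toTopLev
  have hWQ : WH (S : Subgroup G) (Star.YS (S : Subgroup G)) =
      (S : Subgroup G) ⊓ centralizer (Wd (S : Subgroup G) : Set G) := H.eqK.symm.trans hKQ
  have hs := RLev.LowZc.seedX ml ha h hj
  rw [hWQ] at hs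
  have hz := LevVX.zcQ_eq hR hN irr hT hs
  have wl : WL S ((S : Subgroup G) ⊓ centralizer (Wd (S : Subgroup G) : Set G)) := ⟨hT.wc, hT.toLev⟩
  have rq := QWR.RQOf.rq_bks ml ha hW hCM hN hj hT.wc hz.le
  obtain ⟨ι, _, L, W, Z, C, A, -, -, hL, fr, -, R, hne, hRp, hD, hLR⟩ :=
    BFr.exists_top ml hR hW.rr hN hW.four_le irr hT.levX hz.le
  have e1 := zv_eq hT.toLev hz
  have e2 := bv_eq hT.toLev hz
  have fr' : FrL (BK (S : Subgroup G) ((S : Subgroup G) ⊓ centralizer (Wd (S : Subgroup G) : Set G)))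
      ((S : Subgroup G) ⊓ centralizer (Wd (S : Subgroup G) : Set G)) (Wd (S : Subgroup G)) (Wd (S : Subgroup G))
      (ZK (S : Subgroup G) ((S : Subgroup G) ⊓ centralizer (Wd (S : Subgroup G) : Set G))) L W Z C A 2 := by
    rw [show BK (S : Subgroup G) ((S : Subgroup G) ⊓ centralizer (Wd (S : Subgroup G) : Set G)) = _ from e2,
      show ZK (S : Subgroup G) ((S : Subgroup G) ⊓ centralizer (Wd (S : Subgroup G) : Set G)) = _ from e1]
    exact fr
  have hD' : centralizer (ZK (S : Subgroup G) ((S : Subgroup G) ⊓ centralizer (Wd (S : Subgroup G) : Set G)) : Set G) ≤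
      normalizer (R : Set G) := by
    rw [show ZK (S : Subgroup G) ((S : Subgroup G) ⊓ centralizer (Wd (S : Subgroup G) : Set G)) = _ from e1]
    exact hD
  exact hne (QWR.NlWd.nl_wd hR wl hz fr' hL
    (fun M h1 h2 _ _ h5 => QWR.OffTop.offR_top hR ml hW.four_le rq wl hz rfl fr' hL h1 h2 h5) hRp hD' hLR)

/-- **The field `oneS`.** -/
theorem wOneS (ml : ML.Final.MLK.{u, u}) (hE : ML.Ex.Two.Ext.{u, u}) (ha : AbsP.{u, u}) : WOneS K (FBR Ref) :=
  wOneS_of ml hE (topS ml ha)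

end Cfsg.Agent.Omega.NOThreeL.RRed.WideTree
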